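import Mathlib
import Cfsg.Statements.S0034

set_option autoImplicit false
open Cfsg

namespace Cfsg.Agent.S0034

open scoped Pointwise

theorem mem_conj_smul {G : Type*} [Group G] (H : Subgroup G) (g x : G) :
    x ∈ MulAut.conj g • H ↔ g⁻¹ * x * g ∈ H := by
  rw [Subgroup.mem_smul_pointwise_iff_exists]
  constructor
  · rintro ⟨s, hs, rfl⟩
    simp only [MulAut.smul_def, MulAut.conj_apply]
    convert hs using 1
    group
  · intro h
    refine ⟨_, h, ?_⟩
    simp only [MulAut.smul_def, MulAut.conj_apply]
    group

theorem smul_coe_eq_iff {G : Type*} [Group G] (H : Subgroup G) (g x : G) :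
    g • (x : G ⧸ H) = x ↔ x⁻¹ * g * x ∈ H := by
  change ((g * x : G) : G ⧸ H) = x ↔ _
  rw [eq_comm, QuotientGroup.eq]
  simp only [mul_assoc]

/-- A non-identity element fixes at most one coset of a Frobenius complement. -/
theorem fixed_unique {G : Type*} [Group G] (H : Subgroup G) (hH : Cfsg.IsFrobeniusComplement H)
    {g : G} (hg : g ≠ 1) {a b : G ⧸ H} (ha : g • a = a) (hb : g • b = b) : a = b := by
  induction a using QuotientGroup.induction_on with
  | H x =>
  induction b using QuotientGroup.induction_on with
  | H y =>
  rw [smul_coe_eq_iff] at ha hb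
  rw [QuotientGroup.eq]
  by_contra hc
  have h1 := hH.2.2 _ hc
  have h2 : x⁻¹ * g * x ∈ H ⊓ (MulAut.conj (x⁻¹ * y) • H) := by
    refine Subgroup.mem_inf.2 ⟨ha, ?_⟩
    rw [mem_conj_smul]
    convert hb using 1
    group
  rw [h1, Subgroup.mem_bot] at h2
  apply hg
  have : g = x * (x⁻¹ * g * x) * x⁻¹ := by group
  rw [this, h2]
  group

theorem card_fixedBy {G : Type*} [Group G] [Fintype G] [DecidableEq G] (H : Subgroup G)
    (hH : Cfsg.IsFrobeniusComplement H) [Fintype (G ⧸ H)] [DecidableEq (G ⧸ H)]
    [DecidablePred (· ∈ Cfsg.frobeniusKernel H)] (g : G) :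
    Fintype.card (MulAction.fixedBy (G ⧸ H) g) =
      (if g = 1 then H.index else 0) + (if g ∈ Cfsg.frobeniusKernel H then 0 else 1) := by
  by_cases hg : g = 1
  · subst hg
    have h1 : (1 : G) ∈ Cfsg.frobeniusKernel H := Or.inl rfl
    simp only [if_true, h1, add_zero]
    rw [Subgroup.index, Nat.card_eq_fintype_card]
    apply Fintype.card_congr
    exact ⟨fun x => x.1, fun x => ⟨x, by simp⟩, fun x => rfl, fun x => rfl⟩
  · simp only [hg, if_false, zero_add]
    by_cases hk : g ∈ Cfsg.frobeniusKernel H
    · simp only [hk, if_true]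
      rw [Fintype.card_eq_zero_iff]
      constructor
      rintro ⟨a, ha⟩
      induction a using QuotientGroup.induction_on with
      | H x =>
      rw [MulAction.mem_fixedBy, smul_coe_eq_iff] at ha
      rcases hk with hk | hk
      · exact hg hk
      · exact hk x ((mem_conj_smul H x g).2 ha)
    · simp only [hk, if_false]
      rw [Fintype.card_eq_one_iff]
      have hk' : ∃ x : G, g ∈ MulAut.conj x • H := by
        by_contra hne
        push Not at hne
        exact hk (Or.inr hne)
      obtain ⟨x, hx⟩ := hk'
      refine ⟨⟨(x : G ⧸ H), ?_⟩, ?_⟩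
      · rw [MulAction.mem_fixedBy, smul_coe_eq_iff]
        exact (mem_conj_smul H x g).1 hx
      · rintro ⟨b, hb⟩
        apply Subtype.ext
        apply fixed_unique H hH hg hb
        rw [smul_coe_eq_iff]
        exact (mem_conj_smul H x g).1 hx

/-- For a Frobenius complement H, the set of elements lying in no conjugate of H, together with 1, has exactly as many elements as the index of H, and that index is congruent to 1 modulo the order of H. -/
theorem result {G : Type*} [Group G] [Finite G] (H : Subgroup G) (hH : Cfsg.IsFrobeniusComplement H) :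
    Nat.card (Cfsg.frobeniusKernel H) = H.index ∧ H.index % Nat.card H = 1 % Nat.card H := by
  classical
  have := Fintype.ofFinite G
  constructor
  · have hB := MulAction.sum_card_fixedBy_eq_card_orbits_mul_card_group G (G ⧸ H)
    have horb : Fintype.card (Quotient (MulAction.orbitRel G (G ⧸ H))) = 1 := by
      rw [Fintype.card_eq_one_iff]
      refine ⟨Quotient.mk'' ((1 : G) : G ⧸ H), ?_⟩
      intro y
      induction y using Quotient.inductionOn' with
      | h a =>
      apply Quotient.sound'
      exact MulAction.exists_smul_eq G _ _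
    rw [horb, one_mul] at hB
    simp_rw [card_fixedBy H hH] at hB
    rw [Finset.sum_add_distrib, Finset.sum_ite_eq' Finset.univ (1 : G)] at hB
    simp only [Finset.mem_univ, if_true] at hB
    have h1 : (∑ g : G, if g ∈ Cfsg.frobeniusKernel H then 0 else 1)
        = Fintype.card G - Nat.card (Cfsg.frobeniusKernel H) := by
      rw [Finset.sum_ite, Finset.sum_const_zero, zero_add, Finset.sum_const, smul_eq_mul, mul_one,
        Finset.filter_not, Finset.card_sdiff_of_subset (Finset.filter_subset _ _), Finset.card_univ]
      congr 1
      rw [Nat.card_eq_fintype_card, Fintype.card_subtype]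
    rw [h1] at hB
    have h2 : Nat.card (Cfsg.frobeniusKernel H) ≤ Fintype.card G := by
      rw [← Nat.card_eq_fintype_card]
      exact Nat.card_le_card_of_injective _ Subtype.val_injective
    omega
  · have hB := MulAction.sum_card_fixedBy_eq_card_orbits_mul_card_group H (G ⧸ H)
    have hf : ∀ h : H, Fintype.card (MulAction.fixedBy (G ⧸ H) h) = (if h = 1 then H.index else 1) := by
      intro h
      have h1 : Fintype.card (MulAction.fixedBy (G ⧸ H) h)
          = Fintype.card (MulAction.fixedBy (G ⧸ H) (h : G)) := by
        apply Fintype.card_congr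
        exact ⟨fun x => ⟨x.1, x.2⟩, fun x => ⟨x.1, x.2⟩, fun x => rfl, fun x => rfl⟩
      rw [h1, card_fixedBy H hH]
      by_cases hh : h = 1
      · subst hh
        have h1 : (1 : G) ∈ Cfsg.frobeniusKernel H := Or.inl rfl
        simp [h1]
      · have hh' : (h : G) ≠ 1 := fun e => hh (Subtype.ext e)
        have hk : (h : G) ∉ Cfsg.frobeniusKernel H := by
          rintro (e | e)
          · exact hh' e
          · apply e 1
            rw [mem_conj_smul]
            simp
        simp [hh, hh', hk]
    simp_rw [hf] at hB
    have h2 : (∑ h : H, if h = 1 then H.index else 1) = H.index + (Fintype.card H - 1) := by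
      rw [Finset.sum_ite, Finset.sum_const, Finset.sum_const, smul_eq_mul, smul_eq_mul, mul_one,
        Finset.filter_eq' Finset.univ (1 : H), Finset.filter_ne' Finset.univ (1 : H)]
      simp
    rw [h2] at hB
    rw [Nat.card_eq_fintype_card]
    have hpos : 0 < Fintype.card H := Fintype.card_pos
    have hipos : 0 < H.index := Nat.pos_of_ne_zero Subgroup.index_ne_zero_of_finite
    generalize Fintype.card (Quotient (MulAction.orbitRel H (G ⧸ H))) = k at hB
    generalize Fintype.card H = m at *
    generalize H.index = n at *
    -- n + (m - 1) = k * m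
    have hk : 1 ≤ k := by
      rcases Nat.eq_zero_or_pos k with h | h
      · subst h; omega
      · exact h
    obtain ⟨k', rfl⟩ : ∃ k', k = k' + 1 := ⟨k - 1, by omega⟩
    have : n = 1 + m * k' := by
      have : (k' + 1) * m = m * k' + m := by ring
      omega
    rw [this, Nat.add_mul_mod_self_left]

end Cfsg.Agent.S0034
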