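import Cfsg.Statements.S0667
import Cfsg.Agent.Lib.Helper11.PStable2

set_option autoImplicit false
open Cfsg

namespace Cfsg.Agent.S0667

open Subgroup Cfsg.Agent.Lib.Helper11 Cfsg.Agent.Lib.Lead

/-- Glauberman's Theorem in the p-constrained, p-stable vocabulary: for odd p such a group is the product of its largest normal subgroup of order prime to p with the normalizer of Z(J(P)), and Z(J(P)) is normal when that p'-subgroup is trivial. -/
theorem result {G : Type*} [Group G] [Finite G] {p : ℕ} [Fact p.Prime] (hp : p ≠ 2) (hc : Cfsg.IsPConstrained p G) (hs : Cfsg.IsPStable p G) (P : Sylow p G) : Cfsg.pPrimeCore p G ⊔ Subgroup.normalizer (Cfsg.centerThompsonAOf ((P : Subgroup G)) : Set G) = ⊤ ∧ (Cfsg.pPrimeCore p G = ⊥ → (Cfsg.centerThompsonAOf ((P : Subgroup G))).Normal) := by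
  have main : pPrimeCore p G ⊔ normalizer (centerThompsonAOf (P : Subgroup G) : Set G) = ⊤ := by
    have hst := ((isPStable_iff p).1 hs).2.2.quotient
    have hcq := centralizer_pCore_quotient_le hc
    have hchar := Cfsg.Agent.S0653.result hp hcq (fun V _ hV => hst.isPStableOn V hV)
      (P.mapSurjective (QuotientGroup.mk'_surjective (pPrimeCore p G)))
    rw [Sylow.coe_mapSurjective, centerThompsonAOf_map _ _ (by
      rw [QuotientGroup.ker_mk', inf_comm]; exact pPrimeCore_inf_eq_bot P.2)] at hchar
    have hZP : centerThompsonAOf (P : Subgroup G) ≤ P := by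
      unfold centerThompsonAOf thompsonSubgroupAOf
      exact inf_le_left.trans (map_subtype_le _)
    have hn : (pPrimeCore p G ⊔ centerThompsonAOf (P : Subgroup G)).Normal := by
      have h1 := comap_map_eq (QuotientGroup.mk' (pPrimeCore p G)) (centerThompsonAOf (P : Subgroup G))
      rw [QuotientGroup.ker_mk', sup_comm] at h1
      rw [← h1]
      infer_instance
    exact pPrimeCore_sup_normalizer_eq_top (P.2.to_le hZP) hn
  refine ⟨main, fun h => ?_⟩
  rw [h, bot_sup_eq] at main
  exact normalizer_eq_top_iff.1 main

end Cfsg.Agent.S0667
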