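import Cfsg.Statements.S0658
import Cfsg.Agent.Lib.Helper11.PStable2
import Cfsg.Agent.S0667

set_option autoImplicit false
open Cfsg

namespace Cfsg.Agent.S0658

open Subgroup Cfsg.Agent.Lib.Helper11 Cfsg.Agent.Lib.Lead

variable {G : Type*} [Group G]

theorem exists_map_conj_le_sylow_of_le' [Finite G] {p : ℕ} [Fact p.Prime] (P : Sylow p G)
    {M Q : Subgroup G} (hPM : (P : Subgroup G) ≤ M) (hQM : Q ≤ M) (hQ : IsPGroup p Q) :
    ∃ h ∈ M, Q.map (MulAut.conj h).toMonoidHom ≤ (P : Subgroup G) := by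
  have hQ' : IsPGroup p (Q.subgroupOf M) :=
    hQ.comap_of_injective M.subtype M.subtype_injective
  obtain ⟨S, hS⟩ := hQ'.exists_le_sylow
  obtain ⟨h, hh⟩ := MulAction.exists_smul_eq M S (P.subtype hPM)
  refine ⟨h, h.2, ?_⟩
  rintro _ ⟨z, hz, rfl⟩
  have h1 : (⟨z, hQM hz⟩ : M) ∈ (S : Subgroup M) := hS (by simpa [Subgroup.mem_subgroupOf] using hz)
  have h2 : MulAut.conj h • (⟨z, hQM hz⟩ : M) ∈ ((h • S : Sylow p M) : Subgroup M) := by
    rw [Sylow.coe_subgroup_smul]
    exact Subgroup.smul_mem_pointwise_smul _ _ _ h1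
  rw [hh, Sylow.coe_subtype, Subgroup.mem_subgroupOf] at h2
  simpa using h2

/-- normalizers grow in `p`-groups. -/
theorem lt_inf_normalizer [Finite G] {p : ℕ} [Fact p.Prime] {P R : Subgroup G} (hP : IsPGroup p P)
    (h : R < P) : R < P ⊓ normalizer (R : Set G) := by
  have hnil : Group.IsNilpotent ↥P := hP.isNilpotent
  have hlt : R.subgroupOf P < ⊤ := by
    rw [lt_top_iff_ne_top]
    intro h1
    rw [subgroupOf_eq_top] at h1
    exact absurd h1 (not_le_of_gt h)
  have h2 := Group.normalizerCondition_of_isNilpotent (R.subgroupOf P) hlt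
  obtain ⟨x, hx1, hx2⟩ := SetLike.exists_of_lt h2
  refine lt_of_le_of_ne (le_inf h.le le_normalizer) ?_
  intro h3
  apply hx2
  rw [mem_subgroupOf, h3]
  refine mem_inf.2 ⟨x.2, ?_⟩
  apply mem_normalizer_of_conj_mem
  intro r hr
  have h4 := conj_mem_of_mem_normalizer hx1 (show (⟨r, h.le hr⟩ : ↥P) ∈ R.subgroupOf P from
    mem_subgroupOf.2 hr)
  exact mem_subgroupOf.1 h4

theorem card_lt_of_lt' [Finite G] {H K : Subgroup G} (h : H < K) : Nat.card H < Nat.card K := by
  refine lt_of_le_of_ne (card_le_of_le h.le) ?_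
  intro he
  exact absurd (eq_of_le_of_card_ge h.le he.ge) h.ne

theorem centerThompsonAOf_le (R : Subgroup G) : centerThompsonAOf R ≤ R := by
  unfold centerThompsonAOf thompsonSubgroupAOf
  exact inf_le_left.trans (map_subtype_le _)

theorem normalizer_le_normalizer_centerThompsonAOf [Finite G] (R : Subgroup G) :
    normalizer (R : Set G) ≤ normalizer (centerThompsonAOf R : Set G) := by
  rw [Cfsg.Agent.S0653.centerThompsonAOf_eq]
  exact normalizer_le_normalizer_interMax (fun φ A hA => by have := hA; infer_instance) R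

theorem centerThompsonAOf_ne_bot [Finite G] {p : ℕ} [Fact p.Prime] {R : Subgroup G} (hR : IsPGroup p R)
    (hne : R ≠ ⊥) : centerThompsonAOf R ≠ ⊥ := by
  have : Nontrivial ↥R := (nontrivial_iff_ne_bot R).2 hne
  have hc := hR.center_nontrivial
  obtain ⟨⟨z, hz⟩, hz1⟩ := exists_ne (1 : ↥(center ↥R))
  have hz1' : (z : G) ≠ 1 := by
    intro h
    apply hz1
    apply Subtype.ext
    exact Subtype.ext h
  have hzc : ∀ r ∈ R, r * (z : G) = z * r := by
    intro r hr
    have := (mem_center_iff.1 hz) ⟨r, hr⟩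
    exact congrArg Subtype.val this
  intro hbot
  apply hz1'
  rw [← mem_bot, ← hbot, Cfsg.Agent.S0653.centerThompsonAOf_eq]
  unfold interMax
  rw [mem_sInf]
  rintro A ⟨hAR, hAc, hAmax⟩
  have hAc' : IsMulCommutative A := hAc
  have hcomm : IsMulCommutative (closure ((A : Set G) ∪ {(z : G)})) := by
    apply isMulCommutative_closure
    rintro a (ha | ha) b (hb | hb)
    · exact setLike_mul_comm ha hb
    · rw [Set.mem_singleton_iff.mp hb]; exact hzc a (hAR ha)
    · rw [Set.mem_singleton_iff.mp ha]; exact (hzc b (hAR hb)).symm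
    · rw [Set.mem_singleton_iff.mp ha, Set.mem_singleton_iff.mp hb]
  have hle : A ≤ closure ((A : Set G) ∪ {(z : G)}) := fun a ha => Subgroup.subset_closure (Or.inl ha)
  have hleR : closure ((A : Set G) ∪ {(z : G)}) ≤ R := by
    rw [closure_le]
    rintro a (ha | ha)
    · exact hAR ha
    · rw [Set.mem_singleton_iff.mp ha]; exact z.2
  have heq : A = closure ((A : Set G) ∪ {(z : G)}) := eq_of_le_of_card_ge hle (hAmax _ hleR hcomm)
  rw [heq]
  exact Subgroup.subset_closure (Or.inr rfl)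

theorem zjn [Finite G] {p : ℕ} [Fact p.Prime] (hp : p ≠ 2) (N : Subgroup G)
    (h1 : pPrimeCore p ↥N = ⊥) (h2 : IsPConstrained p ↥N) (h3 : IsPStable p ↥N) (T : Sylow p ↥N) :
    N ≤ normalizer (centerThompsonAOf ((T : Subgroup ↥N).map N.subtype) : Set G) := by
  have hn := (Cfsg.Agent.S0667.result hp h2 h3 T).2 h1
  rw [centerThompsonAOf_map N.subtype _ (by rw [ker_subtype, inf_bot_eq])]
  intro n hn'
  apply mem_normalizer_of_conj_mem
  rintro _ ⟨z, hz, rfl⟩
  exact ⟨⟨n, hn'⟩ * z * ⟨n, hn'⟩⁻¹, hn.conj_mem z hz _, rfl⟩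

/-- In a group of characteristic p type all of whose p-locals are p-stable (p odd), the normalizer of Z(J(P)) contains the normalizer of every nontrivial subgroup of the Sylow p-subgroup P. -/
theorem result {G : Type*} [Group G] [Finite G] {p : ℕ} [Fact p.Prime] (hp : p ≠ 2) (hloc : ∀ Q : Subgroup G, IsPGroup p Q → Q ≠ ⊥ → Cfsg.pPrimeCore p ↥(Subgroup.normalizer (Q : Set G)) = ⊥ ∧ Cfsg.IsPConstrained p ↥(Subgroup.normalizer (Q : Set G)) ∧ Cfsg.IsPStable p ↥(Subgroup.normalizer (Q : Set G))) (P : Sylow p G) (Q : Subgroup G) (hQP : Q ≤ (P : Subgroup G)) (hQ1 : Q ≠ ⊥) : Subgroup.normalizer (Q : Set G) ≤ Subgroup.normalizer (Cfsg.centerThompsonAOf ((P : Subgroup G)) : Set G) := by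
  set M := normalizer (centerThompsonAOf (P : Subgroup G) : Set G) with hM
  have hPM : (P : Subgroup G) ≤ M := le_normalizer.trans (normalizer_le_normalizer_centerThompsonAOf _)
  induction hn : (Nat.card (P : Subgroup G) - Nat.card ↥((P : Subgroup G) ⊓ normalizer (Q : Set G)))
    using Nat.strong_induction_on generalizing Q with
  | _ n ih =>
  have IH : ∀ Q' : Subgroup G, Q' ≤ (P : Subgroup G) → Q' ≠ ⊥ →
      Nat.card ↥((P : Subgroup G) ⊓ normalizer (Q : Set G)) <
        Nat.card ↥((P : Subgroup G) ⊓ normalizer (Q' : Set G)) → normalizer (Q' : Set G) ≤ M := by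
    intro Q' h1 h2 h3
    have h4 : Nat.card ↥((P : Subgroup G) ⊓ normalizer (Q' : Set G)) ≤ Nat.card (P : Subgroup G) :=
      card_le_of_le inf_le_left
    exact ih _ (by omega) Q' h1 h2 rfl
  set N := normalizer (Q : Set G) with hN
  set R₀ := (P : Subgroup G) ⊓ N with hR₀
  have hQR₀ : Q ≤ R₀ := le_inf hQP le_normalizer
  have hR₀ne : R₀ ≠ ⊥ := fun h => hQ1 (eq_bot_iff.2 (h ▸ hQR₀))
  have hR₀p : IsPGroup p R₀ := P.2.to_le inf_le_left
  obtain ⟨l1, l2, l3⟩ := hloc Q (P.2.to_le hQP) hQ1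
  by_cases hcase : (P : Subgroup G) ≤ N
  · have h1 := zjn hp N l1 l2 l3 (P.subtype hcase)
    rw [Sylow.coe_subtype, map_subgroupOf_eq_of_le hcase] at h1
    exact h1
  · have hlt : R₀ < (P : Subgroup G) := by
      refine lt_of_le_of_ne inf_le_left ?_
      intro h
      exact hcase (h ▸ inf_le_right)
    have hgrow := lt_inf_normalizer P.2 hlt
    have hcardgrow : Nat.card R₀ < Nat.card ↥((P : Subgroup G) ⊓ normalizer (R₀ : Set G)) :=
      card_lt_of_lt' hgrow
    have hNR₀ : normalizer (R₀ : Set G) ≤ M := IH R₀ inf_le_left hR₀ne hcardgrow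
    set Z₀ := centerThompsonAOf R₀ with hZ₀
    have hNZ₀ : normalizer (Z₀ : Set G) ≤ M := by
      apply IH Z₀ ((centerThompsonAOf_le R₀).trans inf_le_left) (centerThompsonAOf_ne_bot hR₀p hR₀ne)
      refine lt_of_lt_of_le hcardgrow (card_le_of_le ?_)
      exact inf_le_inf le_rfl (normalizer_le_normalizer_centerThompsonAOf R₀)
    by_cases hsyl : ∃ R : Subgroup G, IsPGroup p R ∧ R ≤ N ∧ R₀ < R
    · obtain ⟨R, hRp, hRN, hR₀R⟩ := hsyl
      set R₁ := R ⊓ normalizer (R₀ : Set G) with hR₁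
      have hR₀R₁ : R₀ < R₁ := lt_inf_normalizer hRp hR₀R
      have hR₁M : R₁ ≤ M := inf_le_right.trans hNR₀
      obtain ⟨m, hm, hmP⟩ := exists_map_conj_le_sylow_of_le' P hPM hR₁M (hRp.to_le inf_le_left)
      set φ := (MulAut.conj m) with hφ
      have hQ'P : Q.map φ.toMonoidHom ≤ (P : Subgroup G) :=
        (map_mono (hQR₀.trans hR₀R₁.le)).trans hmP
      have hQ'ne : Q.map φ.toMonoidHom ≠ ⊥ := by
        rw [Ne, map_eq_bot_iff_of_injective _ φ.injective]
        exact hQ1
      have hnorm : normalizer ((Q.map φ.toMonoidHom : Subgroup G) : Set G) = N.map φ.toMonoidHom :=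
        (map_equiv_normalizer_eq Q φ).symm
      have h5 : normalizer ((Q.map φ.toMonoidHom : Subgroup G) : Set G) ≤ M := by
        apply IH _ hQ'P hQ'ne
        have h6 : R₁.map φ.toMonoidHom ≤
            (P : Subgroup G) ⊓ normalizer ((Q.map φ.toMonoidHom : Subgroup G) : Set G) := by
          refine le_inf hmP ?_
          rw [hnorm]
          exact map_mono (inf_le_left.trans hRN)
        calc Nat.card R₀ < Nat.card R₁ := card_lt_of_lt' hR₀R₁
          _ = Nat.card (R₁.map φ.toMonoidHom) := (card_map_of_injective φ.injective).symm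
          _ ≤ _ := card_le_of_le h6
      rw [hnorm] at h5
      intro x hx
      have h7 : m * x * m⁻¹ ∈ M := h5 ⟨x, hx, by simp [hφ]⟩
      have h8 : m⁻¹ * (m * x * m⁻¹) * m ∈ M := mul_mem (mul_mem (inv_mem hm) h7) hm
      have e : m⁻¹ * (m * x * m⁻¹) * m = x := by group
      rwa [e] at h8
    · push Not at hsyl
      have hR₀N : R₀ ≤ N := inf_le_right
      let T : Sylow p ↥N :=
        { toSubgroup := R₀.subgroupOf N
          isPGroup' := hR₀p.comap_of_injective _ N.subtype_injective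
          is_maximal' := by
            intro Q₁ hQ₁ hle
            have h1 : R₀ ≤ Q₁.map N.subtype := by
              rw [← map_subgroupOf_eq_of_le hR₀N]
              exact map_mono hle
            have h2 := hsyl (Q₁.map N.subtype) (hQ₁.map _) (map_subtype_le _)
            have h3 : R₀ = Q₁.map N.subtype := by
              by_contra hne
              exact h2 (lt_of_le_of_ne h1 hne)
            rw [h3, subgroupOf, comap_map_eq_self_of_injective N.subtype_injective] }
      have h1 := zjn hp N l1 l2 l3 T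
      have h2 : (T : Subgroup ↥N).map N.subtype = R₀ := map_subgroupOf_eq_of_le hR₀N
      rw [h2] at h1
      exact h1.trans hNZ₀

end Cfsg.Agent.S0658
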