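import Cfsg.Statements.S0039
import Mathlib
import Cfsg.Agent.Lib.Helper1.Tools

set_option autoImplicit false
open Cfsg

namespace Cfsg.Agent.S0039

open Pointwise in
theorem aux {G : Type*} [Group G] [Finite G] (K H : Subgroup G) [hKn : K.Normal]
    (hc : Subgroup.IsComplement' K H) (hK : K ≠ ⊥) (hH : H ≠ ⊥) :
    Cfsg.IsFrobeniusComplement H ↔ ∀ h ∈ H, h ≠ 1 → K ⊓ Subgroup.centralizer {h} = ⊥ := by
  have hdisj : ∀ x, x ∈ K → x ∈ H → x = 1 := fun x => Subgroup.disjoint_def.1 hc.disjoint
  constructor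
  · rintro ⟨-, -, hF⟩ h hh h1
    rw [eq_bot_iff]
    intro k hk0
    obtain ⟨hkK, hkC⟩ := Subgroup.mem_inf.1 hk0
    rw [Subgroup.mem_bot]
    by_contra hk1
    have hkH : k ∉ H := fun hkH => hk1 (hdisj k hkK hkH)
    have h2 : h * k = k * h := Subgroup.mem_centralizer_iff.1 hkC h rfl
    have h3 : h ∈ H ⊓ MulAut.conj k • H := by
      refine Subgroup.mem_inf.2 ⟨hh, ?_⟩
      rw [Cfsg.Agent.Lib.Helper1.mem_conj_smul_iff, mul_assoc, h2, ← mul_assoc,
        inv_mul_cancel, one_mul]
      exact hh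
    rw [hF k hkH, Subgroup.mem_bot] at h3
    exact h1 h3
  · intro hfpf
    refine ⟨hH, ?_, ?_⟩
    · intro htop
      have := hc.disjoint.eq_bot
      rw [htop, inf_top_eq] at this
      exact hK this
    · intro g hg
      have h1 : g ∈ (K : Set G) * (H : Set G) := by
        rw [Subgroup.IsComplement.mul_eq hc]; exact Set.mem_univ g
      obtain ⟨k, hk, h₀, hh₀, rfl⟩ := h1
      have hk1 : k ≠ 1 := by
        rintro rfl
        apply hg
        simpa using hh₀
      rw [Cfsg.Agent.Lib.Helper1.conj_mul_smul, Subgroup.conj_smul_eq_self_of_mem hh₀, eq_bot_iff]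
      intro x hx0
      obtain ⟨hxH, hxk⟩ := Subgroup.mem_inf.1 hx0
      rw [Cfsg.Agent.Lib.Helper1.mem_conj_smul_iff] at hxk
      set y := k⁻¹ * x * k with hy
      have hxy : x = k * y * k⁻¹ := by rw [hy]; group
      have h2 : x * y⁻¹ ∈ K := by
        have : x * y⁻¹ = k * (y * k⁻¹ * y⁻¹) := by rw [hxy]; group
        rw [this]
        exact K.mul_mem hk (hKn.conj_mem _ (K.inv_mem hk) y)
      have h3 : x * y⁻¹ = 1 := hdisj _ h2 (H.mul_mem hxH (H.inv_mem hxk))
      have h4 : x = y := mul_inv_eq_one.1 h3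
      rw [Subgroup.mem_bot]
      by_contra hx1
      have h5 : k ∈ K ⊓ Subgroup.centralizer {x} := by
        refine Subgroup.mem_inf.2 ⟨hk, ?_⟩
        rw [Subgroup.mem_centralizer_iff]
        rintro z rfl
        have h6 : z * k = k * y := by rw [hy]; group
        rw [h6, ← h4]
      rw [hfpf x hxH hx1, Subgroup.mem_bot] at h5
      exact hk1 h5


/-- In a finite group that is a semidirect product of a normal subgroup K by a nontrivial subgroup H, H is a Frobenius complement exactly when each nonidentity element of H acts without nonidentity fixed points on K by conjugation. -/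
theorem result {G : Type*} [Group G] [Finite G] (K H : Subgroup G) [K.Normal]
    (hc : Subgroup.IsComplement' K H) (hK : K ≠ ⊥) (hH : H ≠ ⊥) :
    Cfsg.IsFrobeniusComplement H ↔ ∀ h ∈ H, h ≠ 1 → K ⊓ Subgroup.centralizer {h} = ⊥ := by
  exact aux K H hc hK hH

end Cfsg.Agent.S0039
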