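import Cfsg.Statements.S0040
import Mathlib
import Cfsg.Agent.Lib.Helper1.FrobComplement

set_option autoImplicit false
open Cfsg

namespace Cfsg.Agent.S0040


/-- Sylow subgroups of Frobenius complements: if H complements a nontrivial normal subgroup K and every nonidentity element of H has trivial centraliser in K, then each Sylow subgroup of H is cyclic or isomorphic to a generalized quaternion group. -/
theorem result {G : Type*} [Group G] [Finite G] (K H : Subgroup G) [K.Normal]
    (hc : Subgroup.IsComplement' K H) (hK : K ≠ ⊥) (hfpf : ∀ h ∈ H, h ≠ 1 → K ⊓ Subgroup.centralizer {h} = ⊥)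
    (p : ℕ) [Fact p.Prime] (P : Sylow p H) :
    IsCyclic P ∨ ∃ n : ℕ, Nonempty (P ≃* QuaternionGroup (2 ^ n)) := by
  have key : ∀ E : Subgroup (P : Subgroup H), IsMulCommutative E → IsCyclic E := by
    intro E hE
    have h1 : IsCyclic ((E.map (P : Subgroup H).subtype).map H.subtype : Subgroup G) :=
      Cfsg.Agent.Lib.Helper1.FrobComplement.isCyclic_of_abelian_le K H hc hK hfpf _
        (Subgroup.map_subtype_le _)
    let e1 := E.equivMapOfInjective (P : Subgroup H).subtype (Subgroup.subtype_injective _)
    let e2 := (E.map (P : Subgroup H).subtype).equivMapOfInjective H.subtype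
      (Subgroup.subtype_injective _)
    exact isCyclic_of_injective (e1.trans e2).toMonoidHom (e1.trans e2).injective
  have huniq : ∀ A B : Subgroup (P : Subgroup H), Nat.card A = p → Nat.card B = p → A = B := by
    have hp : p.Prime := Fact.out
    intro A₀ B₀ hA₀ hB₀
    have hnt : Nontrivial (P : Subgroup H) := by
      by_contra h
      rw [not_nontrivial_iff_subsingleton] at h
      have : Nat.card A₀ = 1 := Nat.card_eq_one_iff_unique.2 ⟨inferInstance, ⟨1⟩⟩
      rw [hA₀] at this
      exact hp.one_lt.ne' this
    have hcn := P.isPGroup'.center_nontrivial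
    have hdvd : p ∣ Nat.card (Subgroup.center (P : Subgroup H)) := by
      obtain ⟨k, hk⟩ := IsPGroup.iff_card.1
        (P.isPGroup'.to_subgroup (Subgroup.center (P : Subgroup H)))
      rw [hk]
      apply dvd_pow_self
      rintro rfl
      rw [pow_zero] at hk
      exact (Finite.one_lt_card_iff_nontrivial.2 hcn).ne' hk
    obtain ⟨z, hz⟩ := exists_prime_orderOf_dvd_card' (G := Subgroup.center (P : Subgroup H)) p hdvd
    have hz' : orderOf (z : (P : Subgroup H)) = p := by rw [Subgroup.orderOf_coe, hz]
    have hZcard : Nat.card (Subgroup.zpowers (z : (P : Subgroup H))) = p := by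
      rw [Nat.card_zpowers, hz']
    have claim : ∀ A : Subgroup (P : Subgroup H), Nat.card A = p →
        A = Subgroup.zpowers (z : (P : Subgroup H)) := by
      intro A hA
      have hAc : IsCyclic A := isCyclic_of_prime_card hA
      have hEab : IsMulCommutative (A ⊔ Subgroup.zpowers (z : (P : Subgroup H)) : Subgroup _) := by
        rw [Subgroup.sup_eq_closure]
        apply Subgroup.isMulCommutative_closure
        have hzc : ∀ w ∈ Subgroup.zpowers (z : (P : Subgroup H)), ∀ y, y * w = w * y := by
          intro w hw y
          have : w ∈ Subgroup.center (P : Subgroup H) :=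
            (Subgroup.zpowers_le.2 z.2) hw
          exact (Subgroup.mem_center_iff.1 this) y
        rintro a (ha | ha) b (hb | hb)
        · have hAm : IsMulCommutative A := IsCyclic.isMulCommutative
          have := mul_comm' (⟨a, ha⟩ : A) ⟨b, hb⟩
          exact congrArg Subtype.val this
        · exact hzc b hb a
        · exact (hzc a ha b).symm
        · exact hzc b hb a
      have hEc := key _ hEab
      have h1 : A.subgroupOf (A ⊔ Subgroup.zpowers (z : (P : Subgroup H)))
          = (Subgroup.zpowers (z : (P : Subgroup H))).subgroupOf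
            (A ⊔ Subgroup.zpowers (z : (P : Subgroup H))) := by
        apply Cfsg.Agent.Lib.Helper1.FrobComplement.eq_of_card_eq_of_isCyclic
        rw [Cfsg.Agent.Lib.Helper1.card_subgroupOf le_sup_left,
          Cfsg.Agent.Lib.Helper1.card_subgroupOf le_sup_right, hA, hZcard]
      rw [Subgroup.subgroupOf_inj, inf_of_le_left le_sup_left, inf_of_le_left le_sup_right] at h1
      exact h1
    rw [claim A₀ hA₀, claim B₀ hB₀]
  rcases Cfsg.Agent.S0016.result p P.isPGroup' huniq with h | ⟨-, h⟩
  · exact Or.inl h
  · exact Or.inr h

end Cfsg.Agent.S0040
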