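import Cfsg.Statements.S1474
import Cfsg.Agent.Lib.Helper25.FpfNilpotent
import Cfsg.Agent.Lib.Helper23.Cores
import Cfsg.Agent.Lib.Helper1.Fitting
import Cfsg.Agent.Lib.Helper1.MinimalNormal
import Cfsg.Agent.S0039

set_option autoImplicit false
open Cfsg

namespace Cfsg.Agent.S1474

open Cfsg.Agent.Lib.Helper25

variable {G : Type*} [Group G] [Finite G]

omit [Finite G] in
theorem isCNGroup_subgroup (hCN : Cfsg.IsCNGroup G) (E : Subgroup G) : Cfsg.IsCNGroup E := by
  intro e he1
  have he1' : (e : G) ≠ 1 := fun h => he1 (Subtype.ext h)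
  have hle : (Subgroup.centralizer ({e} : Set E)).map E.subtype ≤
      Subgroup.centralizer ({(e : G)} : Set G) := by
    rintro _ ⟨x, hx, rfl⟩
    rw [SetLike.mem_coe, Subgroup.mem_centralizer_singleton_iff] at hx
    rw [Subgroup.mem_centralizer_singleton_iff]
    exact congrArg Subtype.val hx
  have h1 := isNilpotent_of_le' hle (hCN _ he1')
  exact (Group.isNilpotent_congr ((Subgroup.centralizer ({e} : Set E)).equivMapOfInjective
    E.subtype E.subtype_injective)).2 h1

theorem fpf_aux (hCN : Cfsg.IsCNGroup G) (H : Subgroup G) [hHn : H.Normal]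
    (hHnil : Group.IsNilpotent H)
    (hmax : ∀ (q : ℕ) [Fact q.Prime] (Q : Sylow q G), (Q : Subgroup G).Normal → (Q : Subgroup G) ≤ H)
    (e h : G) (he1 : e ≠ 1) (hecop : (orderOf e).Coprime (Nat.card H)) (hh : h ∈ H) (hh1 : h ≠ 1)
    (hcomm : e * h = h * e) : False := by
  have hoe : orderOf e ≠ 1 := fun h => he1 (orderOf_eq_one_iff.1 h)
  have hoh : orderOf h ≠ 1 := fun h' => hh1 (orderOf_eq_one_iff.1 h')
  obtain ⟨q, hq, hqe⟩ := Nat.exists_prime_and_dvd hoe
  obtain ⟨r, hr, hrh⟩ := Nat.exists_prime_and_dvd hoh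
  have : Fact q.Prime := ⟨hq⟩
  have : Fact r.Prime := ⟨hr⟩
  have hoH : ∀ x ∈ H, orderOf x ∣ Nat.card H := by
    intro x hx
    have := orderOf_dvd_natCard (⟨x, hx⟩ : H)
    simpa using this
  have hqH : (Nat.card H).Coprime q := (Nat.Coprime.coprime_dvd_left hqe hecop).symm
  have hrH : r ∣ Nat.card H := hrh.trans (hoH h hh)
  have hqx : ∀ x ∈ H, ∀ k : ℕ, (q ^ k).Coprime (orderOf x) := by
    intro x hx k
    exact Nat.Coprime.pow_left k (Nat.Coprime.coprime_dvd_left (hoH x hx) hqH).symm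
  obtain ⟨e', he', hee⟩ : ∃ e' : G, orderOf e' = q ∧ e' * h = h * e' :=
    ⟨e ^ (orderOf e / q), orderOf_pow_orderOf_div (orderOf_pos e).ne' hqe,
      (Commute.pow_left (show Commute e h from hcomm) _).eq⟩
  obtain ⟨h', hh', hh'H, heh⟩ : ∃ h' : G, orderOf h' = r ∧ h' ∈ H ∧ e' * h' = h' * e' :=
    ⟨h ^ (orderOf h / r), orderOf_pow_orderOf_div (orderOf_pos h).ne' hrh, H.pow_mem hh _,
      (Commute.pow_right (show Commute e' h from hee) _).eq⟩
  have he'1 : e' ≠ 1 := by
    rintro rfl
    rw [orderOf_one] at he'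
    exact hq.one_lt.ne he'
  have hh'1 : h' ≠ 1 := by
    rintro rfl
    rw [orderOf_one] at hh'
    exact hr.one_lt.ne hh'
  obtain ⟨y, hyH, hy1, ⟨l, hyl⟩, hyc⟩ := exists_central_pElement hHnil r hrH
  -- step 3
  have hey : e' * y = y * e' := by
    apply commute_of_coprime_orderOf_of_mem (hCN h' hh'1)
    · exact Subgroup.mem_centralizer_singleton_iff.2 heh
    · exact Subgroup.mem_centralizer_singleton_iff.2 (hyc h' hh'H).symm
    · rw [he']
      simpa using hqx y hyH 1
  -- step 4
  have heH : ∀ x ∈ H, e' * x = x * e' := by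
    intro x hx
    apply commute_of_coprime_orderOf_of_mem (hCN y hy1)
    · exact Subgroup.mem_centralizer_singleton_iff.2 hey
    · exact Subgroup.mem_centralizer_singleton_iff.2 (hyc x hx)
    · rw [he']
      simpa using hqx x hx 1
  -- step 5
  have hT : IsPGroup q (Subgroup.zpowers e') := by
    apply IsPGroup.of_card (n := 1)
    rw [Nat.card_zpowers, he', pow_one]
  obtain ⟨Q, hQ⟩ := hT.exists_le_sylow
  have he'Q : e' ∈ (Q : Subgroup G) := hQ (Subgroup.mem_zpowers e')
  have hoQ : ∀ s ∈ (Q : Subgroup G), ∃ j, orderOf s = q ^ j := by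
    intro s hs
    obtain ⟨j, hj⟩ := (IsPGroup.iff_orderOf.1 Q.2) ⟨s, hs⟩
    exact ⟨j, by rw [← hj]; simp⟩
  have hqQ : q ∣ Nat.card (Q : Subgroup G) := by
    have := orderOf_dvd_natCard (⟨e', he'Q⟩ : (Q : Subgroup G))
    rw [Subgroup.orderOf_mk, he'] at this
    exact this
  obtain ⟨z, hzQ, hz1, ⟨m, hzm⟩, hzc⟩ := exists_central_pElement Q.2.isNilpotent q hqQ
  have hzH : ∀ x ∈ H, z * x = x * z := by
    intro x hx
    apply commute_of_coprime_orderOf_of_mem (hCN e' he'1)
    · exact Subgroup.mem_centralizer_singleton_iff.2 (hzc e' he'Q).symm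
    · exact Subgroup.mem_centralizer_singleton_iff.2 (heH x hx).symm
    · rw [hzm]
      exact hqx x hx m
  have hQH : ∀ s ∈ (Q : Subgroup G), ∀ x ∈ H, s * x = x * s := by
    intro s hs x hx
    obtain ⟨j, hj⟩ := hoQ s hs
    apply commute_of_coprime_orderOf_of_mem (hCN z hz1)
    · exact Subgroup.mem_centralizer_singleton_iff.2 (hzc s hs)
    · exact Subgroup.mem_centralizer_singleton_iff.2 (hzH x hx).symm
    · rw [hj]
      exact hqx x hx j
  have hQn : (Q : Subgroup G).Normal := by
    refine ⟨fun s hs g => ?_⟩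
    obtain ⟨j, hj⟩ := hoQ s hs
    have ho : orderOf (g * s * g⁻¹) = q ^ j := by
      have : g * s * g⁻¹ = MulAut.conj g s := by simp
      rw [this, MulEquiv.orderOf_eq, hj]
    refine mem_sylow_of_mem_nilpotent (hCN y hy1) q Q ?_ ?_ j ho
    · intro s' hs'
      exact Subgroup.mem_centralizer_singleton_iff.2 (hQH s' hs' y hyH)
    · rw [Subgroup.mem_centralizer_singleton_iff]
      have h1 : g⁻¹ * y * g ∈ H := by
        have := hHn.conj_mem y hyH g⁻¹
        rwa [inv_inv] at this
      have h2 := hQH s hs _ h1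
      calc g * s * g⁻¹ * y = g * (s * (g⁻¹ * y * g)) * g⁻¹ := by group
        _ = g * ((g⁻¹ * y * g) * s) * g⁻¹ := by rw [h2]
        _ = y * (g * s * g⁻¹) := by group
  have he'H : e' ∈ H := hmax q Q hQn he'Q
  have := hoH e' he'H
  rw [he'] at this
  exact hq.one_lt.ne' (Nat.eq_one_of_dvd_coprimes hqH this dvd_rfl)

open scoped IsMulCommutative in
/-- Let G be a finite group in which every non-identity element has nilpotent centralizer, not itself nilpotent, and having a nontrivial normal Sylow p-subgroup for some prime p. Let H be the largest normal nilpotent Hall subgroup of G. Then H is a nontrivial proper normal subgroup with a complement E that is a Frobenius complement in G (no non-identity element of E centralizes a non-identity element of H), and G/H is nilpotent. -/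
theorem result {G : Type*} [Group G] [Finite G] (hCN : Cfsg.IsCNGroup G) (hnn : ¬ Group.IsNilpotent G) (p : ℕ) [Fact p.Prime] (P : Sylow p G)
    (hP1 : (P : Subgroup G) ≠ ⊥) (hPn : (P : Subgroup G).Normal) :
    Cfsg.fittingHall G ≠ ⊥ ∧ Cfsg.fittingHall G ≠ ⊤ ∧
      (∃ E : Subgroup G, Subgroup.IsComplement' (Cfsg.fittingHall G) E ∧ Cfsg.IsFrobeniusComplement E ∧
        ∀ e ∈ E, e ≠ 1 → Cfsg.fittingHall G ⊓ Subgroup.centralizer ({e} : Set G) = ⊥) ∧
      Group.IsNilpotent (G ⧸ Cfsg.fittingHall G) := by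
  have hHnil : Group.IsNilpotent (Cfsg.fittingHall G) := by
    refine isNilpotent_of_le' (B := Cfsg.fittingSubgroup G) ?_
      Cfsg.Agent.Lib.Helper1.fittingSubgroup_isNilpotent
    exact sSup_le_sSup (fun N hN => ⟨hN.1, hN.2.1⟩)
  have hHcop := Cfsg.Agent.Lib.Helper23.fittingHall_coprime G
  have hmax : ∀ (q : ℕ) [Fact q.Prime] (Q : Sylow q G), (Q : Subgroup G).Normal →
      (Q : Subgroup G) ≤ Cfsg.fittingHall G := by
    intro q hq Q hQn
    refine le_sSup ⟨hQn, Q.2.isNilpotent, ?_⟩
    obtain ⟨k, hk⟩ := IsPGroup.iff_card.1 Q.2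
    rw [hk]
    exact Nat.Coprime.pow_left _ ((Nat.Prime.coprime_iff_not_dvd hq.out).2 Q.not_dvd_index)
  have hPH := hmax p P hPn
  have hH1 : Cfsg.fittingHall G ≠ ⊥ := by
    intro h
    rw [h, le_bot_iff] at hPH
    exact hP1 hPH
  have hHtop : Cfsg.fittingHall G ≠ ⊤ := by
    intro h
    rw [h] at hHnil
    exact hnn (Group.nilpotent_of_mulEquiv Subgroup.topEquiv)
  obtain ⟨E, hc⟩ := Subgroup.exists_right_complement'_of_coprime hHcop
  have hcardE : (Cfsg.fittingHall G).index = Nat.card E := hc.symm.index_eq_card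
  have hE1 : E ≠ ⊥ := by
    intro h
    rw [h, Subgroup.card_bot, Subgroup.index_eq_one] at hcardE
    exact hHtop hcardE
  have hfpf : ∀ e ∈ E, e ≠ 1 → Cfsg.fittingHall G ⊓ Subgroup.centralizer ({e} : Set G) = ⊥ := by
    intro e he he1
    rw [eq_bot_iff]
    intro h hh
    rw [Subgroup.mem_bot]
    by_contra hh1
    refine fpf_aux hCN (Cfsg.fittingHall G) hHnil hmax e h he1 ?_ hh.1 hh1
      (Subgroup.mem_centralizer_singleton_iff.1 hh.2).symm
    have : orderOf e ∣ Nat.card E := by
      have := orderOf_dvd_natCard (⟨e, he⟩ : E)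
      simpa using this
    rw [← hcardE] at this
    exact (Nat.Coprime.coprime_dvd_right this hHcop).symm
  refine ⟨hH1, hHtop, ⟨E, hc, (Cfsg.Agent.S0039.result _ E hc hH1 hE1).2 hfpf, hfpf⟩, ?_⟩
  -- nilpotency of `E`
  obtain ⟨V, hVn, hV1, hVP, hVmin⟩ := Cfsg.Agent.Lib.Helper1.exists_minimal_normal_le hPn hP1
  have hPnil : Group.IsNilpotent (P : Subgroup G) := P.2.isNilpotent
  have hVsol : Group.IsSolvable V :=
    Group.isSolvable_of_isSolvable_injective (f := Subgroup.inclusion hVP)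
      (Subgroup.inclusion_injective hVP)
  obtain ⟨hVc, -⟩ := Cfsg.Agent.Lib.Helper1.minimal_normal_elementary_abelian V hVsol hV1 hVmin
  have hVnt : Nontrivial V := (Subgroup.nontrivial_iff_ne_bot V).2 hV1
  have hEnil : Group.IsNilpotent E := by
    refine isNilpotent_of_fpf (V := V) (isCNGroup_subgroup hCN E)
      ((MulAut.conjNormal : G →* MulAut V).comp E.subtype) ?_ ?_
    · intro e he1 v hv
      have he1' : (e : G) ≠ 1 := fun h => he1 (Subtype.ext h)
      have h1 : (e : G) * (v : G) * (e : G)⁻¹ = v := by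
        have := congrArg Subtype.val hv
        simpa [MulAut.conjNormal_apply] using this
      have h2 : (v : G) ∈ Cfsg.fittingHall G ⊓ Subgroup.centralizer ({(e : G)} : Set G) := by
        refine ⟨hPH (hVP v.2), ?_⟩
        show (v : G) ∈ Subgroup.centralizer ({(e : G)} : Set G)
        rw [Subgroup.mem_centralizer_singleton_iff]
        have : (e : G) * (v : G) = ((e : G) * (v : G) * (e : G)⁻¹) * e := by group
        rw [this, h1]
      rw [hfpf e e.2 he1', Subgroup.mem_bot] at h2
      exact Subtype.ext h2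
    · rw [← hcardE]
      exact Nat.Coprime.coprime_dvd_left (Subgroup.card_dvd_of_le (hVP.trans hPH)) hHcop
  exact Group.nilpotent_of_mulEquiv hc.symm.QuotientMulEquiv.symm

end Cfsg.Agent.S1474
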