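import Cfsg.Statements.S1476
import Cfsg.Agent.Lib.Helper25.CNSolvable
import Cfsg.Agent.S1474
import Cfsg.Agent.S0040
import Cfsg.Agent.S0044

set_option autoImplicit false
open Cfsg

namespace Cfsg.Agent.S1476

open Cfsg.Agent.Lib.Helper25

variable {G : Type*} [Group G] [Finite G]

omit [Finite G] in
theorem prime_eq_two_of_quaternion {X : Type*} [Group X] {r : ℕ} (hr : r.Prime) (hX : IsPGroup r X)
    (m : ℕ) (e : X ≃* QuaternionGroup (2 ^ m)) : r = 2 := by
  have h1 : Nat.card X = 4 * 2 ^ m := by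
    rw [Nat.card_congr e.toEquiv, Nat.card_eq_fintype_card, QuaternionGroup.card]
  have : Finite X := Nat.finite_of_card_ne_zero (by rw [h1]; positivity)
  have : Fact r.Prime := ⟨hr⟩
  obtain ⟨k, hk⟩ := IsPGroup.iff_card.1 hX
  have h2 : 2 ∣ r ^ k := by
    rw [← hk, h1]
    exact ⟨2 * 2 ^ m, by ring⟩
  exact ((Nat.prime_dvd_prime_iff_eq Nat.prime_two hr).1 (Nat.prime_two.dvd_of_dvd_pow h2)).symm

/-- Structure of a nilpotent Frobenius complement. -/
theorem complement_structure (K E : Subgroup G) [K.Normal] (hc : Subgroup.IsComplement' K E)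
    (hK : K ≠ ⊥) (hfpf : ∀ h ∈ E, h ≠ 1 → K ⊓ Subgroup.centralizer {h} = ⊥)
    (hEnil : Group.IsNilpotent E) :
    IsCyclic E ∨ ∃ C Q : Subgroup G, C ⊔ Q = E ∧ (∀ a ∈ C, ∀ b ∈ Q, a * b = b * a) ∧ IsCyclic C ∧
      Odd (Nat.card C) ∧ ∃ n : ℕ, Nonempty (↥Q ≃* QuaternionGroup (2 ^ n)) := by
  by_cases hall : ∀ (r : ℕ), r.Prime → ∀ (R : Sylow r E), IsCyclic R
  · left
    have : IsZGroup E := ⟨hall⟩
    infer_instance
  · right
    simp only [not_forall] at hall
    obtain ⟨r, hr, R, hR⟩ := hall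
    have hrF : Fact r.Prime := ⟨hr⟩
    rcases Cfsg.Agent.S0040.result K E hc hK hfpf r R with h | ⟨n, ⟨e⟩⟩
    · exact absurd h hR
    have hr2 : r = 2 := prime_eq_two_of_quaternion hr R.isPGroup' n e
    subst hr2
    have hRn : (R : Subgroup E).Normal := inferInstance
    obtain ⟨C', hC'⟩ := Subgroup.exists_right_complement'_of_coprime (N := (R : Subgroup E))
      R.card_coprime_index
    have hcardC : Nat.card C' = (R : Subgroup E).index := (hC'.symm.index_eq_card).symm
    have hoddC : Odd (Nat.card C') := by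
      rw [hcardC, ← Nat.not_even_iff_odd, even_iff_two_dvd]
      exact R.not_dvd_index
    have hC'nil : Group.IsNilpotent C' := inferInstance
    have hZ : IsZGroup C' := by
      refine ⟨fun r' hr' R' => ?_⟩
      have : Fact r'.Prime := ⟨hr'⟩
      have hR'p : IsPGroup r' ((R' : Subgroup C').map C'.subtype) := R'.isPGroup'.map _
      obtain ⟨S, hS⟩ := hR'p.exists_le_sylow
      rcases Cfsg.Agent.S0040.result K E hc hK hfpf r' S with h | ⟨m, ⟨e'⟩⟩
      · let f : (R' : Subgroup C') →* (S : Subgroup E) :=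
          ((C'.subtype).comp (R' : Subgroup C').subtype).codRestrict (S : Subgroup E)
            (fun x => hS ⟨x, x.2, rfl⟩)
        have hf : Function.Injective f := by
          intro a b hab
          have h1 : ((a : C') : E) = ((b : C') : E) := congrArg (fun x : (S : Subgroup E) => (x : E)) hab
          exact Subtype.ext (Subtype.ext h1)
        exact isCyclic_of_injective f hf
      · have hr2 : r' = 2 := prime_eq_two_of_quaternion hr' S.isPGroup' m e'
        subst hr2
        obtain ⟨k, hk⟩ := IsPGroup.iff_card.1 R'.isPGroup'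
        have h2 : Nat.card R' ∣ Nat.card C' := Subgroup.card_subgroup_dvd_card _
        have hk0 : k = 0 := by
          by_contra hk0
          have h3 : 2 ∣ Nat.card C' := (hk ▸ dvd_pow_self 2 hk0 : 2 ∣ Nat.card R').trans h2
          exact (Nat.not_even_iff_odd.2 hoddC) (even_iff_two_dvd.2 h3)
        rw [hk0, pow_zero] at hk
        have : Subsingleton R' := (Nat.card_eq_one_iff_unique.1 hk).1
        infer_instance
    have hCcyc : IsCyclic C' := inferInstance
    refine ⟨C'.map E.subtype, (R : Subgroup E).map E.subtype, ?_, ?_, ?_, ?_, n, ⟨?_⟩⟩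
    · have h1 := congrArg (Subgroup.map E.subtype) hC'.sup_eq_top
      rw [Subgroup.map_sup, ← MonoidHom.range_eq_map, Subgroup.range_subtype, sup_comm] at h1
      exact h1
    · rintro _ ⟨a, ha, rfl⟩ _ ⟨b, hb, rfl⟩
      have h1 : (orderOf a).Coprime (orderOf b) := by
        have h2 : orderOf a ∣ Nat.card C' := by
          have := orderOf_dvd_natCard (⟨a, ha⟩ : C')
          rwa [Subgroup.orderOf_mk] at this
        have h3 : orderOf b ∣ Nat.card (R : Subgroup E) := by
          have := orderOf_dvd_natCard (⟨b, hb⟩ : (R : Subgroup E))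
          rwa [Subgroup.orderOf_mk] at this
        rw [hcardC] at h2
        exact (Nat.Coprime.coprime_dvd_left h3 (Nat.Coprime.coprime_dvd_right h2
          R.card_coprime_index)).symm
      exact congrArg Subtype.val (commute_of_coprime_orderOf E a b h1).eq
    · let e1 := C'.equivMapOfInjective E.subtype (Subgroup.subtype_injective _)
      exact isCyclic_of_injective e1.symm.toMonoidHom e1.symm.injective
    · rw [Subgroup.card_map_of_injective (Subgroup.subtype_injective _)]
      exact hoddC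
    · exact (((R : Subgroup E).equivMapOfInjective E.subtype
        (Subgroup.subtype_injective _)).symm).trans e

/-- two nontrivial cores force a normal Sylow subgroup. -/
theorem sylow_normal_of_two_cores (hCN : IsCNGroup G) (p q : ℕ) [hp : Fact p.Prime]
    [hq : Fact q.Prime] (hpq : p ≠ q) (hP : pCore p G ≠ ⊥) (hQ : pCore q G ≠ ⊥) (P : Sylow p G) :
    (P : Subgroup G).Normal := by
  have hPp := Cfsg.Agent.Lib.Lead.pCore_isPGroup p G
  have hQq := Cfsg.Agent.Lib.Lead.pCore_isPGroup q G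
  have hdis : Disjoint (pCore p G) (pCore q G) := IsPGroup.disjoint_of_ne p q hpq _ _ hPp hQq
  have hcomm := Subgroup.commute_of_normal_of_disjoint (pCore p G) (pCore q G) inferInstance
    inferInstance hdis
  have key : ∀ x : G, (∃ k : ℕ, orderOf x = p ^ k) →
      x ∈ Subgroup.centralizer (pCore q G : Set G) := by
    rintro x ⟨k, hk⟩
    obtain ⟨z, hz, hz1, hxz⟩ := exists_fixed_of_pElement (pCore p G) hPp hP x k hk
      (fun d hd => (inferInstance : (pCore p G).Normal).conj_mem d hd x)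
    rw [Subgroup.mem_centralizer_iff]
    intro y hy
    obtain ⟨j, hj⟩ := orderOf_of_mem_isPGroup hQq hy
    apply commute_of_coprime_orderOf_of_mem (hCN z hz1)
    · exact Subgroup.mem_centralizer_singleton_iff.2 (hcomm z y hz hy).eq.symm
    · exact Subgroup.mem_centralizer_singleton_iff.2 hxz
    · rw [hj, hk]
      exact Nat.Coprime.pow _ _ ((Nat.coprime_primes hq.out hp.out).2 hpq.symm)
  obtain ⟨⟨y₀, hy₀⟩, hy₀1⟩ := (Subgroup.ne_bot_iff_exists_ne_one).1 hQ
  have hy₀1' : y₀ ≠ 1 := fun h => hy₀1 (Subtype.ext h)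
  have hCnil : Group.IsNilpotent (Subgroup.centralizer (pCore q G : Set G)) := by
    refine isNilpotent_of_le' ?_ (hCN y₀ hy₀1')
    exact Subgroup.centralizer_le (by simpa using hy₀)
  have hCn : (Subgroup.centralizer (pCore q G : Set G)).Normal := inferInstance
  have hPC : (P : Subgroup G) ≤ Subgroup.centralizer (pCore q G : Set G) := fun x hx =>
    key x (orderOf_of_mem_isPGroup P.isPGroup' hx)
  constructor
  intro n hn g
  obtain ⟨k, hk⟩ := orderOf_of_mem_isPGroup P.isPGroup' hn
  refine mem_sylow_of_mem_nilpotent hCnil p P hPC (hCn.conj_mem n (hPC hn) g) k ?_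
  have : g * n * g⁻¹ = MulAut.conj g n := by simp
  rw [this, MulEquiv.orderOf_eq, hk]

theorem isCyclic_of_abelian (hCN : IsCNGroup G) (p : ℕ) [hp : Fact p.Prime] (H : Subgroup G)
    [hHn : H.Normal] (hHp : IsPGroup p H) (hH1 : H ≠ ⊥)
    (hCH : Subgroup.centralizer (H : Set G) ≤ H) (B : Subgroup G) [IsMulCommutative B]
    (hB : ∀ b ∈ B, (orderOf b).Coprime p) : IsCyclic B := by
  have hVc : IsMulCommutative (H ⊓ Subgroup.centralizer (H : Set G) : Subgroup G) :=
    ⟨⟨fun a b => Subtype.ext ((Subgroup.mem_centralizer_iff.1 a.2.2 b b.2.1).symm)⟩⟩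
  have hV1 : (H ⊓ Subgroup.centralizer (H : Set G) : Subgroup G) ≠ ⊥ := by
    have hdvd : p ∣ Nat.card H := by
      obtain ⟨n, hn⟩ := IsPGroup.iff_card.1 hHp
      rw [hn]
      apply dvd_pow_self
      rintro rfl
      rw [pow_zero] at hn
      exact hH1 (Subgroup.card_eq_one.1 hn)
    obtain ⟨z, hzH, hz1, -, hzc⟩ := exists_central_pElement hHp.isNilpotent p hdvd
    intro hbot
    apply hz1
    rw [← Subgroup.mem_bot, ← hbot]
    exact ⟨hzH, Subgroup.mem_centralizer_iff.2 fun h hh => hzc h hh⟩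
  have hVn : (H ⊓ Subgroup.centralizer (H : Set G) : Subgroup G).Normal := inferInstance
  exact Cfsg.Agent.S0041.result B (H ⊓ Subgroup.centralizer (H : Set G)) hV1
    (by rw [Subgroup.normalizer_eq_top_iff.2 hVn]; exact le_top)
    (by
      intro a ha ha1
      rw [eq_bot_iff]
      rintro v ⟨⟨hvH, -⟩, hv⟩
      rw [Subgroup.mem_bot]
      by_contra hv1
      exact ha1 (pPrime_fpf hCN p H hHp hCH (hB a ha) hvH hv1
        (Subgroup.mem_centralizer_singleton_iff.1 hv).symm))
    (Or.inl inferInstance)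

theorem exists_t [Group.IsSolvable G] (hCN : IsCNGroup G) (p : ℕ) [hp : Fact p.Prime]
    (hH1 : pCore p G ≠ ⊥) (hCH : Subgroup.centralizer (pCore p G : Set G) ≤ pCore p G)
    (hHtop : pCore p G ≠ ⊤) :
    ∃ t : G, t ≠ 1 ∧ (orderOf t).Coprime p ∧
      pCore p G ⊔ Subgroup.normalizer (Subgroup.zpowers t : Set G) = ⊤ := by
  have hHp := Cfsg.Agent.Lib.Lead.pCore_isPGroup p G
  have hnt : Nontrivial (G ⧸ pCore p G) := QuotientGroup.nontrivial_iff.2 hHtop
  obtain ⟨q, V, hq, hVn, hV1, hVq, hVab, -⟩ :=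
    Cfsg.Agent.Lib.Helper1.exists_normal_pSubgroup_of_solvable (G := G ⧸ pCore p G)
  have hqF : Fact q.Prime := ⟨hq⟩
  have hqp : q ≠ p := by
    rintro rfl
    apply hV1
    rw [eq_bot_iff, ← Cfsg.Agent.Lib.Lead.pCore_quotient_pCore q G]
    exact Cfsg.Agent.Lib.Lead.le_pCore hVn hVq
  obtain ⟨N₀, hN₀⟩ : ∃ N₀ : Subgroup G, N₀ = V.comap (QuotientGroup.mk' (pCore p G)) := ⟨_, rfl⟩
  have hN₀n : N₀.Normal := by rw [hN₀]; exact Subgroup.Normal.comap hVn _
  have hHN : pCore p G ≤ N₀ := by
    rw [hN₀]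
    intro x hx
    rw [Subgroup.mem_comap]
    have : QuotientGroup.mk' (pCore p G) x = 1 := (QuotientGroup.eq_one_iff x).2 hx
    rw [this]
    exact V.one_mem
  have hcardN : Nat.card N₀ = Nat.card (pCore p G) * Nat.card V := by
    rw [hN₀]; exact Cfsg.Agent.Lib.Lead.card_comap_mk' _ V
  obtain ⟨a, ha⟩ := IsPGroup.iff_card.1 hHp
  obtain ⟨b, hb⟩ := IsPGroup.iff_card.1 hVq
  have hcop : (p ^ a).Coprime (q ^ b) :=
    Nat.Coprime.pow _ _ ((Nat.coprime_primes hp.out hq).2 hqp.symm)
  have hrel : (pCore p G).relIndex N₀ = Nat.card V := by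
    have h1 := Cfsg.Agent.Lib.Helper1.relIndex_mul_card hHN
    rw [hcardN, mul_comm] at h1
    exact Nat.eq_of_mul_eq_mul_left Nat.card_pos h1
  obtain ⟨A₀, hA₀N, hA₀card, hsup⟩ := Cfsg.Agent.Lib.Helper1.sz_exists_rel (pCore p G) N₀ hHN
    (by rw [Subgroup.normalizer_eq_top_iff.2 inferInstance]; exact le_top)
    (by rw [hrel, ha, hb]; exact hcop)
  rw [hrel] at hA₀card
  have hrelA : A₀.relIndex N₀ = Nat.card (pCore p G) := by
    have h1 := Cfsg.Agent.Lib.Helper1.relIndex_mul_card hA₀N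
    rw [hcardN, hA₀card] at h1
    exact Nat.eq_of_mul_eq_mul_right Nat.card_pos h1
  have hfr := Cfsg.Agent.Lib.Helper1.hall_frattini N₀ inferInstance A₀ hA₀N
    (by rw [hrelA, hA₀card, ha, hb]; exact hcop.symm)
  have hA₀p : ∀ x ∈ A₀, (orderOf x).Coprime p := by
    intro x hx
    have h1 : orderOf x ∣ Nat.card A₀ := by
      have := orderOf_dvd_natCard (⟨x, hx⟩ : A₀)
      rwa [Subgroup.orderOf_mk] at this
    rw [hA₀card, hb] at h1
    exact Nat.Coprime.coprime_dvd_left h1
      (Nat.Coprime.pow_left b ((Nat.coprime_primes hq hp.out).2 hqp))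
  have hA₀ab : IsMulCommutative A₀ := by
    refine ⟨⟨fun x y => Subtype.ext ?_⟩⟩
    have hxV : QuotientGroup.mk' (pCore p G) (x : G) ∈ V := by
      have := hA₀N x.2
      rwa [hN₀] at this
    have hyV : QuotientGroup.mk' (pCore p G) (y : G) ∈ V := by
      have := hA₀N y.2
      rwa [hN₀] at this
    have h1 : (x : G) * y * (x : G)⁻¹ * (y : G)⁻¹ ∈ pCore p G := by
      rw [← QuotientGroup.eq_one_iff]
      have h2 := congrArg Subtype.val (mul_comm' (⟨_, hxV⟩ : V) ⟨_, hyV⟩)
      simp only [Subgroup.coe_mul] at h2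
      change QuotientGroup.mk' (pCore p G) ((x : G) * y * (x : G)⁻¹ * (y : G)⁻¹) = 1
      rw [map_mul, map_mul, map_mul, h2, map_inv, map_inv]
      group
    have h2 : (x : G) * y * (x : G)⁻¹ * (y : G)⁻¹ = 1 :=
      eq_one_of_orderOf_pow_coprime (orderOf_of_mem_isPGroup hHp h1)
        (hA₀p _ (A₀.mul_mem (A₀.mul_mem (A₀.mul_mem x.2 y.2) (A₀.inv_mem x.2)) (A₀.inv_mem y.2)))
    change (x : G) * y = y * x
    calc (x : G) * y = ((x : G) * y * (x : G)⁻¹ * (y : G)⁻¹) * (y * x) := by group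
      _ = y * x := by rw [h2, one_mul]
  have hA₀cyc : IsCyclic A₀ := isCyclic_of_abelian hCN p (pCore p G) hHp hH1 hCH A₀ hA₀p
  obtain ⟨⟨t, ht⟩, hgen⟩ := hA₀cyc.exists_generator
  have hA₀eq : A₀ = Subgroup.zpowers t := by
    apply le_antisymm
    · intro x hx
      obtain ⟨k, hk⟩ := Subgroup.mem_zpowers_iff.1 (hgen ⟨x, hx⟩)
      exact Subgroup.mem_zpowers_iff.2 ⟨k, by simpa using congrArg Subtype.val hk⟩
    · exact Subgroup.zpowers_le.2 ht
  refine ⟨t, ?_, hA₀p t ht, ?_⟩
  · rintro rfl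
    rw [Subgroup.zpowers_one_eq_bot] at hA₀eq
    rw [hA₀eq, Subgroup.card_bot] at hA₀card
    exact hV1 (Subgroup.card_eq_one.1 hA₀card.symm)
  · rw [← hA₀eq, eq_top_iff, ← hfr, ← hsup]
    refine sup_le (sup_le ?_ le_sup_left) le_sup_right
    exact le_trans Subgroup.le_normalizer le_sup_right

/-- Let G be a finite solvable group in which every non-identity element has nilpotent centralizer. Then either G is nilpotent; or G has a normal subgroup K with a Frobenius complement E (K E = G, K ∩ E = 1, E meets its conjugates by outside elements trivially) such that E is cyclic or E is generated by two elementwise-commuting subgroups, one cyclic of odd order and one isomorphic to a generalized quaternion group; or G is a three-step group with respect to some prime p. -/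
theorem result {G : Type*} [Group G] [Finite G] [Group.IsSolvable G] (hCN : Cfsg.IsCNGroup G) :
    Group.IsNilpotent G ∨
      (∃ K E : Subgroup G, K.Normal ∧ Subgroup.IsComplement' K E ∧ Cfsg.IsFrobeniusComplement E ∧
        (IsCyclic E ∨ ∃ C Q : Subgroup G, C ⊔ Q = E ∧ (∀ a ∈ C, ∀ b ∈ Q, a * b = b * a) ∧ IsCyclic C ∧ Odd (Nat.card C) ∧
          ∃ n : ℕ, Nonempty (↥Q ≃* QuaternionGroup (2 ^ n)))) ∨
      ∃ p : ℕ, p.Prime ∧ Cfsg.IsThreeStepGroup p G := by
  by_cases hnil : Group.IsNilpotent G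
  · exact Or.inl hnil
  right
  by_cases hA : ∃ (p : ℕ) (_ : Fact p.Prime) (P : Sylow p G),
      (P : Subgroup G) ≠ ⊥ ∧ (P : Subgroup G).Normal
  · left
    obtain ⟨p, hp, P, hP1, hPn⟩ := hA
    obtain ⟨hK1, hKtop, ⟨E, hc, hfrob, hfpf⟩, hq⟩ := Cfsg.Agent.S1474.result hCN hnil p P hP1 hPn
    refine ⟨fittingHall G, E, inferInstance, hc, hfrob, complement_structure _ E hc hK1 hfpf ?_⟩
    exact Group.nilpotent_of_mulEquiv (hc.symm.QuotientMulEquiv)
  · right
    have hnt : Nontrivial G := by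
      by_contra h
      rw [not_nontrivial_iff_subsingleton] at h
      exact hnil inferInstance
    obtain ⟨p, N, hp, hNn, hN1, hNp, -, -⟩ :=
      Cfsg.Agent.Lib.Helper1.exists_normal_pSubgroup_of_solvable (G := G)
    have hpF : Fact p.Prime := ⟨hp⟩
    have hH1 : pCore p G ≠ ⊥ := by
      intro h
      apply hN1
      rw [eq_bot_iff, ← h]
      exact Cfsg.Agent.Lib.Lead.le_pCore hNn hNp
    obtain ⟨P⟩ : Nonempty (Sylow p G) := inferInstance
    have hHP : pCore p G ≤ P := Cfsg.Agent.Lib.Lead.pCore_le_sylow P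
    have hP1 : (P : Subgroup G) ≠ ⊥ := fun h => hH1 (by rw [eq_bot_iff, ← h]; exact hHP)
    have hcore : ∀ q : ℕ, q.Prime → q ≠ p → pCore q G = ⊥ := by
      intro q hq hqp
      by_contra hne
      have : Fact q.Prime := ⟨hq⟩
      exact hA ⟨p, hpF, P, hP1, sylow_normal_of_two_cores hCN p q hqp.symm hH1 hne P⟩
    have hF : fittingSubgroup G = pCore p G := by
      rw [Cfsg.Agent.Lib.Helper1.fittingSubgroup_eq_iSup_pCore]
      apply le_antisymm
      · refine iSup_le fun q => ?_
        by_cases hqp : (q : ℕ) = p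
        · rw [hqp]
        · rw [hcore q q.2 hqp]; exact bot_le
      · exact le_iSup (fun q : Nat.Primes => pCore (q : ℕ) G) ⟨p, hp⟩
    have hCH : Subgroup.centralizer (pCore p G : Set G) ≤ pCore p G := by
      have := Cfsg.Agent.S0044.result (G := G)
      rwa [hF] at this
    have hHtop : pCore p G ≠ ⊤ := by
      intro h
      apply hnil
      have h1 : IsPGroup p G := Cfsg.Agent.Lib.Lead.pCore_eq_top_iff.1 h
      exact h1.isNilpotent
    obtain ⟨g₀, hg₀P, hg₀H⟩ : ∃ g₀ ∈ (P : Subgroup G), g₀ ∉ pCore p G := by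
      by_contra hcon
      simp only [not_exists, not_and, not_not] at hcon
      have heq : (P : Subgroup G) = pCore p G := le_antisymm hcon hHP
      exact hA ⟨p, hpF, P, hP1, by rw [heq]; infer_instance⟩
    obtain ⟨t, ht1, htp, hfrat⟩ := exists_t hCN p hH1 hCH hHtop
    exact ⟨p, hp, threeStep_of_data hCN p hH1 hCH g₀ (orderOf_of_mem_isPGroup P.isPGroup' hg₀P)
      hg₀H t ht1 htp hfrat⟩

end Cfsg.Agent.S1476
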