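import Cfsg.Statements.S1477
import Cfsg.Agent.Lib.Helper25.NilpotentCoprime

set_option autoImplicit false
open Cfsg

namespace Cfsg.Agent.S1477

open Cfsg.Agent.Lib.Helper25

variable {G : Type*} [Group G] [Finite G]

/-- maximal nilpotent subgroup -/
def MaxNil (H : Subgroup G) : Prop :=
  Group.IsNilpotent H ∧ ∀ L : Subgroup G, Group.IsNilpotent L → H ≤ L → L = H

omit [Finite G] in
theorem factA (hCN : Cfsg.IsCNGroup G) {H : Subgroup G} (hH : MaxNil H) {z : G} (hz1 : z ≠ 1)
    (hz : ∀ h ∈ H, h * z = z * h) : Subgroup.centralizer ({z} : Set G) = H :=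
  hH.2 _ (hCN z hz1) (fun h hh => Subgroup.mem_centralizer_singleton_iff.2 (hz h hh))

theorem hall (hCN : Cfsg.IsCNGroup G) {H : Subgroup G} (hH : MaxNil H) (p : ℕ) [hp : Fact p.Prime]
    (hpH : p ∣ Nat.card H) : ∃ S : Sylow p G, (S : Subgroup G) ≤ H := by
  by_cases hq : ∃ q : ℕ, q.Prime ∧ q ≠ p ∧ q ∣ Nat.card H
  · obtain ⟨q, hqp, hqne, hqH⟩ := hq
    have : Fact q.Prime := ⟨hqp⟩
    obtain ⟨y, hyH, hy1, ⟨k, hyk⟩, hyc⟩ := exists_central_pElement hH.1 p hpH
    obtain ⟨w, hwH, hw1, ⟨l, hwl⟩, hwc⟩ := exists_central_pElement hH.1 q hqH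
    have hCy := factA hCN hH hy1 hyc
    have hCw := factA hCN hH hw1 hwc
    have hT : IsPGroup p (Subgroup.zpowers y) := by
      apply IsPGroup.of_card (n := k)
      rw [Nat.card_zpowers, hyk]
    obtain ⟨S, hS⟩ := hT.exists_le_sylow
    have hyS : y ∈ (S : Subgroup G) := hS (Subgroup.mem_zpowers y)
    have hnt : Nontrivial (S : Subgroup G) :=
      ⟨⟨⟨y, hyS⟩, 1, fun h => hy1 (congrArg Subtype.val h)⟩⟩
    have hnt2 : Nontrivial (Subgroup.center (S : Subgroup G)) := S.2.center_nontrivial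
    obtain ⟨⟨⟨z, hzS⟩, hzc⟩, hz1⟩ := exists_ne (1 : Subgroup.center (S : Subgroup G))
    have hz1' : z ≠ 1 := by
      intro h
      apply hz1
      ext
      simpa using h
    have hzc' : ∀ s ∈ (S : Subgroup G), s * z = z * s := by
      intro s hs
      exact congrArg Subtype.val ((Subgroup.mem_center_iff.1 hzc) ⟨s, hs⟩)
    have hzH : z ∈ H := by
      rw [← hCy, Subgroup.mem_centralizer_singleton_iff]
      exact (hzc' y hyS).symm
    refine ⟨S, fun s hs => ?_⟩
    rw [← hCw, Subgroup.mem_centralizer_singleton_iff]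
    obtain ⟨j, hj⟩ := (IsPGroup.iff_orderOf.1 S.2) ⟨s, hs⟩
    have hj' : orderOf s = p ^ j := by rw [← hj]; simp
    apply commute_of_coprime_orderOf_of_mem (hCN z hz1')
    · exact Subgroup.mem_centralizer_singleton_iff.2 (hzc' s hs)
    · exact Subgroup.mem_centralizer_singleton_iff.2 (hwc z hzH).symm
    · rw [hj', hwl]
      exact Nat.Coprime.pow _ _ ((Nat.coprime_primes hp.out hqp).2 hqne.symm)
  · have hcard : Nat.card H = p ^ (Nat.card H).primeFactorsList.length := by
      apply Nat.eq_prime_pow_of_unique_prime_dvd Nat.card_pos.ne'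
      intro d hd hdH
      by_contra hne
      exact hq ⟨d, hd, hne, hdH⟩
    have hHp : IsPGroup p H := IsPGroup.of_card hcard
    obtain ⟨S, hS⟩ := hHp.exists_le_sylow
    exact ⟨S, (hH.2 _ S.2.isNilpotent hS).le⟩

/-- if `S ≤ K` is a Sylow `r`-subgroup of `G`, `K` nilpotent, an `r`-element `y` of `S` centralizing
`S` is central in `K`. -/
theorem central_of_centralizes_sylow {K : Subgroup G} (hK : Group.IsNilpotent K) (r : ℕ)
    [hr : Fact r.Prime] (S : Sylow r G) (hSK : (S : Subgroup G) ≤ K) {y : G}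
    (hyS : y ∈ (S : Subgroup G)) (hyc : ∀ s ∈ (S : Subgroup G), s * y = y * s) :
    ∀ h ∈ K, h * y = y * h := by
  intro h hh
  obtain ⟨u, hu, v, hv, rfl, ⟨k, hk⟩, hvr⟩ := exists_pPart_mul_pPrimePart r hr.out h
  have hz : Subgroup.zpowers (u * v) ≤ K := by rwa [Subgroup.zpowers_le]
  have huS : u ∈ (S : Subgroup G) := mem_sylow_of_mem_nilpotent hK r S hSK (hz hu) k hk
  obtain ⟨j, hj⟩ := (IsPGroup.iff_orderOf.1 S.2) ⟨y, hyS⟩
  have hj' : orderOf y = r ^ j := by rw [← hj]; simp
  have h1 : v * y = y * v := by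
    apply commute_of_coprime_orderOf_of_mem hK (hz hv) (hSK hyS)
    rw [hj']
    exact Nat.Coprime.pow_right _ hvr
  rw [mul_assoc, h1, ← mul_assoc, hyc u huS, mul_assoc]

theorem thmB (hCN : Cfsg.IsCNGroup G) {H K : Subgroup G} (hH : MaxNil H) (hK : MaxNil K)
    (hnpp : ¬ IsPrimePow (Nat.card H)) {x : G} (hxH : x ∈ H) (hxK : x ∈ K) (hx1 : x ≠ 1) :
    H = K := by
  -- replace `x` by an element of prime order
  have hox : orderOf x ≠ 1 := fun h => hx1 (orderOf_eq_one_iff.1 h)
  obtain ⟨p, hp, hpx⟩ := Nat.exists_prime_and_dvd hox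
  have : Fact p.Prime := ⟨hp⟩
  set x' := x ^ (orderOf x / p) with hx'
  have hox' : orderOf x' = p := orderOf_pow_orderOf_div (orderOf_pos x).ne' hpx
  have hx'H : x' ∈ H := H.pow_mem hxH _
  have hx'K : x' ∈ K := K.pow_mem hxK _
  have hx'1 : x' ≠ 1 := by
    intro h
    rw [h, orderOf_one] at hox'
    exact hp.one_lt.ne hox'
  -- a second prime
  have hr : ∃ r : ℕ, r.Prime ∧ r ≠ p ∧ r ∣ Nat.card H := by
    by_contra hq
    have hcard : Nat.card H = p ^ (Nat.card H).primeFactorsList.length := by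
      apply Nat.eq_prime_pow_of_unique_prime_dvd Nat.card_pos.ne'
      intro d hd hdH
      by_contra hne
      exact hq ⟨d, hd, hne, hdH⟩
    apply hnpp
    rw [hcard]
    refine ⟨p, _, hp.prime, ?_, rfl⟩
    rcases Nat.eq_zero_or_pos (Nat.card H).primeFactorsList.length with h0 | h0
    · exfalso
      rw [h0, pow_zero] at hcard
      have := (Subgroup.card_eq_one.1 hcard)
      rw [this, Subgroup.mem_bot] at hxH
      exact hx1 hxH
    · exact h0
  obtain ⟨r, hrp, hrne, hrH⟩ := hr
  have : Fact r.Prime := ⟨hrp⟩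
  obtain ⟨S, hSH⟩ := hall hCN hH r hrH
  have hcop : ∀ s ∈ (S : Subgroup G), ∀ t : G, (∃ k : ℕ, orderOf t = p ^ k) →
      (orderOf s).Coprime (orderOf t) := by
    intro s hs t ⟨k, hk⟩
    obtain ⟨j, hj⟩ := (IsPGroup.iff_orderOf.1 S.2) ⟨s, hs⟩
    have hj' : orderOf s = r ^ j := by rw [← hj]; simp
    rw [hj', hk]
    exact Nat.Coprime.pow _ _ ((Nat.coprime_primes hrp hp).2 hrne)
  -- `S` centralizes `x'`
  have hSx : ∀ s ∈ (S : Subgroup G), s ∈ Subgroup.centralizer ({x'} : Set G) := by
    intro s hs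
    rw [Subgroup.mem_centralizer_singleton_iff]
    exact commute_of_coprime_orderOf_of_mem hH.1 (hSH hs) hx'H (hcop s hs x' ⟨1, by rw [hox', pow_one]⟩)
  -- `S ≤ K`
  have hpK : p ∣ Nat.card K := by
    rw [← hox']
    have := orderOf_dvd_natCard (⟨x', hx'K⟩ : K)
    simpa using this
  obtain ⟨y, hyK, hy1, hyk, hyc⟩ := exists_central_pElement hK.1 p hpK
  have hCy := factA hCN hK hy1 hyc
  have hSK : (S : Subgroup G) ≤ K := by
    intro s hs
    rw [← hCy, Subgroup.mem_centralizer_singleton_iff]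
    apply commute_of_coprime_orderOf_of_mem (hCN x' hx'1) (hSx s hs)
    · exact Subgroup.mem_centralizer_singleton_iff.2 (hyc x' hx'K).symm
    · exact hcop s hs y hyk
  -- a central `r`-element of `H`
  obtain ⟨w, hwH, hw1, ⟨l, hwl⟩, hwc⟩ := exists_central_pElement hH.1 r hrH
  have hCw := factA hCN hH hw1 hwc
  have hwS : w ∈ (S : Subgroup G) := mem_sylow_of_mem_nilpotent hH.1 r S hSH hwH l hwl
  have hwK := central_of_centralizes_sylow hK.1 r S hSK hwS (fun s hs => hwc s (hSH hs))
  have hCw' := factA hCN hK hw1 hwK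
  rw [← hCw, hCw']

omit [Finite G] in
theorem maxNil_conj {H : Subgroup G} (hH : MaxNil H) (g : G) :
    MaxNil (H.map (MulAut.conj g).toMonoidHom) := by
  constructor
  · exact (Group.isNilpotent_congr
      (H.equivMapOfInjective (MulAut.conj g).toMonoidHom (MulAut.conj g).injective)).1 hH.1
  · intro L hL hHL
    have h1 : Group.IsNilpotent (L.map (MulAut.conj g⁻¹).toMonoidHom) :=
      (Group.isNilpotent_congr
        (L.equivMapOfInjective (MulAut.conj g⁻¹).toMonoidHom (MulAut.conj g⁻¹).injective)).1 hL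
    have h2 : H ≤ L.map (MulAut.conj g⁻¹).toMonoidHom := by
      intro h hh
      refine ⟨g * h * g⁻¹, hHL ⟨h, hh, by simp [MulAut.conj_apply]⟩, ?_⟩
      simp only [MulEquiv.coe_toMonoidHom, MulAut.conj_apply]
      group
    have h3 := hH.2 _ h1 h2
    rw [← h3, Subgroup.map_map]
    have : (MulAut.conj g).toMonoidHom.comp (MulAut.conj g⁻¹).toMonoidHom = MonoidHom.id G := by
      ext z
      simp only [MonoidHom.comp_apply, MulEquiv.coe_toMonoidHom, MulAut.conj_apply, MonoidHom.id_apply]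
      group
    rw [this, Subgroup.map_id]

/-- Let G be a finite group in which every non-identity element has nilpotent centralizer, and H a nilpotent subgroup not properly contained in any nilpotent subgroup. Then the order of H is coprime to its index; if the order of H is not a prime power then H ∩ gHg⁻¹ = 1 whenever gHg⁻¹ ≠ H; and if H ∩ gHg⁻¹ = 1 whenever gHg⁻¹ ≠ H, then C_G(x) ≤ H for every non-identity x ∈ H. -/
theorem result {G : Type*} [Group G] [Finite G] (hCN : Cfsg.IsCNGroup G) (H : Subgroup G) (hH : Group.IsNilpotent H)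
    (hmax : ∀ L : Subgroup G, Group.IsNilpotent L → H ≤ L → L = H) :
    (Nat.card H).Coprime H.index ∧
      (¬ IsPrimePow (Nat.card H) → Nat.card H ≠ 1 → ∀ g : G, H.map (MulAut.conj g).toMonoidHom ≠ H → H ⊓ H.map (MulAut.conj g).toMonoidHom = ⊥) ∧
      ((∀ g : G, H.map (MulAut.conj g).toMonoidHom ≠ H → H ⊓ H.map (MulAut.conj g).toMonoidHom = ⊥) → ∀ x ∈ H, x ≠ 1 → Subgroup.centralizer ({x} : Set G) ≤ H) := by
  have hM : MaxNil H := ⟨hH, hmax⟩
  refine ⟨?_, ?_, ?_⟩
  · apply Nat.coprime_of_dvd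
    intro p hp hpH hpi
    have : Fact p.Prime := ⟨hp⟩
    obtain ⟨S, hS⟩ := hall hCN hM p hpH
    exact S.not_dvd_index (hpi.trans (Subgroup.index_dvd_of_le hS))
  · intro hnpp _ g hg
    by_contra hne
    obtain ⟨⟨x, hx⟩, hx1⟩ := (Subgroup.ne_bot_iff_exists_ne_one).1 hne
    have hx1' : x ≠ 1 := by
      intro h
      apply hx1
      ext
      simpa using h
    exact hg (thmB hCN hM (maxNil_conj hM g) hnpp hx.1 hx.2 hx1').symm
  · intro hTI x hxH hx1 c hc
    have hcard : Nat.card H ≠ 1 := by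
      intro h
      have := (Subgroup.card_eq_one.1 h)
      rw [this, Subgroup.mem_bot] at hxH
      exact hx1 hxH
    obtain ⟨p, hp, hpH⟩ := Nat.exists_prime_and_dvd hcard
    have : Fact p.Prime := ⟨hp⟩
    obtain ⟨S, hSH⟩ := hall hCN hM p hpH
    obtain ⟨y, hyH, hy1, ⟨l, hyl⟩, hyc⟩ := exists_central_pElement hH p hpH
    have hCy := factA hCN hM hy1 hyc
    obtain ⟨u, hu, v, hv, rfl, ⟨k, hk⟩, hvp⟩ := exists_pPart_mul_pPrimePart p hp c
    have hz : Subgroup.zpowers (u * v) ≤ Subgroup.centralizer ({x} : Set G) := by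
      rwa [Subgroup.zpowers_le]
    apply H.mul_mem
    · -- the `p`-part
      have hux : u * x = x * u := Subgroup.mem_centralizer_singleton_iff.1 (hz hu)
      have hHu : H.map (MulAut.conj u).toMonoidHom = H := by
        by_contra hne
        have h1 : x ∈ H ⊓ H.map (MulAut.conj u).toMonoidHom := by
          refine ⟨hxH, x, hxH, ?_⟩
          simp only [MulEquiv.coe_toMonoidHom, MulAut.conj_apply]
          rw [hux, mul_inv_cancel_right]
        rw [hTI u hne, Subgroup.mem_bot] at h1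
        exact hx1 h1
      have hle : ((u • S : Sylow p G) : Subgroup G) ≤ (S : Subgroup G) := by
        intro t ht
        rw [Sylow.coe_subgroup_smul, Subgroup.mem_pointwise_smul_iff_inv_smul_mem] at ht
        have ht' : u⁻¹ * t * u ∈ (S : Subgroup G) := by
          simpa [MulAut.smul_def, MulAut.conj_apply] using ht
        obtain ⟨j, hj⟩ := (IsPGroup.iff_orderOf.1 S.2) ⟨_, ht'⟩
        have hj' : orderOf t = p ^ j := by
          rw [← hj]
          simp only [Subgroup.orderOf_mk]
          have : u⁻¹ * t * u = MulAut.conj u⁻¹ t := by simp [MulAut.conj_apply]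
          rw [this, MulEquiv.orderOf_eq]
        have htH : t ∈ H := by
          rw [← hHu]
          refine ⟨u⁻¹ * t * u, hSH ht', ?_⟩
          simp only [MulEquiv.coe_toMonoidHom, MulAut.conj_apply]
          group
        exact mem_sylow_of_mem_nilpotent hH p S hSH htH j hj'
      have heq : u • S = S := by
        apply Sylow.ext
        exact ((u • S).3 S.2 hle).symm
      have huN := Sylow.smul_eq_iff_mem_normalizer.1 heq
      have hT : IsPGroup p (Subgroup.zpowers u) := by
        apply IsPGroup.of_card (n := k)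
        rw [Nat.card_zpowers, hk]
      have h2 : u ∈ Subgroup.zpowers u ⊓ (S : Subgroup G) := by
        rw [← hT.inf_normalizer_sylow S]
        exact ⟨Subgroup.mem_zpowers u, huN⟩
      exact hSH h2.2
    · rw [← hCy, Subgroup.mem_centralizer_singleton_iff]
      apply commute_of_coprime_orderOf_of_mem (hCN x hx1) (hz hv)
      · exact Subgroup.mem_centralizer_singleton_iff.2 (hyc x hxH).symm
      · rw [hyl]
        exact Nat.Coprime.pow_right _ hvp

end Cfsg.Agent.S1477
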