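import Cfsg.Statements.S1483
import Cfsg.Agent.S1477

set_option autoImplicit false
open Cfsg

namespace Cfsg.Agent.S1483

open Cfsg.Agent.Lib.Helper25 Cfsg.Agent.S1477

variable {G : Type*} [Group G] [Finite G]

theorem conj_or_coprime (hCN : Cfsg.IsCNGroup G) {H₁ H₂ : Subgroup G} (h₁ : MaxNil H₁)
    (h₂ : MaxNil H₂) :
    (∃ g : G, H₂ = H₁.map (MulAut.conj g).toMonoidHom) ∨ (Nat.card H₁).Coprime (Nat.card H₂) := by
  by_cases hc : (Nat.card H₁).Coprime (Nat.card H₂)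
  · exact Or.inr hc
  left
  obtain ⟨p, hp, hp1, hp2⟩ := Nat.Prime.not_coprime_iff_dvd.1 hc
  have : Fact p.Prime := ⟨hp⟩
  obtain ⟨S₁, hS₁⟩ := hall hCN h₁ p hp1
  obtain ⟨S₂, hS₂⟩ := hall hCN h₂ p hp2
  obtain ⟨g, rfl⟩ := MulAction.exists_smul_eq G S₁ S₂
  refine ⟨g, ?_⟩
  have h₁' := maxNil_conj h₁ g
  have hS₁' : ((g • S₁ : Sylow p G) : Subgroup G) ≤ H₁.map (MulAut.conj g).toMonoidHom := by
    intro t ht
    rw [Sylow.coe_subgroup_smul, Subgroup.mem_pointwise_smul_iff_inv_smul_mem] at ht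
    have ht' : g⁻¹ * t * g ∈ (S₁ : Subgroup G) := by
      simpa [MulAut.smul_def, MulAut.conj_apply] using ht
    refine ⟨g⁻¹ * t * g, hS₁ ht', ?_⟩
    simp only [MulEquiv.coe_toMonoidHom, MulAut.conj_apply]
    group
  obtain ⟨w, hwH, hw1, ⟨l, hwl⟩, hwc⟩ := exists_central_pElement h₂.1 p hp2
  have hCw := factA hCN h₂ hw1 hwc
  have hwS := mem_sylow_of_mem_nilpotent h₂.1 p (g • S₁) hS₂ hwH l hwl
  have hwK := central_of_centralizes_sylow h₁'.1 p (g • S₁) hS₁' hwS (fun s hs => hwc s (hS₂ hs))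
  have hCw' := factA hCN h₁' hw1 hwK
  rw [← hCw, hCw']

/-- every nilpotent subgroup lies in a maximal nilpotent subgroup -/
theorem exists_maxNil {C : Subgroup G} (hC : Group.IsNilpotent C) :
    ∃ H : Subgroup G, MaxNil H ∧ C ≤ H := by
  have hfin : Set.Finite {L : Subgroup G | Group.IsNilpotent L ∧ C ≤ L} := Set.toFinite _
  obtain ⟨H, hM⟩ := hfin.exists_maximal ⟨C, hC, le_rfl⟩
  have hH := hM.1
  refine ⟨H, ⟨hH.1, fun L hL hHL => ?_⟩, hH.2⟩
  exact le_antisymm (hM.2 ⟨hL, hH.2.trans hHL⟩ hHL) hHL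

theorem dvd_card_of_mem {H : Subgroup G} {p : ℕ} (hp : p.Prime) {x : G} (hx : x ∈ H) (hx1 : x ≠ 1)
    (hxp : IsPGroup p (Subgroup.zpowers x)) : p ∣ Nat.card H ∧ ∃ k, orderOf x = p ^ k := by
  have : Fact p.Prime := ⟨hp⟩
  obtain ⟨k, hk⟩ := IsPGroup.iff_card.1 hxp
  rw [Nat.card_zpowers] at hk
  refine ⟨?_, k, hk⟩
  have h1 : orderOf x ∣ Nat.card H := by
    have := orderOf_dvd_natCard (⟨x, hx⟩ : H)
    simpa using this
  have hk0 : k ≠ 0 := by
    rintro rfl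
    rw [pow_zero] at hk
    exact hx1 (orderOf_eq_one_iff.1 hk)
  exact (dvd_pow_self p hk0).trans (hk ▸ h1)

/-- Let G be a minimal simple group of odd order in which every non-identity element has nilpotent centralizer. Then any two nilpotent subgroups each contained in no larger nilpotent subgroup are either conjugate or of coprime orders; and for primes p, q, r: if some elements x, y ≠ 1 of p-power and q-power order commute, and some elements y', z ≠ 1 of q-power and r-power order commute, then some elements of p-power and r-power order, both ≠ 1, commute. -/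
theorem result {G : Type*} [Group G] [Finite G] (hG : Cfsg.IsMinSimpleOddOrder G) (hCN : Cfsg.IsCNGroup G) :
    (∀ H₁ H₂ : Subgroup G, (Group.IsNilpotent ↥H₁ ∧ ∀ L : Subgroup G, Group.IsNilpotent L → H₁ ≤ L → L = H₁) → (Group.IsNilpotent ↥H₂ ∧ ∀ L : Subgroup G, Group.IsNilpotent L → H₂ ≤ L → L = H₂) → (∃ g : G, H₂ = H₁.map (MulAut.conj g).toMonoidHom) ∨ (Nat.card H₁).Coprime (Nat.card H₂)) ∧
      ∀ (p q r : ℕ), p.Prime → q.Prime → r.Prime → ∀ (x y y' z : G), x ≠ 1 → y ≠ 1 → y' ≠ 1 → z ≠ 1 →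
        IsPGroup p (Subgroup.zpowers x) → IsPGroup q (Subgroup.zpowers y) → IsPGroup q (Subgroup.zpowers y') → IsPGroup r (Subgroup.zpowers z) →
        x * y = y * x → y' * z = z * y' →
        ∃ x' z' : G, x' ≠ 1 ∧ z' ≠ 1 ∧ IsPGroup p (Subgroup.zpowers x') ∧ IsPGroup r (Subgroup.zpowers z') ∧ x' * z' = z' * x' := by
  refine ⟨fun H₁ H₂ h₁ h₂ => conj_or_coprime hCN h₁ h₂, ?_⟩
  intro p q r hp hq hr x y y' z hx1 hy1 hy'1 hz1 hxp hyq hy'q hzr hxy hyz
  by_cases hpr : p = r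
  · subst hpr
    exact ⟨z, z, hz1, hz1, hzr, hzr, rfl⟩
  obtain ⟨H₁, h₁, hC₁⟩ := exists_maxNil (hCN y hy1)
  obtain ⟨H₂, h₂, hC₂⟩ := exists_maxNil (hCN y' hy'1)
  have hxH : x ∈ H₁ := hC₁ (Subgroup.mem_centralizer_singleton_iff.2 hxy)
  have hyH : y ∈ H₁ := hC₁ (Subgroup.mem_centralizer_singleton_iff.2 rfl)
  have hy'H : y' ∈ H₂ := hC₂ (Subgroup.mem_centralizer_singleton_iff.2 rfl)
  have hzH : z ∈ H₂ := hC₂ (Subgroup.mem_centralizer_singleton_iff.2 hyz.symm)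
  rcases conj_or_coprime hCN h₁ h₂ with ⟨g, rfl⟩ | hc
  · have hx' : g * x * g⁻¹ ∈ H₁.map (MulAut.conj g).toMonoidHom := ⟨x, hxH, by simp⟩
    have ho : orderOf (g * x * g⁻¹) = orderOf x := by
      have : g * x * g⁻¹ = MulAut.conj g x := by simp
      rw [this, MulEquiv.orderOf_eq]
    obtain ⟨k, hk⟩ := (dvd_card_of_mem hp hxH hx1 hxp).2
    obtain ⟨l, hl⟩ := (dvd_card_of_mem hr hzH hz1 hzr).2
    refine ⟨g * x * g⁻¹, z, ?_, hz1, ?_, hzr, ?_⟩
    · intro h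
      apply hx1
      have : x = g⁻¹ * (g * x * g⁻¹) * g := by group
      rw [this, h]; group
    · apply IsPGroup.of_card (n := k)
      rw [Nat.card_zpowers, ho, hk]
    · apply commute_of_coprime_orderOf_of_mem h₂.1 hx' hzH
      rw [ho, hk, hl]
      exact Nat.Coprime.pow _ _ ((Nat.coprime_primes hp hr).2 hpr)
  · exfalso
    have d1 := (dvd_card_of_mem hq hyH hy1 hyq).1
    have d2 := (dvd_card_of_mem hq hy'H hy'1 hy'q).1
    exact hq.one_lt.ne' (Nat.eq_one_of_dvd_coprimes hc d1 d2)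

end Cfsg.Agent.S1483
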