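import Cfsg.Statements.S1478
import Cfsg.Agent.Lib.Helper25.CNMinSimple

set_option autoImplicit false
open Cfsg

namespace Cfsg.Agent.S1478

open Cfsg.Agent.Lib.Helper25 Cfsg.Agent.S1477 Cfsg.Agent.S1483

variable {G : Type*} [Group G] [Finite G]

/-- If a subgroup `K` normalizes a nontrivial `r`-subgroup `R₀ ≤ P` then `K` normalizes the Sylow
subgroup `P`. -/
theorem normalizes_sylow (hG : IsMinSimpleOddOrder G) (hCN : IsCNGroup G) (r : ℕ)
    [hr : Fact r.Prime] (P : Sylow r G) (R₀ : Subgroup G) (hR₀P : R₀ ≤ (P : Subgroup G))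
    (hR₀1 : R₀ ≠ ⊥) (k : G) (hk : k ∈ Subgroup.normalizer (R₀ : Set G)) :
    ∀ x ∈ (P : Subgroup G), k * x * k⁻¹ ∈ (P : Subgroup G) := by
  obtain ⟨⟨x₀, hx₀⟩, hx₀1⟩ := (Subgroup.ne_bot_iff_exists_ne_one).1 hR₀1
  have hx₀1' : x₀ ≠ 1 := fun h => hx₀1 (Subtype.ext h)
  have hP1 : (P : Subgroup G) ≠ ⊥ := fun h => hR₀1 (by rw [eq_bot_iff, ← h]; exact hR₀P)
  have hrP : r ∣ Nat.card (P : Subgroup G) := by
    obtain ⟨n, hn⟩ := IsPGroup.iff_card.1 P.isPGroup'
    rw [hn]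
    apply dvd_pow_self
    rintro rfl
    rw [pow_zero] at hn
    exact hP1 (Subgroup.card_eq_one.1 hn)
  have hrG : r ∣ Nat.card G := hrP.trans (Subgroup.card_subgroup_dvd_card _)
  obtain ⟨H, hH, hPH⟩ := exists_maxNil (P.isPGroup'.isNilpotent)
  by_cases hEq : H = P
  · have hiso := rIsolated_of_maxNil hCN r P (hEq ▸ hH)
    exact sylow_normal_in_M hG hCN r hiso hrG P k (normalizer_le_M hG r hiso hrG P R₀ hR₀P hR₀1 hk)
  · have hnpp : ¬ IsPrimePow (Nat.card H) := by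
      intro hpp
      obtain ⟨q, j, hq, hj, hqj⟩ := (isPrimePow_nat_iff _).1 hpp
      have hrH : r ∣ Nat.card H := hrP.trans (Subgroup.card_dvd_of_le hPH)
      rw [← hqj] at hrH
      have hrq : r = q := (Nat.prime_dvd_prime_iff_eq hr.out hq).1 (hr.out.dvd_of_dvd_pow hrH)
      subst hrq
      exact hEq (P.is_maximal' (IsPGroup.of_card hqj.symm) hPH)
    have hcard1 : Nat.card H ≠ 1 := by
      intro h
      rw [Subgroup.card_eq_one] at h
      exact hP1 (by rw [eq_bot_iff, ← h]; exact hPH)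
    have hTI := (Cfsg.Agent.S1477.result hCN H hH.1 hH.2).2.1 hnpp hcard1
    have hconj : H.map (MulAut.conj k).toMonoidHom = H := by
      by_contra hne
      have h1 := hTI k hne
      apply hx₀1'
      rw [← Subgroup.mem_bot, ← h1]
      refine Subgroup.mem_inf.2 ⟨hPH (hR₀P hx₀), ?_⟩
      rw [mem_map_conj]
      apply hPH
      apply hR₀P
      have h2 := (Subgroup.mem_normalizer_iff.1 (Subgroup.inv_mem _ hk) x₀).1 hx₀
      rwa [inv_inv] at h2
    intro x hx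
    obtain ⟨j, hj⟩ := orderOf_of_mem_isPGroup P.isPGroup' hx
    refine mem_sylow_of_mem_nilpotent hH.1 r P hPH ?_ j ?_
    · rw [← hconj]
      exact ⟨x, hPH hx, by simp⟩
    · have : k * x * k⁻¹ = MulAut.conj k x := by simp
      rw [this, MulEquiv.orderOf_eq, hj]

/-- Let G be a minimal simple group of odd order in which every non-identity element has nilpotent centralizer. Then no subgroup of G is a three-step group with respect to any prime. -/
theorem result {G : Type*} [Group G] [Finite G] (hG : Cfsg.IsMinSimpleOddOrder G) (hCN : Cfsg.IsCNGroup G) :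
    ∀ (H : Subgroup G) (p : ℕ), ¬ Cfsg.IsThreeStepGroup p ↥H := by
  intro K p h3
  obtain ⟨hc1, A, -, -, -, -, hNn, hNtop, ⟨n, hidx⟩, -, -⟩ := h3
  have hKtop : K ≠ ⊤ := by
    rintro rfl
    have hn' : ((pCore p ↥(⊤ : Subgroup G) ⊔ A).map (⊤ : Subgroup G).subtype).Normal :=
      hNn.map _ (fun g => ⟨⟨g, Subgroup.mem_top g⟩, rfl⟩)
    rcases normal_eq hG hn' with h | h
    · rw [Subgroup.map_eq_bot_iff_of_injective _ (Subgroup.subtype_injective _)] at h
      exact hc1 (by rw [eq_bot_iff, ← h]; exact le_sup_left)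
    · apply hNtop
      rw [eq_top_iff]
      intro x _
      have hx : (x : G) ∈ (pCore p ↥(⊤ : Subgroup G) ⊔ A).map (⊤ : Subgroup G).subtype := by
        rw [h]; exact Subgroup.mem_top _
      obtain ⟨y, hy, hyx⟩ := hx
      have : y = x := Subtype.ext hyx
      rwa [← this]
  have hsol : Group.IsSolvable K := solvable_of_ne_top hG hKtop
  obtain ⟨N₁, hN₁n, hN₁1, hN₁le, hmin⟩ :=
    Cfsg.Agent.Lib.Helper1.exists_minimal_normal_le (K := pCore p ↥K) inferInstance hc1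
  obtain ⟨-, r, hr, hexp⟩ :=
    Cfsg.Agent.Lib.Helper1.minimal_normal_elementary_abelian N₁ inferInstance hN₁1 hmin
  have hrF : Fact r.Prime := ⟨hr⟩
  have hN₁p : IsPGroup r N₁ := Cfsg.Agent.Lib.Helper1.isPGroup_of_forall_pow_eq_one hexp
  obtain ⟨⟨x, hx⟩, hx1⟩ := (Subgroup.ne_bot_iff_exists_ne_one).1 hN₁1
  have hx1' : x ≠ 1 := fun h => hx1 (Subtype.ext h)
  have hxo : orderOf x = r := orderOf_eq_prime (hexp x hx) hx1'
  have hrp : r ∣ p := by
    obtain ⟨k, hk⟩ := (Cfsg.Agent.Lib.Lead.pCore_isPGroup p ↥K) ⟨x, hN₁le hx⟩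
    have hk' : x ^ p ^ k = 1 := congrArg Subtype.val hk
    have h1 := orderOf_dvd_of_pow_eq_one hk'
    rw [hxo] at h1
    exact hr.dvd_of_dvd_pow h1
  have hn0 : n ≠ 0 := by
    rintro rfl
    rw [pow_zero] at hidx
    exact hNtop (Subgroup.index_eq_one.1 hidx)
  have hridx : r ∣ (pCore p ↥K ⊔ A).index := by
    rw [hidx]
    exact hrp.trans (dvd_pow_self _ hn0)
  obtain ⟨R₁⟩ : Nonempty (Sylow r K) := inferInstance
  have hR₁nn : ¬ (R₁ : Subgroup K).Normal := by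
    intro hn
    have hpg : IsPGroup p (R₁ : Subgroup K) := by
      intro y
      obtain ⟨k, hk⟩ := R₁.isPGroup' y
      refine ⟨k, ?_⟩
      obtain ⟨c, hc⟩ := pow_dvd_pow_of_dvd hrp k
      rw [hc, pow_mul, hk, one_pow]
    have h1 : (R₁ : Subgroup K) ≤ pCore p ↥K ⊔ A :=
      (Cfsg.Agent.Lib.Lead.le_pCore hn hpg).trans le_sup_left
    exact R₁.not_dvd_index (hridx.trans (Subgroup.index_dvd_of_le h1))
  obtain ⟨P, hP⟩ := (R₁.isPGroup'.map K.subtype).exists_le_sylow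
  have hN₁R : N₁ ≤ R₁ :=
    (Cfsg.Agent.Lib.Lead.le_pCore hN₁n hN₁p).trans (Cfsg.Agent.Lib.Lead.pCore_le_sylow R₁)
  have hcl : ∀ k ∈ K, ∀ y ∈ (P : Subgroup G), k * y * k⁻¹ ∈ (P : Subgroup G) := by
    intro k hk
    apply normalizes_sylow hG hCN r P (N₁.map K.subtype)
      ((Subgroup.map_mono hN₁R).trans hP)
      (by
        intro h
        exact hN₁1 ((Subgroup.map_eq_bot_iff_of_injective _ (Subgroup.subtype_injective _)).1 h))
    apply Cfsg.Agent.Lib.Helper11.mem_normalizer_of_conj_mem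
    rintro _ ⟨a, ha, rfl⟩
    exact ⟨⟨k, hk⟩ * a * ⟨k, hk⟩⁻¹, hN₁n.conj_mem a ha ⟨k, hk⟩, rfl⟩
  apply hR₁nn
  have hTn : ((P : Subgroup G).subgroupOf K).Normal := by
    constructor
    intro y hy k
    rw [Subgroup.mem_subgroupOf] at hy ⊢
    exact hcl k k.2 y hy
  have hTp : IsPGroup r ((P : Subgroup G).subgroupOf K) :=
    P.isPGroup'.comap_of_injective _ (Subgroup.subtype_injective _)
  have hle : (R₁ : Subgroup K) ≤ (P : Subgroup G).subgroupOf K := by
    intro y hy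
    rw [Subgroup.mem_subgroupOf]
    exact hP ⟨y, hy, rfl⟩
  rw [← R₁.is_maximal' hTp hle]
  exact hTn

end Cfsg.Agent.S1478
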