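import Cfsg.Statements.S1473
import Cfsg.Agent.Lib.Helper25.NilpotentCoprime
import Cfsg.Agent.Lib.Helper25.NilpotentCrit
import Cfsg.Agent.Lib.Helper25.SZAmbient
import Cfsg.Agent.Lib.Helper1.MinimalNormal

set_option autoImplicit false
open Cfsg

namespace Cfsg.Agent.S1473

open Cfsg.Agent.Lib.Helper25

universe u v

section
variable {G : Type u} [Group G] [Finite G] {Q : Type v} [Group Q]

omit [Finite G] in
theorem orderOf_of_mem_pGroup {p : ℕ} [Fact p.Prime] {R : Subgroup G} (hR : IsPGroup p R) {x : G}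
    (hx : x ∈ R) : ∃ k, orderOf x = p ^ k := by
  obtain ⟨k, hk⟩ := (IsPGroup.iff_orderOf.1 hR) ⟨x, hx⟩
  exact ⟨k, by rw [← hk]; simp⟩

/-- Case I: the centralizer of the image of a `p'`-element is the image of the centralizer. -/
theorem caseI (f : G →* Q) (p : ℕ) [hp : Fact p.Prime] (hNp : IsPGroup p f.ker)
    (v : G) (hv : (orderOf v).Coprime p) (g : G) (hg : f g * f v = f v * f g) :
    ∃ c : G, c * v = v * c ∧ f c = f g := by
  obtain ⟨m, hm⟩ := IsPGroup.iff_card.1 hNp
  have hconj : orderOf (g * v * g⁻¹) = orderOf v := by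
    have : g * v * g⁻¹ = MulAut.conj g v := by simp
    rw [this, MulEquiv.orderOf_eq]
  have hmem : g * v * g⁻¹ * v⁻¹ ∈ f.ker := by
    rw [MonoidHom.mem_ker]
    simp only [map_mul, map_inv]
    rw [hg]
    group
  obtain ⟨n, hn, hB⟩ := sz_conj_ambient f.ker (Subgroup.zpowers v) (Subgroup.zpowers (g * v * g⁻¹))
    (by rw [Subgroup.normalizer_eq_top]; exact le_top)
    (by
      rw [Subgroup.zpowers_le]
      have : g * v * g⁻¹ = (g * v * g⁻¹ * v⁻¹) * v := by group
      rw [this]
      exact Subgroup.mul_mem_sup hmem (Subgroup.mem_zpowers v))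
    (by rw [hm, Nat.card_zpowers]; exact (Nat.Coprime.pow_right m hv).symm)
    (by rw [Nat.card_zpowers, Nat.card_zpowers, hconj])
    (Or.inr inferInstance)
  have h1 : g * v * g⁻¹ ∈ (Subgroup.zpowers v).map (MulAut.conj n).toMonoidHom := by
    rw [← hB]; exact Subgroup.mem_zpowers _
  obtain ⟨w, hw, hwe⟩ := h1
  simp only [MulEquiv.coe_toMonoidHom, MulAut.conj_apply] at hwe
  have hfn : f n = 1 := hn
  -- `w = v`
  have hwv : w * v⁻¹ ∈ f.ker := by
    rw [MonoidHom.mem_ker]
    have h2 := congrArg f hwe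
    simp only [map_mul, map_inv, hfn, one_mul, inv_one, mul_one] at h2
    rw [map_mul, map_inv, h2, hg]
    group
  have hwv' : w * v⁻¹ ∈ Subgroup.zpowers v :=
    Subgroup.mul_mem _ hw (Subgroup.inv_mem _ (Subgroup.mem_zpowers v))
  have hwv1 : w * v⁻¹ = 1 := by
    obtain ⟨k, hk⟩ := orderOf_of_mem_pGroup hNp hwv
    have d1 : orderOf (w * v⁻¹) ∣ orderOf v := by
      have := orderOf_dvd_natCard (⟨w * v⁻¹, hwv'⟩ : Subgroup.zpowers v)
      rw [Nat.card_zpowers] at this
      simpa using this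
    have d2 : orderOf (w * v⁻¹) ∣ p ^ k := by rw [hk]
    exact orderOf_eq_one_iff.1 (Nat.eq_one_of_dvd_coprimes (Nat.Coprime.pow_right k hv) d1 d2)
  have hwv2 : w = v := mul_inv_eq_one.1 hwv1
  subst hwv2
  refine ⟨n⁻¹ * g, ?_, by rw [map_mul, map_inv, hfn, inv_one, one_mul]⟩
  have : n⁻¹ * g * w = n⁻¹ * (g * w * g⁻¹) * g := by group
  rw [this, ← hwe]
  group

/-- Case II: the preimage of the centralizer of the image of a `p`-element outside the kernel is
nilpotent. -/
theorem caseII (hCN : Cfsg.IsCNGroup G) (f : G →* Q) (p : ℕ) [hp : Fact p.Prime]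
    (hNp : IsPGroup p f.ker) (hNc : ∀ a ∈ f.ker, ∀ b ∈ f.ker, a * b = b * a) (hN1 : f.ker ≠ ⊥)
    (x : G) (k : ℕ) (hxk : orderOf x = p ^ k) (hx : x ∉ f.ker) :
    Group.IsNilpotent ((Subgroup.centralizer ({f x} : Set Q)).comap f) := by
  set C := (Subgroup.centralizer ({f x} : Set Q)).comap f with hC
  have hCmem : ∀ g, g ∈ C ↔ f g * f x = f x * f g := by
    intro g
    rw [hC, Subgroup.mem_comap, Subgroup.mem_centralizer_singleton_iff]
  have hcomm : ∀ g ∈ C, g * x * g⁻¹ * x⁻¹ ∈ f.ker := by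
    intro g hg
    rw [MonoidHom.mem_ker]
    simp only [map_mul, map_inv]
    rw [(hCmem g).1 hg]
    group
  have hnorm : ∀ g : G, ∀ n ∈ f.ker, g * n * g⁻¹ ∈ f.ker := fun g n hn =>
    (inferInstance : f.ker.Normal).conj_mem n hn g
  set D : Subgroup G := f.ker ⊓ Subgroup.centralizer ({x} : Set G) with hD
  have hDp : IsPGroup p D := hNp.to_le inf_le_left
  have hD1 : D ≠ ⊥ := by
    obtain ⟨z, hz, hz1, hzx⟩ := exists_fixed_of_pElement f.ker hNp hN1 x k hxk (hnorm x)
    intro hbot
    have : z ∈ D := ⟨hz, Subgroup.mem_centralizer_singleton_iff.2 hzx.symm⟩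
    rw [hbot, Subgroup.mem_bot] at this
    exact hz1 this
  -- Claim 1
  have claim1 : ∀ (q : ℕ), q.Prime → q ≠ p → ∀ b ∈ C, (∃ j, orderOf b = q ^ j) →
      ∀ d ∈ D, b * d = d * b := by
    intro q hq hqp b hb ⟨j, hj⟩ d hd
    have : Fact q.Prime := ⟨hq⟩
    let T : Set G := (fun n => n * x) '' (f.ker : Set G)
    have hTcard : Nat.card T = Nat.card f.ker :=
      Nat.card_image_of_injective (mul_left_injective x) _
    obtain ⟨m, hm⟩ := IsPGroup.iff_card.1 hNp
    obtain ⟨t, ⟨n, hn, rfl⟩, ht⟩ := exists_fixed_of_not_dvd T q b j hj (by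
        rintro _ ⟨n, hn, rfl⟩
        refine ⟨(b * n * b⁻¹) * (b * x * b⁻¹ * x⁻¹), ?_, ?_⟩
        · exact f.ker.mul_mem (hnorm b n hn) (hcomm b hb)
        · simp only
          group)
      (by
        rw [hTcard, hm]
        intro hd
        exact hqp ((Nat.prime_dvd_prime_iff_eq hq hp.out).1 (hq.dvd_of_dvd_pow hd)))
    simp only at ht
    have hnx1 : n * x ≠ 1 := by
      intro h1
      apply hx
      have : x = n⁻¹ := (inv_eq_of_mul_eq_one_right h1).symm
      rw [this]
      exact f.ker.inv_mem hn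
    obtain ⟨i, hi⟩ := orderOf_of_mem_pGroup hDp hd
    apply commute_of_coprime_orderOf_of_mem (hCN (n * x) hnx1)
    · exact Subgroup.mem_centralizer_singleton_iff.2 ht
    · rw [Subgroup.mem_centralizer_singleton_iff]
      have h1 : d * n = n * d := hNc d hd.1 n hn
      have h2 : d * x = x * d := Subgroup.mem_centralizer_singleton_iff.1 hd.2
      rw [← mul_assoc, h1, mul_assoc, h2, mul_assoc]
    · rw [hj, hi]
      exact Nat.Coprime.pow _ _ ((Nat.coprime_primes hq hp.out).2 hqp)
  -- Claim 2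
  have claim2 : ∀ a ∈ C, ∀ d ∈ D, a * d * a⁻¹ ∈ D := by
    intro a ha d hd
    refine ⟨hnorm a d hd.1, ?_⟩
    show a * d * a⁻¹ ∈ Subgroup.centralizer ({x} : Set G)
    rw [Subgroup.mem_centralizer_singleton_iff]
    have h0 := hcomm a⁻¹ (C.inv_mem ha)
    rw [inv_inv] at h0
    obtain ⟨n', h0', h3⟩ : ∃ n' ∈ f.ker, a⁻¹ * x * a = n' * x := ⟨_, h0, by group⟩
    have h1 : d * n' = n' * d := hNc d hd.1 n' h0'
    have h2 : d * x = x * d := Subgroup.mem_centralizer_singleton_iff.1 hd.2
    have h4 : d * (a⁻¹ * x * a) = (a⁻¹ * x * a) * d := by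
      rw [h3, ← mul_assoc, h1, mul_assoc, h2, mul_assoc]
    calc a * d * a⁻¹ * x = a * (d * (a⁻¹ * x * a)) * a⁻¹ := by group
      _ = a * ((a⁻¹ * x * a) * d) * a⁻¹ := by rw [h4]
      _ = x * (a * d * a⁻¹) := by group
  -- Claim 3
  have claim3 : ∀ a ∈ C, (∃ i, orderOf a = p ^ i) → ∃ z ∈ D, z ≠ 1 ∧ a * z = z * a := by
    intro a ha ⟨i, hi⟩
    exact exists_fixed_of_pElement D hDp hD1 a i hi (claim2 a ha)
  have main : ∀ (q : ℕ), q.Prime → q ≠ p → ∀ a ∈ C, ∀ b ∈ C, (∃ i, orderOf a = p ^ i) →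
      (∃ j, orderOf b = q ^ j) → a * b = b * a := by
    intro q hq hqp a ha b hb hai hbj
    obtain ⟨z, hzD, hz1, hza⟩ := claim3 a ha hai
    obtain ⟨i, hi⟩ := hai
    obtain ⟨j, hj⟩ := hbj
    apply commute_of_coprime_orderOf_of_mem (hCN z hz1)
    · exact Subgroup.mem_centralizer_singleton_iff.2 hza
    · exact Subgroup.mem_centralizer_singleton_iff.2 (claim1 q hq hqp b hb ⟨j, hj⟩ z hzD)
    · rw [hi, hj]
      exact Nat.Coprime.pow _ _ ((Nat.coprime_primes hp.out hq).2 hqp.symm)
  apply isNilpotent_subgroup_of_commute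
  intro q₁ q₂ hq₁ hq₂ hne a ha b hb hai hbj
  by_cases h1 : q₁ = p
  · subst h1
    exact main q₂ hq₂ hne.symm a ha b hb hai hbj
  by_cases h2 : q₂ = p
  · subst h2
    exact (main q₁ hq₁ hne b hb a ha hbj hai).symm
  obtain ⟨⟨z, hzD⟩, hz1⟩ := (Subgroup.ne_bot_iff_exists_ne_one).1 hD1
  have hz1' : z ≠ 1 := by
    intro h
    apply hz1
    ext
    simpa using h
  obtain ⟨i, hi⟩ := hai
  obtain ⟨j, hj⟩ := hbj
  apply commute_of_coprime_orderOf_of_mem (hCN z hz1')
  · exact Subgroup.mem_centralizer_singleton_iff.2 (claim1 q₁ hq₁ h1 a ha ⟨i, hi⟩ z hzD)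
  · exact Subgroup.mem_centralizer_singleton_iff.2 (claim1 q₂ hq₂ h2 b hb ⟨j, hj⟩ z hzD)
  · rw [hi, hj]
    exact Nat.Coprime.pow _ _ ((Nat.coprime_primes hq₁ hq₂).2 hne)

theorem key (hCN : Cfsg.IsCNGroup G) (f : G →* Q) (hf : Function.Surjective f) (p : ℕ)
    [hp : Fact p.Prime] (hNp : IsPGroup p f.ker) (hNc : ∀ a ∈ f.ker, ∀ b ∈ f.ker, a * b = b * a)
    (hN1 : f.ker ≠ ⊥) : Cfsg.IsCNGroup Q := by
  intro y hy1
  obtain ⟨x, rfl⟩ := hf y
  obtain ⟨u, hu, v, hv, hxuv, ⟨k, hk⟩, hvp⟩ := exists_pPart_mul_pPrimePart p hp.out x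
  by_cases hv1 : v = 1
  · rw [hv1, mul_one] at hxuv
    have hx : x ∉ f.ker := hy1
    have h1 := caseII hCN f p hNp hNc hN1 x k (hxuv ▸ hk) hx
    have h2 := isNilpotent_map f h1
    rwa [Subgroup.map_comap_eq_self_of_surjective hf] at h2
  · have h1 : Subgroup.centralizer ({f x} : Set Q) ≤
        (Subgroup.centralizer ({v} : Set G)).map f := by
      intro g' hg'
      obtain ⟨g, rfl⟩ := hf g'
      rw [Subgroup.mem_centralizer_singleton_iff] at hg'
      obtain ⟨i, rfl⟩ := Subgroup.mem_zpowers_iff.1 hv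
      have hg2 : f g * f (x ^ i) = f (x ^ i) * f g := by
        rw [map_zpow]
        exact ((Commute.zpow_right (show Commute (f g) (f x) from hg') i)).eq
      obtain ⟨c, hc, hcg⟩ := caseI f p hNp (x ^ i) hvp g hg2
      exact ⟨c, Subgroup.mem_centralizer_singleton_iff.2 hc, hcg⟩
    exact isNilpotent_of_le' h1 (isNilpotent_map f (hCN v hv1))

end

theorem main (n : ℕ) : ∀ (G : Type u) [Group G] [Finite G] (Q : Type v) [Group Q] (f : G →* Q),
    Function.Surjective f → Cfsg.IsCNGroup G → Group.IsSolvable f.ker → Nat.card f.ker = n →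
    Cfsg.IsCNGroup Q := by
  induction n using Nat.strong_induction_on with
  | _ n ih =>
    intro G _ _ Q _ f hf hCN hsol hcard
    by_cases hker : f.ker = ⊥
    · have hinj : Function.Injective f := (MonoidHom.ker_eq_bot_iff f).1 hker
      intro y hy1
      obtain ⟨x, rfl⟩ := hf y
      have hx1 : x ≠ 1 := by
        rintro rfl
        exact hy1 (map_one f)
      have h1 : Subgroup.centralizer ({f x} : Set Q) ≤
          (Subgroup.centralizer ({x} : Set G)).map f := by
        intro g' hg'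
        obtain ⟨g, rfl⟩ := hf g'
        rw [Subgroup.mem_centralizer_singleton_iff, ← map_mul, ← map_mul] at hg'
        exact ⟨g, Subgroup.mem_centralizer_singleton_iff.2 (hinj hg'), rfl⟩
      exact isNilpotent_of_le' h1 (isNilpotent_map f (hCN x hx1))
    · obtain ⟨N, hNn, hN1, hNle, hNmin⟩ :=
        Cfsg.Agent.Lib.Helper1.exists_minimal_normal_le (inferInstance : f.ker.Normal) hker
      have hNsol : Group.IsSolvable N :=
        Group.isSolvable_of_isSolvable_injective (f := Subgroup.inclusion hNle)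
          (Subgroup.inclusion_injective hNle)
      obtain ⟨hNc, p, hp, hNp⟩ :=
        Cfsg.Agent.Lib.Helper1.minimal_normal_elementary_abelian N hNsol hN1 hNmin
      have : Fact p.Prime := ⟨hp⟩
      have hCN' : Cfsg.IsCNGroup (G ⧸ N) := by
        apply key hCN (QuotientGroup.mk' N) (QuotientGroup.mk'_surjective N) p
        · rw [QuotientGroup.ker_mk']
          exact Cfsg.Agent.Lib.Helper1.isPGroup_of_forall_pow_eq_one hNp
        · rw [QuotientGroup.ker_mk']
          intro a ha b hb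
          exact congrArg Subtype.val (mul_comm' (⟨a, ha⟩ : N) ⟨b, hb⟩)
        · rw [QuotientGroup.ker_mk']
          exact hN1
      have hlift : ∀ x ∈ N, f x = 1 := fun x hx => hNle hx
      have hkl : (QuotientGroup.lift N f hlift).ker = f.ker.map (QuotientGroup.mk' N) := by
        ext y
        obtain ⟨x, rfl⟩ := QuotientGroup.mk'_surjective N y
        constructor
        · intro hy
          exact ⟨x, hy, rfl⟩
        · rintro ⟨x', hx', hxx⟩
          rw [MonoidHom.mem_ker, ← hxx]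
          exact hx'
      refine ih (Nat.card (QuotientGroup.lift N f hlift).ker) ?_ (G ⧸ N) Q
        (QuotientGroup.lift N f hlift) ?_ hCN' ?_ rfl
      · rw [← hcard, hkl, ← Subgroup.relIndex_ker, QuotientGroup.ker_mk']
        have h1 := Subgroup.relIndex_mul_relIndex ⊥ N f.ker bot_le hNle
        rw [Subgroup.relIndex_bot_left, Subgroup.relIndex_bot_left] at h1
        rw [← h1]
        have h2 : 1 < Nat.card N := by
          rw [Finite.one_lt_card_iff_nontrivial]
          exact (Subgroup.nontrivial_iff_ne_bot N).2 hN1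
        have h3 : 0 < N.relIndex f.ker := by
          rcases Nat.eq_zero_or_pos (N.relIndex f.ker) with h0 | h0
          · rw [h0, mul_zero] at h1
            exact absurd h1.symm Nat.card_pos.ne'
          · exact h0
        nlinarith
      · intro y
        obtain ⟨x, rfl⟩ := hf y
        exact ⟨QuotientGroup.mk' N x, rfl⟩
      · rw [hkl]
        exact Group.isSolvable_of_surjective (f := (QuotientGroup.mk' N).subgroupMap f.ker)
          ((QuotientGroup.mk' N).subgroupMap_surjective f.ker)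

/-- Let G be a finite group in which the centralizer of every non-identity element is nilpotent, and H a solvable normal subgroup of G. Then in G/H the centralizer of every non-identity element is nilpotent. -/
theorem result {G : Type*} [Group G] [Finite G] (hCN : Cfsg.IsCNGroup G) (H : Subgroup G) [H.Normal] (hH : Group.IsSolvable H) :
    Cfsg.IsCNGroup (G ⧸ H) := by
  refine main _ G (G ⧸ H) (QuotientGroup.mk' H) (QuotientGroup.mk'_surjective H) hCN ?_ rfl
  rw [QuotientGroup.ker_mk']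
  exact hH

end Cfsg.Agent.S1473
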