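import Cfsg.Statements.S1486
import Cfsg.Agent.Lib.Helper15.Clifford

set_option autoImplicit false
open Cfsg

namespace Cfsg.Agent.S1486

open Cfsg.Agent.Lib.Helper15

theorem indFun_cj {G : Type*} [Group G] [Fintype G] (H : Subgroup G) [hN : H.Normal] (θ : H → ℂ)
    (g : G) : indFun H (cj H g θ) = indFun H θ := by
  funext y
  rw [indFun_apply, indFun_apply]
  congr 1
  apply Fintype.sum_equiv (Equiv.mulRight g⁻¹)
  intro x
  simp only [Equiv.coe_mulRight]
  have e : (x * g⁻¹)⁻¹ * y * (x * g⁻¹) = g * (x⁻¹ * y * x) * g⁻¹ := by group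
  rw [e]
  by_cases hz : x⁻¹ * y * x ∈ H
  · rw [extendByZero_mem H _ hz, extendByZero_mem H _ (hN.conj_mem _ hz g), cj_apply]
  · rw [extendByZero_not_mem H _ hz, extendByZero_not_mem]
    intro h
    apply hz
    have := hN.conj_mem _ h g⁻¹
    have e2 : g⁻¹ * (g * (x⁻¹ * y * x) * g⁻¹) * g⁻¹⁻¹ = x⁻¹ * y * x := by group
    rwa [e2] at this

theorem result {G : Type*} [Group G] [Fintype G] (H : Subgroup G) [hN : H.Normal] (θ φ : H → ℂ) (hθ : Cfsg.IsIrrCharacter H θ) (hφ : Cfsg.IsIrrCharacter H φ) : ((∃ g : G, φ = fun h : H => θ ⟨g * h * g⁻¹, hN.conj_mem h h.2 g⟩) → Cfsg.indFun H φ = Cfsg.indFun H θ) ∧ ((¬ ∃ g : G, φ = fun h : H => θ ⟨g * h * g⁻¹, hN.conj_mem h h.2 g⟩) → Cfsg.classInner (Cfsg.indFun H φ) (Cfsg.indFun H θ) = 0) := by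
  classical
  let _ : Fintype H := Fintype.ofFinite H
  constructor
  · rintro ⟨g, rfl⟩
    exact indFun_cj H θ g
  · intro hne
    rw [classInner_indFun_left H φ _ (indFun_isClassFunction H θ), restrict_indFun_normal,
      classInner_smul_right, classInner_sum_right, Finset.sum_eq_zero, mul_zero]
    intro x _
    apply irr_inner_ne hφ (irr_cj H x hθ)
    intro h
    exact hne ⟨x, h⟩

end Cfsg.Agent.S1486
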