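import Cfsg.Statements.S1487
import Cfsg.Agent.Lib.Helper15.Clifford
import Cfsg.Agent.S0137

set_option autoImplicit false
open Cfsg

namespace Cfsg.Agent.S1487

open Cfsg.Agent.Lib.Helper15

theorem eq_of_re_eq_of_norm_le (z : ℂ) (n : ℝ) (h1 : z.re = n) (h2 : ‖z‖ ≤ n) : z = (n : ℂ) := by
  have hn : 0 ≤ n := (norm_nonneg z).trans h2
  have h3 : ‖z‖ ^ 2 ≤ n ^ 2 := by gcongr
  rw [Complex.sq_norm, Complex.normSq_apply, h1] at h3
  have h4 : z.im = 0 := by nlinarith [mul_self_nonneg z.im]
  apply Complex.ext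
  · simpa using h1
  · simpa using h4

theorem result {G : Type*} [Group G] [Fintype G] (A H : Subgroup G) [A.Normal] [H.Normal] (hAH : A ≤ H) (θ : H → ℂ) (hθ : Cfsg.IsIrrCharacter H θ) : (∀ a : H, (a : G) ∈ A → θ a = θ 1) ↔ (∀ a : G, a ∈ A → Cfsg.indFun H θ a = Cfsg.indFun H θ 1) := by
  classical
  have hHne : (Nat.card H : ℂ) ≠ 0 := card_ne_zero H
  have hone : indFun H θ 1 = (Nat.card H : ℂ)⁻¹ * ∑ _x : G, θ 1 := by
    have := indFun_normal_coe H θ 1
    rw [show ((1 : H) : G) = 1 from rfl] at this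
    rw [this]
    congr 1
    apply Finset.sum_congr rfl
    intro x _
    exact cj_apply_one H x θ
  constructor
  · intro h a ha
    have := indFun_normal_coe H θ ⟨a, hAH ha⟩
    simp only at this
    rw [this, hone]
    congr 1
    apply Finset.sum_congr rfl
    intro x _
    rw [cj_apply]
    exact h _ (‹A.Normal›.conj_mem a ha x)
  · intro h a ha
    obtain ⟨n, ρ, -, hρ⟩ := hθ
    have hθ1 : θ 1 = (n : ℂ) := by
      rw [← hρ, Representation.char_one]; simp
    have hbound : ∀ y : H, ‖θ y‖ ≤ (n : ℝ) := by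
      intro y
      have := Cfsg.Agent.S0137.result ρ y
      rw [hρ] at this
      simpa using this
    have h1 := h a ha
    rw [hone, indFun_normal_coe H θ a] at h1
    have h2 : ∑ x : G, cj H x θ a = ∑ _x : G, θ 1 := mul_left_cancel₀ (inv_ne_zero hHne) h1
    have h3 : ∑ x : G, (cj H x θ a).re = ∑ _x : G, (n : ℝ) := by
      have := congrArg Complex.re h2
      rw [Complex.re_sum, Complex.re_sum] at this
      rw [this]
      apply Finset.sum_congr rfl
      intro x _
      rw [hθ1]; simp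
    have h4 : ∀ x ∈ (Finset.univ : Finset G), (cj H x θ a).re ≤ (n : ℝ) := by
      intro x _
      exact (Complex.re_le_norm _).trans (hbound _)
    have h5 := (Finset.sum_eq_sum_iff_of_le h4).1 h3 1 (Finset.mem_univ _)
    rw [cj_one] at h5
    rw [hθ1]
    have := eq_of_re_eq_of_norm_le (θ a) n h5 (hbound a)
    simpa using this

end Cfsg.Agent.S1487
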