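import Cfsg.Statements.S1492
import Cfsg.Agent.Lib.Helper3.Brauer1
import Cfsg.Agent.Lib.Helper15.Extraspecial
import Cfsg.Agent.Lib.Helper80.Inflation

set_option autoImplicit false
open Cfsg

namespace Cfsg.Agent.S1492

open Cfsg.Agent.Lib.Helper15
open scoped ComplexConjugate

/-- Isaacs (2.30)-type bound: if `D / B` is central in `C / B` and `B ≤ ker φ` then
`φ(1)² |D| ≤ |C|`. -/
theorem central_bound {C : Type*} [Group C] [Fintype C] (φ : C → ℂ) (hφ : IsIrrCharacter C φ)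
    (B D : Subgroup C) [B.Normal] (hcent : ∀ d ∈ D, ∀ c : C, d * c * d⁻¹ * c⁻¹ ∈ B)
    (hker : ∀ b ∈ B, φ b = φ 1) : ‖φ 1‖ ^ 2 * (Nat.card D : ℝ) ≤ (Nat.card C : ℝ) := by
  classical
  obtain ⟨φ', hφ', hφφ'⟩ := Cfsg.Agent.Lib.Helper80.exists_deflate_irr B hφ hker
  have hD : ∀ d ∈ D, ‖φ d‖ ^ 2 = ‖φ 1‖ ^ 2 := by
    intro d hd
    have hz : (d : C ⧸ B) ∈ Subgroup.center (C ⧸ B) := by
      rw [Subgroup.mem_center_iff]
      intro x
      obtain ⟨c, rfl⟩ := QuotientGroup.mk_surjective x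
      rw [← QuotientGroup.mk_mul, ← QuotientGroup.mk_mul, QuotientGroup.eq]
      have := hcent d⁻¹ (D.inv_mem hd) c⁻¹
      simp only [inv_inv] at this
      have e : (c * d)⁻¹ * (d * c) = d⁻¹ * c⁻¹ * d * c := by group
      rw [e]; exact this
    have h := irr_central_norm hφ' hz
    rw [hφφ'] at h
    have h1 : φ' ((1 : C) : C ⧸ B) = φ 1 := hφφ' 1
    rw [QuotientGroup.mk_one] at h1
    rw [h1] at h
    obtain ⟨n, hn⟩ := char_one_nat (irr_char hφ)
    rw [Complex.mul_conj, hn] at h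
    rw [hn, Complex.norm_natCast, ← Complex.normSq_eq_norm_sq]
    have : ((Complex.normSq (φ d) : ℝ) : ℂ) = (((n : ℝ) ^ 2 : ℝ) : ℂ) := by
      rw [h]; push_cast; ring
    exact_mod_cast this
  have hnorm : ∑ c : C, ‖φ c‖ ^ 2 = (Nat.card C : ℝ) := by
    have h := irr_inner_self hφ
    unfold classInner at h
    have hC : (Nat.card C : ℂ) ≠ 0 := card_ne_zero C
    rw [inv_mul_eq_iff_eq_mul₀ hC, mul_one] at h
    have h2 : ((∑ c : C, ‖φ c‖ ^ 2 : ℝ) : ℂ) = ((Nat.card C : ℝ) : ℂ) := by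
      push_cast
      rw [← h]
      apply Finset.sum_congr rfl
      intro c _
      rw [Complex.mul_conj, Complex.normSq_eq_norm_sq]
      push_cast; rfl
    exact_mod_cast h2
  rw [← hnorm]
  calc ‖φ 1‖ ^ 2 * (Nat.card D : ℝ) = ∑ c ∈ Finset.univ.filter (fun c : C => c ∈ D), ‖φ c‖ ^ 2 := by
        rw [Finset.sum_congr rfl (fun c hc => hD c (Finset.mem_filter.1 hc).2), Finset.sum_const,
          nsmul_eq_mul, mul_comm]
        congr 2
        rw [Nat.card_eq_fintype_card, Fintype.card_subtype]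
    _ ≤ ∑ c : C, ‖φ c‖ ^ 2 :=
        Finset.sum_le_sum_of_subset_of_nonneg (Finset.filter_subset _ _)
          (fun _ _ _ => by positivity)

/-- Let ψ be an irreducible character of the finite group G and B ≤ D ≤ C subgroups with B normal in C, every commutator of an element of D with an element of C lying in B (so D/B is central in C/B), and ψ constant equal to ψ 1 on B. Then ψ(1) ^ 2 * |C| * |D| ≤ |G| ^ 2. -/
theorem result {G : Type*} [Group G] [Finite G] (ψ : G → ℂ) (hψ : Cfsg.IsIrrCharacter G ψ) (B C D : Subgroup G) (hBD : B ≤ D) (hDC : D ≤ C) (hBn : ∀ c ∈ C, ∀ b ∈ B, c * b * c⁻¹ ∈ B) (hcent : ∀ d ∈ D, ∀ c ∈ C, d * c * d⁻¹ * c⁻¹ ∈ B) (hker : ∀ b ∈ B, ψ b = ψ 1) : ‖ψ 1‖ ^ 2 * (Nat.card C : ℝ) * (Nat.card D : ℝ) ≤ (Nat.card G : ℝ) ^ 2 := by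
  classical
  have := Fintype.ofFinite G
  have hres : IsCharacter C (fun c : C => ψ c) := char_restrict (irr_char hψ) C
  have hres0 : (fun c : C => ψ c) ≠ 0 := by
    intro h
    exact irr_one_ne_zero hψ (congrFun h 1)
  obtain ⟨φ, hφ, hcon⟩ := exists_constituent hres hres0
  have : (B.subgroupOf C).Normal := by
    constructor
    intro b hb c
    rw [Subgroup.mem_subgroupOf] at hb ⊢
    exact hBn c c.2 b hb
  have hb := central_bound φ hφ (B.subgroupOf C) (D.subgroupOf C)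
    (by
      intro d hd c
      rw [Subgroup.mem_subgroupOf] at hd ⊢
      exact hcent d hd c c.2)
    (by
      intro b hb
      rw [Subgroup.mem_subgroupOf] at hb
      exact Cfsg.Agent.Lib.Helper3.IsCharacter.apply_eq_of_constituent hres hφ hcon (hker b hb))
  have hDcard : Nat.card (D.subgroupOf C) = Nat.card D :=
    Nat.card_congr (Subgroup.subgroupOfEquivOfLe hDC).toEquiv
  rw [hDcard] at hb
  -- degree comparison
  have hind : IsCharacter G (indFun C φ) := char_indFun C (irr_char hφ)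
  have hcon2 : classInner (indFun C φ) ψ ≠ 0 := by
    rw [classInner_indFun_left C φ ψ (irr_cf hψ), ← classInner_conj_symm]
    exact (map_ne_zero _).2 hcon
  obtain ⟨m, hm⟩ := char_one_nat (char_sub_irr hind hψ hcon2)
  obtain ⟨a, ha⟩ := char_one_nat (irr_char hψ)
  obtain ⟨b, hb'⟩ := char_one_nat (irr_char hφ)
  rw [Pi.sub_apply, indFun_one, ha, hb'] at hm
  have hle : a ≤ C.index * b := by
    have : (C.index * b : ℂ) = ((a + m : ℕ) : ℂ) := by
      push_cast; linear_combination hm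
    have h2 : C.index * b = a + m := by exact_mod_cast this
    omega
  rw [ha, Complex.norm_natCast]
  rw [hb', Complex.norm_natCast] at hb
  have hidx : (Nat.card G : ℝ) = (Nat.card C : ℝ) * (C.index : ℝ) := by
    rw [← C.card_mul_index]; push_cast; ring
  have hle' : (a : ℝ) ≤ (C.index : ℝ) * b := by exact_mod_cast hle
  have hC0 : (0 : ℝ) ≤ (Nat.card C : ℝ) := by positivity
  have hD0 : (0 : ℝ) ≤ (Nat.card D : ℝ) := by positivity
  calc (a : ℝ) ^ 2 * (Nat.card C : ℝ) * (Nat.card D : ℝ)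
      ≤ ((C.index : ℝ) * b) ^ 2 * (Nat.card C : ℝ) * (Nat.card D : ℝ) := by
        gcongr
    _ = (C.index : ℝ) ^ 2 * (Nat.card C : ℝ) * ((b : ℝ) ^ 2 * (Nat.card D : ℝ)) := by ring
    _ ≤ (C.index : ℝ) ^ 2 * (Nat.card C : ℝ) * (Nat.card C : ℝ) := by
        gcongr
    _ = (Nat.card G : ℝ) ^ 2 := by rw [hidx]; ring

end Cfsg.Agent.S1492
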