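import Cfsg.Statements.S1519
import Cfsg.Agent.Lib.Helper26.CohGrow
import Cfsg.Agent.S1492

set_option autoImplicit false
open Cfsg

namespace Cfsg.Agent.S1519

open Cfsg.Agent.Lib.Helper26 Cfsg.Agent.Lib.Helper15

/-- degree bound for members of `S(B)` -/
theorem degree_bound {L : Type*} [Group L] [Fintype L] (K : Subgroup L)
    (B C D : Subgroup L) [B.Normal] (hBD : B ≤ D) (hDC : D ≤ C) (hCK : C ≤ K)
    (hcent : ∀ x ∈ D, ∀ y ∈ C, x * y * x⁻¹ * y⁻¹ ∈ B) (θ : K → ℂ) (hθ : IsIrrCharacter K θ)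
    (hker : ∀ a : K, (a : L) ∈ B → θ a = θ 1) (t : ℕ) (ht : θ 1 = t) :
    (K.index * t) ^ 2 ≤ C.index ^ 2 * D.relIndex C := by
  have h := Cfsg.Agent.S1492.result θ hθ (B.subgroupOf K) (C.subgroupOf K) (D.subgroupOf K)
    (fun x hx => hBD hx) (fun x hx => hDC hx)
    (fun c _ b hb => by
      rw [Subgroup.mem_subgroupOf] at hb ⊢
      exact (inferInstance : B.Normal).conj_mem _ hb _)
    (fun d hd c hc => by
      rw [Subgroup.mem_subgroupOf] at hd hc ⊢
      exact hcent _ hd _ hc)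
    (fun b hb => hker b hb)
  have hCc : Nat.card (C.subgroupOf K) = Nat.card C :=
    Nat.card_congr (Subgroup.subgroupOfEquivOfLe hCK).toEquiv
  have hDc : Nat.card (D.subgroupOf K) = Nat.card D :=
    Nat.card_congr (Subgroup.subgroupOfEquivOfLe (hDC.trans hCK)).toEquiv
  rw [hCc, hDc, ht, Complex.norm_natCast] at h
  have h' : t ^ 2 * Nat.card C * Nat.card D ≤ Nat.card K ^ 2 := by exact_mod_cast h
  have hL1 : Nat.card K * K.index = Nat.card L := K.card_mul_index
  have hL2 : Nat.card C * C.index = Nat.card L := C.card_mul_index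
  have hCD : D.relIndex C * Nat.card D = Nat.card C := by
    have := Subgroup.relIndex_mul_relIndex ⊥ D C bot_le hDC
    rw [Subgroup.relIndex_bot_left, Subgroup.relIndex_bot_left] at this
    rw [mul_comm]; exact this
  have hC0 : 0 < Nat.card C := Nat.card_pos
  have hD0 : 0 < Nat.card D := Nat.card_pos
  have h1 : (K.index * t) ^ 2 * (Nat.card C * Nat.card D) ≤
      (C.index ^ 2 * D.relIndex C) * (Nat.card C * Nat.card D) := by
    calc (K.index * t) ^ 2 * (Nat.card C * Nat.card D)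
        = K.index ^ 2 * (t ^ 2 * Nat.card C * Nat.card D) := by ring
      _ ≤ K.index ^ 2 * Nat.card K ^ 2 := Nat.mul_le_mul_left _ h'
      _ = (Nat.card K * K.index) ^ 2 := by ring
      _ = (Nat.card C * C.index) ^ 2 := by rw [hL1, hL2]
      _ = C.index ^ 2 * Nat.card C * Nat.card C := by ring
      _ = C.index ^ 2 * Nat.card C * (D.relIndex C * Nat.card D) := by rw [hCD]
      _ = (C.index ^ 2 * D.relIndex C) * (Nat.card C * Nat.card D) := by ring
  exact Nat.le_of_mul_le_mul_right h1 (Nat.mul_pos hC0 hD0)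

/-- Let K be a solvable normal subgroup of the finite group L and (S, τ, R) a coherence system from L to G where S is the set of functions induced from non-principal irreducible characters of K; write S(A) for those induced from characters whose kernel contains A. Let A, B, C, D be normal subgroups of L with A < K, B < K, B ≤ D ≤ C ≤ K and every commutator of D with C in B. If S(A) is coherent and 4 * [L:C]^2 * [C:D] < ([K:A] − 1)^2, then S(B) is coherent. -/
theorem result {L : Type*} [Group L] [Fintype L] {G : Type*} [Group G] [Fintype G] (K : Subgroup L) [hK : K.Normal] (hsolv : Group.IsSolvable K) (τ : (L → ℂ) → (G → ℂ)) (R : (L → ℂ) → Finset (G → ℂ)) (hS : Cfsg.IsCoherenceSystem (Cfsg.inducedIrrAbove K ⊥) τ R) (A B C D : Subgroup L) [A.Normal] [B.Normal] [C.Normal] [D.Normal] (hAK : A < K) (hBK : B < K) (hBD : B ≤ D) (hDC : D ≤ C) (hCK : C ≤ K) (hcent : ∀ x ∈ D, ∀ y ∈ C, x * y * x⁻¹ * y⁻¹ ∈ B) (hA : Cfsg.IsCoherent (Cfsg.inducedIrrAbove K A)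 {1}ᶜ τ) (hlt : 4 * C.index ^ 2 * D.relIndex C < (A.relIndex K - 1) ^ 2) : Cfsg.IsCoherent (Cfsg.inducedIrrAbove K B) {1}ᶜ τ := by
  classical
  set S := inducedIrrAbove K ⊥ with hSdef
  have hdx : ∀ χ : L → ℂ, ∃ m : ℕ, χ ∈ S → χ 1 = (m : ℂ) := by
    intro χ
    by_cases h : χ ∈ S
    · obtain ⟨m, _, hm⟩ := sys_degree hS h
      exact ⟨m, fun _ => hm⟩
    · exact ⟨0, fun h' => absurd h' h⟩
  have hnx : ∀ χ : L → ℂ, ∃ m : ℕ, χ ∈ S → classInner χ χ = (m : ℂ) := by
    intro χ
    by_cases h : χ ∈ S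
    · obtain ⟨m, _, hm⟩ := sys_norm hS h
      exact ⟨m, fun _ => hm⟩
    · exact ⟨0, fun h' => absurd h' h⟩
  choose d hd using hdx
  choose n hn using hnx
  set S₀ := (IndIrr.finite K A).toFinset with hS₀
  set T := (IndIrr.finite K B).toFinset with hT
  have hS₀coe : (↑S₀ : Set (L → ℂ)) = inducedIrrAbove K A := Set.Finite.coe_toFinset _
  have hTcoe : (↑T : Set (L → ℂ)) = inducedIrrAbove K B := Set.Finite.coe_toFinset _
  obtain ⟨χ₁, hχ₁, hχ₁d⟩ := IndIrr.exists_linear K hsolv A hAK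
  have hdχ₁ : d χ₁ = K.index := by
    have := hd χ₁ (IndIrr.sub_bot K A hχ₁)
    rw [hχ₁d] at this
    exact_mod_cast this.symm
  have hsum := IndIrr.sum_sq K A hAK.le d n (fun χ hχ => hd χ (IndIrr.sub_bot K A hχ))
    (fun χ hχ => hn χ (IndIrr.sub_bot K A hχ))
  have hKi : 0 < K.index := Nat.pos_of_ne_zero Subgroup.index_ne_zero_of_finite
  have hdeg : ∀ ψ ∈ T, K.index ∣ d ψ ∧ (d ψ) ^ 2 ≤ C.index ^ 2 * D.relIndex C := by
    intro ψ hψ
    rw [hT, Set.Finite.mem_toFinset] at hψ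
    have hψS := IndIrr.sub_bot K B hψ
    obtain ⟨θ, h1, _, h3, rfl⟩ := hψ
    obtain ⟨t, ht⟩ := char_one_nat (irr_char h1)
    have hdt : d (indFun K θ) = K.index * t := by
      have := hd _ hψS
      rw [indFun_one, ht] at this
      exact_mod_cast this.symm
    rw [hdt]
    exact ⟨Dvd.intro _ rfl, degree_bound K B C D hBD hDC hCK hcent θ h1 h3 t ht⟩
  have hgrow := grow hS d n hd hn S₀ T
    (by rw [hS₀coe]; exact IndIrr.sub_bot K A) (by rw [hTcoe]; exact IndIrr.sub_bot K B)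
    (by
      intro φ hφ
      rw [hS₀, Set.Finite.mem_toFinset] at hφ ⊢
      exact IndIrr.conj_mem K hφ)
    (by
      intro φ hφ
      rw [hT, Set.Finite.mem_toFinset] at hφ ⊢
      exact IndIrr.conj_mem K hφ)
    (by rw [hS₀coe]; exact hA) χ₁ (by rw [hS₀, Set.Finite.mem_toFinset]; exact hχ₁)
    (by intro ψ hψ; rw [hdχ₁]; exact (hdeg ψ hψ).1)
    (by
      intro ψ hψ
      rw [hsum, hdχ₁]
      have h1 := (hdeg ψ hψ).2
      have h2 : (2 * d ψ) ^ 2 < (A.relIndex K - 1) ^ 2 := by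
        calc (2 * d ψ) ^ 2 = 4 * (d ψ) ^ 2 := by ring
          _ ≤ 4 * (C.index ^ 2 * D.relIndex C) := Nat.mul_le_mul_left _ h1
          _ = 4 * C.index ^ 2 * D.relIndex C := by ring
          _ < _ := hlt
      have h3 : 2 * d ψ < A.relIndex K - 1 := lt_of_pow_lt_pow_left₀ 2 (Nat.zero_le _) h2
      have h4 : 2 * d ψ + 1 < A.relIndex K := by omega
      have h5 : (2 * (d ψ : ℝ) + 1) < (A.relIndex K : ℝ) := by exact_mod_cast h4
      have h6 : (0 : ℝ) < (K.index : ℝ) := by exact_mod_cast hKi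
      nlinarith)
  apply coherent_subset hgrow
  · rw [← hTcoe]
    exact Finset.coe_subset.2 Finset.subset_union_right
  · apply exists_ne_zero hS (IndIrr.sub_bot K B) (fun φ hφ => IndIrr.conj_mem K hφ)
    obtain ⟨χ, hχ, _⟩ := IndIrr.exists_linear K hsolv B hBK
    exact ⟨χ, hχ⟩

end Cfsg.Agent.S1519
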