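import Cfsg.Statements.S1520
import Cfsg.Agent.S1519

set_option autoImplicit false
open Cfsg

namespace Cfsg.Agent.S1520

open Cfsg.Agent.Lib.Helper26
open scoped commutatorElement

/-- if `H / M` is nilpotent, some term of the lower central series of `H` lies in `M` -/
theorem exists_lcs_le {L : Type*} [Group L] (M H : Subgroup L) [(M.subgroupOf H).Normal]
    (hnil : Group.IsNilpotent (↥H ⧸ M.subgroupOf H)) : ∃ n, H.lowerCentralSeries n ≤ M := by
  obtain ⟨n, hn⟩ := Subgroup.nilpotent_iff_lowerCentralSeries.1 hnil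
  refine ⟨n, ?_⟩
  have h1 := Subgroup.map_lowerCentralSeries (⊤ : Subgroup H) (QuotientGroup.mk' (M.subgroupOf H)) n
  rw [← MonoidHom.range_eq_map, MonoidHom.range_eq_top.2 (QuotientGroup.mk'_surjective _), hn,
    Subgroup.map_eq_bot_iff, QuotientGroup.ker_mk'] at h1
  rw [← Subgroup.top_subtype_lowerCentralSeries]
  rintro x ⟨y, hy, rfl⟩
  exact h1 hy

/-- in a nilpotent section, `[A, H] M < A` for `M < A ≤ H` -/
theorem comm_sup_lt {L : Type*} [Group L] (M A H : Subgroup L) [M.Normal] [A.Normal]
    (hMA : M < A) (hAH : A ≤ H) [(M.subgroupOf H).Normal]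
    (hnil : Group.IsNilpotent (↥H ⧸ M.subgroupOf H)) : ⁅A, H⁆ ⊔ M < A := by
  have hle : ⁅A, H⁆ ⊔ M ≤ A := sup_le (Subgroup.commutator_le_left A H) hMA.le
  refine lt_of_le_of_ne hle ?_
  intro heq
  have key : ∀ n, A ≤ H.lowerCentralSeries n ⊔ M := by
    intro n
    induction n with
    | zero => exact hAH.trans le_sup_left
    | succ n ih =>
      rw [← heq]
      refine sup_le ?_ le_sup_right
      rw [Subgroup.commutator_le]
      intro a ha h hh
      obtain ⟨g, hg, b, hb, rfl⟩ := Subgroup.mem_sup_of_normal_right.1 (ih ha)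
      have e : ⁅g * b, h⁆ = (g * (b * (h * b⁻¹ * h⁻¹)) * g⁻¹) * ⁅g, h⁆ := by
        simp only [commutatorElement_def]; group
      rw [e]
      apply Subgroup.mul_mem
      · apply Subgroup.mem_sup_right
        apply (inferInstance : M.Normal).conj_mem
        exact M.mul_mem hb ((inferInstance : M.Normal).conj_mem _ (M.inv_mem hb) _)
      · apply Subgroup.mem_sup_left
        exact Subgroup.commutator_mem_commutator hg hh
  obtain ⟨n, hn⟩ := exists_lcs_le M H hnil
  have : A ≤ M := (key n).trans (sup_le hn le_rfl)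
  exact absurd this (not_le_of_gt hMA)

theorem arith (e k h : ℕ) (hk : 0 < k) (hh : 4 * e ^ 2 + 1 < h) :
    4 * (k * e) ^ 2 * h < (h * k - 1) ^ 2 := by
  obtain ⟨m, hm⟩ : ∃ m, h * k = m + 1 := ⟨h * k - 1, by
    have : 0 < h * k := Nat.mul_pos (by omega) hk
    omega⟩
  rw [hm, Nat.add_sub_cancel]
  have h1 : 4 * e ^ 2 + 2 ≤ h := hh
  have h2 : 4 * (k * e) ^ 2 * h + 2 * k ^ 2 * h ≤ (h * k) ^ 2 := by
    calc 4 * (k * e) ^ 2 * h + 2 * k ^ 2 * h = (4 * e ^ 2 + 2) * (k ^ 2 * h) := by ring
      _ ≤ h * (k ^ 2 * h) := Nat.mul_le_mul_right _ h1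
      _ = (h * k) ^ 2 := by ring
  have h3 : h * k ≤ k ^ 2 * h := by
    calc h * k = k * h := by ring
      _ ≤ k * k * h := Nat.mul_le_mul_right _ (Nat.le_mul_of_pos_left k hk)
      _ = k ^ 2 * h := by ring
  rw [hm] at h2 h3
  nlinarith

/-- Let K be a solvable normal subgroup of the finite group L and (S, τ, R) a coherence system from L to G with S the functions induced from non-principal irreducible characters of K; S(A) the members of S induced from characters whose kernel contains A. Let M ≤ H₁ ≤ H ≤ K be normal subgroups of L such that every term of the lower central series of H eventually lies in M (H/M nilpotent), S(H₁) is coherent and [H:H₁] > 4 * [L:K]^2 + 1. Then S(M) is coherent. -/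
theorem result {L : Type*} [Group L] [Fintype L] {G : Type*} [Group G] [Fintype G] (K : Subgroup L) [hK : K.Normal] (hsolv : Group.IsSolvable K) (τ : (L → ℂ) → (G → ℂ)) (R : (L → ℂ) → Finset (G → ℂ)) (hS : Cfsg.IsCoherenceSystem (Cfsg.inducedIrrAbove K ⊥) τ R) (M H₁ H : Subgroup L) [M.Normal] [H₁.Normal] [H.Normal] (hMH₁ : M ≤ H₁) (hH₁H : H₁ ≤ H) (hHK : H ≤ K) [(M.subgroupOf H).Normal] (hnil : Group.IsNilpotent (↥H ⧸ M.subgroupOf H)) (hcoh : Cfsg.IsCoherent (Cfsg.inducedIrrAbove K H₁) {1}ᶜ τ) (hbig : 4 * K.index ^ 2 + 1 < H₁.relIndex H) : Cfsg.IsCoherent (Cfsg.inducedIrrAbove K M) {1}ᶜ τ := by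
  have key : ∀ c : ℕ, ∀ A : Subgroup L, A.Normal → Nat.card A ≤ c → M ≤ A → A ≤ H →
      IsCoherent (inducedIrrAbove K A) {1}ᶜ τ → 4 * K.index ^ 2 + 1 < A.relIndex H →
      IsCoherent (inducedIrrAbove K M) {1}ᶜ τ := by
    intro c
    induction c with
    | zero =>
      intro A _ hc
      exact absurd hc (by have : 0 < Nat.card A := Nat.card_pos; omega)
    | succ c ih =>
      intro A hAn hc hMA hAH hcoh hbig
      rcases eq_or_lt_of_le hMA with rfl | hlt
      · exact hcoh
      · have hBA := comm_sup_lt M A H hlt hAH hnil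
        set B := ⁅A, H⁆ ⊔ M with hB
        have hBn : B.Normal := by rw [hB]; infer_instance
        have hAHlt : A < H := by
          refine lt_of_le_of_ne hAH ?_
          rintro rfl
          rw [Subgroup.relIndex_self] at hbig
          omega
        have hAK : A < K := lt_of_lt_of_le hAHlt hHK
        have hk : 0 < H.relIndex K := Nat.pos_of_ne_zero (Subgroup.index_ne_zero_of_finite (H := H.subgroupOf K))
        have hcohB : IsCoherent (inducedIrrAbove K B) {1}ᶜ τ := by
          apply Cfsg.Agent.S1519.result K hsolv τ R hS A B H A hAK (hBA.trans hAK) hBA.le hAH hHK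
            _ hcoh
          · rw [← Subgroup.relIndex_mul_index hHK, ← Subgroup.relIndex_mul_relIndex A H K hAH hHK]
            exact arith K.index (H.relIndex K) (A.relIndex H) hk hbig
          · intro x hx y hy
            apply Subgroup.mem_sup_left
            have := Subgroup.commutator_mem_commutator hx hy
            rwa [commutatorElement_def] at this
        apply ih B hBn _ le_sup_right (hBA.le.trans hAH) hcohB
        · refine lt_of_lt_of_le hbig (Nat.le_of_dvd ?_ (Subgroup.relIndex_dvd_of_le_left H hBA.le))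
          exact Nat.pos_of_ne_zero (Subgroup.index_ne_zero_of_finite (H := B.subgroupOf H))
        · have : Nat.card B < Nat.card A := by
            exact Set.ncard_lt_ncard (s := (B : Set L)) (t := (A : Set L)) hBA (Set.toFinite _)
          omega
  exact key _ H₁ inferInstance le_rfl hMH₁ hH₁H hcoh hbig

end Cfsg.Agent.S1520
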