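import Cfsg.Statements.S1521
import Cfsg.Agent.S1520
import Cfsg.Agent.Lib.Helper26.FrobSection
import Cfsg.Agent.Lib.Helper80.Linear

set_option autoImplicit false
open Cfsg

namespace Cfsg.Agent.S1521

open Cfsg.Agent.Lib.Helper26 Cfsg.Agent.Lib.Helper15
open scoped commutatorElement

/-- a nonempty conjugation-closed subset of a coherence system is a coherence system -/
theorem sub_system {L : Type*} [Group L] [Fintype L] {G : Type*} [Group G] [Fintype G]
    {S : Set (L → ℂ)} {τ : (L → ℂ) → (G → ℂ)} {R : (L → ℂ) → Finset (G → ℂ)}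
    (hS : IsCoherenceSystem S τ R) {S' : Set (L → ℂ)} (hsub : S' ⊆ S) (hne : S'.Nonempty)
    (hc : ∀ χ ∈ S', conjFun χ ∈ S') : IsCoherenceSystem S' τ R where
  nonempty := hne
  isCharacter := fun χ hχ => hS.isCharacter χ (hsub hχ)
  conj_mem := hc
  conj_ne := fun χ hχ => hS.conj_ne χ (hsub hχ)
  isometry := iso_mono hS.isometry (zspanOn_mono _ hsub)
  map_one := fun α hα => hS.map_one α (zspanOn_mono _ hsub hα)
  orthogonal := fun χ hχ φ hφ => hS.orthogonal χ (hsub hχ) φ (hsub hφ)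
  orthonormal := fun χ hχ => hS.orthonormal χ (hsub hχ)
  virtual := fun χ hχ => hS.virtual χ (hsub hχ)
  sum_eq := fun χ hχ => hS.sum_eq χ (hsub hχ)
  disjoint := fun χ hχ φ hφ => hS.disjoint χ (hsub hχ) φ (hsub hφ)

/-- `S(H₁)` is coherent when `[K,K] ≤ H₁ < K` -/
theorem coherent_abelian {L : Type*} [Group L] [Fintype L] {G : Type*} [Group G] [Fintype G]
    (K : Subgroup L) [K.Normal] (hsolv : Group.IsSolvable K) (τ : (L → ℂ) → (G → ℂ))
    (R : (L → ℂ) → Finset (G → ℂ)) (hS : IsCoherenceSystem (inducedIrrAbove K ⊥) τ R)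
    (H₁ : Subgroup L) [H₁.Normal] (hKK : ⁅K, K⁆ ≤ H₁) (hH₁K : H₁ < K) :
    IsCoherent (inducedIrrAbove K H₁) {1}ᶜ τ := by
  obtain ⟨χ₀, hχ₀, _⟩ := IndIrr.exists_linear K hsolv H₁ hH₁K
  have hsys := sub_system hS (IndIrr.sub_bot K H₁) ⟨χ₀, hχ₀⟩ (fun χ hχ => IndIrr.conj_mem K hχ)
  apply Cfsg.Agent.S1517.result _ τ R hsys
  have hdeg : ∀ φ ∈ inducedIrrAbove K H₁, φ 1 = (K.index : ℂ) := by
    rintro φ ⟨θ, h1, _, h3, rfl⟩
    have : θ 1 = 1 := by
      apply (Cfsg.Agent.Lib.Helper80.char_one_eq_one_iff ⟨θ, h1⟩).2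
      intro n hn
      apply h3 n
      apply hKK
      have h4 : (commutator K).map K.subtype = ⁅K, K⁆ := by
        rw [commutator_def, Subgroup.map_commutator, ← MonoidHom.range_eq_map, Subgroup.range_subtype]
      rw [← h4]
      exact ⟨n, hn, rfl⟩
    rw [indFun_one, this, mul_one]
  intro φ hφ ψ hψ
  rw [hdeg φ hφ, hdeg ψ hψ]

/-- nilpotent with abelianization of prime order implies abelian -/
theorem comm_le_of_prime {L : Type*} [Group L] [Finite L] (K M : Subgroup L) [K.Normal] [M.Normal]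
    (hMK : M ≤ K) [(M.subgroupOf K).Normal] (hnil : Group.IsNilpotent (↥K ⧸ M.subgroupOf K))
    {p : ℕ} (hp : p.Prime) (h : (⁅K, K⁆ ⊔ M).relIndex K = p) : ⁅K, K⁆ ≤ M := by
  by_contra hnot
  set H₁ := ⁅K, K⁆ ⊔ M with hH₁
  have hMH₁ : M < H₁ := by
    refine lt_of_le_of_ne le_sup_right ?_
    intro heq
    apply hnot
    rw [heq]; exact le_sup_left
  have hH₁K : H₁ ≤ K := sup_le (Subgroup.commutator_le_left K K) hMK
  have hB := Cfsg.Agent.S1520.comm_sup_lt M H₁ K hMH₁ hH₁K hnil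
  set B := ⁅H₁, K⁆ ⊔ M with hBdef
  have hne : ¬ K ≤ H₁ := by
    intro hle
    have := Subgroup.relIndex_eq_one.2 hle
    rw [h] at this
    exact hp.one_lt.ne' this
  obtain ⟨x, hxK, hxH⟩ := SetLike.not_le_iff_exists.1 hne
  set T := Subgroup.zpowers x ⊔ H₁ with hT
  have hTK : T ≤ K := sup_le (by rw [Subgroup.zpowers_le]; exact hxK) hH₁K
  have hmul := Subgroup.relIndex_mul_relIndex H₁ T K le_sup_right hTK
  rw [h] at hmul
  have h1 : H₁.relIndex T ≠ 1 := by
    intro h1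
    have := Subgroup.relIndex_eq_one.1 h1
    exact hxH (this (Subgroup.mem_sup_left (Subgroup.mem_zpowers x)))
  have h2 : T.relIndex K = 1 := by
    rcases (Nat.dvd_prime hp).1 (Dvd.intro _ hmul) with h3 | h3
    · exact absurd h3 h1
    · rw [h3] at hmul
      exact Nat.eq_of_mul_eq_mul_left hp.pos (by rw [hmul, mul_one])
  have hKT : K ≤ T := Subgroup.relIndex_eq_one.1 h2
  have hcen : ∀ a ∈ H₁, ∀ k ∈ K, Commute (a : L ⧸ B) (k : L ⧸ B) := by
    intro a ha k hk
    have : ⁅a, k⁆ ∈ B := Subgroup.mem_sup_left (Subgroup.commutator_mem_commutator ha hk)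
    rw [commutatorElement_def, ← QuotientGroup.eq_one_iff] at this
    rw [QuotientGroup.mk_mul, QuotientGroup.mk_mul, QuotientGroup.mk_mul, QuotientGroup.mk_inv,
      QuotientGroup.mk_inv, mul_inv_eq_one, mul_inv_eq_iff_eq_mul] at this
    exact this
  have hKB : ⁅K, K⁆ ≤ B := by
    rw [Subgroup.commutator_le]
    intro a ha b hb
    obtain ⟨u, hu, c, hc, rfl⟩ := Subgroup.mem_sup_of_normal_right.1 (hKT ha)
    obtain ⟨v, hv, d, hd, rfl⟩ := Subgroup.mem_sup_of_normal_right.1 (hKT hb)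
    obtain ⟨i, rfl⟩ := Subgroup.mem_zpowers_iff.1 hu
    obtain ⟨j, rfl⟩ := Subgroup.mem_zpowers_iff.1 hv
    have hxi : x ^ i ∈ K := K.zpow_mem hxK i
    have hxj : x ^ j ∈ K := K.zpow_mem hxK j
    have hcomm : Commute ((x ^ i * c : L) : L ⧸ B) ((x ^ j * d : L) : L ⧸ B) := by
      rw [QuotientGroup.mk_mul, QuotientGroup.mk_mul]
      apply Commute.mul_left
      · apply Commute.mul_right
        · rw [QuotientGroup.mk_zpow, QuotientGroup.mk_zpow]
          exact Commute.zpow_zpow_self _ i j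
        · exact (hcen d hd _ hxi).symm
      · apply Commute.mul_right
        · exact hcen c hc _ hxj
        · exact hcen c hc _ (hH₁K hd)
    generalize x ^ i * c = a' at hcomm ⊢
    generalize x ^ j * d = b' at hcomm ⊢
    rw [commutatorElement_def, ← QuotientGroup.eq_one_iff, QuotientGroup.mk_mul,
      QuotientGroup.mk_mul, QuotientGroup.mk_mul, QuotientGroup.mk_inv,
      QuotientGroup.mk_inv, mul_inv_eq_one, mul_inv_eq_iff_eq_mul]
    exact hcomm
  have : H₁ ≤ B := sup_le hKB le_sup_right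
  exact absurd this (not_le_of_gt hB)

/-- Let K be a solvable normal subgroup of the finite group L of odd order and (S, τ, R) a coherence system from L to G with S the functions induced from non-principal irreducible characters of K; S(A) as before. Let M ≤ K be normal in L with K/M nilpotent, H₁ = [K, K] ⊔ M, H₁ < K < L, and suppose every element of K outside H₁ is centralised modulo H₁ only from inside K (L/H₁ is a Frobenius group with kernel K/H₁). Suppose one of the following: some normal subgroup of L lies strictly between H₁ and K; or [K:H₁] > 4[L:K]^2 + 1; or [K:M] is not a prime power; or [K,K] ≤ M; or [K:M] is a power of a prime p with [L:K] dividing p − 1. Then S(M) is coherent. -/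
theorem result {L : Type*} [Group L] [Fintype L] {G : Type*} [Group G] [Fintype G] (K : Subgroup L) [hK : K.Normal] (hsolv : Group.IsSolvable K) (τ : (L → ℂ) → (G → ℂ)) (R : (L → ℂ) → Finset (G → ℂ)) (hS : Cfsg.IsCoherenceSystem (Cfsg.inducedIrrAbove K ⊥) τ R) (hodd : Odd (Nat.card L)) (M : Subgroup L) [M.Normal] (hMK : M ≤ K) [(M.subgroupOf K).Normal] (hnil : Group.IsNilpotent (↥K ⧸ M.subgroupOf K)) (H₁ : Subgroup L) (hH₁ : H₁ = ⁅K, K⁆ ⊔ M) (hH₁K : H₁ < K) (hKL : K < ⊤) (hfrob : ∀ k ∈ K, k ∉ H₁ → ∀ x : L, x * k * x⁻¹ * k⁻¹ ∈ H₁ → x ∈ K) (hgood : (∃ N : Subgroup L, N.Normal ∧ H₁ < N ∧ N < K) ∨ 4 * K.index ^ 2 + 1 < H₁.relIndex K ∨ (¬ ∃ p m : ℕ, p.Prime ∧ M.relIndex K = p ^ m) ∨ ⁅K, K⁆ ≤ M ∨ (∃ p m : ℕ, p.Prime ∧ M.relIndex K = p ^ m ∧ K.index ∣ p - 1)) : Cfsg.IsCoherent (Cfsg.inducedIrrAbove K M) {1}ᶜ τ := by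
  subst hH₁
  have hKK : ⁅K, K⁆ ≤ ⁅K, K⁆ ⊔ M := le_sup_left
  have hcohH₁ := coherent_abelian K hsolv τ R hS (⁅K, K⁆ ⊔ M) hKK hH₁K
  -- case (b)
  have caseB : 4 * K.index ^ 2 + 1 < (⁅K, K⁆ ⊔ M).relIndex K →
      IsCoherent (inducedIrrAbove K M) {1}ᶜ τ := fun hb =>
    Cfsg.Agent.S1520.result K hsolv τ R hS M (⁅K, K⁆ ⊔ M) K le_sup_right hH₁K.le le_rfl hnil
      hcohH₁ hb
  -- case (a)
  have caseA : (∃ N : Subgroup L, N.Normal ∧ ⁅K, K⁆ ⊔ M < N ∧ N < K) →
      IsCoherent (inducedIrrAbove K M) {1}ᶜ τ := by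
    rintro ⟨N, hN, h1, h2⟩
    exact caseB (FrobSection.big_of_between hodd K (⁅K, K⁆ ⊔ M) N hKK h1 h2 hfrob)
  -- case (d)
  have caseD : ⁅K, K⁆ ≤ M → IsCoherent (inducedIrrAbove K M) {1}ᶜ τ := by
    intro hd
    have : ⁅K, K⁆ ⊔ M = M := sup_eq_right.2 hd
    rw [this] at hcohH₁
    exact hcohH₁
  rcases hgood with ha | hb | hc | hd | ⟨p, m, hp, hpm, hdvd⟩
  · exact caseA ha
  · exact caseB hb
  · rcases FrobSection.between_or_prime_pow K (⁅K, K⁆ ⊔ M) hKK hH₁K with ha | ⟨p, j, hp, hj⟩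
    · exact caseA ha
    · exfalso
      obtain ⟨i, hi⟩ := FrobSection.relIndex_eq_pow K M hMK hnil hp hj
      exact hc ⟨p, i, hp, hi⟩
  · exact caseD hd
  · -- |K : H₁| is a power of p
    have hdiv : (⁅K, K⁆ ⊔ M).relIndex K ∣ p ^ m := by
      rw [← hpm]
      exact Subgroup.relIndex_dvd_of_le_left K le_sup_right
    obtain ⟨j, _, hj⟩ := (Nat.dvd_prime_pow hp).1 hdiv
    have hj0 : j ≠ 0 := by
      rintro rfl
      rw [pow_zero] at hj
      exact absurd (Subgroup.relIndex_eq_one.1 hj) (not_le_of_gt hH₁K)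
    rcases Nat.lt_or_ge j 2 with hj2 | hj2
    · have hj1 : j = 1 := by omega
      rw [hj1, pow_one] at hj
      exact caseD (comm_le_of_prime K M hMK hnil hp hj)
    · apply caseB
      rw [hj]
      have hpodd : Odd p := by
        apply Odd.of_dvd_nat hodd
        have h1 : p ∣ (⁅K, K⁆ ⊔ M).relIndex K := by rw [hj]; exact dvd_pow_self p hj0
        exact h1.trans ((Subgroup.relIndex_dvd_card _ K).trans (Subgroup.card_subgroup_dvd_card K))
      have heodd : Odd K.index := Odd.of_dvd_nat hodd (Subgroup.index_dvd_card K)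
      have hle := FrobSection.two_mul_add_one_le heodd hpodd hp.one_lt hdvd
      have h2 : p ^ 2 ≤ p ^ j := Nat.pow_le_pow_right hp.pos hj2
      have he0 : 0 < K.index := Nat.pos_of_ne_zero Subgroup.index_ne_zero_of_finite
      nlinarith

end Cfsg.Agent.S1521
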