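import Cfsg.Statements.S1517
import Cfsg.Agent.Lib.Helper26.Glue
set_option autoImplicit false
set_option linter.unusedSectionVars false
open Cfsg

namespace Cfsg.Agent.S1517

open Cfsg.Agent.Lib.Helper26 Cfsg.Agent.Lib.Helper3

section proj

variable {G : Type*} [Group G] [Fintype G]

/-- `F` is an orthonormal family of virtual characters -/
structure ON (F : Finset (G → ℂ)) : Prop where
  gen : ∀ α ∈ F, IsGeneralizedCharacter G α
  self : ∀ α ∈ F, classInner α α = 1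
  ne : ∀ α ∈ F, ∀ β ∈ F, α ≠ β → classInner α β = 0

/-- projection on the span of `F` -/
noncomputable def proj (F : Finset (G → ℂ)) (X : G → ℂ) : G → ℂ := ∑ α ∈ F, classInner X α • α

theorem proj_inner_mem {F : Finset (G → ℂ)} (hF : ON F) (X : G → ℂ) {α : G → ℂ} (hα : α ∈ F) :
    classInner (proj F X) α = classInner X α := by
  unfold proj
  rw [classInner_sum_left, Finset.sum_eq_single α]
  · rw [classInner_smul_left, hF.self α hα, mul_one]
  · intro β hβ hne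
    rw [classInner_smul_left, hF.ne β hβ α hα hne, mul_zero]
  · intro h; exact absurd hα h

theorem proj_inner_zero {F : Finset (G → ℂ)} (X : G → ℂ) {v : G → ℂ}
    (h : ∀ α ∈ F, classInner α v = 0) : classInner (proj F X) v = 0 := by
  unfold proj
  rw [classInner_sum_left]
  apply Finset.sum_eq_zero
  intro α hα
  rw [classInner_smul_left, h α hα, mul_zero]

theorem inner_proj_zero {F : Finset (G → ℂ)} (X : G → ℂ) {v : G → ℂ}
    (h : ∀ α ∈ F, classInner v α = 0) : classInner v (proj F X) = 0 := by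
  unfold proj
  rw [classInner_sum_right]
  apply Finset.sum_eq_zero
  intro α hα
  rw [classInner_smul_right, h α hα, mul_zero]

theorem proj_gen {F : Finset (G → ℂ)} (hF : ON F) {X : G → ℂ} (hX : IsGeneralizedCharacter G X) :
    IsGeneralizedCharacter G (proj F X) := by
  unfold proj
  apply gen_sum
  intro α hα
  obtain ⟨n, hn⟩ := gen_inner_int hX (hF.gen α hα)
  rw [hn, Int.cast_smul_eq_zsmul]
  exact gen_zsmul (hF.gen α hα) n

theorem proj_proj_zero {F F' : Finset (G → ℂ)} (X X' : G → ℂ)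
    (h : ∀ α ∈ F, ∀ β ∈ F', classInner α β = 0) : classInner (proj F X) (proj F' X') = 0 :=
  proj_inner_zero X fun α hα => inner_proj_zero X' fun β hβ => h α hα β hβ

theorem sum_gen {F : Finset (G → ℂ)} (hF : ON F) : IsGeneralizedCharacter G (∑ α ∈ F, α) :=
  gen_sum _ _ hF.gen

/-- integer coefficients -/
theorem exists_coeff {F : Finset (G → ℂ)} (hF : ON F) {X : G → ℂ}
    (hX : IsGeneralizedCharacter G X) :
    ∃ a : (G → ℂ) → ℤ, ∀ α ∈ F, classInner X α = a α := by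
  classical
  have : ∀ α, ∃ n : ℤ, α ∈ F → classInner X α = n := by
    intro α
    by_cases hα : α ∈ F
    · obtain ⟨n, hn⟩ := gen_inner_int hX (hF.gen α hα)
      exact ⟨n, fun _ => hn⟩
    · exact ⟨0, fun h => absurd h hα⟩
  choose a ha using this
  exact ⟨a, ha⟩

theorem proj_norm {F : Finset (G → ℂ)} (hF : ON F) {X : G → ℂ} {a : (G → ℂ) → ℤ}
    (ha : ∀ α ∈ F, classInner X α = a α) :
    classInner (proj F X) (proj F X) = ((∑ α ∈ F, a α ^ 2 : ℤ) : ℂ) := by
  have h0 : classInner (proj F X) (proj F X) = ∑ α ∈ F, classInner (classInner X α • α) (proj F X) := by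
    conv_lhs => lhs; rw [proj]
    rw [classInner_sum_left]
  rw [h0]
  push_cast
  apply Finset.sum_congr rfl
  intro α hα
  have h1 : classInner α (proj F X) = a α := by
    rw [← classInner_conj_symm, proj_inner_mem hF X hα, ha α hα, map_intCast]
  rw [classInner_smul_left, ha α hα, h1]; ring

theorem inner_sum {F : Finset (G → ℂ)} {X : G → ℂ} {a : (G → ℂ) → ℤ}
    (ha : ∀ α ∈ F, classInner X α = a α) :
    classInner X (∑ α ∈ F, α) = ((∑ α ∈ F, a α : ℤ) : ℂ) := by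
  rw [classInner_sum_right]
  push_cast
  exact Finset.sum_congr rfl ha

theorem proj_inner_sum {F : Finset (G → ℂ)} (hF : ON F) {X : G → ℂ} {a : (G → ℂ) → ℤ}
    (ha : ∀ α ∈ F, classInner X α = a α) :
    classInner (proj F X) (∑ α ∈ F, α) = ((∑ α ∈ F, a α : ℤ) : ℂ) := by
  apply inner_sum
  intro α hα
  rw [proj_inner_mem hF X hα, ha α hα]

/-- The key decomposition lemma. -/
theorem decomp {F₀ F₁ : Finset (G → ℂ)} (h₀ : ON F₀) (h₁ : ON F₁)
    (h₀₁ : ∀ α ∈ F₀, ∀ β ∈ F₁, classInner α β = 0) {X : G → ℂ}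
    (hX : IsGeneralizedCharacter G X) {N₀ N₁ : ℕ}
    (hXX : classInner X X = ((N₀ + N₁ : ℕ) : ℂ))
    (hX0 : classInner X (∑ α ∈ F₀, α) = (N₀ : ℂ))
    (hX1 : classInner X (∑ β ∈ F₁, β) = -(N₁ : ℂ)) :
    X = proj F₀ X + proj F₁ X ∧ classInner (proj F₀ X) (proj F₀ X) = N₀ ∧
      classInner (proj F₀ X) (∑ α ∈ F₀, α) = N₀ := by
  obtain ⟨a, ha⟩ := exists_coeff h₀ hX
  obtain ⟨b, hb⟩ := exists_coeff h₁ hX
  set A := proj F₀ X with hA
  set B := proj F₁ X with hB
  have hAgen : IsGeneralizedCharacter G A := proj_gen h₀ hX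
  have hBgen : IsGeneralizedCharacter G B := proj_gen h₁ hX
  set W := X - A - B with hW
  have hWgen : IsGeneralizedCharacter G W := gen_sub (gen_sub hX hAgen) hBgen
  have h₁₀ : ∀ β ∈ F₁, ∀ α ∈ F₀, classInner β α = 0 := by
    intro β hβ α hα
    rw [gen_inner_comm (h₁.gen β hβ) (h₀.gen α hα)]; exact h₀₁ α hα β hβ
  have hW0 : ∀ α ∈ F₀, classInner W α = 0 := by
    intro α hα
    rw [hW, classInner_sub_left, classInner_sub_left, hA, proj_inner_mem h₀ X hα, hB,
      proj_inner_zero X (fun β hβ => h₁₀ β hβ α hα)]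
    ring
  have hW1 : ∀ β ∈ F₁, classInner W β = 0 := by
    intro β hβ
    rw [hW, classInner_sub_left, classInner_sub_left, hB, proj_inner_mem h₁ X hβ, hA,
      proj_inner_zero X (fun α hα => h₀₁ α hα β hβ)]
    ring
  have hWA : classInner W A = 0 := inner_proj_zero X hW0
  have hWB : classInner W B = 0 := inner_proj_zero X hW1
  have hAB : classInner A B = 0 := proj_proj_zero X X h₀₁
  have hAW : classInner A W = 0 := by rw [gen_inner_comm hAgen hWgen]; exact hWA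
  have hBW : classInner B W = 0 := by rw [gen_inner_comm hBgen hWgen]; exact hWB
  have hBA : classInner B A = 0 := by rw [gen_inner_comm hBgen hAgen]; exact hAB
  have hAA : classInner A A = ((∑ α ∈ F₀, a α ^ 2 : ℤ) : ℂ) := proj_norm h₀ ha
  have hBB : classInner B B = ((∑ β ∈ F₁, b β ^ 2 : ℤ) : ℂ) := proj_norm h₁ hb
  obtain ⟨w, hw⟩ := gen_norm_nat hWgen
  have hXeq : X = W + A + B := by rw [hW]; abel
  have hpyth : classInner X X = classInner W W + classInner A A + classInner B B := by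
    conv_lhs => rw [hXeq]
    simp only [classInner_add_left, classInner_add_right, hWA, hWB, hAB, hAW, hBW, hBA]
    ring
  rw [hXX, hw, hAA, hBB] at hpyth
  have hpyth' : ((N₀ + N₁ : ℕ) : ℤ) = w + ∑ α ∈ F₀, a α ^ 2 + ∑ β ∈ F₁, b β ^ 2 := by
    exact_mod_cast hpyth
  have hsa : ∑ α ∈ F₀, a α = N₀ := by
    have := inner_sum ha
    rw [hX0] at this
    exact_mod_cast this.symm
  have hsb : ∑ β ∈ F₁, b β = -(N₁ : ℤ) := by
    have := inner_sum hb
    rw [hX1] at this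
    exact_mod_cast this.symm
  have hia : ∑ α ∈ F₀, a α ≤ ∑ α ∈ F₀, a α ^ 2 := by
    apply Finset.sum_le_sum
    intro α _
    rcases le_or_gt (a α) 0 with h | h
    · nlinarith [sq_nonneg (a α)]
    · nlinarith
  have hib : -∑ β ∈ F₁, b β ≤ ∑ β ∈ F₁, b β ^ 2 := by
    rw [← Finset.sum_neg_distrib]
    apply Finset.sum_le_sum
    intro β _
    rcases le_or_gt 0 (b β) with h | h
    · nlinarith [sq_nonneg (b β)]
    · nlinarith
  push_cast at hpyth'
  have hw0 : w = 0 := by omega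
  have hsa2 : ∑ α ∈ F₀, a α ^ 2 = N₀ := by omega
  have hW0' : W = 0 := by
    apply classInner_self_eq_zero
    rw [hw, hw0]; simp
  refine ⟨?_, ?_, ?_⟩
  · rw [hXeq, hW0', zero_add]
  · rw [hAA, hsa2]; simp
  · rw [hA, proj_inner_sum h₀ ha, hsa]; simp

end proj

section main

variable {L : Type*} [Group L] [Fintype L] {G : Type*} [Group G] [Fintype G]
  {S : Set (L → ℂ)} {τ : (L → ℂ) → (G → ℂ)} {R : (L → ℂ) → Finset (G → ℂ)}

theorem conj_conj (χ : L → ℂ) : conjFun (conjFun χ) = χ := by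
  funext x; simp [conjFun]

theorem inner_conj_conj (a b : L → ℂ) :
    classInner (conjFun a) (conjFun b) = (starRingEnd ℂ) (classInner a b) := by
  unfold classInner conjFun
  rw [map_mul, map_inv₀, map_natCast, map_sum]
  congr 1
  apply Finset.sum_congr rfl
  intro g _
  rw [map_mul]

theorem R_ON (hS : IsCoherenceSystem S τ R) {χ : L → ℂ} (hχ : χ ∈ S) : ON (R χ) :=
  ⟨hS.virtual χ hχ, fun α hα => by simpa using hS.orthonormal χ hχ α hα α hα,
    fun α hα β hβ hne => by simpa [hne] using hS.orthonormal χ hχ α hα β hβ⟩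

theorem S_gen (hS : IsCoherenceSystem S τ R) : ∀ χ ∈ S, IsGeneralizedCharacter L χ :=
  fun χ hχ => gen_of_char (hS.isCharacter χ hχ)

theorem sub_mem (hdeg : ∀ φ ∈ S, ∀ ψ ∈ S, φ 1 = ψ 1) {χ ψ : L → ℂ} (hχ : χ ∈ S) (hψ : ψ ∈ S) :
    χ - ψ ∈ zspanOn S {1}ᶜ :=
  mem_zspanOn_one.2 ⟨zspan_sub (mem_zspan hχ) (mem_zspan hψ), by simp [hdeg χ hχ ψ hψ]⟩

theorem R_orth (hS : IsCoherenceSystem S τ R) {χ ψ : L → ℂ} (hχ : χ ∈ S) (hψ : ψ ∈ S)
    (h1 : ψ ≠ χ) (h2 : ψ ≠ conjFun χ) : ∀ α ∈ R χ, ∀ β ∈ R ψ, classInner α β = 0 := by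
  apply hS.disjoint ψ hψ χ hχ (hS.orthogonal χ hχ ψ hψ (Ne.symm h1))
  apply hS.orthogonal χ hχ _ (hS.conj_mem ψ hψ)
  intro h
  apply h2
  rw [h, conj_conj]

/-- decomposition of `τ (χ - ψ)` -/
theorem decompS (hS : IsCoherenceSystem S τ R) (hdeg : ∀ φ ∈ S, ∀ ψ ∈ S, φ 1 = ψ 1)
    {χ ψ : L → ℂ} (hχ : χ ∈ S) (hψ : ψ ∈ S) (h1 : ψ ≠ χ) (h2 : ψ ≠ conjFun χ) :
    τ (χ - ψ) = proj (R χ) (τ (χ - ψ)) + proj (R ψ) (τ (χ - ψ)) ∧
    classInner (proj (R χ) (τ (χ - ψ))) (proj (R χ) (τ (χ - ψ))) = classInner χ χ ∧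
    classInner (proj (R χ) (τ (χ - ψ))) (∑ α ∈ R χ, α) = classInner χ χ := by
  obtain ⟨N₀, hN₀⟩ := gen_norm_nat (S_gen hS χ hχ)
  obtain ⟨N₁, hN₁⟩ := gen_norm_nat (S_gen hS ψ hψ)
  have hτ := hS.isometry
  have hχc := hS.conj_mem χ hχ
  have hψc := hS.conj_mem ψ hψ
  have o1 : classInner χ ψ = 0 := hS.orthogonal χ hχ ψ hψ (Ne.symm h1)
  have o2 : classInner ψ χ = 0 := hS.orthogonal ψ hψ χ hχ h1
  have o3 : classInner χ (conjFun χ) = 0 := hS.orthogonal χ hχ _ hχc (Ne.symm (hS.conj_ne χ hχ))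
  have o4 : classInner ψ (conjFun χ) = 0 := hS.orthogonal ψ hψ _ hχc h2
  have o5 : classInner ψ (conjFun ψ) = 0 := hS.orthogonal ψ hψ _ hψc (Ne.symm (hS.conj_ne ψ hψ))
  have o6 : classInner χ (conjFun ψ) = 0 := by
    apply hS.orthogonal χ hχ _ hψc
    intro h; apply h2; rw [h, conj_conj]
  rw [hN₀]
  apply decomp (R_ON hS hχ) (R_ON hS hψ) (R_orth hS hχ hψ h1 h2) (iso_gen hτ (sub_mem hdeg hχ hψ))
    (N₁ := N₁)
  · rw [iso_inner hτ (sub_mem hdeg hχ hψ) (sub_mem hdeg hχ hψ)]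
    simp only [classInner_sub_left, classInner_sub_right, o1, o2, hN₀, hN₁]
    push_cast; ring
  · rw [← hS.sum_eq χ hχ, iso_inner hτ (sub_mem hdeg hχ hψ) (sub_mem hdeg hχ hχc)]
    simp only [classInner_sub_left, classInner_sub_right, o2, o3, o4, hN₀]
    ring
  · rw [← hS.sum_eq ψ hψ, iso_inner hτ (sub_mem hdeg hχ hψ) (sub_mem hdeg hψ hψc)]
    simp only [classInner_sub_left, classInner_sub_right, o1, o5, o6, hN₁]
    ring

theorem exists_Y (hS : IsCoherenceSystem S τ R) (hdeg : ∀ φ ∈ S, ∀ ψ ∈ S, φ 1 = ψ 1)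
    {χ₀ : L → ℂ} (hχ₀ : χ₀ ∈ S) :
    ∃ Y : G → ℂ, IsGeneralizedCharacter G Y ∧ classInner Y Y = classInner χ₀ χ₀ ∧
      ∀ φ ∈ S, φ ≠ χ₀ → classInner Y (τ (χ₀ - φ)) = classInner χ₀ χ₀ := by
  classical
  have hτ := hS.isometry
  have hZ := isZMod_zspanOn S ({1}ᶜ : Set L)
  have hχc := hS.conj_mem χ₀ hχ₀
  by_cases hcase : ∃ ψ₀ ∈ S, ψ₀ ≠ χ₀ ∧ ψ₀ ≠ conjFun χ₀
  · obtain ⟨ψ₀, hψ₀, h1, h2⟩ := hcase
    obtain ⟨hX, hAA, hAs⟩ := decompS hS hdeg hχ₀ hψ₀ h1 h2
    set X := τ (χ₀ - ψ₀) with hXdef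
    set A := proj (R χ₀) X with hA
    set B := proj (R ψ₀) X with hB
    have hAB : classInner A B = 0 := proj_proj_zero X X (R_orth hS hχ₀ hψ₀ h1 h2)
    refine ⟨A, proj_gen (R_ON hS hχ₀) (iso_gen hτ (sub_mem hdeg hχ₀ hψ₀)), hAA, ?_⟩
    intro φ hφ hφ0
    by_cases hφc : φ = conjFun χ₀
    · rw [hφc, hS.sum_eq χ₀ hχ₀]; exact hAs
    by_cases hφψ : φ = ψ₀
    · rw [hφψ, ← hXdef, hX, classInner_add_right, hAA, hAB, add_zero]
    by_cases hφψc : φ = conjFun ψ₀
    · have hψc := hS.conj_mem ψ₀ hψ₀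
      have e1 : χ₀ - conjFun ψ₀ = (χ₀ - ψ₀) + (ψ₀ - conjFun ψ₀) := by abel
      rw [hφψc, e1, iso_add hτ (sub_mem hdeg hχ₀ hψ₀) (sub_mem hdeg hψ₀ hψc), ← hXdef,
        hS.sum_eq ψ₀ hψ₀, classInner_add_right]
      have e2 : classInner A (∑ β ∈ R ψ₀, β) = 0 := by
        apply proj_inner_zero
        intro α hα
        rw [classInner_sum_right]
        exact Finset.sum_eq_zero fun β hβ => R_orth hS hχ₀ hψ₀ h1 h2 α hα β hβ
      rw [e2, add_zero]
      conv_lhs => rw [hX]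
      rw [classInner_add_right, hAA, hAB, add_zero]
    · -- generic case
      obtain ⟨hX', -, -⟩ := decompS hS hdeg hχ₀ hφ hφ0 hφc
      set X' := τ (χ₀ - φ) with hX'def
      set A' := proj (R χ₀) X' with hA'
      set B' := proj (R φ) X' with hB'
      have hAB' : classInner A B' = 0 := proj_proj_zero X X' (R_orth hS hχ₀ hφ hφ0 hφc)
      have hBA' : classInner B A' = 0 := by
        apply proj_proj_zero
        intro β hβ α hα
        rw [gen_inner_comm ((R_ON hS hψ₀).gen β hβ) ((R_ON hS hχ₀).gen α hα)]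
        exact R_orth hS hχ₀ hψ₀ h1 h2 α hα β hβ
      have hBB' : classInner B B' = 0 := proj_proj_zero X X' (R_orth hS hψ₀ hφ hφψ hφψc)
      have hXX' : classInner X X' = classInner χ₀ χ₀ := by
        rw [hXdef, hX'def, iso_inner hτ (sub_mem hdeg hχ₀ hψ₀) (sub_mem hdeg hχ₀ hφ)]
        simp only [classInner_sub_left, classInner_sub_right,
          hS.orthogonal χ₀ hχ₀ φ hφ (Ne.symm hφ0), hS.orthogonal ψ₀ hψ₀ χ₀ hχ₀ h1,
          hS.orthogonal ψ₀ hψ₀ φ hφ (Ne.symm hφψ)]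
        ring
      have e1 : classInner X X' = classInner A A' := by
        conv_lhs => rw [hX, hX']
        simp only [classInner_add_left, classInner_add_right, hAB', hBA', hBB']
        ring
      conv_lhs => rw [hX']
      rw [classInner_add_right, hAB', add_zero, ← e1, hXX']
  · -- S = {χ₀, conj χ₀}
    push Not at hcase
    obtain ⟨N₀, hN₀⟩ := gen_norm_nat (S_gen hS χ₀ hχ₀)
    have hON := R_ON hS hχ₀
    have hsumsum : ∀ F ⊆ R χ₀, classInner (∑ α ∈ F, α) (∑ β ∈ R χ₀, β) = (F.card : ℂ) := by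
      intro F hF
      rw [classInner_sum_left, Finset.card_eq_sum_ones]
      push_cast
      apply Finset.sum_congr rfl
      intro α hα
      rw [classInner_sum_right, Finset.sum_eq_single α]
      · exact hON.self α (hF hα)
      · intro β hβ hne
        exact hON.ne α (hF hα) β hβ (Ne.symm hne)
      · intro h; exact absurd (hF hα) h
    have hsumF : ∀ F ⊆ R χ₀, classInner (∑ α ∈ F, α) (∑ β ∈ F, β) = (F.card : ℂ) := by
      intro F hF
      rw [classInner_sum_left, Finset.card_eq_sum_ones]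
      push_cast
      apply Finset.sum_congr rfl
      intro α hα
      rw [classInner_sum_right, Finset.sum_eq_single α]
      · exact hON.self α (hF hα)
      · intro β hβ hne
        exact hON.ne α (hF hα) β (hF hβ) (Ne.symm hne)
      · intro h; exact absurd hα h
    have hcard : (R χ₀).card = 2 * N₀ := by
      have h1 := hsumsum (R χ₀) (Finset.Subset.refl _)
      rw [← hS.sum_eq χ₀ hχ₀, iso_inner hτ (sub_mem hdeg hχ₀ hχc) (sub_mem hdeg hχ₀ hχc)] at h1
      simp only [classInner_sub_left, classInner_sub_right, inner_conj_conj, hN₀, map_natCast,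
        hS.orthogonal χ₀ hχ₀ _ hχc (Ne.symm (hS.conj_ne χ₀ hχ₀)),
        hS.orthogonal _ hχc χ₀ hχ₀ (hS.conj_ne χ₀ hχ₀)] at h1
      have h2 : ((2 * N₀ : ℕ) : ℂ) = ((R χ₀).card : ℂ) := by
        push_cast; linear_combination h1
      exact_mod_cast h2.symm
    obtain ⟨F, hF, hFc⟩ := Finset.exists_subset_card_eq (s := R χ₀) (n := N₀) (by omega)
    refine ⟨∑ α ∈ F, α, gen_sum _ _ (fun α hα => hON.gen α (hF hα)), ?_, ?_⟩
    · rw [hsumF F hF, hFc, hN₀]
    · intro φ hφ hφ0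
      rw [hcase φ hφ hφ0, hS.sum_eq χ₀ hχ₀, hsumsum F hF, hFc, hN₀]

theorem char_one_ne_zero {χ : L → ℂ} (h : IsCharacter L χ) (hne : χ ≠ 0) : χ 1 ≠ 0 := by
  obtain ⟨n, ρ, rfl⟩ := h
  intro h1
  apply hne
  rw [Representation.char_one] at h1
  have hn : Module.finrank ℂ (Fin n → ℂ) = 0 := by exact_mod_cast h1
  have : Subsingleton (Fin n → ℂ) := Module.finrank_zero_iff.1 hn
  funext g
  have h2 : ρ g = 0 := Subsingleton.elim _ _
  simp [Representation.character, h2]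

end main

theorem result {L : Type*} [Group L] [Fintype L] {G : Type*} [Group G] [Fintype G] (S : Set (L → ℂ)) (τ : (L → ℂ) → (G → ℂ)) (R : (L → ℂ) → Finset (G → ℂ)) (hS : Cfsg.IsCoherenceSystem S τ R) (hdeg : ∀ φ ∈ S, ∀ ψ ∈ S, φ 1 = ψ 1) : Cfsg.IsCoherent S {1}ᶜ τ := by
  classical
  obtain ⟨χ₀, hχ₀⟩ := hS.nonempty
  have hτ := hS.isometry
  have hZ := isZMod_zspanOn S ({1}ᶜ : Set L)
  have hχc := hS.conj_mem χ₀ hχ₀
  have hgenS := S_gen hS
  obtain ⟨Y, hYgen, hYY, hYφ⟩ := exists_Y hS hdeg hχ₀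
  have hχ₀ne : χ₀ ≠ 0 := by
    intro h0
    apply hS.conj_ne χ₀ hχ₀
    rw [h0]; funext x; simp [conjFun]
  set D := χ₀ 1 with hD
  have hD0 : D ≠ 0 := char_one_ne_zero (hS.isCharacter χ₀ hχ₀) hχ₀ne
  -- degree function
  have hmex : ∀ α ∈ zspan S, ∃ m : ℤ, α 1 = m * D := by
    intro α hα
    induction hα using Submodule.span_induction with
    | mem x hx => exact ⟨1, by simp [hD, hdeg x hx χ₀ hχ₀]⟩
    | zero => exact ⟨0, by simp⟩
    | add x y _ _ hx hy =>
      obtain ⟨m, hm⟩ := hx; obtain ⟨m', hm'⟩ := hy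
      exact ⟨m + m', by simp [hm, hm']; ring⟩
    | smul n x _ hx =>
      obtain ⟨m, hm⟩ := hx
      exact ⟨n * m, by simp [hm]; ring⟩
  have hmuniq : ∀ m m' : ℤ, (m : ℂ) * D = m' * D → m = m' := by
    intro m m' h
    exact_mod_cast mul_right_cancel₀ hD0 h
  have hred : ∀ α ∈ zspan S, ∀ m : ℤ, α 1 = m * D → α - m • χ₀ ∈ zspanOn S {1}ᶜ := by
    intro α hα m hm
    exact mem_zspanOn_one.2 ⟨zspan_sub hα (zspan_zsmul _ (mem_zspan hχ₀)), by simp [hm, hD]⟩
  -- (Y2)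
  have hY2 : ∀ α ∈ zspan S, ∀ m : ℤ, α 1 = m * D →
      classInner Y (τ (α - m • χ₀)) = classInner χ₀ (α - m • χ₀) := by
    intro α hα
    induction hα using Submodule.span_induction with
    | mem x hx =>
      intro m hm
      have hm1 : m = 1 := hmuniq m 1 (by rw [← hm, hdeg x hx χ₀ hχ₀]; simp [hD])
      subst hm1
      rw [one_smul]
      by_cases hx0 : x = χ₀
      · rw [hx0, sub_self, iso_zero hτ hZ, classInner_zero_right, classInner_zero_right]
      · have e1 : x - χ₀ = -(χ₀ - x) := by abel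
        rw [e1, iso_neg hτ (sub_mem hdeg hχ₀ hx), classInner_neg_right, hYφ x hx hx0,
          classInner_neg_right, classInner_sub_right, hS.orthogonal χ₀ hχ₀ x hx (Ne.symm hx0), sub_zero]
    | zero =>
      intro m hm
      have hm0 : m = 0 := hmuniq m 0 (by rw [← hm]; simp)
      subst hm0
      simp [iso_zero hτ hZ]
    | add x y hx hy ihx ihy =>
      intro m hm
      obtain ⟨m₁, hm₁⟩ := hmex x hx
      obtain ⟨m₂, hm₂⟩ := hmex y hy
      have hmm : m = m₁ + m₂ := hmuniq _ _ (by rw [← hm]; simp [hm₁, hm₂]; ring)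
      have e1 : x + y - m • χ₀ = (x - m₁ • χ₀) + (y - m₂ • χ₀) := by rw [hmm]; module
      rw [e1, iso_add hτ (hred x hx m₁ hm₁) (hred y hy m₂ hm₂), classInner_add_right,
        classInner_add_right, ihx m₁ hm₁, ihy m₂ hm₂]
    | smul n x hx ihx =>
      intro m hm
      obtain ⟨m₁, hm₁⟩ := hmex x hx
      have hmm : m = n * m₁ := hmuniq _ _ (by rw [← hm]; simp [hm₁]; ring)
      have e1 : n • x - m • χ₀ = n • (x - m₁ • χ₀) := by rw [hmm]; module
      rw [e1, iso_zsmul hτ n (hred x hx m₁ hm₁), classInner_zsmul_right, classInner_zsmul_right,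
        ihx m₁ hm₁]
  -- definition of τ₁
  let mf : (L → ℂ) → ℤ := fun α => if h : ∃ m : ℤ, α 1 = m * D then Classical.choose h else 0
  have hmf : ∀ α ∈ zspan S, α 1 = mf α * D := by
    intro α hα
    have h := hmex α hα
    show α 1 = ((if h : ∃ m : ℤ, α 1 = m * D then Classical.choose h else 0 : ℤ) : ℂ) * D
    rw [dif_pos h]
    exact Classical.choose_spec h
  let τ₁ : (L → ℂ) → (G → ℂ) := fun α => mf α • Y + τ (α - mf α • χ₀)
  have hτ₁def : ∀ α, τ₁ α = mf α • Y + τ (α - mf α • χ₀) := fun _ => rfl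
  refine ⟨⟨χ₀ - conjFun χ₀, sub_mem hdeg hχ₀ hχc, ?_⟩, τ₁, ⟨?_, ?_, ?_, ?_⟩, ?_⟩
  · intro h
    exact hS.conj_ne χ₀ hχ₀ (sub_eq_zero.1 h).symm
  · intro α hα β hβ
    have hm : mf (α + β) = mf α + mf β := hmuniq _ _ (by
      rw [← hmf _ (zspan_add hα hβ)]; simp [hmf α hα, hmf β hβ]; ring)
    have e1 : α + β - (mf α + mf β) • χ₀ = (α - mf α • χ₀) + (β - mf β • χ₀) := by module
    rw [hτ₁def, hτ₁def, hτ₁def, hm, e1,
      iso_add hτ (hred α hα _ (hmf α hα)) (hred β hβ _ (hmf β hβ))]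
    module
  · intro α hα n
    have hm : mf (n • α) = n * mf α := hmuniq _ _ (by
      rw [← hmf _ (zspan_zsmul n hα)]; simp [hmf α hα]; ring)
    have e1 : n • α - (n * mf α) • χ₀ = n • (α - mf α • χ₀) := by module
    rw [hτ₁def, hτ₁def, hm, e1, iso_zsmul hτ n (hred α hα _ (hmf α hα))]
    module
  · intro α hα β hβ
    have hα' := hred α hα _ (hmf α hα)
    have hβ' := hred β hβ _ (hmf β hβ)
    rw [hτ₁def, hτ₁def]
    simp only [classInner_add_left, classInner_add_right, classInner_zsmul_left,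
      classInner_zsmul_right]
    rw [hYY, hY2 β hβ _ (hmf β hβ), gen_inner_comm (iso_gen hτ hα') hYgen, hY2 α hα _ (hmf α hα),
      iso_inner hτ hα' hβ']
    have e1 : classInner χ₀ (α - mf α • χ₀) = classInner (α - mf α • χ₀) χ₀ :=
      gen_inner_comm (hgenS χ₀ hχ₀) (zspan_gen hgenS _ hα'.1)
    rw [e1]
    have e2 : classInner α β = classInner (mf α • χ₀ + (α - mf α • χ₀)) (mf β • χ₀ + (β - mf β • χ₀)) := by
      congr 1 <;> abel
    rw [e2]
    simp only [classInner_add_left, classInner_add_right, classInner_zsmul_left,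
      classInner_zsmul_right]
  · intro α hα
    rw [hτ₁def]
    exact gen_add (gen_zsmul hYgen _) (iso_gen hτ (hred α hα _ (hmf α hα)))
  · intro α hα
    obtain ⟨hαs, hα1⟩ := mem_zspanOn_one.1 hα
    have hm : mf α = 0 := hmuniq _ _ (by rw [← hmf α hαs, hα1]; simp)
    rw [hτ₁def, hm]; simp

end Cfsg.Agent.S1517
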