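import Cfsg.Statements.S1514
import Cfsg.Agent.Lib.Helper26.Glue
import Cfsg.Agent.Lib.Helper15.CharTools
import Cfsg.Agent.S1517

set_option autoImplicit false
open Cfsg

namespace Cfsg.Agent.S1514

open Cfsg.Agent.Lib.Helper26 Cfsg.Agent.Lib.Helper3
open Cfsg.Agent.Lib.Helper15 (cf_eq_zero irr_inner_self irr_inner_ne irr_char)

/-- A virtual character of norm two vanishing at `1` is a difference of two distinct irreducible
characters. -/
theorem gen_norm_two {G : Type*} [Group G] [Fintype G] {a : G → ℂ}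
    (ha : IsGeneralizedCharacter G a) (h : classInner a a = 2) (h1 : a 1 = 0) :
    ∃ α β : G → ℂ, IsIrrCharacter G α ∧ IsIrrCharacter G β ∧ α ≠ β ∧ a = α - β := by
  classical
  have hne : a ≠ 0 := by
    rintro rfl
    simp [classInner] at h
  have hex : ∃ χ : G → ℂ, IsIrrCharacter G χ ∧ classInner a χ ≠ 0 := by
    by_contra hcon
    push Not at hcon
    exact hne (cf_eq_zero (gen_classFunction ha) hcon)
  obtain ⟨χ, hχ, hχ0⟩ := hex
  obtain ⟨ε, hε⟩ := gen_inner_int ha (gen_of_irr hχ)
  have hε0 : ε ≠ 0 := by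
    rintro rfl
    exact hχ0 (by simpa using hε)
  have hε' : classInner χ a = ε := by rw [gen_inner_comm (gen_of_irr hχ) ha, hε]
  have hb : IsGeneralizedCharacter G (a - ε • χ) := gen_sub ha (gen_zsmul (gen_of_irr hχ) ε)
  have hbb : classInner (a - ε • χ) (a - ε • χ) = ((2 - ε ^ 2 : ℤ) : ℂ) := by
    rw [classInner_sub_left, classInner_sub_right, classInner_sub_right, classInner_zsmul_left,
      classInner_zsmul_left, classInner_zsmul_right, classInner_zsmul_right, h, hε, hε',
      irr_inner_self hχ]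
    push_cast; ring
  obtain ⟨n, hn⟩ := gen_norm_nat hb
  have hn' : (2 - ε ^ 2 : ℤ) = n := by
    have : ((2 - ε ^ 2 : ℤ) : ℂ) = ((n : ℤ) : ℂ) := by rw [← hbb, hn]; simp
    exact_mod_cast this
  have hsq : ε ^ 2 = 1 := by
    have h1 : 0 < ε ^ 2 := by positivity
    have h2 : ε ^ 2 ≤ 2 := by omega
    have h3 : ε ^ 2 ≠ 2 := by
      intro h4
      have h5 : |ε| < 2 := by
        apply abs_lt_of_sq_lt_sq' _ (by norm_num) |> abs_lt.2
        omega
      have h6 : -2 < ε ∧ ε < 2 := abs_lt.1 h5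
      have : ε = -1 ∨ ε = 0 ∨ ε = 1 := by omega
      rcases this with rfl | rfl | rfl <;> norm_num at h4
    omega
  have hbb1 : classInner (a - ε • χ) (a - ε • χ) = 1 := by rw [hbb, hsq]; norm_num
  have hbχ : classInner (a - ε • χ) χ = 0 := by
    rw [classInner_sub_left, classInner_zsmul_left, hε, irr_inner_self hχ]; ring
  obtain ⟨d, hd0, hd⟩ := irr_degree hχ
  rcases gen_norm_one hb hbb1 with hirr | hirr
  · obtain ⟨e, he0, he⟩ := irr_degree hirr
    have hne' : a - ε • χ ≠ χ := by
      intro heq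
      rw [heq, irr_inner_self hχ] at hbχ
      exact one_ne_zero hbχ
    rcases sq_eq_one_iff_of_side.1 hsq with rfl | rfl
    · exfalso
      have : (e : ℂ) = -d := by
        rw [← he, ← hd]; simp [h1]
      have : ((e + d : ℕ) : ℂ) = 0 := by push_cast; rw [this]; ring
      have : e + d = 0 := by exact_mod_cast this
      omega
    · exact ⟨_, χ, hirr, hχ, hne', by simp⟩
  · obtain ⟨e, he0, he⟩ := irr_degree hirr
    have hne' : χ ≠ -(a - ε • χ) := by
      intro heq
      have : classInner (-(a - ε • χ)) χ = 0 := by rw [classInner_neg_left, hbχ, neg_zero]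
      rw [← heq, irr_inner_self hχ] at this
      exact one_ne_zero this
    rcases sq_eq_one_iff_of_side.1 hsq with rfl | rfl
    · exact ⟨χ, _, hχ, hirr, hne', by simp⟩
    · exfalso
      have : (e : ℂ) = -d := by
        rw [← he, ← hd]; simp [h1]
      have : ((e + d : ℕ) : ℂ) = 0 := by push_cast; rw [this]; ring
      have : e + d = 0 := by exact_mod_cast this
      omega

/-- Let S be a nonempty set of irreducible characters of the finite group L, closed under complex conjugation and containing no real-valued member, and τ a linear isometry on the integer combinations of S vanishing at 1, with values virtual characters of G vanishing at 1. Then there is a choice R making (S, τ, R) a coherence system. -/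
theorem result {L : Type*} [Group L] [Fintype L] {G : Type*} [Group G] [Fintype G] (S : Set (L → ℂ)) (hS : S.Nonempty) (hirr : ∀ χ ∈ S, Cfsg.IsIrrCharacter L χ) (hconj : ∀ χ ∈ S, Cfsg.conjFun χ ∈ S ∧ Cfsg.conjFun χ ≠ χ) (τ : (L → ℂ) → (G → ℂ)) (hτ : Cfsg.IsLinearIsometryOn (Cfsg.zspanOn S {1}ᶜ) τ) (hτ1 : ∀ α ∈ Cfsg.zspanOn S {1}ᶜ, τ α 1 = 0) : ∃ R : (L → ℂ) → Finset (G → ℂ), Cfsg.IsCoherenceSystem S τ R := by
  classical
  have hmem : ∀ χ ∈ S, χ - conjFun χ ∈ zspanOn S {1}ᶜ := by
    intro χ hχ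
    refine mem_zspanOn_one.2 ⟨zspan_sub (mem_zspan hχ) (mem_zspan (hconj χ hχ).1), ?_⟩
    obtain ⟨d, _, hd⟩ := irr_degree (hirr χ hχ)
    simp [conjFun, hd]
  have hinner : ∀ χ ∈ S, ∀ φ ∈ S, classInner (φ - conjFun φ) (χ - conjFun χ) =
      2 * (classInner φ χ - classInner φ (conjFun χ)) := by
    intro χ hχ φ hφ
    have e1 : classInner (conjFun φ) (conjFun χ) = classInner φ χ := by
      rw [S1517.inner_conj_conj]
      obtain ⟨n, hn⟩ := gen_inner_int (gen_of_irr (hirr φ hφ)) (gen_of_irr (hirr χ hχ))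
      rw [hn, map_intCast]
    have e2 : classInner (conjFun φ) χ = classInner φ (conjFun χ) := by
      conv_lhs => rw [← S1517.conj_conj χ]
      rw [S1517.inner_conj_conj]
      obtain ⟨n, hn⟩ := gen_inner_int (gen_of_irr (hirr φ hφ))
        (gen_of_irr (hirr _ (hconj χ hχ).1))
      rw [hn, map_intCast]
    rw [classInner_sub_left, classInner_sub_right, classInner_sub_right, e1, e2]
    ring
  have key : ∀ χ : L → ℂ, ∃ α β : G → ℂ, χ ∈ S →
      (IsIrrCharacter G α ∧ IsIrrCharacter G β ∧ α ≠ β ∧ τ (χ - conjFun χ) = α - β) := by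
    intro χ
    by_cases hχ : χ ∈ S
    · have hn : classInner (τ (χ - conjFun χ)) (τ (χ - conjFun χ)) = 2 := by
        rw [hτ.2.2.1 _ (hmem χ hχ) _ (hmem χ hχ), hinner χ hχ χ hχ, irr_inner_self (hirr χ hχ),
          irr_inner_ne (hirr χ hχ) (hirr _ (hconj χ hχ).1) (hconj χ hχ).2.symm]
        ring
      obtain ⟨α, β, h⟩ := gen_norm_two (hτ.2.2.2 _ (hmem χ hχ)) hn (hτ1 _ (hmem χ hχ))
      exact ⟨α, β, fun _ => h⟩
    · exact ⟨0, 0, fun h => absurd h hχ⟩
  choose A B hAB using key
  have hAnB : ∀ χ ∈ S, A χ ≠ -B χ := by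
    intro χ hχ heq
    obtain ⟨h1, h2, h3, _⟩ := hAB χ hχ
    have : classInner (A χ) (-B χ) = 0 := by
      rw [classInner_neg_right, irr_inner_ne h1 h2 h3, neg_zero]
    rw [← heq, irr_inner_self h1] at this
    exact one_ne_zero this
  refine ⟨fun χ => {A χ, -B χ}, ⟨hS, fun χ hχ => irr_char (hirr χ hχ), fun χ hχ => (hconj χ hχ).1,
    fun χ hχ => (hconj χ hχ).2, hτ, hτ1, fun χ hχ φ hφ hne => irr_inner_ne (hirr χ hχ) (hirr φ hφ) hne,
    ?_, ?_, ?_, ?_⟩⟩
  · intro χ hχ α hα β hβ
    obtain ⟨h1, h2, h3, _⟩ := hAB χ hχ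
    simp only [Finset.mem_insert, Finset.mem_singleton] at hα hβ
    rcases hα with rfl | rfl <;> rcases hβ with rfl | rfl
    · simp [irr_inner_self h1]
    · rw [if_neg (hAnB χ hχ), classInner_neg_right, irr_inner_ne h1 h2 h3, neg_zero]
    · rw [if_neg (hAnB χ hχ).symm, classInner_neg_left, irr_inner_ne h2 h1 h3.symm, neg_zero]
    · simp [classInner_neg_left, classInner_neg_right, irr_inner_self h2]
  · intro χ hχ α hα
    obtain ⟨h1, h2, h3, _⟩ := hAB χ hχ
    simp only [Finset.mem_insert, Finset.mem_singleton] at hα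
    rcases hα with rfl | rfl
    · exact gen_of_irr h1
    · exact gen_neg (gen_of_irr h2)
  · intro χ hχ
    obtain ⟨h1, h2, h3, h4⟩ := hAB χ hχ
    rw [Finset.sum_pair (hAnB χ hχ), h4, sub_eq_add_neg]
  · intro χ hχ φ hφ e1 e2
    obtain ⟨h1, h2, h3, h4⟩ := hAB χ hχ
    obtain ⟨k1, k2, k3, k4⟩ := hAB φ hφ
    have h0 : classInner (A φ - B φ) (A χ - B χ) = 0 := by
      rw [← h4, ← k4, hτ.2.2.1 _ (hmem φ hφ) _ (hmem χ hχ), hinner χ hχ φ hφ, e1, e2]
      ring
    rw [classInner_sub_left, classInner_sub_right, classInner_sub_right] at h0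
    have irr_inner : ∀ {x y : G → ℂ}, IsIrrCharacter G x → IsIrrCharacter G y →
        classInner x y = if x = y then 1 else 0 := by
      intro x y hx hy
      split_ifs with hxy
      · rw [hxy, irr_inner_self hy]
      · exact irr_inner_ne hx hy hxy
    rw [irr_inner k1 h1, irr_inner k1 h2, irr_inner k2 h1, irr_inner k2 h2] at h0
    have hall : A φ ≠ A χ ∧ A φ ≠ B χ ∧ B φ ≠ A χ ∧ B φ ≠ B χ := by
      by_cases c1 : A φ = A χ
      · have c2 : A φ ≠ B χ := fun h => h3 (c1 ▸ h)
        have c3 : B φ ≠ A χ := fun h => k3 (c1.trans h.symm)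
        rw [if_pos c1, if_neg c2, if_neg c3] at h0
        split_ifs at h0 <;> norm_num at h0
      · by_cases c4 : B φ = B χ
        · have c2 : A φ ≠ B χ := fun h => k3 (h.trans c4.symm)
          have c3 : B φ ≠ A χ := fun h => h3 (h.symm.trans c4)
          rw [if_neg c1, if_neg c2, if_neg c3, if_pos c4] at h0
          norm_num at h0
        · rw [if_neg c1, if_neg c4] at h0
          refine ⟨c1, ?_, ?_, c4⟩
          · intro c2
            rw [if_pos c2] at h0
            split_ifs at h0 <;> norm_num at h0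
          · intro c3
            rw [if_pos c3] at h0
            split_ifs at h0 <;> norm_num at h0
    obtain ⟨c1, c2, c3, c4⟩ := hall
    intro α hα β hβ
    simp only [Finset.mem_insert, Finset.mem_singleton] at hα hβ
    rcases hα with rfl | rfl <;> rcases hβ with rfl | rfl
    · exact irr_inner_ne k1 h1 c1
    · rw [classInner_neg_right, irr_inner_ne k1 h2 c2, neg_zero]
    · rw [classInner_neg_left, irr_inner_ne k2 h1 c3, neg_zero]
    · rw [classInner_neg_left, classInner_neg_right, irr_inner_ne k2 h2 c4]; simp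

end Cfsg.Agent.S1514
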