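import Cfsg.Statements.S1522
import Cfsg.Agent.S1521
import Cfsg.Agent.Lib.Helper80.CoreDvd

set_option autoImplicit false
open Cfsg

namespace Cfsg.Agent.S1522

open Cfsg.Agent.Lib.Helper26 Cfsg.Agent.Lib.Helper15
open scoped commutatorElement

/-- the arithmetic of the degrees -/
theorem arith_key {ι : Type*} (X : Finset ι) (d : ι → ℕ) (p e kz k : ℕ) (hp : p.Prime)
    (hp3 : 3 ≤ p) (he : 0 < e) (hcop : Nat.Coprime e p)
    (hdeg : ∀ φ ∈ X, ∃ a, d φ = e * p ^ a ∧ p ^ (2 * a) ∣ kz) (hkz : kz ∣ k)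
    (hsum : ∑ φ ∈ X, (d φ) ^ 2 + e * kz = e * k) (χ ξ : ι) (hχ : χ ∈ X) (hξ : ξ ∈ X)
    (hlt : d ξ < d χ) :
    d ξ ∣ d χ ∧ 2 * d χ * d ξ < ∑ φ ∈ X.filter (fun φ => d φ < d χ), (d φ) ^ 2 := by
  obtain ⟨a, ha, hakz⟩ := hdeg χ hχ
  obtain ⟨b, hb, _⟩ := hdeg ξ hξ
  have hba : b < a := by
    rw [ha, hb] at hlt
    have := Nat.lt_of_mul_lt_mul_left hlt
    exact (Nat.pow_lt_pow_iff_right hp.one_lt).1 this
  have hdvd : d ξ ∣ d χ := by
    rw [ha, hb]
    exact Nat.mul_dvd_mul_left e (pow_dvd_pow p hba.le)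
  refine ⟨hdvd, ?_⟩
  set sl := ∑ φ ∈ X.filter (fun φ => d φ < d χ), (d φ) ^ 2 with hsl
  set sg := ∑ φ ∈ X.filter (fun φ => ¬ d φ < d χ), (d φ) ^ 2 with hsg
  have hsplit : sl + sg = ∑ φ ∈ X, (d φ) ^ 2 := Finset.sum_filter_add_sum_filter_not _ _ _
  have h1 : p ^ (2 * a) ∣ ∑ φ ∈ X, (d φ) ^ 2 := by
    have h2 : p ^ (2 * a) ∣ e * kz := Dvd.dvd.mul_left hakz e
    have h3 : p ^ (2 * a) ∣ e * k := Dvd.dvd.mul_left (hakz.trans hkz) e
    rw [← hsum] at h3
    exact (Nat.dvd_add_left h2).1 h3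
  have h2 : p ^ (2 * a) ∣ sg := by
    apply Finset.dvd_sum
    intro φ hφ
    rw [Finset.mem_filter] at hφ
    obtain ⟨c, hc, _⟩ := hdeg φ hφ.1
    have hac : a ≤ c := by
      have h3 := hφ.2
      rw [ha, hc, not_lt] at h3
      have := Nat.le_of_mul_le_mul_left h3 he
      exact (Nat.pow_le_pow_iff_right hp.one_lt).1 this
    rw [hc, mul_pow, ← pow_mul, mul_comm c 2]
    exact Dvd.dvd.mul_left (pow_dvd_pow p (by omega)) _
  have h3 : p ^ (2 * a) ∣ sl := by
    rw [← hsplit] at h1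
    exact (Nat.dvd_add_left h2).1 h1
  have h4 : e ^ 2 ∣ sl := by
    apply Finset.dvd_sum
    intro φ hφ
    rw [Finset.mem_filter] at hφ
    obtain ⟨c, hc, _⟩ := hdeg φ hφ.1
    rw [hc, mul_pow]
    exact Dvd.intro _ rfl
  have h5 : e ^ 2 * p ^ (2 * a) ∣ sl :=
    Nat.Coprime.mul_dvd_of_dvd_of_dvd (Nat.Coprime.pow _ _ hcop) h4 h3
  have hξpos : 0 < d ξ := by
    rw [hb]; exact Nat.mul_pos he (pow_pos hp.pos b)
  have h6 : 0 < sl := by
    have : (d ξ) ^ 2 ≤ sl :=
      Finset.single_le_sum (f := fun φ => (d φ) ^ 2) (fun _ _ => Nat.zero_le _)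
        (Finset.mem_filter.2 ⟨hξ, hlt⟩)
    have h7 : 0 < (d ξ) ^ 2 := pow_pos hξpos 2
    omega
  have h7 : (d χ) ^ 2 ≤ sl := by
    have := Nat.le_of_dvd h6 h5
    rw [ha, mul_pow, ← pow_mul, mul_comm a 2]
    exact this
  have h8 : 3 * d ξ ≤ d χ := by
    rw [ha, hb]
    have : p ^ (b + 1) ≤ p ^ a := Nat.pow_le_pow_right hp.pos hba
    rw [pow_succ] at this
    calc 3 * (e * p ^ b) = e * (p ^ b * 3) := by ring
      _ ≤ e * (p ^ b * p) := Nat.mul_le_mul_left e (Nat.mul_le_mul_left _ hp3)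
      _ ≤ e * p ^ a := Nat.mul_le_mul_left e this
  have hχpos : 0 < d χ := by omega
  nlinarith

variable {L : Type*} [Group L] [Fintype L] {G : Type*} [Group G] [Fintype G]

/-- coherence of a set of irreducible characters by increasing degrees -/
theorem lower_coherent {S : Set (L → ℂ)} {τ : (L → ℂ) → (G → ℂ)} {R : (L → ℂ) → Finset (G → ℂ)}
    (hS : IsCoherenceSystem S τ R) (d : (L → ℂ) → ℕ) (hd : ∀ φ ∈ S, φ 1 = (d φ : ℂ))
    [DecidableEq (L → ℂ)] (X : Finset (L → ℂ)) (hXS : ↑X ⊆ S)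
    (hnorm : ∀ φ ∈ X, classInner φ φ = 1)
    (hkey : ∀ χ ∈ X, ∀ ξ ∈ X, d ξ < d χ →
      d ξ ∣ d χ ∧ 2 * d χ * d ξ < ∑ φ ∈ X.filter (fun φ => d φ < d χ), (d φ) ^ 2) :
    ∀ (m : ℕ) (Y : Finset (L → ℂ)), Y.card ≤ m → Y ⊆ X → Y.Nonempty →
      (∀ φ ∈ Y, conjFun φ ∈ Y) → (∀ ξ ∈ Y, ∀ ξ' ∈ X, ξ' ∉ Y → d ξ ≤ d ξ') →
      IsCoherent (↑Y : Set (L → ℂ)) {1}ᶜ τ := by
  have hnx : ∀ χ : L → ℂ, ∃ m : ℕ, χ ∈ S → classInner χ χ = (m : ℂ) := by
    intro χ
    by_cases h : χ ∈ S
    · obtain ⟨m, _, hm⟩ := sys_norm hS h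
      exact ⟨m, fun _ => hm⟩
    · exact ⟨0, fun h' => absurd h' h⟩
  choose n hn using hnx
  have hn1 : ∀ φ ∈ X, n φ = 1 := by
    intro φ hφ
    have := hn φ (hXS hφ)
    rw [hnorm φ hφ] at this
    exact_mod_cast this.symm
  have hdconj : ∀ φ ∈ S, d (conjFun φ) = d φ := by
    intro φ hφ
    have h1 := hd _ (hS.conj_mem φ hφ)
    rw [sys_conj_one hS hφ, hd φ hφ] at h1
    exact_mod_cast h1.symm
  intro m
  induction m with
  | zero =>
    intro Y hc _ hne
    rw [Nat.le_zero, Finset.card_eq_zero] at hc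
    rw [hc] at hne
    exact absurd hne Finset.not_nonempty_empty
  | succ m ih =>
    intro Y hc hYX hne hYc hlow
    have hYS : (↑Y : Set (L → ℂ)) ⊆ S := fun φ hφ => hXS (hYX hφ)
    obtain ⟨χ, hχY, hχmax⟩ := Finset.exists_max_image Y d hne
    obtain ⟨ξ, hξY, hξmin⟩ := Finset.exists_min_image Y d hne
    by_cases hconst : d χ ≤ d ξ
    · -- constant degree
      have hsys := Cfsg.Agent.S1521.sub_system hS hYS ⟨χ, hχY⟩ (fun φ hφ => hYc φ hφ)
      apply Cfsg.Agent.S1517.result _ τ R hsys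
      intro φ hφ ψ hψ
      rw [hd φ (hYS hφ), hd ψ (hYS hψ)]
      have h1 := hχmax φ hφ
      have h2 := hξmin φ hφ
      have h3 := hχmax ψ hψ
      have h4 := hξmin ψ hψ
      have : d φ = d ψ := by omega
      rw [this]
    · push Not at hconst
      have hχS := hYS hχY
      set Y' := (Y.erase χ).erase (conjFun χ) with hY'
      have hmemY' : ∀ φ, φ ∈ Y' ↔ φ ≠ conjFun χ ∧ φ ≠ χ ∧ φ ∈ Y := by
        intro φ
        rw [hY', Finset.mem_erase, Finset.mem_erase]
      have hξY' : ξ ∈ Y' := by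
        rw [hmemY']
        refine ⟨?_, ?_, hξY⟩
        · rintro rfl
          rw [hdconj χ hχS] at hconst
          exact lt_irrefl _ hconst
        · rintro rfl
          exact lt_irrefl _ hconst
      have hY'Y : Y' ⊆ Y := fun φ hφ => ((hmemY' φ).1 hφ).2.2
      have hcard : Y'.card ≤ m := by
        have h1 : Y'.card ≤ (Y.erase χ).card := Finset.card_erase_le
        have h2 : (Y.erase χ).card = Y.card - 1 := Finset.card_erase_of_mem hχY
        have h3 : 0 < Y.card := Finset.card_pos.2 hne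
        omega
      have hY'c : ∀ φ ∈ Y', conjFun φ ∈ Y' := by
        intro φ hφ
        rw [hmemY'] at hφ ⊢
        refine ⟨?_, ?_, hYc φ hφ.2.2⟩
        · intro h
          apply hφ.2.1
          have := congrArg conjFun h
          rwa [Cfsg.Agent.S1517.conj_conj, Cfsg.Agent.S1517.conj_conj] at this
        · intro h
          apply hφ.1
          rw [← h, Cfsg.Agent.S1517.conj_conj]
      have hcohY' := ih Y' hcard (hY'Y.trans hYX) ⟨ξ, hξY'⟩ hY'c (by
        intro φ hφ ξ' hξ'X hξ'Y'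
        by_cases hξ'Y : ξ' ∈ Y
        · have : ξ' = conjFun χ ∨ ξ' = χ := by
            by_contra hcon
            push Not at hcon
            exact hξ'Y' ((hmemY' ξ').2 ⟨hcon.1, hcon.2, hξ'Y⟩)
          rcases this with rfl | rfl
          · rw [hdconj χ hχS]; exact hχmax φ (hY'Y hφ)
          · exact hχmax φ (hY'Y hφ)
        · exact hlow φ (hY'Y hφ) ξ' hξ'X hξ'Y)
      obtain ⟨hdv, hlt⟩ := hkey χ (hYX hχY) ξ (hYX hξY) hconst
      have hsub : X.filter (fun φ => d φ < d χ) ⊆ Y' := by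
        intro φ hφ
        rw [Finset.mem_filter] at hφ
        rw [hmemY']
        refine ⟨?_, ?_, ?_⟩
        · rintro rfl
          rw [hdconj χ hχS] at hφ
          exact lt_irrefl _ hφ.2
        · rintro rfl
          exact lt_irrefl _ hφ.2
        · by_contra hφY
          have := hlow χ hχY φ hφ.1 hφY
          omega
      have hstep := Cfsg.Agent.S1516.result S τ R hS d n hd hn Y'
        (fun φ hφ => hYS (hY'Y hφ)) hY'c hcohY' χ hχS
        (fun h => ((hmemY' χ).1 h).2.1 rfl) (fun h => ((hmemY' _).1 h).1 rfl) ξ hξY' hdv (by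
          have h1 : ∑ φ ∈ Y', ((d φ : ℝ) ^ 2 / (n φ : ℝ)) = ((∑ φ ∈ Y', (d φ) ^ 2 : ℕ) : ℝ) := by
            push_cast
            apply Finset.sum_congr rfl
            intro φ hφ
            rw [hn1 φ (hYX (hY'Y hφ))]
            simp
          rw [h1]
          have h2 : ∑ φ ∈ X.filter (fun φ => d φ < d χ), (d φ) ^ 2 ≤ ∑ φ ∈ Y', (d φ) ^ 2 :=
            Finset.sum_le_sum_of_subset hsub
          have h3 : 2 * d χ * d ξ < ∑ φ ∈ Y', (d φ) ^ 2 := lt_of_lt_of_le hlt h2
          exact_mod_cast h3)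
      have hset : (↑Y' ∪ {χ, conjFun χ} : Set (L → ℂ)) = ↑Y := by
        ext φ
        simp only [Set.mem_union, Finset.mem_coe, Set.mem_insert_iff, Set.mem_singleton_iff, hmemY']
        constructor
        · rintro (h | rfl | rfl)
          · exact h.2.2
          · exact hχY
          · exact hYc _ hχY
        · intro h
          by_cases h1 : φ = χ
          · exact Or.inr (Or.inl h1)
          · by_cases h2 : φ = conjFun χ
            · exact Or.inr (Or.inr h2)
            · exact Or.inl ⟨h2, h1, h⟩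
      rw [hset] at hstep
      exact hstep

/-- Let K be a nilpotent normal subgroup of the finite group L of odd order with [K,K] < K < L and L/[K,K] a Frobenius group with kernel K/[K,K] (elements of K outside [K,K] are centralised modulo [K,K] only from inside K); let (S, τ, R) be a coherence system from L to G with S the functions induced from non-principal irreducible characters of K. Let Z be a nontrivial normal subgroup of L contained in the centre of K, and suppose every member of S outside S(Z) is an irreducible character of L. Then S minus S(Z) is the set of irreducible characters χ of L with χ z ≠ χ 1 for some z ∈ Z, and it is coherent. -/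
theorem result {L : Type*} [Group L] [Fintype L] {G : Type*} [Group G] [Fintype G] (K : Subgroup L) [hK : K.Normal] (hsolv : Group.IsSolvable K) (τ : (L → ℂ) → (G → ℂ)) (R : (L → ℂ) → Finset (G → ℂ)) (hS : Cfsg.IsCoherenceSystem (Cfsg.inducedIrrAbove K ⊥) τ R) (hodd : Odd (Nat.card L)) (hnil : Group.IsNilpotent K) (hH₁K : ⁅K, K⁆ < K) (hKL : K < ⊤) (hfrob : ∀ k ∈ K, k ∉ ⁅K, K⁆ → ∀ x : L, x * k * x⁻¹ * k⁻¹ ∈ ⁅K, K⁆ → x ∈ K) (Z : Subgroup L) [Z.Normal] (hZ1 : Z ≠ ⊥) (hZK : Z ≤ K) (hZc : ∀ z ∈ Z, ∀ k ∈ K, z * k = k * z) (hirr : ∀ χ ∈ Cfsg.inducedIrrAbove K ⊥ \ Cfsg.inducedIrrAbove K Z, Cfsg.IsIrrCharacter L χ) : Cfsg.inducedIrrAbove K ⊥ \ Cfsg.inducedIrrAbove K Z = {χ | Cfsg.IsIrrCharacter L χ ∧ ∃ z ∈ Z, χ z ≠ χ 1} ∧ Cfsg.IsCoherent (Cfsg.inducedIrrAbove K ⊥ \ Cfsg.inducedIrrAbove K Z) {1}ᶜ τ := by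
  classical
  set S := inducedIrrAbove K ⊥ with hSdef
  set X := inducedIrrAbove K ⊥ \ inducedIrrAbove K Z with hX
  have hXS : X ⊆ S := Set.sdiff_subset
  have hXc : ∀ χ ∈ X, conjFun χ ∈ X := by
    intro χ hχ
    refine ⟨IndIrr.conj_mem K hχ.1, fun h => hχ.2 ?_⟩
    have := IndIrr.conj_mem K h
    rwa [Cfsg.Agent.S1517.conj_conj] at this
  have hXmem : ∀ χ ∈ X, ∃ θ : K → ℂ, IsIrrCharacter K θ ∧ χ = indFun K θ ∧
      ¬ (∀ a : K, (a : L) ∈ Z → θ a = θ 1) := by
    rintro χ ⟨⟨θ, h1, h2, _, rfl⟩, hnot⟩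
    exact ⟨θ, h1, rfl, fun h => hnot ⟨θ, h1, h2, h, rfl⟩⟩
  have hXof : ∀ θ : K → ℂ, IsIrrCharacter K θ → ¬ (∀ a : K, (a : L) ∈ Z → θ a = θ 1) →
      indFun K θ ∈ X := by
    intro θ hθ hnk
    refine ⟨⟨θ, hθ, ?_, ?_, rfl⟩, ?_⟩
    · rintro rfl
      exact hnk (fun _ _ => rfl)
    · intro a ha
      have : a = 1 := Subtype.ext (Subgroup.mem_bot.1 ha)
      rw [this]
    · rintro ⟨θ', h1', _, h3', heq⟩
      apply hnk
      have e1 := (Cfsg.Agent.S1487.result Z K hZK θ' h1').1 h3'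
      rw [← heq] at e1
      exact (Cfsg.Agent.S1487.result Z K hZK θ hθ).2 e1
  have hXne : X.Nonempty := by
    obtain ⟨z, hz, hz1⟩ : ∃ z ∈ Z, z ≠ 1 := by
      by_contra hcon
      push Not at hcon
      exact hZ1 ((Subgroup.eq_bot_iff_forall Z).2 hcon)
    obtain ⟨θ, _, hθ⟩ := Cfsg.Agent.Lib.Helper80.exists_irr_ker_ne (⊥ : Subgroup K)
      (g := ⟨z, hZK hz⟩) (by
        rw [Subgroup.mem_bot]
        intro h
        exact hz1 (congrArg Subtype.val h))
    exact ⟨_, hXof θ θ.2 (fun h => hθ (h _ hz))⟩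
  refine ⟨?_, ?_⟩
  · ext χ
    constructor
    · intro hχ
      refine ⟨hirr χ hχ, ?_⟩
      obtain ⟨θ, hθ, rfl, hnk⟩ := hXmem χ hχ
      by_contra hcon
      push Not at hcon
      exact hnk ((Cfsg.Agent.S1487.result Z K hZK θ hθ).2 hcon)
    · rintro ⟨hχ, z, hz, hne⟩
      have := Fintype.ofFinite K
      have hres : IsCharacter K (fun k : K => χ k) := char_restrict (irr_char hχ) K
      have hres0 : (fun k : K => χ k) ≠ 0 := fun h => irr_one_ne_zero hχ (congrFun h 1)
      obtain ⟨θ, hθ, hcon⟩ := exists_constituent hres hres0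
      have hcon2 : classInner (indFun K θ) χ ≠ 0 := by
        rw [classInner_indFun_left K θ χ (irr_cf hχ), ← classInner_conj_symm]
        exact (map_ne_zero _).2 hcon
      have hmem : indFun K θ ∈ X := by
        apply hXof θ hθ
        intro hk
        apply hne
        exact Cfsg.Agent.Lib.Helper3.IsCharacter.apply_eq_of_constituent
          (char_indFun K (irr_char hθ)) hχ hcon2
          ((Cfsg.Agent.S1487.result Z K hZK θ hθ).1 hk z hz)
      have := irr_eq_of_inner_ne_zero (hirr _ hmem) hχ hcon2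
      rw [← this]; exact hmem
  · by_cases hpp : ∃ p m : ℕ, p.Prime ∧ (⊥ : Subgroup L).relIndex K = p ^ m
    swap
    · have hcoh := Cfsg.Agent.S1521.result K hsolv τ R hS hodd ⊥ bot_le inferInstance ⁅K, K⁆
        (sup_bot_eq _).symm hH₁K hKL hfrob (Or.inr (Or.inr (Or.inl hpp)))
      exact coherent_subset hcoh hXS (exists_ne_zero hS hXS hXc hXne)
    · obtain ⟨p, m, hp, hpm⟩ := hpp
      rw [Subgroup.relIndex_bot_left] at hpm
      set e := K.index with he
      have he0 : 0 < e := Nat.pos_of_ne_zero Subgroup.index_ne_zero_of_finite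
      -- p is odd and prime to e
      have hr := FrobSection.dvd_relIndex_sub_one K ⁅K, K⁆ K le_rfl le_rfl hfrob
      have hr1 : ⁅K, K⁆.relIndex K ≠ 1 :=
        fun h => absurd (Subgroup.relIndex_eq_one.1 h) (not_le_of_gt hH₁K)
      have hpr : p ∣ ⁅K, K⁆.relIndex K := by
        have h1 : ⁅K, K⁆.relIndex K ∣ p ^ m := by rw [← hpm]; exact Subgroup.relIndex_dvd_card _ K
        obtain ⟨j, _, hj⟩ := (Nat.dvd_prime_pow hp).1 h1
        rw [hj]
        apply dvd_pow_self
        rintro rfl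
        exact hr1 (by rw [hj, pow_zero])
      have hcop : Nat.Coprime e p := by
        apply Nat.Coprime.symm
        rw [Nat.Prime.coprime_iff_not_dvd hp]
        intro hpe
        have h1 : p ∣ ⁅K, K⁆.relIndex K - 1 := hpe.trans hr
        have h2 : 0 < ⁅K, K⁆.relIndex K :=
          Nat.pos_of_ne_zero (Subgroup.index_ne_zero_of_finite (H := ⁅K, K⁆.subgroupOf K))
        have h3 : p ∣ 1 := by
          have := (Nat.dvd_sub hpr h1)
          rwa [Nat.sub_sub_self h2] at this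
        exact hp.one_lt.ne' (Nat.dvd_one.1 h3)
      have hp3 : 3 ≤ p := by
        have hpodd : Odd p := Odd.of_dvd_nat hodd
          (hpr.trans ((Subgroup.relIndex_dvd_card _ K).trans (Subgroup.card_subgroup_dvd_card K)))
        have h2 := hp.two_le
        rcases hpodd with ⟨c, hc⟩
        omega
      -- degrees and norms
      let d : (L → ℂ) → ℕ := fun χ => charDegree χ
      have hd : ∀ φ ∈ S, φ 1 = (d φ : ℂ) := fun φ hφ =>
        Cfsg.Agent.Lib.Helper80.char_one_eq_charDegree (hS.isCharacter φ hφ)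
      have hnx : ∀ χ : L → ℂ, ∃ m : ℕ, χ ∈ S → classInner χ χ = (m : ℂ) := by
        intro χ
        by_cases h : χ ∈ S
        · obtain ⟨m, _, hm⟩ := sys_norm hS h
          exact ⟨m, fun _ => hm⟩
        · exact ⟨0, fun h' => absurd h' h⟩
      choose n hn using hnx
      set Xf := (IndIrr.finite K ⊥).toFinset.filter (fun χ => χ ∉ inducedIrrAbove K Z) with hXf
      have hXfcoe : (↑Xf : Set (L → ℂ)) = X := by
        ext χ
        rw [hXf, Finset.coe_filter]
        simp only [Set.Finite.mem_toFinset, Set.mem_ofPred_eq]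
        rfl
      have hXfmem : ∀ χ, χ ∈ Xf ↔ χ ∈ X := fun χ => by rw [← hXfcoe]; rfl
      have hnorm : ∀ φ ∈ Xf, classInner φ φ = 1 := fun φ hφ =>
        irr_inner_self (hirr φ ((hXfmem φ).1 hφ))
      set kz := Z.relIndex K with hkzdef
      have hkzcard : kz * Nat.card Z = Nat.card K := by
        have := Subgroup.relIndex_mul_relIndex ⊥ Z K bot_le hZK
        rw [Subgroup.relIndex_bot_left, Subgroup.relIndex_bot_left] at this
        rw [mul_comm]; exact this
      have hkz : kz ∣ Nat.card K := Dvd.intro _ hkzcard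
      have hdeg : ∀ φ ∈ Xf, ∃ a, d φ = e * p ^ a ∧ p ^ (2 * a) ∣ kz := by
        intro φ hφ
        have hφX := (hXfmem φ).1 hφ
        obtain ⟨θ, hθ, rfl, _⟩ := hXmem φ hφX
        have h1 : charDegree θ ∣ p ^ m := by
          rw [← hpm]; exact Cfsg.Agent.Lib.Helper80.charDegree_dvd_card ⟨θ, hθ⟩
        obtain ⟨a, _, ha⟩ := (Nat.dvd_prime_pow hp).1 h1
        have hθ1 : θ 1 = ((p ^ a : ℕ) : ℂ) := by
          rw [Cfsg.Agent.Lib.Helper80.char_one_eq_charDegree (irr_char hθ), ha]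
        refine ⟨a, ?_, ?_⟩
        · have h2 := hd _ (hXS hφX)
          rw [indFun_one, hθ1] at h2
          exact_mod_cast h2.symm
        · have := Fintype.ofFinite K
          have hb := Cfsg.Agent.S1492.central_bound θ hθ ⊥ (Z.subgroupOf K)
            (by
              intro z hz c
              rw [Subgroup.mem_bot]
              apply Subtype.ext
              have := hZc z hz c c.2
              simp only [Subgroup.coe_mul, Subgroup.coe_inv, Subgroup.coe_one]
              rw [this]; group)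
            (by
              intro b hb
              rw [Subgroup.mem_bot.1 hb])
          have hZcard : Nat.card (Z.subgroupOf K) = Nat.card Z :=
            Nat.card_congr (Subgroup.subgroupOfEquivOfLe hZK).toEquiv
          rw [hZcard, hθ1, Complex.norm_natCast] at hb
          have hb' : (p ^ a) ^ 2 * Nat.card Z ≤ Nat.card K := by exact_mod_cast hb
          rw [← hkzcard] at hb'
          have hb2 : (p ^ a) ^ 2 ≤ kz := Nat.le_of_mul_le_mul_right hb' Nat.card_pos
          obtain ⟨t, _, ht⟩ := (Nat.dvd_prime_pow hp).1 (by rw [← hpm]; exact hkz : kz ∣ p ^ m)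
          rw [ht, ← pow_mul, mul_comm a 2] at hb2
          rw [ht]
          exact pow_dvd_pow p ((Nat.pow_le_pow_iff_right hp.one_lt).1 hb2)
      have hsum : ∑ φ ∈ Xf, (d φ) ^ 2 + e * kz = e * Nat.card K := by
        have s1 := IndIrr.sum_sq K ⊥ bot_le d n hd hn
        have s2 := IndIrr.sum_sq K Z hZK d n (fun χ hχ => hd χ (IndIrr.sub_bot K Z hχ))
          (fun χ hχ => hn χ (IndIrr.sub_bot K Z hχ))
        rw [Subgroup.relIndex_bot_left] at s1
        rw [← Finset.sum_filter_add_sum_filter_not _ (fun χ => χ ∈ inducedIrrAbove K Z)] at s1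
        have hf : (IndIrr.finite K ⊥).toFinset.filter (fun χ => χ ∈ inducedIrrAbove K Z) =
            (IndIrr.finite K Z).toFinset := by
          ext χ
          simp only [Finset.mem_filter, Set.Finite.mem_toFinset]
          exact ⟨fun h => h.2, fun h => ⟨IndIrr.sub_bot K Z h, h⟩⟩
        rw [hf, s2] at s1
        have h3 : ∑ φ ∈ Xf, ((d φ : ℝ) ^ 2 / (n φ : ℝ)) = ((∑ φ ∈ Xf, (d φ) ^ 2 : ℕ) : ℝ) := by
          push_cast
          apply Finset.sum_congr rfl
          intro φ hφ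
          have : n φ = 1 := by
            have := hn φ (hXS ((hXfmem φ).1 hφ))
            rw [hnorm φ hφ] at this
            exact_mod_cast this.symm
          rw [this]; simp
        rw [h3] at s1
        have h4 : ((∑ φ ∈ Xf, (d φ) ^ 2 + e * kz : ℕ) : ℝ) = ((e * Nat.card K : ℕ) : ℝ) := by
          push_cast
          push_cast at s1
          linarith
        exact_mod_cast h4
      have hkey : ∀ χ ∈ Xf, ∀ ξ ∈ Xf, d ξ < d χ →
          d ξ ∣ d χ ∧ 2 * d χ * d ξ < ∑ φ ∈ Xf.filter (fun φ => d φ < d χ), (d φ) ^ 2 :=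
        fun χ hχ ξ hξ hlt =>
          arith_key Xf d p e kz (Nat.card K) hp hp3 he0 hcop hdeg hkz hsum χ ξ hχ hξ hlt
      have hfin := lower_coherent hS d hd Xf (by rw [hXfcoe]; exact hXS) hnorm hkey _ Xf le_rfl
        (Finset.Subset.refl _)
        (by
          obtain ⟨χ, hχ⟩ := hXne
          exact ⟨χ, (hXfmem χ).2 hχ⟩)
        (fun φ hφ => (hXfmem _).2 (hXc φ ((hXfmem φ).1 hφ)))
        (fun _ _ ξ' h1 h2 => absurd h1 h2)
      rw [hXfcoe] at hfin
      exact hfin

end Cfsg.Agent.S1522
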