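import Cfsg.Statements.S1523
import Cfsg.Agent.Lib.Helper26.FrobSection
import Cfsg.Agent.Lib.Helper15.CharTools
import Cfsg.Agent.Lib.Helper81.Schur
import Cfsg.Agent.Lib.Helper74.CharBasic
import Cfsg.Agent.Lib.Helper3.Eigen

set_option autoImplicit false
open Cfsg

namespace Cfsg.Agent.S1523

open Cfsg.Agent.Lib Cfsg.Agent.Lib.Helper26 Cfsg.Agent.Lib.Helper15

/-- the two-sided action of `A × B` on `G` -/
@[reducible] def act {G : Type*} [Group G] (A B : Subgroup G) : MulAction (A × B) G where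
  smul γ g := (γ.1 : G) * g * ((γ.2 : G))⁻¹
  one_smul g := by
    show (((1 : A × B).1 : A) : G) * g * ((((1 : A × B).2 : B) : G))⁻¹ = g
    simp
  mul_smul γ δ g := by
    show (((γ * δ).1 : A) : G) * g * ((((γ * δ).2 : B) : G))⁻¹
      = (γ.1 : G) * ((δ.1 : G) * g * ((δ.2 : G))⁻¹) * ((γ.2 : G))⁻¹
    simp [mul_assoc]

theorem card_dvd_of_free {G : Type*} [Group G] [Finite G] (A B : Subgroup G) (X : Set G)
    (hX : ∀ a ∈ A, ∀ b ∈ B, ∀ g ∈ X, a * g * b⁻¹ ∈ X)
    (hfree : ∀ a ∈ A, ∀ b ∈ B, ∀ g ∈ X, a * g * b⁻¹ = g → a = 1 ∧ b = 1) :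
    Nat.card A * Nat.card B ∣ X.ncard := by
  let _ := act A B
  refine FrobSection.dvd_ncard_of_orbits (G := A × B) _ X.ncard X (Set.toFinite X) le_rfl ?_ ?_
  · rintro ⟨a, b⟩ x hx
    exact hX a a.2 b b.2 x hx
  · intro x hx
    have hst : MulAction.stabilizer (A × B) x = ⊥ := by
      rw [eq_bot_iff]
      rintro ⟨a, b⟩ h
      have h' : (a : G) * x * (b : G)⁻¹ = x := h
      obtain ⟨h1, h2⟩ := hfree a a.2 b b.2 x hx h'
      rw [Subgroup.mem_bot]
      ext
      · simpa using h1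
      · simpa using h2
    rw [← MulAction.index_stabilizer, hst, Subgroup.index_bot, Nat.card_prod]

theorem sum_free {G : Type*} [Group G] [Finite G] (A B : Subgroup G) (X : Finset G)
    (F : G → ℂ)
    (hX : ∀ a ∈ A, ∀ b ∈ B, ∀ g ∈ X, a * g * b⁻¹ ∈ X)
    (hF : ∀ a ∈ A, ∀ b ∈ B, ∀ g ∈ X, F (a * g * b⁻¹) = F g)
    (hfree : ∀ a ∈ A, ∀ b ∈ B, ∀ g ∈ X, a * g * b⁻¹ = g → a = 1 ∧ b = 1)
    (hint : ∀ g ∈ X, IsIntegral ℤ (F g)) :
    ∃ α : ℂ, IsIntegral ℤ α ∧ ∑ g ∈ X, F g = ((Nat.card A * Nat.card B : ℕ) : ℂ) * α := by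
  classical
  have h1 := Finset.sum_comp (s := X) (fun y : ℂ => y) F
  have h2 : ∀ b ∈ X.image F, ∃ k : ℕ,
      (X.filter (fun a => F a = b)).card = Nat.card A * Nat.card B * k := by
    intro b _
    have := card_dvd_of_free A B (↑(X.filter (fun a => F a = b)) : Set G) ?_ ?_
    · rw [Set.ncard_coe_finset] at this
      exact this
    · intro a ha c hc g hg
      simp only [Finset.coe_filter, Set.mem_ofPred_eq] at hg ⊢
      exact ⟨hX a ha c hc g hg.1, by rw [hF a ha c hc g hg.1, hg.2]⟩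
    · intro a ha c hc g hg
      simp only [Finset.coe_filter, Set.mem_ofPred_eq] at hg
      exact hfree a ha c hc g hg.1
  choose! k hk using h2
  refine ⟨∑ b ∈ X.image F, (k b : ℂ) * b, ?_, ?_⟩
  · refine IsIntegral.sum _ fun b hb => ?_
    obtain ⟨g, hg, rfl⟩ := Finset.mem_image.1 hb
    exact (isIntegral_natCast (R := ℤ) (B := ℂ) (a := k (F g))).mul (hint g hg)
  · rw [h1, Finset.mul_sum]
    refine Finset.sum_congr rfl fun b hb => ?_
    rw [hk b hb]
    simp only [nsmul_eq_mul]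
    push_cast
    ring

theorem int_of_isIntegral {c : ℂ} (hc : IsIntegral ℤ c) (a b : ℤ) (hb : b ≠ 0)
    (h : (b : ℂ) * c = a) : ∃ n : ℤ, c = n := by
  have hb' : (b : ℂ) ≠ 0 := by exact_mod_cast hb
  have h0 : c = algebraMap ℚ ℂ ((a : ℚ) / (b : ℚ)) := by
    simp only [map_div₀, map_intCast]
    rw [eq_div_iff hb', ← h]
    ring
  rw [h0] at hc
  have h1 : IsIntegral ℤ ((a : ℚ) / (b : ℚ)) :=
    (isIntegral_algebraMap_iff (algebraMap ℚ ℂ).injective).mp hc
  obtain ⟨y, hy⟩ := IsIntegrallyClosed.isIntegral_iff.mp h1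
  refine ⟨y, ?_⟩
  rw [h0, ← hy]
  simp

/-- an element of odd order does not invert a nontrivial element of odd order -/
theorem not_invert {G : Type*} [Group G] (g z : G) (k : ℕ) (hg : g ^ (2 * k + 1) = 1)
    (hz : z ^ (2 * k + 1) = 1) (h : g * z * g⁻¹ = z⁻¹) : z = 1 := by
  have h' : g * z⁻¹ * g⁻¹ = z := by
    have : g * z⁻¹ * g⁻¹ = (g * z * g⁻¹)⁻¹ := by group
    rw [this, h, inv_inv]
  have key : ∀ n : ℕ, g ^ (2 * n + 1) * z * (g ^ (2 * n + 1))⁻¹ = z⁻¹ := by
    intro n
    induction n with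
    | zero => simpa using h
    | succ n ih =>
      have e : g ^ (2 * (n + 1) + 1) * z * (g ^ (2 * (n + 1) + 1))⁻¹
          = g * (g * (g ^ (2 * n + 1) * z * (g ^ (2 * n + 1))⁻¹) * g⁻¹) * g⁻¹ := by
        have : g ^ (2 * (n + 1) + 1) = g * (g * g ^ (2 * n + 1)) := by
          rw [← pow_succ', ← pow_succ']
          congr 1
        rw [this]
        group
      rw [e, ih, h', h]
  have h1 := key k
  rw [hg] at h1
  have h2 : z * z = 1 := by
    have : z = z⁻¹ := by simpa using h1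
    calc z * z = z * z⁻¹ := by rw [← this]
      _ = 1 := mul_inv_cancel z
  have h3 : z ^ (2 * k + 1) = z := by
    rw [pow_succ, pow_mul, pow_two, h2, one_pow, one_mul]
  rw [← h3, hz]

/-- Let G be a finite group, p a prime, P a Sylow p-subgroup whose underlying set is a TI-subset of G, with L the set normaliser of P of odd order. Let Z ≠ ⊥ be a subgroup of P, normal in L and central in P, such that the centralisers in L of any two non-identity elements of Z have the same order. If ψ is an irreducible character of G taking the same value at all non-identity elements of Z, then for z ∈ Z, z ≠ 1, the value ψ z is an integer n with Nat.card P dividing ψ(1) − n (as integers, ψ 1 being the degree). -/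
theorem result {G : Type*} [Group G] [Finite G] (p : ℕ) [Fact p.Prime] (P : Sylow p G) (hTI : Cfsg.IsTISubset ((P : Subgroup G) : Set G)) (hodd : Odd (Nat.card (Subgroup.normalizer ((P : Subgroup G) : Set G)))) (Z : Subgroup G) (hZ1 : Z ≠ ⊥) (hZP : Z ≤ P) (hZn : ∀ x ∈ Subgroup.normalizer ((P : Subgroup G) : Set G), ∀ z ∈ Z, x * z * x⁻¹ ∈ Z) (hZc : ∀ z ∈ Z, ∀ y ∈ (P : Subgroup G), z * y = y * z) (hCL : ∀ z ∈ Z, ∀ z' ∈ Z, z ≠ 1 → z' ≠ 1 → Nat.card ↥(Subgroup.normalizer ((P : Subgroup G) : Set G) ⊓ Subgroup.centralizer ({z} : Set G)) = Nat.card ↥(Subgroup.normalizer ((P : Subgroup G) : Set G) ⊓ Subgroup.centralizer ({z'} : Set G))) (ψ : G → ℂ) (hψ : Cfsg.IsIrrCharacter G ψ) (hconst : ∀ z ∈ Z, ∀ z' ∈ Z, z ≠ 1 → z' ≠ 1 → ψ z = ψ z') (z : G) (hz : z ∈ Z) (hz1 : z ≠ 1) : ∃ n d : ℤ, ψ z = n ∧ ψ 1 = d ∧ (Nat.card (P : Subgroup G) : ℤ) ∣ d - n := by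
  classical
  have : Fintype G := Fintype.ofFinite G
  set L := Subgroup.normalizer ((P : Subgroup G) : Set G) with hL
  set C := Subgroup.centralizer ({z} : Set G) with hC
  have hPL : (P : Subgroup G) ≤ L := Subgroup.le_normalizer
  have hcf : IsClassFunction G ψ := irr_cf hψ
  obtain ⟨d, hd⟩ := char_one_nat (irr_char hψ)
  have hint : ∀ g, IsIntegral ℤ (ψ g) := by
    obtain ⟨n, ρ, hirr, rfl⟩ := hψ
    exact fun g => Helper3.isIntegral_char ρ g
  have hzP : z ∈ (P : Subgroup G) := hZP hz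
  -- Step A: `ψ z` is an integer
  have hA : ∃ n : ℤ, ψ z = n := by
    obtain ⟨m, hm⟩ := inner_nat
      (char_restrict (irr_char hψ) Z)
      (irr_char (Helper74.isIrrCharacter_one (G := Z)))
    have hsum : ∑ x : Z, ψ x = ψ 1 + ((Nat.card Z : ℂ) - 1) * ψ z := by
      rw [← Finset.add_sum_erase Finset.univ _ (Finset.mem_univ (1 : Z))]
      congr 1
      rw [Finset.sum_congr rfl (g := fun _ => ψ z)]
      · rw [Finset.sum_const, Finset.card_erase_of_mem (Finset.mem_univ _), Finset.card_univ,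
          nsmul_eq_mul, Nat.cast_sub Fintype.card_pos, Nat.card_eq_fintype_card]
        simp
      · intro x hx
        refine hconst x x.2 z hz ?_ hz1
        intro h
        exact (Finset.mem_erase.1 hx).1 (Subtype.ext h)
    have hZ0 : (Nat.card Z : ℂ) ≠ 0 := by
      exact_mod_cast Nat.card_pos.ne'
    have hZ2 : 1 < Nat.card Z := by
      rw [Subgroup.one_lt_card_iff_ne_bot]
      exact hZ1
    unfold classInner at hm
    simp only [map_one, mul_one] at hm
    rw [hsum, hd] at hm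
    refine int_of_isIntegral (hint z) ((m : ℤ) * (Nat.card Z : ℤ) - d) ((Nat.card Z : ℤ) - 1)
      (by omega) ?_
    push_cast
    have : (d : ℂ) + ((Nat.card Z : ℂ) - 1) * ψ z = (Nat.card Z : ℂ) * m := by
      rw [← hm]
      field_simp
    linear_combination this
  obtain ⟨n, hn⟩ := hA
  refine ⟨n, d, hn, by rw [hd]; simp, ?_⟩
  -- Step B
  have hT : ∀ w, ∑ y : G, ψ (w * (y * z * y⁻¹)) = (Fintype.card G : ℂ) * ψ w * ψ z / ψ 1 :=
    fun w => Helper81.IsIrrCharacter.sum_mul_conj hψ w z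
  have hzinv : ψ z⁻¹ = ψ z := hconst z⁻¹ (Z.inv_mem hz) z hz (inv_ne_one.2 hz1) hz1
  set F : G → ℂ := fun y => ψ (z * (y * z * y⁻¹)) - ψ (z⁻¹ * (y * z * y⁻¹)) with hF
  have hsum0 : ∑ y : G, F y = 0 := by
    rw [hF, Finset.sum_sub_distrib, hT, hT, hzinv, sub_self]
  have hCL' : C ≤ L := by
    intro y hy
    by_contra hyL
    apply hz1
    refine hTI y hyL z hzP ?_
    rw [hC, Subgroup.mem_centralizer_singleton_iff] at hy
    rw [hy, mul_inv_cancel_right]
    exact hzP
  obtain ⟨k, hk⟩ := hodd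
  have hpowL : ∀ x ∈ L, x ^ (2 * k + 1) = 1 := by
    intro x hx
    have := pow_card_eq_one' (x := (⟨x, hx⟩ : L))
    rw [hk] at this
    simpa using congrArg Subtype.val this
  have hFL : ∀ y ∈ L, F y = if y ∈ C then (n : ℂ) - d else 0 := by
    intro y hy
    have hyz : y * z * y⁻¹ ∈ Z := hZn y hy z hz
    have h1 : ψ (z * (y * z * y⁻¹)) = n := by
      rw [← hn]
      refine hconst _ (Z.mul_mem hz hyz) z hz ?_ hz1
      intro h
      apply hz1
      refine not_invert y z k (hpowL y hy) (hpowL z (hPL hzP)) ?_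
      exact (eq_inv_of_mul_eq_one_right h)
    rw [hF]
    simp only
    rw [h1]
    split_ifs with hyC
    · rw [hC, Subgroup.mem_centralizer_singleton_iff] at hyC
      rw [hyC, mul_inv_cancel_right, inv_mul_cancel, hd]
    · have h2 : ψ (z⁻¹ * (y * z * y⁻¹)) = n := by
        rw [← hn]
        refine hconst _ (Z.mul_mem (Z.inv_mem hz) hyz) z hz ?_ hz1
        intro h
        apply hyC
        rw [hC, Subgroup.mem_centralizer_singleton_iff]
        have : y * z * y⁻¹ = z := by
          have := eq_inv_of_mul_eq_one_right h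
          simpa using this
        calc y * z = y * z * y⁻¹ * y := by group
          _ = z * y := by rw [this]
      rw [h2, sub_self]
  have hsumL : ∑ y ∈ Finset.univ.filter (fun y => y ∈ L), F y = (Nat.card C : ℂ) * ((n : ℂ) - d) := by
    rw [Finset.sum_congr rfl (fun y hy => hFL y (Finset.mem_filter.1 hy).2), Finset.sum_ite,
      Finset.sum_const_zero, add_zero, Finset.sum_const, Finset.filter_filter, nsmul_eq_mul]
    congr 2
    rw [Nat.card_eq_fintype_card, Fintype.card_subtype]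
    congr 1
    ext y
    simp only [Finset.mem_filter, Finset.mem_univ, true_and]
    exact ⟨fun h => h.2, fun h => ⟨hCL' h, h⟩⟩
  -- Step C
  obtain ⟨α, hα, hsumN⟩ := sum_free (P : Subgroup G) C (Finset.univ.filter (fun y => ¬ y ∈ L)) F
    (by
      intro a ha b hb g hg
      simp only [Finset.mem_filter, Finset.mem_univ, true_and] at hg ⊢
      intro h
      apply hg
      have : g = a⁻¹ * (a * g * b⁻¹) * b := by group
      rw [this]
      exact L.mul_mem (L.mul_mem (L.inv_mem (hPL ha)) h) (hCL' hb))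
    (by
      intro a ha b hb g _
      rw [hC, Subgroup.mem_centralizer_singleton_iff] at hb
      have hb' : b⁻¹ * z * b = z := by
        rw [mul_assoc, ← hb, inv_mul_cancel_left]
      have e0 : a * g * b⁻¹ * z * (a * g * b⁻¹)⁻¹ = a * (g * z * g⁻¹) * a⁻¹ := by
        have : a * g * b⁻¹ * z * (a * g * b⁻¹)⁻¹ = a * (g * (b⁻¹ * z * b) * g⁻¹) * a⁻¹ := by group
        rw [this, hb']
      have hza : z * a = a * z := hZc z hz a ha
      have hza' : z⁻¹ * a = a * z⁻¹ := hZc z⁻¹ (Z.inv_mem hz) a ha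
      have e1 : z * (a * (g * z * g⁻¹) * a⁻¹) = a * (z * (g * z * g⁻¹)) * a⁻¹ := by
        rw [← mul_assoc, ← mul_assoc, hza]
        group
      have e2 : z⁻¹ * (a * (g * z * g⁻¹) * a⁻¹) = a * (z⁻¹ * (g * z * g⁻¹)) * a⁻¹ := by
        rw [← mul_assoc, ← mul_assoc, hza']
        group
      rw [hF]
      simp only
      rw [e0, e1, e2, hcf, hcf])
    (by
      intro a ha b hb g hg hfix
      simp only [Finset.mem_filter, Finset.mem_univ, true_and] at hg
      have hb1 : b = g⁻¹ * a * g := by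
        have : a * g = g * b := by
          calc a * g = a * g * b⁻¹ * b := by group
            _ = g * b := by rw [hfix]
        rw [mul_assoc, this, inv_mul_cancel_left]
      have hpg : IsPGroup p ((P : Subgroup G).map (MulAut.conj g⁻¹).toMonoidHom) := P.2.map _
      have hbm : b ∈ (P : Subgroup G).map (MulAut.conj g⁻¹).toMonoidHom :=
        ⟨a, ha, by simp [hb1]⟩
      have hbP : b ∈ (P : Subgroup G) := by
        have h1 := IsPGroup.inf_normalizer_sylow hpg P
        have h2 : b ∈ (P : Subgroup G).map (MulAut.conj g⁻¹).toMonoidHom ⊓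
            Subgroup.normalizer (P : Set G) := ⟨hbm, hCL' hb⟩
        rw [h1] at h2
        exact h2.2
      have hb0 : b = 1 := by
        refine hTI g hg b hbP ?_
        rw [hb1]
        have : g * (g⁻¹ * a * g) * g⁻¹ = a := by group
        rw [this]
        exact ha
      refine ⟨?_, hb0⟩
      rw [hb0] at hfix
      simpa using hfix)
    (by
      intro g _
      exact (hint _).sub (hint _))
  have hsplit := Finset.sum_filter_add_sum_filter_not Finset.univ (fun y => y ∈ L) F
  rw [hsumL, hsumN, hsum0] at hsplit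
  have hC0 : (Nat.card C : ℂ) ≠ 0 := by
    exact_mod_cast Nat.card_pos.ne'
  have hfin : ((Nat.card (P : Subgroup G) : ℤ) : ℂ) * α = ((d : ℤ) - n : ℤ) := by
    push_cast at hsplit ⊢
    have : (Nat.card C : ℂ) * ((n : ℂ) - d + (Nat.card (P : Subgroup G) : ℂ) * α) = 0 := by
      linear_combination hsplit
    have h2 := (mul_eq_zero.1 this).resolve_left hC0
    linear_combination h2
  obtain ⟨j, hj⟩ := int_of_isIntegral hα _ _ (by exact_mod_cast Nat.card_pos.ne') hfin
  refine ⟨j, ?_⟩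
  rw [hj] at hfin
  exact_mod_cast hfin.symm

end Cfsg.Agent.S1523
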