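import Cfsg.Statements.S1528
import Cfsg.Agent.Lib.Helper26.ConjFix
import Cfsg.Agent.Lib.Helper15.Clifford2
set_option autoImplicit false
open Cfsg

namespace Cfsg.Agent.S1528

open Cfsg.Agent.Lib.Helper26 Cfsg.Agent.Lib.Helper15

/-- In the Frobenius situation the inertia group of a non-principal irreducible character of `N`
is `N`, hence the induced character is irreducible. -/
theorem irr_indFun {G : Type*} [Group G] [Fintype G] (N : Subgroup G) [hN : N.Normal]
    (hC : ∀ n ∈ N, n ≠ 1 → Subgroup.centralizer ({n} : Set G) ≤ N) {φ : N → ℂ}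
    (hφ : IsIrrCharacter N φ) (hne : φ ≠ fun _ => 1) : IsIrrCharacter G (indFun N φ) := by
  classical
  have hinert : ∀ g : G, cj N g φ = φ ↔ g ∈ N := by
    intro g
    constructor
    · intro hfix
      obtain ⟨n, hn, m, hm⟩ := (exists_fixed_irr_iff N g).1 ⟨φ, hφ, hne, hfix⟩
      have hn' : (n : G) ≠ 1 := fun h => hn (Subtype.ext h)
      have h1 : (m : G)⁻¹ * g ∈ Subgroup.centralizer ({(n : G)} : Set G) := by
        rw [Subgroup.mem_centralizer_singleton_iff]
        calc (m : G)⁻¹ * g * n = (m : G)⁻¹ * (g * n * g⁻¹) * g := by group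
          _ = (m : G)⁻¹ * ((m : G) * n * (m : G)⁻¹) * g := by rw [hm]
          _ = _ := by group
      have h2 := hC n n.2 hn' h1
      have h3 := N.mul_mem m.2 h2
      simpa using h3
    · intro hg
      exact cj_of_mem N hg (irr_cf hφ)
  rw [isIrr_iff]
  refine ⟨char_indFun N (irr_char hφ), ?_⟩
  rw [norm_indFun_normal N hφ]
  have : Nat.card {g : G // cj N g φ = φ} = Nat.card N := by
    apply Nat.card_congr
    exact Equiv.subtypeEquivRight hinert
  rw [this]
  have : (Nat.card N : ℂ) ≠ 0 := card_ne_zero N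
  field_simp

theorem result {G : Type*} [Group G] [Fintype G] (N : Subgroup G) [N.Normal] (hC : ∀ n ∈ N, n ≠ 1 → Subgroup.centralizer ({n} : Set G) ≤ N) (χ : G → ℂ) (hχ : Cfsg.IsIrrCharacter G χ) (hker : ∃ n ∈ N, χ n ≠ χ 1) : ∃ φ : N → ℂ, Cfsg.IsIrrCharacter N φ ∧ χ = Cfsg.indFun N φ := by
  classical
  have := Fintype.ofFinite N
  have htriv : IsIrrCharacter N (fun _ => (1 : ℂ)) := Cfsg.Agent.Lib.Helper74.isIrrCharacter_one
  have hres : IsCharacter N (fun n : N => χ n) := char_restrict (irr_char hχ) N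
  -- a non-principal constituent
  have hex : ∃ φ : N → ℂ, IsIrrCharacter N φ ∧ φ ≠ (fun _ => 1) ∧
      classInner (fun n : N => χ n) φ ≠ 0 := by
    by_contra hcon
    push Not at hcon
    have h1 := cf_eq_sum_finset (char_cf hres) {fun _ => (1 : ℂ)}
      (fun φ hφ => by rw [Finset.mem_singleton.1 hφ]; exact htriv)
      (fun φ hφ hnot => hcon φ hφ (fun h => hnot (Finset.mem_singleton.2 h)))
    rw [Finset.sum_singleton] at h1
    obtain ⟨n, hn, hne⟩ := hker
    apply hne
    have e1 := congrFun h1 ⟨n, hn⟩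
    have e2 := congrFun h1 1
    simp only [Pi.smul_apply, smul_eq_mul, mul_one] at e1 e2
    have e2' : χ 1 = _ := e2
    rw [e2', ← e1]
  obtain ⟨φ, hφ, hne, hinner⟩ := hex
  refine ⟨φ, hφ, ?_⟩
  apply irr_eq_of_inner_ne_zero hχ (irr_indFun N hC hφ hne)
  rw [classInner_indFun_right N φ χ (irr_cf hχ)]
  exact hinner

end Cfsg.Agent.S1528
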