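import Cfsg.Statements.S1524
import Cfsg.Agent.Lib.Helper26.Sibley3
import Cfsg.Agent.Lib.Helper26.Sibley4
import Cfsg.Agent.Lib.Helper26.FrobKer
import Cfsg.Agent.Lib.Helper81.Frobenius
import Cfsg.Agent.Lib.Helper81.FSChar
import Cfsg.Agent.S1514
import Cfsg.Agent.S1522
import Cfsg.Agent.S1523
import Cfsg.Agent.S1528

set_option autoImplicit false
open Cfsg

namespace Cfsg.Agent.S1524

open Cfsg.Agent.Lib Cfsg.Agent.Lib.Helper26 Cfsg.Agent.Lib.Helper15
open scoped commutatorElement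

/-- induction from the normaliser of a TI-subgroup is an isometry -/
theorem ti_iso {G : Type*} [Group G] [Fintype G] (H L : Subgroup G) [Fintype L]
    (hTI : IsTISubset (H : Set G)) (hN : Subgroup.normalizer (H : Set G) = L)
    (α β : L → ℂ) (hβ : IsClassFunction L β) (hα0 : ∀ x : L, (x : G) ∉ H → α x = 0)
    (hβ0 : ∀ x : L, (x : G) ∉ H → β x = 0) (hα1 : α 1 = 0) :
    classInner (indFun L α) (indFun L β) = classInner α β := by
  subst hN
  exact Helper3.indFun_isometry_on_ti (H : Set G) hTI α β hβ hα0 hβ0 hα1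

theorem ti_isometry {G : Type*} [Group G] [Fintype G] (H L : Subgroup G) [Fintype L]
    (hTI : IsTISubset (H : Set G)) (hN : Subgroup.normalizer (H : Set G) = L)
    [(H.subgroupOf L).Normal] :
    IsLinearIsometryOn (zspanOn (inducedIrrAbove (H.subgroupOf L) ⊥) {1}ᶜ)
      (fun α : L → ℂ => indFun L α) ∧
    ∀ α ∈ zspanOn (inducedIrrAbove (H.subgroupOf L) ⊥) {1}ᶜ, indFun L α 1 = 0 := by
  set K := H.subgroupOf L with hK
  have hgenS : ∀ χ ∈ inducedIrrAbove K ⊥, IsGeneralizedCharacter L χ :=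
    fun χ hχ => gen_of_char (IndIrr.isChar K hχ)
  have hgen : ∀ α ∈ zspan (inducedIrrAbove K ⊥), IsGeneralizedCharacter L α := zspan_gen hgenS
  have hvan : ∀ α ∈ zspan (inducedIrrAbove K ⊥), ∀ x : L, (x : G) ∉ H → α x = 0 := by
    intro α hα x hx
    induction hα using Submodule.span_induction with
    | mem y hy =>
      obtain ⟨θ, _, _, _, rfl⟩ := hy
      exact indFun_normal_not_mem K θ (fun h => hx (Subgroup.mem_subgroupOf.1 h))
    | zero => rfl
    | add y z _ _ hy hz => rw [Pi.add_apply, hy, hz, add_zero]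
    | smul n y _ hy => rw [Pi.smul_apply, hy, smul_zero]
  refine ⟨⟨?_, ?_, ?_, ?_⟩, ?_⟩
  · intro α _ β _
    exact indFun_add L α β
  · intro α _ n
    have e : n • α = (n : ℂ) • α := by
      funext x; simp
    show indFun L (n • α) = n • indFun L α
    rw [e, indFun_smul]
    funext x; simp
  · intro α hα β hβ
    obtain ⟨hα1, hα2⟩ := mem_zspanOn_one.1 hα
    obtain ⟨hβ1, _⟩ := mem_zspanOn_one.1 hβ
    exact ti_iso H L hTI hN α β (gen_classFunction (hgen β hβ1)) (hvan α hα1) (hvan β hβ1) hα2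
  · intro α hα
    obtain ⟨a, b, ha, hb, hab⟩ := hgen α hα.1
    refine ⟨indFun L a, indFun L b, char_indFun L ha, char_indFun L hb, ?_⟩
    show indFun L α = _
    rw [hab, indFun_sub]
  · intro α hα
    rw [indFun_one, (mem_zspanOn_one.1 hα).2, mul_zero]

/-- Peterfalvi (6.7) in the form needed for the gluing step -/
theorem h67_of {G : Type*} [Group G] [Fintype G] (H L : Subgroup G) [Fintype L]
    (hodd : Odd (Nat.card L)) (hHL : H ≤ L) (hTI : IsTISubset (H : Set G))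
    (hN : Subgroup.normalizer (H : Set G) = L) (p m : ℕ) (hp : p.Prime)
    (hcard : Nat.card H = p ^ m) (hpe : ¬ p ∣ (H.subgroupOf L).index)
    (hC : ∀ k ∈ H.subgroupOf L, k ≠ 1 → Subgroup.centralizer ({k} : Set L) ≤ H.subgroupOf L)
    (Z : Subgroup L) [hZn : Z.Normal] (hZ1 : Z ≠ ⊥) (hZK : Z ≤ H.subgroupOf L)
    (hZc : ∀ z ∈ Z, ∀ k ∈ H.subgroupOf L, z * k = k * z)
    (χ : G → ℂ) (hχ : IsIrrCharacter G χ)
    (hconst : ∀ z ∈ Z, ∀ z' ∈ Z, z ≠ 1 → z' ≠ 1 → χ z = χ z')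
    (z : L) (hz : z ∈ Z) (hz1 : z ≠ 1) :
    ∃ n d : ℤ, χ z = n ∧ χ 1 = d ∧ (Nat.card (H.subgroupOf L) : ℤ) ∣ d - n := by
  have := Fact.mk hp
  have hpH : IsPGroup p H := IsPGroup.of_card hcard
  have hnd : ¬ p ∣ H.index := by
    have h := Sylow.card_quotient_normalizer_modEq_card_quotient (G := G) (H := H) hcard
    intro hdvd
    apply hpe
    subst hN
    have h' : (H.subgroupOf (Subgroup.normalizer (H : Set G))).index ≡ H.index [MOD p] := h
    exact (Nat.modEq_zero_iff_dvd.1 (h'.trans (Nat.modEq_zero_iff_dvd.2 hdvd)))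
  set P := hpH.toSylow hnd with hPdef
  have hP : (P : Subgroup G) = H := IsPGroup.toSylow_coe hpH hnd
  have hNP : Subgroup.normalizer ((P : Subgroup G) : Set G) = L := by rw [hP, hN]
  have hcent : ∀ w ∈ Z.map L.subtype, w ≠ 1 →
      Subgroup.normalizer ((P : Subgroup G) : Set G) ⊓ Subgroup.centralizer ({w} : Set G) = H := by
    rintro _ ⟨w, hw, rfl⟩ hw1
    have hw1' : w ≠ 1 := fun h => hw1 (by rw [h]; rfl)
    rw [hNP]
    ext g
    rw [Subgroup.mem_inf, Subgroup.mem_centralizer_singleton_iff]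
    constructor
    · rintro ⟨hg, hgw⟩
      have h1 : (⟨g, hg⟩ : L) ∈ Subgroup.centralizer ({w} : Set L) := by
        rw [Subgroup.mem_centralizer_singleton_iff]
        exact Subtype.ext hgw
      exact Subgroup.mem_subgroupOf.1 (hC w (hZK hw) hw1' h1)
    · intro hg
      refine ⟨hHL hg, ?_⟩
      have := hZc w hw ⟨g, hHL hg⟩ (Subgroup.mem_subgroupOf.2 hg)
      exact (congrArg Subtype.val this).symm
  obtain ⟨n, d, h1, h2, h3⟩ := Cfsg.Agent.S1523.result p P (by rw [hP]; exact hTI)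
    (by rw [hNP]; exact hodd) (Z.map L.subtype)
    (by
      intro h
      exact hZ1 ((Subgroup.map_eq_bot_iff_of_injective _ L.subtype_injective).1 h))
    (by
      rintro _ ⟨w, hw, rfl⟩
      rw [hP]
      exact Subgroup.mem_subgroupOf.1 (hZK hw))
    (by
      rintro x hx _ ⟨w, hw, rfl⟩
      rw [hNP] at hx
      exact ⟨⟨x, hx⟩ * w * ⟨x, hx⟩⁻¹, hZn.conj_mem w hw _, rfl⟩)
    (by
      rintro _ ⟨w, hw, rfl⟩ y hy
      rw [hP] at hy
      have := hZc w hw ⟨y, hHL hy⟩ (Subgroup.mem_subgroupOf.2 hy)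
      exact congrArg Subtype.val this)
    (by
      intro w hw w' hw' h1 h1'
      rw [hcent w hw h1, hcent w' hw' h1'])
    χ hχ
    (by
      rintro _ ⟨w, hw, rfl⟩ _ ⟨w', hw', rfl⟩ h1 h1'
      exact hconst w hw w' hw' (fun h => h1 (by rw [h]; rfl)) (fun h => h1' (by rw [h]; rfl)))
    (z : G) ⟨z, hz, rfl⟩ (fun h => hz1 (Subtype.ext h))
  refine ⟨n, d, h1, h2, ?_⟩
  rw [hP] at h3
  rw [Nat.card_congr (Subgroup.subgroupOfEquivOfLe hHL).toEquiv]
  exact h3

/-- Let G be a finite group and H ≤ L subgroups with L of odd order, H ≠ ⊥ nilpotent and normal in L with a nontrivial complement W₁ in L (H ⊓ W₁ = ⊥, H ⊔ W₁ = L) acting on H without non-identity fixed points (L is a Frobenius group with kernel H), and suppose the underlying set of H is a TI-subset of G whose normaliser is L. Let S be the set of functions on L induced from the non-principal irreducible characters of H. Then (S, L minus 1, induction to G) is coherent. -/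
theorem result {G : Type*} [Group G] [Fintype G] (H L W₁ : Subgroup G) [Fintype L] (hodd : Odd (Nat.card L)) (hHL : H ≤ L) (hW₁L : W₁ ≤ L) (hH1 : H ≠ ⊥) (hW1 : W₁ ≠ ⊥) (hnil : Group.IsNilpotent H) (hHn : ∀ x ∈ L, ∀ h ∈ H, x * h * x⁻¹ ∈ H) (hinf : H ⊓ W₁ = ⊥) (hsup : H ⊔ W₁ = L) (hfpf : ∀ w ∈ W₁, w ≠ 1 → ∀ h ∈ H, w * h = h * w → h = 1) (hTI : Cfsg.IsTISubset (H : Set G)) (hN : Subgroup.normalizer (H : Set G) = L) : Cfsg.IsCoherent (Cfsg.inducedIrrAbove (H.subgroupOf L) ⊥) {1}ᶜ (fun α : L → ℂ => Cfsg.indFun L α) := by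
  classical
  set K := H.subgroupOf L with hKdef
  set τ : (L → ℂ) → (G → ℂ) := fun α : L → ℂ => indFun L α with hτdef
  have hKn : K.Normal := ⟨fun n hn g => by
    rw [hKdef, Subgroup.mem_subgroupOf] at hn ⊢
    exact hHn g g.2 n hn⟩
  have hsup' : K ⊔ W₁.subgroupOf L = ⊤ := by
    rw [hKdef, ← Subgroup.subgroupOf_sup hHL hW₁L, hsup, Subgroup.subgroupOf_self]
  have hfpf' : ∀ h ∈ W₁.subgroupOf L, h ≠ 1 → ∀ k ∈ K, h * k = k * h → k = 1 := by
    intro h hh h1 k hk hc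
    have := hfpf h (Subgroup.mem_subgroupOf.1 hh) (fun e => h1 (Subtype.ext e)) k
      (Subgroup.mem_subgroupOf.1 hk) (congrArg Subtype.val hc)
    exact Subtype.ext this
  have hC : ∀ k ∈ K, k ≠ 1 → Subgroup.centralizer ({k} : Set L) ≤ K := by
    intro k hk hk1 g hg
    rw [Subgroup.mem_centralizer_singleton_iff] at hg
    exact Helper81.frob_centralizer_le K (W₁.subgroupOf L) hsup' hfpf' hk hk1 hg
  have hnilK : Group.IsNilpotent K :=
    @Group.nilpotent_of_mulEquiv _ _ _ _ hnil (Subgroup.subgroupOfEquivOfLe hHL).symm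
  have hsolv : Group.IsSolvable K := IsNilpotent.to_isSolvable
  have hKbot : K ≠ ⊥ := by
    intro h
    apply hH1
    rw [eq_bot_iff]
    intro x hx
    have hm : (⟨x, hHL hx⟩ : L) ∈ K := Subgroup.mem_subgroupOf.2 hx
    rw [h, Subgroup.mem_bot] at hm
    exact Subgroup.mem_bot.2 (congrArg Subtype.val hm)
  have hKtop : K < ⊤ := by
    rw [lt_top_iff_ne_top]
    intro h
    apply hW1
    rw [hKdef, Subgroup.subgroupOf_eq_top] at h
    rw [eq_bot_iff, ← hinf]
    exact le_inf (hW₁L.trans h) le_rfl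
  have hK'K : ⁅K, K⁆ < K := FrobKer.comm_lt K hnilK hKbot
  have hirr : ∀ χ ∈ inducedIrrAbove K ⊥, IsIrrCharacter L χ := by
    rintro χ ⟨θ, h1, h2, _, rfl⟩
    exact Cfsg.Agent.S1528.irr_indFun K hC h1 h2
  obtain ⟨x₀, hx₀⟩ : ∃ x : L, x ∉ K := by
    by_contra hcon
    push Not at hcon
    exact hKtop.ne ((Subgroup.eq_top_iff' K).2 hcon)
  have hconj : ∀ χ ∈ inducedIrrAbove K ⊥,
      conjFun χ ∈ inducedIrrAbove K ⊥ ∧ conjFun χ ≠ χ := by
    intro χ hχ
    refine ⟨IndIrr.conj_mem K hχ, fun hreal => ?_⟩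
    have h1 := Helper81.IsIrrCharacter.eq_one_of_real_of_odd hodd (hirr χ hχ) (fun g => by
      have := congrFun hreal g
      exact Complex.conj_eq_iff_im.1 this)
    obtain ⟨θ, _, _, _, rfl⟩ := hχ
    have h2 := indFun_normal_not_mem K θ hx₀
    rw [h1] at h2
    exact one_ne_zero h2
  obtain ⟨hiso, hone⟩ := ti_isometry H L hTI hN
  obtain ⟨φ₀, hφ₀, _⟩ := IndIrr.exists_linear K hsolv ⊥ (bot_lt_iff_ne_bot.2 hKbot)
  obtain ⟨R, hS⟩ := Cfsg.Agent.S1514.result (inducedIrrAbove K ⊥) ⟨φ₀, hφ₀⟩ hirr hconj τ hiso hone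
  have hfrob := FrobKer.frob_quot K ⁅K, K⁆ hK'K.le hC
  have h21 := Cfsg.Agent.S1521.result K hsolv τ R hS hodd ⊥ bot_le inferInstance ⁅K, K⁆
    (sup_bot_eq _).symm hK'K hKtop hfrob
  by_cases hpp : ∃ p m : ℕ, p.Prime ∧ (⊥ : Subgroup L).relIndex K = p ^ m
  swap
  · exact h21 (Or.inr (Or.inr (Or.inl hpp)))
  by_cases hab : ⁅K, K⁆ ≤ ⊥
  · exact h21 (Or.inr (Or.inr (Or.inr (Or.inl hab))))
  obtain ⟨p, m, hp, hpm⟩ := hpp
  rw [Subgroup.relIndex_bot_left] at hpm
  obtain ⟨Z, hZn, hZ1, hZK', hZc⟩ := FrobKer.exists_central K hnilK (fun h => hab h.le)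
  have hZK : Z ≤ K := hZK'.trans hK'K.le
  obtain ⟨hS2eq, hS2coh⟩ := Cfsg.Agent.S1522.result K hsolv τ R hS hodd hnilK hK'K hKtop hfrob Z
    hZ1 hZK hZc (fun χ hχ => hirr χ hχ.1)
  have hedvd := FrobKer.index_dvd_card_sub_one K Z hZK hZc hC
  have hZcard1 : 1 < Nat.card Z := (Subgroup.one_lt_card_iff_ne_bot Z).2 hZ1
  have hpe : ¬ p ∣ K.index := by
    intro hd
    have h1 : p ∣ Nat.card Z - 1 := hd.trans hedvd
    have h2 : p ∣ Nat.card Z := by
      have h3 : Nat.card Z ∣ p ^ m := by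
        rw [← hpm]; exact Subgroup.card_dvd_of_le hZK
      obtain ⟨i, _, hi⟩ := (Nat.dvd_prime_pow hp).1 h3
      rw [hi]
      have : i ≠ 0 := by
        rintro rfl
        rw [hi] at hZcard1
        simp at hZcard1
      exact dvd_pow_self p this
    have h4 : p ∣ 1 := by
      have := Nat.dvd_sub h2 h1
      rwa [Nat.sub_sub_self hZcard1.le] at this
    exact hp.one_lt.ne' (Nat.dvd_one.1 h4)
  have hcardH : Nat.card H = p ^ m := by
    rw [← hpm]
    exact (Nat.card_congr (Subgroup.subgroupOfEquivOfLe hHL).toEquiv).symm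
  obtain ⟨hne2, τ2, hτ2, hag2⟩ := hS2coh
  have hctx : Sibley.Ctx K Z τ R τ2 :=
    { ind := fun α => rfl
      sys := hS
      irr := hirr
      Z1 := hZ1
      ZK := hZK'
      S2eq := hS2eq
      iso2 := hτ2
      ag2 := hag2
      h67 := fun χ hχ hconst z hz hz1 =>
        h67_of H L hodd hHL hTI hN p m hp hcardH hpe hC Z hZ1 hZK hZc χ hχ hconst z hz hz1 }
  have hS2ne : (inducedIrrAbove K ⊥ \ inducedIrrAbove K Z).Nonempty := by
    by_contra hemp
    rw [Set.not_nonempty_iff_eq_empty] at hemp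
    obtain ⟨α, hα, hα0⟩ := hne2
    apply hα0
    have := hα.1
    rw [hemp] at this
    simpa [zspan] using this
  have hglue := hctx.glue_main hsolv hK'K hS2ne
  have hoddL : ∀ n, n ∣ Nat.card L → Odd n := fun n hn => Odd.of_dvd_nat hodd hn
  have hZbig : 2 * K.index + 1 ≤ Nat.card Z :=
    FrobSection.two_mul_add_one_le (hoddL _ (Subgroup.index_dvd_card K))
      (hoddL _ (Subgroup.card_subgroup_dvd_card Z)) hZcard1 hedvd
  exact Sibley.full_coherent K hsolv τ R hS Z hZK' hK'K hZc hZbig hglue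

end Cfsg.Agent.S1524
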