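import Cfsg.Statements.S0339
import Cfsg.Agent.Lib.Helper6.Zas

set_option autoImplicit false
open Cfsg

namespace Cfsg.Agent.S0339

/-- A non-trivial normal subgroup of a Zassenhaus group is itself a Zassenhaus group on the same set. -/
theorem result {G Ω : Type*} [Group G] [MulAction G Ω] [Finite Ω]
    (hZ : Cfsg.IsZassenhausGroup G Ω) (N : Subgroup G) [N.Normal] (hN : N ≠ ⊥) :
    Cfsg.IsZassenhausGroup N Ω := by
  have hb := Cfsg.Agent.Lib.Helper6.Zas.base_of_zassenhaus hZ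
  obtain ⟨hstab, h2N⟩ := Cfsg.Agent.Lib.Helper6.Zas.normal_props hZ N hN
  obtain ⟨g₀, hg₀, a₀, b₀, hab₀, -, -⟩ := hZ.2.2.2.1
  refine ⟨⟨?_⟩, ?_, ?_, ?_, ?_⟩
  · intro x y h
    apply Subtype.ext
    have := hZ.1
    exact eq_of_smul_eq_smul (α := Ω) h
  · rw [MulAction.is_two_pretransitive_iff]
    intro a b c d hab hcd
    obtain ⟨x, hx, h1, h2⟩ := h2N hab hcd
    exact ⟨⟨x, hx⟩, h1, h2⟩
  · intro g a b c hab hbc hac h1 h2 h3
    exact Subtype.ext (hb.three g a b c hab hbc hac h1 h2 h3)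
  · obtain ⟨x, hx, hx1, h1, h2⟩ := hstab a₀ b₀ hab₀
    exact ⟨⟨x, hx⟩, fun h => hx1 (congrArg Subtype.val h), a₀, b₀, hab₀, h1, h2⟩
  · intro M₀ hM₀ hpre
    by_contra hcon
    push Not at hcon
    set M : Subgroup G := M₀.map N.subtype with hM
    have memM : ∀ x : G, x ∈ M ↔ ∃ hx : x ∈ N, (⟨x, hx⟩ : N) ∈ M₀ := by
      intro x
      constructor
      · rintro ⟨y, hy, rfl⟩
        exact ⟨y.2, hy⟩
      · rintro ⟨hx, h⟩
        exact ⟨⟨x, hx⟩, h, rfl⟩
    have hMN : M ≤ N := fun x hx => ((memM x).1 hx).1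
    have hMnorm : ∀ x ∈ N, ∀ m ∈ M, x * m * x⁻¹ ∈ M := by
      intro x hx m hm
      obtain ⟨hmN, hm₀⟩ := (memM m).1 hm
      exact (memM _).2 ⟨N.mul_mem (N.mul_mem hx hmN) (N.inv_mem hx), hM₀.conj_mem _ hm₀ ⟨x, hx⟩⟩
    have hMtr : ∀ a b : Ω, ∃ m ∈ M, m • a = b := by
      intro a b
      obtain ⟨m, hm⟩ := hpre.exists_smul_eq a b
      exact ⟨((m : N) : G), (memM _).2 ⟨(m : N).2, m.2⟩, hm⟩
    have hMs : ∀ m ∈ M, ∀ a : Ω, m • a = a → m = 1 := by
      intro m hm a hma
      obtain ⟨hmN, hm₀⟩ := (memM m).1 hm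
      have h1 : (⟨⟨m, hmN⟩, hm₀⟩ : M₀) ∈ MulAction.stabilizer M₀ a := hma
      rw [hcon a, Subgroup.mem_bot] at h1
      exact congrArg (fun z : M₀ => ((z : N) : G)) h1
    have hnormal : M.Normal := by
      refine ⟨fun m hm g => ?_⟩
      set M' : Subgroup G := M.map (MulAut.conj g).toMonoidHom with hM'
      have memM' : ∀ x : G, x ∈ M' ↔ g⁻¹ * x * g ∈ M := by
        intro x
        constructor
        · rintro ⟨y, hy, rfl⟩
          have : g⁻¹ * (g * y * g⁻¹) * g = y := by group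
          show g⁻¹ * (g * y * g⁻¹) * g ∈ M
          rw [this]
          exact hy
        · intro h
          exact ⟨g⁻¹ * x * g, h, by show g * (g⁻¹ * x * g) * g⁻¹ = x; group⟩
      have hle : M' ≤ M := by
        refine hb.regular_unique N M M' hstab h2N hMN ?_ hMnorm ?_ hMtr hMs ?_
        · intro x hx
          have h1 := hMN ((memM' x).1 hx)
          have h2 := ‹N.Normal›.conj_mem _ h1 g
          have h3 : g * (g⁻¹ * x * g) * g⁻¹ = x := by group
          rwa [h3] at h2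
        · intro x hx m' hm'
          rw [memM'] at hm' ⊢
          have h1 : g⁻¹ * x * g ∈ N := by
            have := ‹N.Normal›.conj_mem x hx g⁻¹
            simpa using this
          have h2 := hMnorm _ h1 _ hm'
          have h3 : g⁻¹ * x * g * (g⁻¹ * m' * g) * (g⁻¹ * x * g)⁻¹ = g⁻¹ * (x * m' * x⁻¹) * g := by
            group
          rwa [h3] at h2
        · intro m' hm' a hma
          rw [memM'] at hm'
          have h1 := hMs _ hm' (g⁻¹ • a) (by
            rw [mul_smul, mul_smul, smul_inv_smul, hma])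
          have h2 : m' = g * (g⁻¹ * m' * g) * g⁻¹ := by group
          rw [h2, h1]
          group
      apply hle
      rw [memM']
      have : g⁻¹ * (g * m * g⁻¹) * g = m := by group
      rw [this]
      exact hm
    exact Cfsg.Agent.Lib.Helper6.Zas.no_regular hZ M hnormal hMtr hMs

end Cfsg.Agent.S0339
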