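import Cfsg.Statements.S0884
import Cfsg.Agent.Lib.Helper6.Zas7

set_option autoImplicit false
open Cfsg

namespace Cfsg.Agent.S0884

/-- Let G be a finite simple Zassenhaus group on Ω with h + 1 points whose two-point stabilizer E has odd order e with 2e < h - 1, and let H be the subgroup of the stabilizer of a consisting of the identity and the elements fixing no point other than a (given here as a subgroup of the stabilizer of order one less than the number of points whose non-identity elements fix only a; it is the Frobenius kernel of the stabilizer). Then at least e conjugacy classes of G contain no element of H. -/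
theorem result {G Ω : Type*} [Group G] [Finite G] [MulAction G Ω] [Fintype Ω] (hZ : Cfsg.IsZassenhausGroup G Ω) {a b : Ω} (hab : a ≠ b) [IsSimpleGroup G] (h e : ℕ) (hh : Fintype.card Ω = h + 1) (he : Nat.card ↥(MulAction.stabilizer G a ⊓ MulAction.stabilizer G b : Subgroup G) = e) (hodd : Odd e) (hlt : 2 * e < h - 1) (H : Subgroup G) (hHa : H ≤ MulAction.stabilizer G a) (hHcard : Nat.card H + 1 = Fintype.card Ω) (hHfix : ∀ u ∈ H, u ≠ 1 → ∀ c : Ω, u • c = c → c = a) : e ≤ Nat.card {C : ConjClasses G // ∀ g : G, ConjClasses.mk g = C → g ∉ H} := by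
  have hb := Cfsg.Agent.Lib.Helper6.Zas.base_of_zassenhaus hZ
  have hodd' : Odd (Nat.card ↥(MulAction.stabilizer G a ⊓ MulAction.stabilizer G b : Subgroup G)) := by
    rw [he]; exact hodd
  have hsw' : ∀ c d : Ω, c ≠ d → ∀ s : G, s • c = d → s • d = c → s * s = 1 :=
    fun c d hcd s hsc hsd =>
      (Cfsg.Agent.Lib.Helper6.Zas.swap_inverts_of_simple hZ hab hodd' hcd s hsc hsd).1
  refine (hb.le_card_classes hab he hh hodd hlt hsw').trans ?_
  apply Nat.card_le_card_of_injective
    (fun C => (⟨C.1, fun g hg hgH => by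
      obtain ⟨hg1, hg2⟩ := C.2 g hg
      obtain ⟨d, hd, hgd⟩ := hg2 a (hHa hgH)
      exact hd (hHfix g hgH hg1 d hgd)⟩ :
      {C : ConjClasses G // ∀ g : G, ConjClasses.mk g = C → g ∉ H}))
  intro C C' hCC
  have h1 : C.1 = C'.1 := congrArg (fun D : {C : ConjClasses G // ∀ g : G, ConjClasses.mk g = C → g ∉ H} => D.1) hCC
  exact Subtype.ext h1

end Cfsg.Agent.S0884
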