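import Cfsg.Statements.S0031
import Mathlib
import Cfsg.Agent.Lib.Helper1.Tools

set_option autoImplicit false
open Cfsg

namespace Cfsg.Agent.S0031

open Pointwise in
theorem aux {G : Type*} [Group G] [Finite G] (φ : G ≃* G)
    (hφ : MonoidHom.FixedPointFree (φ : G →* G)) (p : ℕ) [Fact p.Prime] :
    ∃ P : Sylow p G, (P : Subgroup G).map (φ : G →* G) = P := by
  let P : Sylow p G := default
  obtain ⟨g, hg⟩ := MulAction.exists_smul_eq G P ((φ : MulAut G) • P)
  obtain ⟨h', hh'⟩ := hφ.commutatorMap_surjective g⁻¹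
  rw [MonoidHom.commutatorMap_apply] at hh'
  have hg' : g = φ h' * h'⁻¹ := by
    rw [← inv_inv g, ← hh']
    simp [div_eq_mul_inv]
  refine ⟨h'⁻¹ • P, ?_⟩
  have h1 : (P : Subgroup G).map (φ : G →* G) = MulAut.conj g • (P : Subgroup G) := by
    have := congrArg Sylow.toSubgroup hg
    rw [Sylow.coe_subgroup_smul] at this
    rw [this]
    rfl
  rw [Sylow.coe_subgroup_smul, Cfsg.Agent.Lib.Helper1.map_conj_smul, h1,
    ← Cfsg.Agent.Lib.Helper1.conj_mul_smul, hg']
  congr 2
  simp


/-- A fixed-point-free automorphism of a finite group maps some Sylow p-subgroup to itself. -/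
theorem result {G : Type*} [Group G] [Finite G] (φ : G ≃* G)
    (hφ : MonoidHom.FixedPointFree (φ : G →* G)) (p : ℕ) [Fact p.Prime] :
    ∃ P : Sylow p G, (P : Subgroup G).map (φ : G →* G) = P := by
  exact aux φ hφ p

end Cfsg.Agent.S0031
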