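import Cfsg.Statements.S2943
import Cfsg.Agent.Lib.Helper48.JC8

set_option autoImplicit false
open Cfsg

namespace Cfsg.Agent.S2943

open Cfsg.Agent.Lib.Helper48

/-- Let G be a finite group of characteristic 2 type in which every 2-local subgroup is solvable and the centralizer of Ω₁(Z(S)) lies in N_G(S) for every Sylow 2-subgroup S, and let T be a nontrivial 2-subgroup (below, J is the Thompson subgroup generated by the elementary abelian 2-subgroups of largest order), L a subgroup in which T is a Sylow 2-subgroup with J(T) not contained in O₂(L) and C_G(O₂(L)) ≤ O₂(L), and K a J(T)-component contained in L. If Z(T) meets W_K = [Ω₁(Z(O₂(K))), K] nontrivially, then T normalizes K. -/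
theorem result {G : Type*} [Group G] [Finite G] (hL : Cfsg.IsCharacteristicTwoType G) (hN : ∀ N : Subgroup G, Cfsg.IsTwoLocal N → Group.IsSolvable ↥N)
    (hZ : ∀ S : Sylow 2 G, Subgroup.centralizer (Cfsg.omegaCenterOf (S : Subgroup G) : Set G) ≤ Subgroup.normalizer ((S : Subgroup G) : Set G)) (T : Subgroup G) (hT : IsPGroup 2 ↥T) (hT1 : T ≠ ⊥) (L : Subgroup G) (hLT : L ∈ Cfsg.jOvergroups T)
    (K : Subgroup G) (hK : Cfsg.IsJComponent T K) (hKL : K ≤ L)
    (hZW : T ⊓ Subgroup.centralizer (T : Set G) ⊓ Cfsg.wOf K ≠ ⊥) : T ≤ Subgroup.normalizer (K : Set G) := by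
  have zn : ZN G := ⟨hL, hN, hZ⟩
  obtain ⟨⟨z, hz⟩, hz1'⟩ := Subgroup.ne_bot_iff_exists_ne_one.mp hZW
  have hz1 : z ≠ 1 := fun h => hz1' (Subtype.ext h)
  obtain ⟨hzT, hzW⟩ := Subgroup.mem_inf.mp hz
  have hzV : z ∈ VG L := by
    apply omegaOne_center_le_VG (isSylowIn_of_two hLT.1)
    apply Subgroup.subset_closure
    exact ⟨hzT, by rw [pow_two]; exact hK.2.2.2.2.2 z hzW⟩
  have hne : Cfsg.wOf K ⊓ VG L ≠ ⊥ := by
    intro h
    apply hz1
    have : z ∈ Cfsg.wOf K ⊓ VG L := Subgroup.mem_inf.mpr ⟨hzW, hzV⟩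
    rwa [h, Subgroup.mem_bot] at this
  intro t ht
  apply mem_normalizer_of_wOf zn hT1 hLT hK hKL hne (hLT.1.1 ht)
  intro h
  apply hz1
  have : z ∈ Cfsg.Agent.Lib.Helper22.conjS t (Cfsg.wOf K) ⊓ Cfsg.wOf K := by
    refine Subgroup.mem_inf.mpr ⟨⟨z, hzW, ?_⟩, hzW⟩
    have h2 := Subgroup.mem_centralizer_iff.mp (Subgroup.mem_inf.mp hzT).2 t ht
    rw [MulEquiv.coe_toMonoidHom, MulAut.conj_apply, h2, mul_inv_cancel_right]
  rwa [h, Subgroup.mem_bot] at this

end Cfsg.Agent.S2943
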