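import Cfsg.Statements.S2949
import Cfsg.Agent.Lib.Helper48.JC21

set_option autoImplicit false
open Cfsg

namespace Cfsg.Agent.S2949

open Cfsg.Agent.Lib.Helper48

/-- Let G be a finite group of characteristic 2 type in which every 2-local subgroup is solvable and the centralizer of Ω₁(Z(S)) lies in N_G(S) for every Sylow 2-subgroup S; suppose O₂(G) = 1, fix a Sylow 2-subgroup S and a 2-local subgroup M containing N_G(J(S)) (J the Thompson subgroup generated by the elementary abelian 2-subgroups of largest order). For every T maximal (for the order of a largest elementary abelian subgroup, then the order of J(T), then the order of T) among the nontrivial 2-subgroups of M lying in a 2-local subgroup not inside M, there is a J(T)-component K not contained in M with J(T) the Thompson subgroup of every Sylow 2-subgroup of N_G(W_K) containing J(T), and O₂(⟨K, T⟩) ≠ 1. -/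
theorem result {G : Type*} [Group G] [Finite G] (hL : Cfsg.IsCharacteristicTwoType G) (hN : ∀ N : Subgroup G, Cfsg.IsTwoLocal N → Group.IsSolvable ↥N)
    (hZ : ∀ S : Sylow 2 G, Subgroup.centralizer (Cfsg.omegaCenterOf (S : Subgroup G) : Set G) ≤ Subgroup.normalizer ((S : Subgroup G) : Set G)) (hO : Cfsg.pCore 2 G = ⊥) (S : Sylow 2 G) (M : Subgroup G) (hM : Cfsg.IsTwoLocal M)
    (hMJ : Subgroup.normalizer (Cfsg.thompsonSubgroupOf 2 (S : Subgroup G) : Set G) ≤ M) (T : Subgroup G) (hT : T ∈ Cfsg.maxStraddlingTwoSubgroups M) :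
    (Cfsg.jComponentsOutside M T).Nonempty := by
  have zn : ZN G := ⟨hL, hN, hZ⟩
  obtain ⟨hT2, hT1, hTM, L, hL2, hTL, hLM⟩ := hT.1
  have hs := isSylowIn_of_le S hMJ hT hL2 hLM hTL
  have hLT := mem_jOvergroups_of zn S hMJ hT hL2 hLM hs (thompsonSubgroupOf_le' 2 T)
  have hex : ∃ K, Cfsg.IsJComponent T K ∧ K ≤ L ∧ ¬ K ≤ M := by
    by_contra hcon
    push Not at hcon
    exact hLM (le_of_comps_le zn hT1 hLT M (inf_le_right.trans (normalizer_J_le S hMJ hT)) hcon)
  obtain ⟨K, hK, hKL, hKM⟩ := hex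
  refine ⟨K, ⟨hK, ?_⟩, hKM, ?_⟩
  · intro S' hJS' hS'
    have hs' := isSylowIn_of_two hS'
    exact (straddling_of_J_le S hMJ hT ⟨_, isPGroup_wOf hK, wOf_ne_bot hK, rfl⟩
      (fun h => hKM ((Subgroup.le_normalizer.trans (normalizer_le_normalizer_wOf K)).trans h))
      hs'.isPGroup hs'.le hJS').2.1
  · intro hbot
    apply pCoreOf_ne_bot_of_mem hT1 hLT
    rw [eq_bot_iff, ← hbot]
    exact Cfsg.Agent.Lib.Helper49.le_pCoreOf
      ((Cfsg.Agent.Lib.Helper47.pCoreOf_le_of_isSylowIn hs).trans le_sup_right)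
      ((sup_le hKL hTL).trans (Cfsg.Agent.Lib.Helper49.le_normalizer_pCoreOf 2 L))
      (Cfsg.Agent.Lib.Helper49.pCoreOf_isPGroup 2 L)

end Cfsg.Agent.S2949
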