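import Cfsg.Statements.S2950
import Cfsg.Agent.Lib.Helper48.JC22

set_option autoImplicit false
open Cfsg

namespace Cfsg.Agent.S2950

open Cfsg.Agent.Lib.Helper48

/-- Uniqueness of the maximal 2-local overgroup. Let G be a finite group of characteristic 2 type in which every 2-local subgroup is solvable and the centralizer of Ω₁(Z(S)) lies in N_G(S) for every Sylow 2-subgroup S; suppose O₂(G) = 1, fix a Sylow 2-subgroup S and a 2-local subgroup M containing N_G(J(S)) (J the Thompson subgroup generated by the elementary abelian 2-subgroups of largest order). Let T be maximal (for the order of a largest elementary abelian subgroup, then the order of J(T), then the order of T) among the nontrivial 2-subgroups of M lying in a 2-local subgroup not inside M, and let K be a J(T)-component not contained in M with J(T) the Thompson subgroup of every Sylow 2-subgroup of N_G(W_K) containing J(T), and O₂(⟨K, T⟩) ≠ 1. Then there is exactly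 one maximal 2-local subgroup L of G containing ⟨K, J(T)⟩; moreover K is subnormal in L and T is a Sylow 2-subgroup of L. -/
theorem result {G : Type*} [Group G] [Finite G] (hL : Cfsg.IsCharacteristicTwoType G) (hN : ∀ N : Subgroup G, Cfsg.IsTwoLocal N → Group.IsSolvable ↥N)
    (hZ : ∀ S : Sylow 2 G, Subgroup.centralizer (Cfsg.omegaCenterOf (S : Subgroup G) : Set G) ≤ Subgroup.normalizer ((S : Subgroup G) : Set G)) (hO : Cfsg.pCore 2 G = ⊥) (S : Sylow 2 G) (M : Subgroup G) (hM : Cfsg.IsTwoLocal M)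
    (hMJ : Subgroup.normalizer (Cfsg.thompsonSubgroupOf 2 (S : Subgroup G) : Set G) ≤ M) (T : Subgroup G) (hT : T ∈ Cfsg.maxStraddlingTwoSubgroups M)
    (K : Subgroup G) (hK : K ∈ Cfsg.jComponentsOutside M T) :
    ∃ L : Subgroup G, Cfsg.IsMaximalTwoLocal L ∧ K ⊔ Cfsg.thompsonSubgroupOf 2 T ≤ L ∧
      (∀ L' : Subgroup G, Cfsg.IsMaximalTwoLocal L' → K ⊔ Cfsg.thompsonSubgroupOf 2 T ≤ L' → L' = L) ∧
      (K.subgroupOf L).IsSubnormal ∧ Cfsg.IsSylowTwoIn T L := by
  have zn : ZN G := ⟨hL, hN, hZ⟩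
  have ms : MS M T := ms_of zn S hMJ hT
  obtain ⟨⟨hKc, -⟩, hKM, hO2⟩ := hK
  obtain ⟨L₀, hL₀, hNL₀⟩ := exists_maximalTwoLocal_ge
    (⟨_, isPGroup_wOf hKc, wOf_ne_bot hKc, rfl⟩ :
      Cfsg.IsTwoLocal (Subgroup.normalizer (Cfsg.wOf K : Set G)))
  have hKN : K ≤ Subgroup.normalizer (Cfsg.wOf K : Set G) :=
    Subgroup.le_normalizer.trans (normalizer_le_normalizer_wOf K)
  have hJN : Cfsg.thompsonSubgroupOf 2 T ≤ Subgroup.normalizer (Cfsg.wOf K : Set G) :=
    (J_le_normalizer hKc).trans (normalizer_le_normalizer_wOf K)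
  have hL₀M : ¬ L₀ ≤ M := fun hle => hKM ((hKN.trans hNL₀).trans hle)
  obtain ⟨L₁, hL₁, hNL₁⟩ := exists_maximalTwoLocal_ge
    (⟨_, Cfsg.Agent.Lib.Helper49.pCoreOf_isPGroup 2 (K ⊔ T), hO2, rfl⟩ :
      Cfsg.IsTwoLocal (Subgroup.normalizer (Cfsg.pCoreOf 2 (K ⊔ T) : Set G)))
  have hKT : K ⊔ T ≤ L₁ := (Cfsg.Agent.Lib.Helper49.le_normalizer_pCoreOf 2 (K ⊔ T)).trans hNL₁
  have h1 : L₁ = L₀ := ms.unique hKc hKM hL₀ hNL₀ hL₁
    (sup_le (le_sup_left.trans hKT) ((thompsonSubgroupOf_le' 2 T).trans (le_sup_right.trans hKT)))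
  have hTL₀ : T ≤ L₀ := h1 ▸ le_sup_right.trans hKT
  have hs := ms.isSylowIn_of_le hL₀.1 hL₀M hTL₀
  obtain ⟨-, -, -, -, hmem⟩ := ms.hstr L₀ T hL₀.1 hL₀M hs (thompsonSubgroupOf_le' 2 T)
  refine ⟨L₀, hL₀, sup_le (hKN.trans hNL₀) (hJN.trans hNL₀), ?_, ?_, isSylowTwoIn_of hs⟩
  · intro L' hL' hKL'
    exact ms.unique hKc hKM hL₀ hNL₀ hL' hKL'
  · exact (jcx_of_isJComponent hs hKc (hKN.trans hNL₀)).isSubnormal (lx_of_mem zn ms.hT1 hmem)

end Cfsg.Agent.S2950
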