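import Cfsg.Statements.S2763
import Cfsg.Agent.Lib.Helper46.Qd4
open Cfsg.Agent.Lib.Helper46.Qd Cfsg.Agent.Lib.Helper46.CharSub

set_option autoImplicit false
open Cfsg

namespace Cfsg.Agent.S2763


theorem aux {p : ℕ} [Fact p.Prime] (H : Subgroup ↥(Cfsg.qdOver (ZMod p))) (g : ↥(Cfsg.qdOver (ZMod p)))
    (hH : H = (U3 (ZMod p)).map (MulAut.conj g).toMonoidHom)
    (T : Subgroup ↥H) (hT : T ≠ ⊥) (hTc : T.Characteristic) :
    Subgroup.normalizer ((T.map H.subtype : Subgroup ↥(Cfsg.qdOver (ZMod p))) : Set ↥(Cfsg.qdOver (ZMod p)))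
      = Subgroup.normalizer (H : Set ↥(Cfsg.qdOver (ZMod p))) ∧
    Subgroup.normalizer (H : Set ↥(Cfsg.qdOver (ZMod p))) ≠ ⊤ := by
  subst hH
  exact ⟨normalizer_transport _ _ (fun T h1 h2 => normalizer_char_eq T h1 h2) T hT hTc,
    normalizer_ne_top_transport _ _ normalizer_U3_ne_top⟩



/-- In the group Qd(p) (p prime; the natural semidirect product of an elementary abelian group of order p² by SL₂(p)), the normalizer of every nontrivial characteristic subgroup of a Sylow p-subgroup S equals the normalizer of S, which is a proper subgroup; in particular no such characteristic subgroup is normal. -/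
theorem result {p : ℕ} [Fact p.Prime] (S : Sylow p ↥(Cfsg.qd p)) (T : Subgroup ↥(S : Subgroup ↥(Cfsg.qd p))) (hT : T ≠ ⊥) (hTc : T.Characteristic) : Subgroup.normalizer ((T.map (S : Subgroup ↥(Cfsg.qd p)).subtype : Subgroup ↥(Cfsg.qd p)) : Set ↥(Cfsg.qd p)) = Subgroup.normalizer ((S : Subgroup ↥(Cfsg.qd p)) : Set ↥(Cfsg.qd p)) ∧ Subgroup.normalizer ((S : Subgroup ↥(Cfsg.qd p)) : Set ↥(Cfsg.qd p)) ≠ ⊤ := by
  obtain ⟨g, hg⟩ := sylow_eq_conj_U3 (F := ZMod p) p S
  exact aux _ g hg T hT hTc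

end Cfsg.Agent.S2763
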