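import Cfsg.Statements.S0623
import Cfsg.Agent.Lib.Helper11.StableClosure
import Cfsg.Agent.Lib.Helper11.ZJ

set_option autoImplicit false
open Cfsg
open scoped commutatorElement

namespace Cfsg.Agent.S0623

open Cfsg.Agent.Lib.Helper11 Subgroup

universe u

/-- quadratic action implies trivial action. -/
def QP {S : Type u} [Group S] (U : Subgroup S) : Prop :=
  ∀ y : S, ⁅⁅U, zpowers y⁆, zpowers y⁆ = ⊥ → ⁅U, zpowers y⁆ = ⊥

/-- the key step: the preimage of the normal closure under a stable embedding keeps `QP`. -/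
theorem step {S H : Type u} [Group S] [Finite S] [Group H] {p : ℕ} [Fact p.Prime]
    (τ : S →* H) (hτ : IsStableEmbedding p τ) (U : Subgroup S)
    (hUW : U ≤ stableNormalClosure p S) (hQ : QP U) :
    QP ((normalClosure ((U.map τ : Subgroup H) : Set H)).comap τ) ∧
    (normalClosure ((U.map τ : Subgroup H) : Set H)).comap τ ≤ stableNormalClosure p S ∧
    ((normalClosure ((U.map τ : Subgroup H) : Set H)).comap τ).map τ =
      normalClosure ((U.map τ : Subgroup H) : Set H) := by
  have hinj := hτ.1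
  have hfin : Finite H := hτ.2.1
  obtain ⟨P, hP⟩ := hτ.2.2.1
  set W := stableNormalClosure p S with hW
  set N := normalClosure ((U.map τ : Subgroup H) : Set H) with hN
  have hWn : (W.map τ).Normal := (stableNormalClosure_mem_stableFamily p S).2 H τ hτ
  have hNW : N ≤ W.map τ := normalClosure_le_normal (Subgroup.map_mono hUW)
  have hNr : N ≤ τ.range := hNW.trans (map_le_range τ W)
  have hmap : (N.comap τ).map τ = N := map_comap_eq_self hNr
  refine ⟨?_, ?_, hmap⟩
  swap
  · rw [← map_le_map_iff_of_injective hinj, hmap]; exact hNW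
  intro y hy
  have hy' : ⁅⁅N, zpowers (τ y)⁆, zpowers (τ y)⁆ = ⊥ := by
    have := congrArg (Subgroup.map τ) hy
    rwa [map_commutator, map_commutator, hmap, MonoidHom.map_zpowers, Subgroup.map_bot] at this
  have hst : IsPStableOn p N := hτ.2.2.2.2.2 N
    (hNW.trans (Subgroup.map_mono (stableNormalClosure_le_omegaCenterThompson p S)))
  obtain ⟨K, hKn, hCK, ⟨k, hk⟩, hK⟩ := exists_normal_of_isPStableOn N hst
  have hyK : τ y ∈ K := hK _ hy'
  set T := (P : Subgroup H) ⊓ K with hT
  have hyT : τ y ∈ T := mem_inf.2 ⟨by rw [hP]; exact ⟨y, rfl⟩, hyK⟩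
  set s : Set H := {g | ∃ h ∈ normalizer (T : Set H), ∃ u ∈ U.map τ, g = h * u * h⁻¹} with hs
  set R := closure s with hR
  have hRN : R ≤ N := by
    rw [hR, closure_le]
    rintro _ ⟨h, -, u, hu, rfl⟩
    exact (normalClosure_normal).conj_mem u (le_normalClosure hu) h
  have h1 : normalizer (T : Set H) ≤ normalizer (R : Set H) := by
    rw [hR, le_normalizer_closure_iff]
    rintro h' hh' _ ⟨h, hh, u, hu, rfl⟩
    apply Subgroup.subset_closure
    exact ⟨h' * h, mul_mem hh' hh, u, hu, by group⟩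
  have h2 : centralizer (N : Set H) ≤ normalizer (R : Set H) :=
    (centralizer_le hRN).trans (centralizer_le_normalizer _)
  have hKle : K ≤ centralizer (N : Set H) ⊔ T := le_sup_sylow_inf_of_relIndex P K _ k hk
  have htop : normalizer (R : Set H) = ⊤ := by
    rw [eq_top_iff, ← normalizer_sylow_inf_sup_eq_top P K]
    exact sup_le h1 (hKle.trans (sup_le h2 (le_normalizer.trans h1)))
  have hRn : R.Normal := normalizer_eq_top_iff.1 htop
  have hNR : N ≤ R := by
    apply normalClosure_le_normal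
    intro u hu
    exact Subgroup.subset_closure ⟨1, one_mem _, u, hu, by group⟩
  have hcent : R ≤ centralizer (zpowers (τ y) : Set H) := by
    rw [hR, closure_le]
    rintro _ ⟨h, hh, _, ⟨u₀, hu₀, rfl⟩, rfl⟩
    have hcT : h⁻¹ * τ y * h ∈ T := conj_inv_mem_of_mem_normalizer hh hyT
    have hcP : h⁻¹ * τ y * h ∈ τ.range := by rw [← hP]; exact (mem_inf.1 hcT).1
    obtain ⟨y', hy'eq⟩ := hcP
    have hquad : ⁅⁅U, zpowers y'⁆, zpowers y'⁆ = ⊥ := by
      rw [← map_eq_bot_iff_of_injective _ hinj, map_commutator, map_commutator,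
        MonoidHom.map_zpowers, hy'eq, eq_bot_iff]
      have hNc : N.map (MulAut.conj h⁻¹).toMonoidHom = N := Normal.map_conj_eq N h⁻¹
      have h3 := congrArg (Subgroup.map (MulAut.conj h⁻¹).toMonoidHom) hy'
      rw [map_commutator, map_commutator, hNc, MonoidHom.map_zpowers, Subgroup.map_bot] at h3
      have e : (MulAut.conj h⁻¹).toMonoidHom (τ y) = h⁻¹ * τ y * h := by simp
      rw [e] at h3
      rw [← h3]
      exact commutator_mono (commutator_mono le_normalClosure le_rfl) le_rfl
    have h4 := hQ y' hquad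
    rw [commutator_eq_bot_iff_le_centralizer] at h4
    have h5 : y' * u₀ = u₀ * y' := h4 hu₀ y' (mem_zpowers y')
    have h6 : (h⁻¹ * τ y * h) * τ u₀ = τ u₀ * (h⁻¹ * τ y * h) := by
      rw [← hy'eq, ← map_mul, ← map_mul, h5]
    have h7 : τ y * (h * τ u₀ * h⁻¹) = (h * τ u₀ * h⁻¹) * τ y := by
      calc τ y * (h * τ u₀ * h⁻¹) = h * ((h⁻¹ * τ y * h) * τ u₀) * h⁻¹ := by group
        _ = h * (τ u₀ * (h⁻¹ * τ y * h)) * h⁻¹ := by rw [h6]
        _ = (h * τ u₀ * h⁻¹) * τ y := by group
    rw [SetLike.mem_coe, ← zpowers_le, ← le_centralizer_iff, zpowers_le]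
    rw [mem_centralizer_iff]
    intro g hg
    obtain ⟨n, rfl⟩ := mem_zpowers_iff.1 hg
    exact ((show Commute (τ y) (h * τ u₀ * h⁻¹) from h7).symm.zpow_left n).symm.eq.symm ▸ rfl
  rw [← map_eq_bot_iff_of_injective _ hinj, map_commutator, hmap, MonoidHom.map_zpowers,
    commutator_eq_bot_iff_le_centralizer]
  exact hNR.trans hcent


theorem qp_stableNormalClosure {S : Type u} [Group S] [Finite S] (p : ℕ) [Fact p.Prime] :
    QP (stableNormalClosure p S) := by
  set W := stableNormalClosure p S with hW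
  set 𝒰 : Set (Subgroup S) := {U | omegaOne p (center S) ≤ U ∧ U ≤ W ∧ QP U} with h𝒰
  have hne : 𝒰.Nonempty := by
    refine ⟨omegaOne p (center S), le_rfl, omegaOne_center_le_stableNormalClosure p S, ?_⟩
    intro y _
    rw [commutator_eq_bot_iff_le_centralizer]
    exact (omegaOne_le p _).trans (center_le_centralizer _)
  obtain ⟨U, ⟨hU1, hU2, hU3⟩, hmax⟩ := Set.exists_max_image 𝒰 (fun U => Nat.card U) (Set.toFinite _) hne
  have hUmem : U ∈ stableFamily p S := by
    refine ⟨hU1, ?_⟩
    intro H _ τ hτ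
    obtain ⟨h1, h2, h3⟩ := step τ hτ U hU2 hU3
    set U' := (normalClosure ((U.map τ : Subgroup H) : Set H)).comap τ with hU'
    have hle : U ≤ U' := by
      rw [hU', ← map_le_iff_le_comap]
      exact le_normalClosure
    have hcard := hmax U' ⟨hU1.trans hle, h2, h1⟩
    have heq : U = U' := eq_of_le_of_card_ge hle hcard
    rw [heq, h3]
    infer_instance
  have hWU : W ≤ U := sInf_le hUmem
  have : U = W := le_antisymm hU2 hWU
  rwa [this] at hU3

/-- No element of a finite p-group acts quadratically and nontrivially on the stable normal closure W(S). -/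
theorem result {S : Type*} [Group S] [Finite S] {p : ℕ} [Fact p.Prime] (hS : IsPGroup p S) (x : S) (hq : ⁅⁅Cfsg.stableNormalClosure p S, Subgroup.zpowers x⁆, Subgroup.zpowers x⁆ = ⊥) : ⁅Cfsg.stableNormalClosure p S, Subgroup.zpowers x⁆ = ⊥ :=
  qp_stableNormalClosure p x hq

end Cfsg.Agent.S0623
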