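import Cfsg.Statements.S0655
import Cfsg.Agent.Lib.Helper11.EA

set_option autoImplicit false
open Cfsg

namespace Cfsg.Agent.S0655

open Cfsg.Agent.Lib.Helper11 Subgroup

theorem aux {S : Type*} [Group S] [Finite S] (p : ℕ) : sInf (Cfsg.maxElementaryAbelianSubgroups p S) = Cfsg.omegaCenterThompson p S ∧ Cfsg.omegaCenterThompson p S = Cfsg.omegaOne p (Subgroup.centralizer (Cfsg.thompsonSubgroup p S : Set S)) := by
  set F := Cfsg.maxElementaryAbelianSubgroups p S with hF
  obtain ⟨A₀, hA₀⟩ := exists_mem_maxElementaryAbelianSubgroups (G := S) p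
  have h1 : sInf F ≤ Cfsg.omegaCenterThompson p S := by
    intro x hx
    have hxA : ∀ A ∈ F, x ∈ A := fun A hA => (sInf_le hA : sInf F ≤ A) hx
    apply mem_omegaOne
    · refine mem_inf.2 ⟨(le_sSup hA₀ : A₀ ≤ sSup F) (hxA A₀ hA₀), ?_⟩
      have : sSup F ≤ centralizer {x} := by
        refine sSup_le fun A hA a ha => ?_
        have := hA.1.1
        intro y hy
        rw [Set.mem_singleton_iff.1 hy]
        exact setLike_mul_comm (hxA A hA) ha
      intro y hy
      exact (this hy x rfl).symm
    · exact hA₀.1.2 x (hxA A₀ hA₀)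
  have h2 : Cfsg.omegaCenterThompson p S ≤
      Cfsg.omegaOne p (Subgroup.centralizer (Cfsg.thompsonSubgroup p S : Set S)) :=
    omegaOne_mono inf_le_right
  have h3 : Cfsg.omegaOne p (Subgroup.centralizer (Cfsg.thompsonSubgroup p S : Set S)) ≤ sInf F := by
    unfold Cfsg.omegaOne
    rw [closure_le]
    rintro x ⟨hx1, hx2⟩
    refine (mem_sInf).2 fun A hA => ?_
    exact mem_of_mem_maxElementaryAbelianSubgroups hA (fun a ha => hx1 a ((le_sSup hA : A ≤ sSup F) ha)) hx2
  exact ⟨le_antisymm h1 (h2.trans h3), le_antisymm h2 (h3.trans h1)⟩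

/-- In a p-group the intersection of all elementary abelian subgroups of largest order is the subgroup generated by the elements of order dividing p in the centre (equivalently the centralizer) of the elementary-version Thompson subgroup. -/
theorem result {S : Type*} [Group S] [Finite S] {p : ℕ} [Fact p.Prime] (hS : IsPGroup p S) : sInf (Cfsg.maxElementaryAbelianSubgroups p S) = Cfsg.omegaCenterThompson p S ∧ Cfsg.omegaCenterThompson p S = Cfsg.omegaOne p (Subgroup.centralizer (Cfsg.thompsonSubgroup p S : Set S)) :=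
  aux p

end Cfsg.Agent.S0655
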