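import Cfsg.Statements.S0624
import Cfsg.Agent.Lib.Helper11.Thompson
import Cfsg.Agent.Lib.Helper11.Burnside
import Cfsg.Agent.Lib.Helper11.StableClosure
import Cfsg.Agent.S0623
import Cfsg.Agent.S0652
import Cfsg.Agent.S0655

set_option autoImplicit false
open Cfsg

namespace Cfsg.Agent.S0624

open Subgroup Cfsg.Agent.Lib.Helper11 Cfsg.Agent.Lib.Lead
open scoped commutatorElement

universe u

theorem thompsonSubgroupOf_eq_joinMax {G : Type u} [Group G] [Finite G] (p : ℕ) (P : Subgroup G) :
    thompsonSubgroupOf p P = joinMax (IsElementaryAbelian p) P := by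
  unfold thompsonSubgroupOf thompsonSubgroup joinMax
  rw [(gc_map_comap P.subtype).l_sSup, ← sSup_image]
  congr 1
  ext U
  exact Cfsg.Agent.S0652.mem_family_iff p P U

theorem ea_aut {G : Type u} [Group G] (p : ℕ) (φ : MulAut G) (A : Subgroup G)
    (h : IsElementaryAbelian p A) : IsElementaryAbelian p (A.map φ.toMonoidHom) :=
  Cfsg.Agent.Lib.Helper11.IsElementaryAbelian.map h _

theorem quad_transport {G : Type u} [Group G] (S : Subgroup G) (W : Subgroup ↥S) (y : ↥S) :
    ⁅⁅W.map S.subtype, zpowers (y : G)⁆, zpowers (y : G)⁆ = ⊥ ↔ ⁅⁅W, zpowers y⁆, zpowers y⁆ = ⊥ := by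
  have h : (⁅⁅W, zpowers y⁆, zpowers y⁆).map S.subtype =
      ⁅⁅W.map S.subtype, zpowers (y : G)⁆, zpowers (y : G)⁆ := by
    rw [map_commutator, map_commutator, MonoidHom.map_zpowers]
    rfl
  rw [← h, map_eq_bot_iff_of_injective _ S.subtype_injective]

theorem comm_transport {G : Type u} [Group G] (S : Subgroup G) (W : Subgroup ↥S) (y : ↥S) :
    ⁅W.map S.subtype, zpowers (y : G)⁆ = ⊥ ↔ ⁅W, zpowers y⁆ = ⊥ := by
  have h : (⁅W, zpowers y⁆).map S.subtype = ⁅W.map S.subtype, zpowers (y : G)⁆ := by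
    rw [map_commutator, MonoidHom.map_zpowers]
    rfl
  rw [← h, map_eq_bot_iff_of_injective _ S.subtype_injective]

/-- a criterion for quadratic action -/
theorem quad_of_le {G : Type u} [Group G] {U M : Subgroup G} {y : G} (hM : IsMulCommutative M)
    (hy : y ∈ M) (hU : U ≤ normalizer (M : Set G)) : ⁅⁅U, zpowers y⁆, zpowers y⁆ = ⊥ := by
  have hz : zpowers y ≤ M := zpowers_le.2 hy
  have h1 : ⁅U, zpowers y⁆ ≤ M := by
    rw [commutator_le]
    intro u hu z hz'
    rw [commutatorElement_def]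
    exact mul_mem (conj_mem_of_mem_normalizer (hU hu) (hz hz')) (inv_mem (hz hz'))
  rw [commutator_eq_bot_iff_le_centralizer]
  intro m hm
  rw [mem_centralizer_iff]
  intro z hz'
  exact setLike_mul_comm (hz hz') (h1 hm)

theorem stableNormalClosure_EA {S : Type u} [Group S] [Finite S] (p : ℕ) :
    IsElementaryAbelian p (stableNormalClosure p S) := by
  obtain ⟨A, hA⟩ := exists_mem_maxElementaryAbelianSubgroups (G := S) p
  apply Cfsg.Agent.Lib.Helper11.IsElementaryAbelian.of_le hA.1
  refine (stableNormalClosure_le_omegaCenterThompson p S).trans ?_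
  rw [← (Cfsg.Agent.S0655.aux p).1]
  exact sInf_le hA

theorem sylow_le_normalizer_thompson {G : Type u} [Group G] [Finite G] (p : ℕ) (S : Subgroup G) :
    S ≤ normalizer (thompsonSubgroupOf p S : Set G) := by
  rw [thompsonSubgroupOf_eq_joinMax]
  exact le_normalizer.trans (normalizer_le_normalizer_joinMax (ea_aut p) S)

theorem stepA {G : Type u} [Group G] [Finite G] {p : ℕ} [Fact p.Prime] (hst : IsActionPStable p G)
    (hc : centralizer (pCore p G : Set G) ≤ pCore p G) (S : Sylow p G) :
    normalizer (thompsonSubgroupOf p (S : Subgroup G) : Set G) ≤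
      normalizer (((stableNormalClosure p ↥(S : Subgroup G)).map (S : Subgroup G).subtype :
        Subgroup G) : Set G) := by
  set Jg := thompsonSubgroupOf p (S : Subgroup G) with hJg
  set Nj := normalizer (Jg : Set G) with hNj
  have hSN : (S : Subgroup G) ≤ Nj := sylow_le_normalizer_thompson p (S : Subgroup G)
  set τ : ↥(S : Subgroup G) →* ↥Nj := Subgroup.inclusion hSN with hτdef
  have hcomp : Nj.subtype.comp τ = (S : Subgroup G).subtype := rfl
  have hQS : pCore p G ≤ S := pCore_le_sylow S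
  have hτ : IsStableEmbedding p τ := by
    refine ⟨Subgroup.inclusion_injective hSN, inferInstance, ⟨S.subtype hSN, ?_⟩, ?_, ?_, ?_⟩
    · rw [Sylow.coe_subtype, hτdef, Subgroup.inclusion_range]
    · have h1 : (pCore p G).subgroupOf Nj ≤ pCore p ↥Nj := by
        apply le_pCore inferInstance
        exact (pCore_isPGroup p G).comap_of_injective _ Nj.subtype_injective
      refine le_trans ?_ h1
      intro x hx
      rw [mem_subgroupOf]
      apply hc
      rw [mem_centralizer_iff]
      intro q hq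
      have h2 := (mem_centralizer_iff.1 hx) ⟨q, hSN (hQS hq)⟩ (h1 (by rw [mem_subgroupOf]; exact hq))
      exact congrArg Subtype.val h2
    · have h1 : (thompsonSubgroup p ↥(S : Subgroup G)).map τ = Jg.subgroupOf Nj := by
        rw [subgroupOf, hJg, thompsonSubgroupOf, ← hcomp, ← Subgroup.map_map,
          comap_map_eq_self_of_injective Nj.subtype_injective]
      rw [h1]
      exact normal_in_normalizer
    · intro V _ hV
      apply hst.2.2 S V
      rw [← hcomp, ← Subgroup.map_map]
      exact map_mono hV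
  have hn : ((stableNormalClosure p ↥(S : Subgroup G)).map τ).Normal :=
    (stableNormalClosure_mem_stableFamily p ↥(S : Subgroup G)).2 ↥Nj τ hτ
  intro g hg
  apply mem_normalizer_of_conj_mem
  rintro _ ⟨w, hw, rfl⟩
  obtain ⟨w', hw', he⟩ := hn.conj_mem (τ w) (mem_map_of_mem τ hw) ⟨g, hg⟩
  exact ⟨w', hw', congrArg Subtype.val he⟩

theorem sylow_le_normalizer_W {G : Type u} [Group G] (p : ℕ) (S : Subgroup G) :
    S ≤ normalizer (((stableNormalClosure p ↥S).map S.subtype : Subgroup G) : Set G) := by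
  have := stableNormalClosure_characteristic p ↥S
  have hn : (stableNormalClosure p ↥S).Normal := inferInstance
  intro g hg
  rw [mem_normalizer_iff]
  intro x
  constructor
  · rintro ⟨w, hw, rfl⟩
    exact ⟨⟨g, hg⟩ * w * ⟨g, hg⟩⁻¹, hn.conj_mem w hw _, rfl⟩
  · rintro ⟨w, hw, he⟩
    refine ⟨⟨g, hg⟩⁻¹ * w * ⟨g, hg⟩, ?_, ?_⟩
    · have := hn.conj_mem w hw ⟨g, hg⟩⁻¹
      simpa using this
    · simp only [Subgroup.subtype_apply, Subgroup.coe_mul, Subgroup.coe_inv] at he ⊢
      rw [he]; group

theorem stepB {G : Type u} [Group G] [Finite G] {p : ℕ} [Fact p.Prime] (hst : IsActionPStable p G)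
    (hc : centralizer (pCore p G : Set G) ≤ pCore p G) (S : Sylow p G) :
    (stableNormalClosure p ↥(S : Subgroup G)).map (S : Subgroup G).subtype ≤ pCore p G := by
  set W := (stableNormalClosure p ↥(S : Subgroup G)).map (S : Subgroup G).subtype with hW
  have hWEA : IsElementaryAbelian p W :=
    Cfsg.Agent.Lib.Helper11.IsElementaryAbelian.map (stableNormalClosure_EA p) _
  have hQS : pCore p G ≤ S := pCore_le_sylow S
  intro w hw
  have hquad : ⁅⁅pCore p G, zpowers w⁆, zpowers w⁆ = ⊥ :=
    quad_of_le hWEA.1 hw (hQS.trans (sylow_le_normalizer_W p (S : Subgroup G)))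
  obtain ⟨D, hDn, hCD, ⟨k, hk⟩, hwD⟩ := hst.2.1 w (by rw [hquad]; exact bot_le)
  have hCp := isPGroup_sectionKernel_frattini (pCore p G) (pCore_isPGroup p G) hc
  obtain ⟨m, hm⟩ := hCp.exists_card_eq
  have hDp : IsPGroup p D := by
    apply IsPGroup.of_card (n := k + m)
    rw [← Subgroup.relIndex_bot_left, ← Subgroup.relIndex_mul_relIndex ⊥ _ D bot_le hCD,
      Subgroup.relIndex_bot_left, hk, hm, pow_add, mul_comm]
  exact le_pCore hDn hDp hwD

/-- elements of `S` acting quadratically on `W(S)` centralize it (statement inside `G`). -/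
theorem qpG {G : Type u} [Group G] [Finite G] {p : ℕ} [Fact p.Prime] (S : Sylow p G) :
    ∀ y ∈ S, ⁅⁅(stableNormalClosure p ↥(S : Subgroup G)).map (S : Subgroup G).subtype, zpowers y⁆,
        zpowers y⁆ = ⊥ →
      ⁅(stableNormalClosure p ↥(S : Subgroup G)).map (S : Subgroup G).subtype, zpowers y⁆ = ⊥ := by
  intro y hy h
  have h1 := (quad_transport (S : Subgroup G) (stableNormalClosure p ↥(S : Subgroup G)) ⟨y, hy⟩).1 h
  exact (comm_transport (S : Subgroup G) (stableNormalClosure p ↥(S : Subgroup G)) ⟨y, hy⟩).2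
    (Cfsg.Agent.S0623.qp_stableNormalClosure p _ h1)

theorem stepC {G : Type u} [Group G] [Finite G] {p : ℕ} [Fact p.Prime] (hst : IsActionPStable p G)
    (hc : centralizer (pCore p G : Set G) ≤ pCore p G) (S : Sylow p G) :
    IsElementaryAbelian p (normalClosure
      (((stableNormalClosure p ↥(S : Subgroup G)).map (S : Subgroup G).subtype : Subgroup G) : Set G)) := by
  set W := (stableNormalClosure p ↥(S : Subgroup G)).map (S : Subgroup G).subtype with hW
  have hWEA : IsElementaryAbelian p W :=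
    Cfsg.Agent.Lib.Helper11.IsElementaryAbelian.map (stableNormalClosure_EA p) _
  have hQS : pCore p G ≤ S := pCore_le_sylow S
  have hWQ : W ≤ pCore p G := stepB hst hc S
  have hQn : (pCore p G).Normal := inferInstance
  have hSW : (S : Subgroup G) ≤ normalizer (W : Set G) := sylow_le_normalizer_W p (S : Subgroup G)
  have key : ∀ g : G, ∀ w ∈ W, ∀ w' ∈ W, (g * w * g⁻¹) * w' = w' * (g * w * g⁻¹) := by
    intro g w hw w' hw'
    set x := g * w * g⁻¹ with hx
    have hxQ : x ∈ pCore p G := hQn.conj_mem w (hWQ hw) g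
    set M := W.map (MulAut.conj g).toMonoidHom with hM
    have hMEA : IsElementaryAbelian p M := Cfsg.Agent.Lib.Helper11.IsElementaryAbelian.map hWEA _
    have hxM : x ∈ M := ⟨w, hw, by simp [hx]⟩
    have hWM : W ≤ normalizer (M : Set G) := by
      intro u hu
      apply mem_normalizer_of_conj_mem
      rintro _ ⟨w₁, hw₁, rfl⟩
      have h1 : g⁻¹ * u * g ∈ pCore p G := by
        have := hQn.conj_mem u (hWQ hu) g⁻¹
        simpa using this
      refine ⟨(g⁻¹ * u * g) * w₁ * (g⁻¹ * u * g)⁻¹,
        conj_mem_of_mem_normalizer (hSW (hQS h1)) hw₁, ?_⟩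
      simp only [MulEquiv.coe_toMonoidHom, MulAut.conj_apply]
      group
    have hquad : ⁅⁅W, zpowers x⁆, zpowers x⁆ = ⊥ := quad_of_le hMEA.1 hxM hWM
    have h2 := qpG S x (hQS hxQ) hquad
    rw [commutator_eq_bot_iff_le_centralizer] at h2
    exact (mem_centralizer_iff.1 (h2 hw')) x (mem_zpowers x)
  unfold normalClosure
  apply isElementaryAbelian_closure
  · intro a ha b hb
    obtain ⟨w, hw, hwa⟩ := Group.mem_conjugatesOfSet_iff.1 ha
    obtain ⟨w', hw', hwb⟩ := Group.mem_conjugatesOfSet_iff.1 hb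
    obtain ⟨g, rfl⟩ := isConj_iff.1 hwa
    obtain ⟨h, rfl⟩ := isConj_iff.1 hwb
    have h1 := key (h⁻¹ * g) w hw w' hw'
    calc g * w * g⁻¹ * (h * w' * h⁻¹) = h * (((h⁻¹ * g) * w * (h⁻¹ * g)⁻¹) * w') * h⁻¹ := by group
      _ = h * (w' * ((h⁻¹ * g) * w * (h⁻¹ * g)⁻¹)) * h⁻¹ := by rw [h1]
      _ = h * w' * h⁻¹ * (g * w * g⁻¹) := by group
  · intro a ha
    obtain ⟨w, hw, hwa⟩ := Group.mem_conjugatesOfSet_iff.1 ha
    obtain ⟨g, rfl⟩ := isConj_iff.1 hwa
    rw [conj_pow, hWEA.2 w hw]; group

theorem stepE {G : Type u} [Group G] [Finite G] {p : ℕ} [Fact p.Prime] (S : Sylow p G)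
    (V : Subgroup G) [V.Normal] (hVS : V ≤ S) (hV : IsElementaryAbelian p V)
    (hq : ∀ y ∈ S, ⁅⁅V, zpowers y⁆, zpowers y⁆ = ⊥ → ⁅V, zpowers y⁆ = ⊥) :
    thompsonSubgroupOf p (S : Subgroup G) ≤ centralizer (V : Set G) := by
  set V₀ := V.subgroupOf (S : Subgroup G) with hV₀
  have hV₀n : V₀.Normal := inferInstance
  have hV₀EA : IsElementaryAbelian p V₀ :=
    Cfsg.Agent.Lib.Helper11.IsElementaryAbelian.comap_of_injective hV _ (S : Subgroup G).subtype_injective
  have hmap : V₀.map (S : Subgroup G).subtype = V := map_subgroupOf_eq_of_le hVS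
  have hall : ∀ A ∈ maxElementaryAbelianSubgroups p ↥(S : Subgroup G), V₀ ≤ A := by
    by_contra hcon
    push Not at hcon
    obtain ⟨A, hA, hnot, hnorm⟩ := replacement_EA S.2 V₀ hV₀EA hcon
    apply hnot
    intro v hv
    apply mem_of_mem_maxElementaryAbelianSubgroups hA _ (hV₀EA.2 v hv)
    intro a ha
    have h1 : ⁅⁅V₀, zpowers a⁆, zpowers a⁆ = ⊥ := quad_of_le hA.1.1 ha hnorm
    have h2 := (quad_transport (S : Subgroup G) V₀ a).2 h1
    rw [hmap] at h2
    have h3 := hq a a.2 h2
    rw [← hmap, comm_transport, commutator_eq_bot_iff_le_centralizer] at h3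
    exact (mem_centralizer_iff.1 (h3 hv)) a (mem_zpowers a)
  have hJ : thompsonSubgroup p ↥(S : Subgroup G) ≤ centralizer (V₀ : Set ↥(S : Subgroup G)) := by
    unfold thompsonSubgroup
    apply sSup_le
    intro A hA a ha
    rw [mem_centralizer_iff]
    intro v hv
    have := hA.1.1
    exact setLike_mul_comm (hall A hA hv) ha
  unfold thompsonSubgroupOf
  rintro _ ⟨x, hx, rfl⟩
  rw [mem_centralizer_iff]
  intro v hv
  have h1 := (mem_centralizer_iff.1 (hJ hx)) ⟨v, hVS hv⟩ (by rw [hV₀]; exact mem_subgroupOf.2 hv)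
  exact congrArg Subtype.val h1

/-- The analogue of the ZJ-Theorem: in an action-p-stable group whose largest normal p-subgroup contains its centralizer, the characteristic subgroup W(S) of a Sylow p-subgroup S is normal. -/
theorem result {G : Type*} [Group G] [Finite G] {p : ℕ} [Fact p.Prime] (hst : Cfsg.IsActionPStable p G) (hc : Subgroup.centralizer (Cfsg.pCore p G : Set G) ≤ Cfsg.pCore p G) (S : Sylow p G) : (((Cfsg.stableNormalClosure p ↥(S : Subgroup G)).map (S : Subgroup G).subtype)).Normal := by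
  set W := (stableNormalClosure p ↥(S : Subgroup G)).map (S : Subgroup G).subtype with hW
  set V := normalClosure (W : Set G) with hV
  have hVEA : IsElementaryAbelian p V := stepC hst hc S
  have hQS : pCore p G ≤ S := pCore_le_sylow S
  have hVS : V ≤ S := (normalClosure_le_normal (stepB hst hc S)).trans hQS
  have hq := quadratic_core S W (hst.1 V hVEA) (qpG S)
  have hJC : thompsonSubgroupOf p (S : Subgroup G) ≤ centralizer (V : Set G) := stepE S V hVS hVEA hq
  set C := centralizer (V : Set G) with hC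
  have hJS : thompsonSubgroupOf p (S : Subgroup G) ≤ S := map_subtype_le _
  have hfr := normalizer_sylow_inf_sup_eq_top S C
  have hjm : joinMax (IsElementaryAbelian p) ((S : Subgroup G) ⊓ C) =
      joinMax (IsElementaryAbelian p) (S : Subgroup G) := by
    apply joinMax_eq_of_le inf_le_left
    · rw [← thompsonSubgroupOf_eq_joinMax]
      exact le_inf hJS hJC
    · exact exists_isMaxIn _ (isElementaryAbelian_bot p) _
  have h1 : normalizer (((S : Subgroup G) ⊓ C : Subgroup G) : Set G) ≤ normalizer (W : Set G) := by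
    refine le_trans ?_ (stepA hst hc S)
    rw [thompsonSubgroupOf_eq_joinMax, ← hjm]
    exact normalizer_le_normalizer_joinMax (ea_aut p) _
  have h2 : C ≤ normalizer (W : Set G) :=
    (centralizer_le le_normalClosure).trans (centralizer_le_normalizer _)
  apply normalizer_eq_top_iff.1
  rw [eq_top_iff, ← hfr]
  exact sup_le h1 h2

end Cfsg.Agent.S0624
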