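import Cfsg.Statements.S0654
import Cfsg.Agent.Lib.Helper11.ZJTransport
import Cfsg.Agent.Lib.Helper11.EA
import Cfsg.Agent.S0652
import Cfsg.Agent.S0655

set_option autoImplicit false
open Cfsg
open scoped commutatorElement

namespace Cfsg.Agent.S0654

open Cfsg.Agent.Lib.Helper11 Subgroup

theorem isEA_iff {G : Type*} [Group G] (p : ℕ) (P : Subgroup G) (U₀ : Subgroup ↥P) :
    Cfsg.IsElementaryAbelian p U₀ ↔ Cfsg.IsElementaryAbelian p (U₀.map P.subtype) := by
  constructor
  · intro h; exact Cfsg.Agent.Lib.Helper11.IsElementaryAbelian.map h _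
  · intro h
    have h2 := Cfsg.Agent.Lib.Helper11.IsElementaryAbelian.comap_of_injective h P.subtype P.subtype_injective
    rwa [comap_map_eq_self_of_injective P.subtype_injective] at h2

theorem omegaCenterThompson_map_eq {G : Type*} [Group G] [Finite G] (p : ℕ) (P : Subgroup G) :
    (Cfsg.omegaCenterThompson p ↥P).map P.subtype =
      interMax (fun A : Subgroup G => Cfsg.IsElementaryAbelian p A) P := by
  rw [← (Cfsg.Agent.S0655.aux (S := ↥P) p).1]
  have key := isMaxIn_map_subtype_iff (P := P) (fun A : Subgroup G => Cfsg.IsElementaryAbelian p A)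
    (fun A : Subgroup ↥P => Cfsg.IsElementaryAbelian p A) (isEA_iff p P)
  apply le_antisymm
  · rintro _ ⟨y, hy, rfl⟩
    refine (mem_sInf).2 fun A hA => ?_
    have e : (A.subgroupOf P).map P.subtype = A := by
      rw [subgroupOf_map_subtype, inf_eq_left.2 hA.1]
    have h1 : A.subgroupOf P ∈ Cfsg.maxElementaryAbelianSubgroups p ↥P :=
      (key _).2 (by rw [e]; exact hA)
    exact mem_subgroupOf.1 ((mem_sInf).1 hy _ h1)
  · intro x hx
    obtain ⟨A₁, hA₁⟩ := exists_isMaxIn (fun A : Subgroup G => Cfsg.IsElementaryAbelian p A)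
      (isElementaryAbelian_bot p) P
    have hxP : x ∈ P := hA₁.1 ((mem_sInf).1 hx _ hA₁)
    refine ⟨⟨x, hxP⟩, ?_, rfl⟩
    refine (mem_sInf).2 fun A₀ hA₀ => ?_
    have h1 := (key A₀).1 hA₀
    obtain ⟨y, hy, hyx⟩ := (mem_sInf).1 hx _ h1
    have : y = ⟨x, hxP⟩ := Subtype.ext hyx
    rwa [← this]

/-- The ZJ-Theorem for the elementary-abelian Thompson subgroup: for an odd prime p, a finite group G with C_G(O_p(G)) ≤ O_p(G) acting p-stably on its normal p-subgroups, and a Sylow p-subgroup S of G, the subgroup generated by the elements of order dividing p in Z(J_e(S)) is characteristic in G. -/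
theorem result {G : Type*} [Group G] [Finite G] {p : ℕ} [Fact p.Prime] (hp : p ≠ 2) (hc : Subgroup.centralizer (Cfsg.pCore p G : Set G) ≤ Cfsg.pCore p G) (hst : ∀ (P : Subgroup G) [P.Normal], IsPGroup p P → Cfsg.IsPStableOn p P) (S : Sylow p G) : ((Cfsg.omegaCenterThompson p ↥(S : Subgroup G)).map (S : Subgroup G).subtype).Characteristic := by
  rw [omegaCenterThompson_map_eq]
  apply zj_generic (fun A : Subgroup G => Cfsg.IsElementaryAbelian p A) (fun _ h => h.1)
    (isElementaryAbelian_bot p) (fun φ A hA => Cfsg.Agent.Lib.Helper11.IsElementaryAbelian.map hA _) hc hst S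
  apply hrep_of_type (fun A : Subgroup G => Cfsg.IsElementaryAbelian p A)
    (fun A : Subgroup ↥(S : Subgroup G) => Cfsg.IsElementaryAbelian p A) (isEA_iff p _)
  intro B₀ _ hcl ⟨U₀, hU₀, h1, h2⟩
  obtain ⟨A₀, hA₀, h3⟩ := Cfsg.Agent.S0652.result (S := ↥(S : Subgroup G)) S.2 hp ⊤ B₀ hcl
    ⟨U₀, (Cfsg.Agent.S0652.mem_family_iff p ⊤ U₀).2 ⟨le_top, hU₀.1, fun C _ hC => hU₀.2 C hC⟩, h1, h2⟩
  obtain ⟨-, h4, h5⟩ := (Cfsg.Agent.S0652.mem_family_iff p ⊤ A₀).1 hA₀
  exact ⟨A₀, ⟨h4, fun C hC => h5 C le_top hC⟩, h3⟩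

end Cfsg.Agent.S0654
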