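import Mathlib
import Cfsg.Statements.S1331
import Cfsg.Agent.Lib.Helper22.Generation

set_option autoImplicit false
open Cfsg
open Cfsg.Agent.Lib.Helper22

namespace Cfsg.Agent.S1331

theorem exists_hyperplane {G : Type*} [Group G] [Finite G] (p : ℕ) [Fact p.Prime] (B : Subgroup G)
    (hB : IsPGroup p B) (hB1 : p ≤ Nat.card B) : ∃ D : Subgroup G, D ≤ B ∧ D.relIndex B = p := by
  obtain ⟨k, hk⟩ := IsPGroup.iff_card.mp hB
  have hp : p.Prime := Fact.out
  have hk1 : 1 ≤ k := by
    rcases Nat.eq_zero_or_pos k with h | h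
    · rw [h, pow_zero] at hk
      have := hp.two_le
      omega
    · exact h
  obtain ⟨H, hH⟩ := Sylow.exists_subgroup_card_pow_prime_of_le_card (n := k - 1) hp hB
    (by rw [hk]; exact Nat.pow_le_pow_right hp.pos (by omega))
  refine ⟨H.map B.subtype, Subgroup.map_subtype_le _, ?_⟩
  have h1 := relIndex_mul_natCard (Subgroup.map_subtype_le H)
  have h2 : Nat.card (H.map B.subtype) = p ^ (k - 1) := by
    rw [← hH]
    exact Nat.card_congr (Subgroup.equivMapOfInjective H _ B.subtype_injective).symm.toEquiv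
  rw [h2, hk] at h1
  have h3 : p ^ k = p * p ^ (k - 1) := by
    rw [← pow_succ']
    congr 1
    omega
  rw [h3] at h1
  exact Nat.eq_of_mul_eq_mul_right (pow_pos hp.pos _) h1

/-- Let θ be a solvable A-signalizer functor on the finite group G for the prime p, A elementary abelian of rank at least 3, X a member of the family of θ, and B ≤ A with |B| ≥ p². Then X is generated by the subgroups X ∩ ⋂_{d ∈ D, d ≠ 1} θ d, D ranging over the subgroups of index p in B. -/
theorem result {G : Type*} [Group G] [Finite G] (p : ℕ) [Fact p.Prime] (A : Subgroup G) (hA : Cfsg.IsElementaryAbelian p A) (hA3 : p ^ 3 ≤ Nat.card ↥A) (θ : G → Subgroup G) (hθ : Cfsg.IsSolvableSignalizerFunctor p A θ) (X : Subgroup G) (hX : X ∈ Cfsg.signalizerFamily p A θ) (B : Subgroup G) (hB : B ≤ A) (hB2 : p ^ 2 ≤ Nat.card ↥B) : X = ⨆ D : {D : Subgroup G // D ≤ B ∧ D.relIndex B = p}, X ⊓ Cfsg.signalizerInf (D : Subgroup G) θ := by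
  obtain ⟨hXs, hXp, hXA, hXθ⟩ := hX
  have hp : p.Prime := Fact.out
  have hAX : A ≤ Subgroup.normalizer (X : Set G) := Subgroup.le_normalizer_iff.mpr hXA
  have hAc : ∀ x ∈ A, ∀ y ∈ A, x * y = y * x := by
    intro x hx y hy
    have := hA.1.is_comm.comm ⟨x, hx⟩ ⟨y, hy⟩
    exact congrArg Subtype.val this
  have hBp : IsPGroup p B := by
    rintro ⟨x, hx⟩
    exact ⟨1, Subtype.ext (by simpa using hA.2 x (hB hx))⟩
  have key := eq_iSup_centralizer_hyperplane B X (fun x hx y hy => hAc x (hB hx) y (hB hy))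
    (fun x hx => hA.2 x (hB hx)) hXp (hB.trans hAX)
  have hstep : ∀ D : Subgroup G, D ≤ B → X ⊓ Subgroup.centralizer (D : Set G) ≤
      X ⊓ Cfsg.signalizerInf D θ := by
    intro D hD
    refine le_inf inf_le_left ?_
    unfold Cfsg.signalizerInf
    refine le_iInf ?_
    rintro ⟨d, hd, hd1⟩
    refine le_trans ?_ (hXθ d (hB (hD hd)) hd1)
    refine inf_le_inf_left _ (Subgroup.centralizer_le ?_)
    simpa using hd
  apply le_antisymm
  · conv_lhs => rw [key]
    refine iSup_le ?_
    rintro ⟨D, hD1, hD2⟩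
    by_cases hDp : D.relIndex B = p
    · exact (hstep D hD1).trans (le_iSup (fun D : {D : Subgroup G // D ≤ B ∧ D.relIndex B = p} =>
        X ⊓ Cfsg.signalizerInf (D : Subgroup G) θ) ⟨D, hD1, hDp⟩)
    · obtain ⟨D', hD'1, hD'2⟩ := exists_hyperplane p B hBp
        (le_trans (by nlinarith [hp.two_le]) hB2)
      have h1 : X ⊓ Subgroup.centralizer (D : Set G) ≤ X ⊓ Subgroup.centralizer (D' : Set G) := by
        refine inf_le_inf_left _ (Subgroup.centralizer_le ?_)
        -- `D = B`
        obtain ⟨k, hk⟩ := IsPGroup.iff_card.mp hBp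
        have h2 : D.relIndex B ∣ p ^ k := hk ▸ Subgroup.relIndex_dvd_card D B
        obtain ⟨j, _, hj⟩ := (Nat.dvd_prime_pow hp).mp h2
        have hj0 : j = 0 := by
          by_contra hj0
          have h3 : p ≤ p ^ j := Nat.le_self_pow hj0 p
          rw [← hj] at h3
          exact hDp (le_antisymm hD2 h3)
        rw [hj0, pow_zero, Subgroup.relIndex_eq_one] at hj
        exact hD'1.trans hj
      exact (h1.trans (hstep D' hD'1)).trans
        (le_iSup (fun D : {D : Subgroup G // D ≤ B ∧ D.relIndex B = p} =>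
        X ⊓ Cfsg.signalizerInf (D : Subgroup G) θ) ⟨D', hD'1, hD'2⟩)
  · exact iSup_le fun _ => inf_le_left

end Cfsg.Agent.S1331
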