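import Cfsg.Statements.S1457
import Cfsg.Agent.Lib.Helper34.PStable2
import Cfsg.Agent.Lib.Helper24.Rank2Solv
import Cfsg.Agent.Lib.Lead.Cores

set_option autoImplicit false
open Cfsg

namespace Cfsg.Agent.S1457

open Cfsg.Agent.Lib.Helper34

theorem sylow_two_eq_bot {G : Type*} [Group G] [Finite G] (hodd : Odd (Nat.card G)) (T : Sylow 2 G) :
    (T : Subgroup G) = ⊥ := by
  rcases T.isPGroup'.card_eq_or_dvd with h2 | h2
  · exact Subgroup.card_eq_one.mp h2
  · exfalso
    have h3 : 2 ∣ Nat.card G := h2.trans (Subgroup.card_subgroup_dvd_card _)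
    exact (Nat.not_even_iff_odd.mpr hodd) (even_iff_two_dvd.mpr h3)

/-- In a `p`-stable group with `C(O_p) ≤ O_p`, an element acting quadratically on `O_p` lies in `O_p`. -/
theorem mem_pCore_of_quadOn {G : Type*} [Group G] [Finite G] {p : ℕ} [Fact p.Prime] (h : QStable p G)
    (hc : Subgroup.centralizer (pCore p G : Set G) ≤ pCore p G) {a : G} (ha : QuadOn (pCore p G) a) :
    a ∈ pCore p G := by
  obtain ⟨M, hMn, haM, hM⟩ := h (pCore p G) a inferInstance (Cfsg.Agent.Lib.Helper1.pCore_isPGroup p) ha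
  have hMp : IsPGroup p M := by
    rintro ⟨m, hm⟩
    obtain ⟨k, hk⟩ := hM m hm
    obtain ⟨j, hj⟩ := Cfsg.Agent.Lib.Helper1.pCore_isPGroup (G := G) p ⟨_, hc hk⟩
    refine ⟨k + j, Subtype.ext ?_⟩
    have h1 : (m ^ p ^ k) ^ p ^ j = 1 := congrArg Subtype.val hj
    change m ^ p ^ (k + j) = 1
    rw [pow_add, pow_mul, h1]
  exact Cfsg.Agent.Lib.Helper1.le_pCore hMn hMp haM

/-- an abelian subgroup `A` normalized by `P ≥ A`... acts quadratically on every subgroup of its normalizer -/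
theorem quadOn_of_abelian_normal {G : Type*} [Group G] {A P : Subgroup G}
    (hAc : ∀ x ∈ A, ∀ y ∈ A, x * y = y * x) (hPA : P ≤ Subgroup.normalizer (A : Set G)) {a : G} (ha : a ∈ A) :
    QuadOn P a := by
  intro x hx
  have h1 : x * a⁻¹ * x⁻¹ ∈ A := (Subgroup.mem_normalizer_iff.mp (hPA hx) _).mp (A.inv_mem ha)
  have h2 : a * x * a⁻¹ * x⁻¹ ∈ A := by
    have : a * x * a⁻¹ * x⁻¹ = a * (x * a⁻¹ * x⁻¹) := by group
    rw [this]
    exact A.mul_mem ha h1
  rw [hAc a ha _ h2, mul_inv_cancel_right]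

/-- Hall–Higman for odd order: in a solvable group of odd order, every abelian normal subgroup of a Sylow p-subgroup lies in O_{p',p}(G). -/
theorem result {G : Type*} [Group G] [Finite G] [Group.IsSolvable G] (hodd : Odd (Nat.card G)) (p : ℕ) [Fact p.Prime] (S : Sylow p G) (A : Subgroup G) (hA : A ≤ (S : Subgroup G)) (hAc : IsMulCommutative A)
    (hAn : (S : Subgroup G) ≤ Subgroup.normalizer (A : Set G)) :
    A ≤ Cfsg.pPrimePCore p G := by
  by_cases hp : p = 2
  · subst hp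
    rw [sylow_two_eq_bot hodd S] at hA
    exact hA.trans bot_le
  set N := pPrimeCore p G with hN
  set π := QuotientGroup.mk' N with hπ
  have hπs : Function.Surjective π := QuotientGroup.mk'_surjective N
  have hoddq : Odd (Nat.card (G ⧸ N)) :=
    Odd.of_dvd_nat hodd (Subgroup.card_quotient_dvd_card N)
  have hcore : pPrimeCore p (G ⧸ N) = ⊥ := Cfsg.Agent.Lib.Lead.pPrimeCore_quotient_pPrimeCore p G
  have hc := Cfsg.Agent.Lib.Helper24.centralizer_pCore_le_of_solvable (H := G ⧸ N) p hcore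
  have hst : QStable p (G ⧸ N) := (abSylTwo_of_odd hoddq).qStable hp
  intro a ha
  change π a ∈ pCore p (G ⧸ N)
  apply mem_pCore_of_quadOn hst hc
  have hQS : pCore p (G ⧸ N) ≤ (S : Subgroup G).map π := by
    have := Cfsg.Agent.Lib.Helper1.pCore_le_sylow (Sylow.mapSurjective hπs S)
    exact this
  refine quadOn_of_abelian_normal (A := A.map π) ?_ ?_ ⟨a, ha, rfl⟩
  · rintro _ ⟨x, hx, rfl⟩ _ ⟨y, hy, rfl⟩
    rw [← map_mul, ← map_mul]
    exact congrArg π (congrArg Subtype.val (hAc.is_comm.comm ⟨x, hx⟩ ⟨y, hy⟩))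
  · refine hQS.trans ?_
    exact (Subgroup.map_mono hAn).trans (Subgroup.le_normalizer_map π)

end Cfsg.Agent.S1457
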