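import Mathlib
import Cfsg.Statements.S1397
import Cfsg.Agent.Lib.Helper22.BG.FittingB

set_option autoImplicit false
open Cfsg

namespace Cfsg.Agent.S1397

/-- Let G be a minimal simple group of odd order, M a maximal subgroup, p a prime and A₀ an elementary abelian p-subgroup of F(M) of order at least p ^ 3 that is maximal among elementary abelian p-subgroups of F(M). (a) If F(M) is not a p-group, then F(M) ∩ C_G(A₀) lies in exactly one maximal subgroup of G. (b) If F(M) is a p-group and P is a Sylow p-subgroup of M, then p does not divide the index of P in G, and every normal self-centralizing subgroup A of P containing an elementary abelian subgroup of order p ^ 3 is contained in F(M) and lies in exactly one maximal subgroup of G. -/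
theorem result {G : Type*} [Group G] [Finite G] (hG : Cfsg.IsMinSimpleOddOrder G)
    (M : Subgroup G) (hM : IsCoatom M) (p : ℕ) [Fact p.Prime] (A₀ : Subgroup G)
    (hA₀ : A₀ ≤ Cfsg.fittingOf M) (hA₀e : Cfsg.IsElementaryAbelian p A₀) (hA₀3 : p ^ 3 ≤ Nat.card A₀)
    (hA₀max : ∀ B : Subgroup G, B ≤ Cfsg.fittingOf M → Cfsg.IsElementaryAbelian p B → A₀ ≤ B → B = A₀) :
    (¬ IsPGroup p ↥(Cfsg.fittingOf M) → Cfsg.InUniqueMaximal (Cfsg.fittingOf M ⊓ Subgroup.centralizer (A₀ : Set G))) ∧
      (IsPGroup p ↥(Cfsg.fittingOf M) → ∀ P : Sylow p M,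
        ¬ p ∣ ((P : Subgroup M).map M.subtype).index ∧
        ∀ A : Subgroup G, Cfsg.IsSCN ((P : Subgroup M).map M.subtype) A → ¬ Cfsg.PRankLE p 2 ↥A →
          A ≤ Cfsg.fittingOf M ∧ Cfsg.InUniqueMaximal A) := by
  have hFM : Cfsg.fittingOf M ≤ M := Cfsg.Agent.S1481.fittingOf_le M
  have hFne : Cfsg.fittingOf M ≠ ⊥ := by
    intro h
    rw [h, le_bot_iff] at hA₀
    rw [hA₀, Subgroup.card_bot] at hA₀3
    have : 1 < p ^ 3 := Nat.one_lt_pow (by norm_num) (Fact.out : p.Prime).one_lt
    omega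
  constructor
  · intro hnp
    exact Lib.Helper22.BG.uniq_iff.mpr ⟨M, hM, inf_le_left.trans hFM,
      Lib.Helper22.BG.fitting_uniq_a hG hM hA₀ hA₀e hA₀3 hnp⟩
  · intro hFp P
    have hP := Lib.Helper22.BG.Syl.of_sylow_sub P
    have hcore := Lib.Helper22.BG.coreOf_eq_bot_of_fitting (Lib.Helper22.BG.solv hG hM.1) hFp
    have htop := Lib.Helper22.BG.syl_top_of_core hG hM hcore hP
      (Lib.Helper22.BG.syl_ne_bot hP hFp hFM hFne)
    refine ⟨?_, ?_⟩
    · have := htop.ndvd
      rwa [Subgroup.relIndex_top_right] at this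
    · intro A hA hA3
      obtain ⟨h1, h2⟩ := Lib.Helper22.BG.fitting_uniq_b hG hM hFne hFp hP hA hA3
      exact ⟨h1, Lib.Helper22.BG.uniq_iff.mpr ⟨M, hM, h1.trans hFM, h2⟩⟩

end Cfsg.Agent.S1397
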