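import Mathlib
import Cfsg.Statements.S1401
import Cfsg.Agent.S1397
import Cfsg.Agent.S1399
import Cfsg.Agent.S1400

set_option autoImplicit false
open Cfsg

namespace Cfsg.Agent.S1401

open Cfsg.Agent.Lib.Helper23U Cfsg.Agent.Lib.Helper22.BG

theorem not_pRankLE_of_le {G : Type*} [Group G] {p k : ℕ} {Z B : Subgroup G} (hBZ : B ≤ Z)
    (hB : Cfsg.IsElementaryAbelian p B) (hcard : p ^ k < Nat.card B) : ¬ Cfsg.PRankLE p k Z := by
  intro h
  have h1 := h (B.subgroupOf Z)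
    (by
      refine ⟨⟨fun x y => ?_⟩⟩
      apply Subtype.ext
      apply Subtype.ext
      have := hB.1.is_comm.comm ⟨x.1.1, x.2⟩ ⟨y.1.1, y.2⟩
      have h2 : x.1.1 * y.1.1 = y.1.1 * x.1.1 := congrArg Subtype.val this
      exact h2)
    (by
      intro a ha
      exact Subtype.ext (hB.2 a ha))
  rw [Nat.card_congr (Subgroup.subgroupOfEquivOfLe hBZ).toEquiv] at h1
  omega

theorem not_pRankLE_top {G : Type*} [Group G] {p k : ℕ} {B : Subgroup G}
    (hB : Cfsg.IsElementaryAbelian p B) (hcard : p ^ k < Nat.card B) : ¬ Cfsg.PRankLE p k G := by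
  intro h
  have h1 := h B hB.1 hB.2
  omega

/-- Let G be a minimal simple group of odd order, p a prime, and M a maximal subgroup whose Fitting subgroup contains an elementary abelian subgroup of order p ^ 3. Then every abelian p-subgroup of G containing an elementary abelian subgroup of order p ^ 3 lies in exactly one maximal subgroup of G. -/
theorem result {G : Type*} [Group G] [Finite G] (hG : Cfsg.IsMinSimpleOddOrder G)
    (M : Subgroup G) (hM : IsCoatom M) (p : ℕ) [Fact p.Prime] (hF : ¬ Cfsg.PRankLE p 2 ↥(Cfsg.fittingOf M))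
    (A : Subgroup G) (hAp : IsPGroup p A) (hAc : IsMulCommutative A) (hA3 : ¬ Cfsg.PRankLE p 2 ↥A) :
    Cfsg.InUniqueMaximal A := by
  have hp : p.Prime := Fact.out
  obtain ⟨B₀, hB₀F, hB₀e, hB₀c⟩ := exists_elemAb_of_not_pRankLE hF
  obtain ⟨B₁, hB₁A, hB₁e, hB₁c⟩ := exists_elemAb_of_not_pRankLE hA3
  obtain ⟨A₀, hle, hmax⟩ := (Set.toFinite {B : Subgroup G | B ≤ Cfsg.fittingOf M ∧
    Cfsg.IsElementaryAbelian p B}).exists_le_maximal (a := B₀) ⟨hB₀F, hB₀e⟩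
  have hA₀F : A₀ ≤ Cfsg.fittingOf M := hmax.prop.1
  have hA₀e : Cfsg.IsElementaryAbelian p A₀ := hmax.prop.2
  have hA₀c : p ^ 2 < Nat.card A₀ := lt_of_lt_of_le hB₀c (Subgroup.card_le_of_le hle)
  have hA₀p : IsPGroup p A₀ := isPGroup_of_elemAb hA₀e.2
  have hA₀3 : p ^ 3 ≤ Nat.card A₀ := by
    obtain ⟨n, hn⟩ := IsPGroup.iff_card.mp hA₀p
    rw [hn] at hA₀c ⊢
    have h2 : 2 < n := (Nat.pow_lt_pow_iff_right hp.one_lt).mp hA₀c
    exact Nat.pow_le_pow_right hp.pos h2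
  have key := Cfsg.Agent.S1397.result hG M hM p A₀ hA₀F hA₀e hA₀3
    (fun B hBF hBe hAB => le_antisymm (hmax.le_of_ge ⟨hBF, hBe⟩ hAB) hAB)
  have hAcomm : A ≤ Subgroup.centralizer (A : Set G) := by
    intro x hx
    rw [Subgroup.mem_centralizer_iff]
    intro y hy
    exact congrArg Subtype.val (hAc.is_comm.comm ⟨y, hy⟩ ⟨x, hx⟩)
  have hAnc : ¬ IsCyclic A := by
    intro hc
    have : IsCyclic B₁ := Subgroup.isCyclic_of_le hB₁A
    refine not_isCyclic_of_elemAb hB₁e.2 (lt_trans ?_ hB₁c) this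
    nlinarith [hp.one_lt]
  have hAC3 : ¬ Cfsg.PRankLE p 2 ↥(Subgroup.centralizer (A : Set G)) :=
    not_pRankLE_of_le (hB₁A.trans hAcomm) hB₁e hB₁c
  suffices h : ∃ A₁ : Subgroup G, IsPGroup p A₁ ∧ IsMulCommutative A₁ ∧ ¬ Cfsg.PRankLE p 2 ↥A₁ ∧
      Cfsg.InUniqueMaximal A₁ by
    obtain ⟨A₁, h1, h2, h3, h4⟩ := h
    exact Cfsg.Agent.S1400.result hG p A₁ A h1 h2 h3 h4 hAp hAnc hAC3
  by_cases hFp : IsPGroup p ↥(Cfsg.fittingOf M)
  · obtain ⟨P⟩ : Nonempty (Sylow p M) := inferInstance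
    obtain ⟨hidx, hscn⟩ := key.2 hFp P
    have hP₀ : IsPGroup p ((P : Subgroup M).map M.subtype) := P.isPGroup'.map _
    have hp2 : p ≠ 2 := by
      apply ne_two_of_isPGroup hG hA₀p
      rintro rfl
      rw [Subgroup.card_bot] at hA₀c
      have := Nat.one_le_pow 2 p hp.pos
      omega
    obtain ⟨A₁, hA₁, hA₁3⟩ := exists_scn3 hp2 (hP₀.toSylow hidx) (not_pRankLE_top hB₁e hB₁c)
    have hA₁' : Cfsg.IsSCN ((P : Subgroup M).map M.subtype) A₁ := hA₁
    exact ⟨A₁, hP₀.to_le hA₁'.1, isMulCommutative_of_le_centralizer (scn_comm hA₁'), hA₁3,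
      (hscn A₁ hA₁' hA₁3).2⟩
  · refine ⟨A₀, hA₀p, hA₀e.1, not_pRankLE_of_le le_rfl hA₀e hA₀c, ?_⟩
    refine Cfsg.Agent.S1399.result hG _ A₀ (key.1 hFp) ?_ (not_rankLE_one_of hp le_rfl hA₀e hA₀c.le)
    exact Subgroup.le_centralizer_iff.mp inf_le_right

end Cfsg.Agent.S1401
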