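import Cfsg.Statements.S1350
import Cfsg.Agent.S1403
import Cfsg.Agent.Lib.Helper24.BG10b
import Cfsg.Agent.Lib.Helper22.PiCoreOf

set_option autoImplicit false
set_option linter.style.haveILetI false
open Cfsg
open Cfsg.Agent.Lib.Helper24

namespace Cfsg.Agent.S1350

/-- Let G be a minimal simple group of odd order and M a maximal subgroup. Then M_σ (the largest normal σ(M)-subgroup of M) is a Hall σ(M)-subgroup of M and also of G, and every Hall σ(M)-subgroup of M that is normal in M equals M_σ. -/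
theorem result {G : Type*} [Group G] [Finite G] (hG : Cfsg.IsMinSimpleOddOrder G)
    (M : Subgroup G) (hM : IsCoatom M) :
    Cfsg.IsPiHallOf (Cfsg.sigma M) (Cfsg.sigmaCore M) M ∧ Cfsg.IsPiHall (Cfsg.sigma M) (Cfsg.sigmaCore M) ∧
      ∀ N : Subgroup G, M ≤ Subgroup.normalizer (N : Set G) → Cfsg.IsPiHallOf (Cfsg.sigma M) N M →
        N = Cfsg.sigmaCore M := by
  have hU : UT G := fun K hK hK2 hK3 => Cfsg.Agent.S1403.result hG K hK hK2 hK3
  have hα : Cfsg.alpha M ⊆ Cfsg.sigma M := fun p hp => alpha_subset_sigma hG hU hM hp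
  obtain ⟨h1, h2⟩ := piCoreOf_hall hG hU hM (Cfsg.sigma M) hα subset_rfl
  refine ⟨h1, h2, ?_⟩
  intro N hMN hN
  exact IsPiHallOf_eq_of_le hN (Cfsg.Agent.Lib.Helper22.le_piCoreOf (Cfsg.sigma M) hN.1 hMN hN.2.1)
    h1.1 h1.2.1

end Cfsg.Agent.S1350
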