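import Cfsg.Statements.S1415
import Cfsg.Agent.S1405
import Cfsg.Agent.S1350
import Cfsg.Agent.Lib.Helper68.BG121

set_option autoImplicit false
set_option linter.unusedVariables false
set_option linter.style.haveILetI false
open Cfsg

namespace Cfsg.Agent.S1415

open Subgroup Cfsg.Agent.Lib.Helper68.BG121
open scoped commutatorElement

/-- Let G be a minimal simple group of odd order, M a maximal subgroup and E a complement to M_σ in M. Then the derived subgroup E' is nilpotent; every Hall τ₁(M)-subgroup of E is cyclic; and every Hall τ₃(M)-subgroup E₃ of E is cyclic, contained in E' and normal in E. -/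
theorem result {G : Type*} [Group G] [Finite G] (hG : Cfsg.IsMinSimpleOddOrder G)
    (M : Subgroup G) (hM : IsCoatom M) (E : Subgroup G) (hE : Cfsg.IsComplIn E (Cfsg.sigmaCore M) M) :
    Group.IsNilpotent ↥⁅E, E⁆ ∧
      (∀ E₁ : Subgroup G, Cfsg.IsPiHallOf (Cfsg.tau1 M) E₁ E → IsCyclic E₁) ∧
      ∀ E₃ : Subgroup G, Cfsg.IsPiHallOf (Cfsg.tau3 M) E₃ E → IsCyclic E₃ ∧ E₃ ≤ ⁅E, E⁆ ∧ E ≤ Subgroup.normalizer (E₃ : Set G) := by
  obtain ⟨hEM, hMsM, hdisj, hfac⟩ := hE
  obtain ⟨-, -, hασ, -, hnil⟩ := Cfsg.Agent.S1405.result hG M hM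
  obtain ⟨⟨-, hσ, -⟩, -, -⟩ := Cfsg.Agent.S1350.result hG M hM
  have hMsn : M ≤ normalizer (sigmaCore M : Set G) :=
    Cfsg.Agent.Lib.Helper22.BG.le_normalizer_map_subtype _ inferInstance
  have hE'E : ⁅E, E⁆ ≤ E := commutator_le_self E
  -- (a)
  have hnilE : Group.IsNilpotent ↥⁅E, E⁆ := by
    haveI := hnil
    have hmem : ∀ x : ↥⁅E, E⁆, (QuotientGroup.mk' (piCore (alpha M) ↥M))
        (Subgroup.inclusion (hE'E.trans hEM) x) ∈
        (commutator ↥M).map (QuotientGroup.mk' (piCore (alpha M) ↥M)) := by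
      intro x
      apply mem_map_of_mem
      have h1 : (x : G) ∈ ⁅M, M⁆ := commutator_mono hEM hEM x.2
      rw [← map_subtype_commutator] at h1
      obtain ⟨y, hy, hyx⟩ := h1
      have : Subgroup.inclusion (hE'E.trans hEM) x = y := Subtype.ext hyx.symm
      rw [this]; exact hy
    apply isNilpotent_of_injective
      (((QuotientGroup.mk' (piCore (alpha M) ↥M)).comp (Subgroup.inclusion (hE'E.trans hEM))).codRestrict
        ((commutator ↥M).map (QuotientGroup.mk' (piCore (alpha M) ↥M))) hmem)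
    rw [injective_iff_map_eq_one]
    intro x hx
    have h1 : (QuotientGroup.mk' (piCore (alpha M) ↥M)) (Subgroup.inclusion (hE'E.trans hEM) x) = 1 :=
      congrArg Subtype.val hx
    rw [← MonoidHom.mem_ker, QuotientGroup.ker_mk'] at h1
    have h2 : (x : G) ∈ alphaCore M := ⟨_, h1, rfl⟩
    have h3 : (x : G) ∈ E ⊓ sigmaCore M := mem_inf.2 ⟨hE'E x.2, hασ h2⟩
    rw [hdisj, mem_bot] at h3
    exact Subtype.ext h3
  refine ⟨hnilE, ?_, ?_⟩
  · -- (b)
    rintro E₁ ⟨hE₁E, hE₁π, -⟩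
    haveI : IsZGroup ↥E₁ := isZGroup_of_pRankLE_one (hE₁E.trans hEM)
      (Cfsg.Agent.Lib.Helper24.MS_odd hG _) (fun q hq hqd => (hE₁π q hq hqd).2.2.2.2)
    have hcop : (Nat.card E₁).Coprime (Nat.card ↥⁅M, M⁆) :=
      Nat.coprime_of_dvd fun k hk h1 h2 => (hE₁π k hk h1).2.2.2.1 h2
    have hbot : ⁅E₁, E₁⁆ = ⊥ := by
      rw [eq_bot_iff, ← inf_eq_bot_of_coprime hcop]
      exact le_inf (commutator_le_self E₁)
        (commutator_mono (hE₁E.trans hEM) (hE₁E.trans hEM))
    haveI : IsMulCommutative ↥E₁ :=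
      le_centralizer_iff_isMulCommutative.1 (commutator_eq_bot_iff_le_centralizer.1 hbot)
    haveI : Group.IsNilpotent ↥E₁ := by
      open scoped IsMulCommutative in exact CommGroup.isNilpotent
    infer_instance
  · -- (c)
    rintro E₃ ⟨hE₃E, hE₃π, hE₃i⟩
    haveI : IsZGroup ↥E₃ := isZGroup_of_pRankLE_one (hE₃E.trans hEM)
      (Cfsg.Agent.Lib.Helper24.MS_odd hG _) (fun q hq hqd => (hE₃π q hq hqd).2.2.2)
    have hcardC : Nat.card (commutator ↥E) = Nat.card ↥⁅E, E⁆ := by
      rw [← map_subtype_commutator]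
      exact (Nat.card_congr ((commutator ↥E).equivMapOfInjective E.subtype E.subtype_injective).toEquiv)
    have hM' : ⁅M, M⁆ ≤ sigmaCore M ⊔ ⁅E, E⁆ := commutator_le_sup_of_compl hEM hMsn hfac
    have hnE : ⁅E, E⁆ ≤ normalizer (sigmaCore M : Set G) := (hE'E.trans hEM).trans hMsn
    have claim1 : ∀ p : ℕ, p ∈ tau3 M → ¬ p ∣ (commutator ↥E).index := by
      rintro p ⟨hp, hpσ, hpM', hpr⟩
      haveI : Fact p.Prime := ⟨hp⟩
      have hp2 : p ≠ 2 := Cfsg.Agent.Lib.Helper24.MS_prime_ne_two hG hpM'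
      have hd : p ∣ Nat.card (commutator ↥E) := by
        rw [hcardC]
        have h1 : p ∣ Nat.card (sigmaCore M) * Nat.card ↥⁅E, E⁆ :=
          (hpM'.trans (card_dvd_of_le hM')).trans (Cfsg.Agent.Lib.Helper22.card_sup_dvd hnE)
        rcases (Nat.Prime.dvd_mul hp).1 h1 with h2 | h2
        · exact absurd (hσ p hp h2) hpσ
        · exact h2
      let P : Sylow p ↥E := default
      haveI : IsCyclic ↥(P : Subgroup ↥E) := by
        apply Cfsg.Agent.Lib.Helper24.isCyclic_of_pRankLE_one hp2 P.2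
        exact Cfsg.Agent.Lib.Helper23.pRankLE_of_injective p 1
          ((Subgroup.inclusion hEM).comp (P : Subgroup ↥E).subtype)
          ((Subgroup.inclusion_injective hEM).comp (Subgroup.subtype_injective _)) hpr
      exact (Sylow.not_dvd_card_commutator_or_not_dvd_index_commutator P).resolve_left (not_not.2 hd)
    have hE₃E' : E₃ ≤ ⁅E, E⁆ := by
      have h1 : E₃.subgroupOf E ≤ commutator ↥E := by
        apply le_of_normal_of_coprime_index
        rw [Nat.card_congr (subgroupOfEquivOfLe hE₃E).toEquiv]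
        exact Nat.coprime_of_dvd fun k hk h1 h2 => claim1 k (hE₃π k hk h1) h2
      have h2 := map_mono (f := E.subtype) h1
      rwa [map_subgroupOf_eq_of_le hE₃E, map_subtype_commutator] at h2
    haveI : Group.IsNilpotent ↥E₃ := Cfsg.Agent.Lib.Helper24.isNilpotent_of_le hE₃E' hnilE
    refine ⟨inferInstance, hE₃E', ?_⟩
    have hcop : (Nat.card E₃).Coprime (E₃.relIndex ⁅E, E⁆) := by
      apply Nat.coprime_of_dvd
      intro k hk h1 h2
      apply hE₃i k hk (hE₃π k hk h1)
      rw [← relIndex_mul_relIndex E₃ ⁅E, E⁆ E hE₃E' hE'E]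
      exact h2.mul_right _
    refine le_trans ?_ (normalizer_le_normalizer_of_hall_nilpotent hE₃E' hnilE hcop)
    exact Cfsg.Agent.Lib.Helper47.le_normalizer_commutator le_normalizer le_normalizer

end Cfsg.Agent.S1415
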