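import Cfsg.Statements.S1407
import Cfsg.Agent.S1403
import Cfsg.Agent.Lib.Helper24.BG10c

set_option autoImplicit false
set_option linter.style.haveILetI false
open Cfsg
open Cfsg.Agent.Lib.Helper24

namespace Cfsg.Agent.S1407

/-- Let G be a minimal simple group of odd order, M a maximal subgroup with M_α ≠ 1, p a prime dividing the order of M but not in σ(M), and P a Sylow p-subgroup of M. Then there is an element x of order p in the centre of P such that M_α ∩ C_G(x) has all Sylow subgroups cyclic and M is not the unique maximal subgroup of G containing C_G(x). -/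
theorem result {G : Type*} [Group G] [Finite G] (hG : Cfsg.IsMinSimpleOddOrder G)
    (M : Subgroup G) (hM : IsCoatom M) (hMα : Cfsg.alphaCore M ≠ ⊥) (p : ℕ) [Fact p.Prime] (hpM : p ∣ Nat.card M) (hp : p ∉ Cfsg.sigma M) (P : Sylow p M) :
    ∃ x : G, x ∈ ((Subgroup.center ↥(P : Subgroup M)).map (P : Subgroup M).subtype).map M.subtype ∧ orderOf x = p ∧
        IsZGroup ↥(Cfsg.alphaCore M ⊓ Subgroup.centralizer ({x} : Set G)) ∧
        ¬ (Subgroup.centralizer ({x} : Set G) ≤ M ∧ ∀ L : Subgroup G, IsCoatom L → Subgroup.centralizer ({x} : Set G) ≤ L → L = M) := by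
  have hU : UT G := fun K hK hK2 hK3 => Cfsg.Agent.S1403.result hG K hK hK2 hK3
  obtain ⟨x, hxP, hxC, h1, h2, h3⟩ := exists_central_not_uniq hG hU hM hpM hp
    (Cfsg.Agent.Lib.Helper34.Sylow.isSylowIn_map P)
  refine ⟨x, ?_, h1, h2, h3⟩
  obtain ⟨y, hy, rfl⟩ := Subgroup.mem_map.1 hxP
  refine Subgroup.mem_map.2 ⟨y, Subgroup.mem_map.2 ⟨⟨y, hy⟩, ?_, rfl⟩, rfl⟩
  rw [Subgroup.mem_center_iff]
  intro g
  apply Subtype.ext
  apply Subtype.ext
  have := (Subgroup.mem_centralizer_iff.1 hxC) (M.subtype g.1) (Subgroup.mem_map.2 ⟨g.1, g.2, rfl⟩)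
  exact this

end Cfsg.Agent.S1407
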