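import Cfsg.Statements.S1458
import Cfsg.Agent.S1457
import Cfsg.Agent.Lib.Helper34.Functor
import Cfsg.Agent.Lib.Helper1.ZJE
import Cfsg.Agent.Lib.Helper1.ZJEFunctor

set_option autoImplicit false
open Cfsg

namespace Cfsg.Agent.S1458

open Cfsg.Agent.Lib.Helper34

/-- In a solvable group of odd order with Sylow p-subgroup S, Z(J(S)) O_{p'}(G) is a normal subgroup. -/
theorem result {G : Type*} [Group G] [Finite G] [Group.IsSolvable G] (hodd : Odd (Nat.card G)) (p : ℕ) [Fact p.Prime] (S : Sylow p G) :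
    (Cfsg.centerThompsonOf p (S : Subgroup G) ⊔ Cfsg.pPrimeCore p G).Normal := by
  have hZS : centerThompsonOf p (S : Subgroup G) ≤ S := by
    rw [← Cfsg.Agent.Lib.Helper1.ZJE.inducedFunctor_zjE]
    exact inducedFunctor_le _
  by_cases hp : p = 2
  · subst hp
    have h0 : centerThompsonOf 2 (S : Subgroup G) = ⊥ := by
      rw [← le_bot_iff, ← Cfsg.Agent.S1457.sylow_two_eq_bot hodd S]
      exact hZS
    rw [h0, bot_sup_eq]
    infer_instance
  set N := pPrimeCore p G with hN
  set π := QuotientGroup.mk' N with hπ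
  have hπs : Function.Surjective π := QuotientGroup.mk'_surjective N
  have hoddq : Odd (Nat.card (G ⧸ N)) :=
    Odd.of_dvd_nat hodd (Subgroup.card_quotient_dvd_card N)
  have hcore : pPrimeCore p (G ⧸ N) = ⊥ := Cfsg.Agent.Lib.Lead.pPrimeCore_quotient_pPrimeCore p G
  have hc := Cfsg.Agent.Lib.Helper24.centralizer_pCore_le_of_solvable (H := G ⧸ N) p hcore
  have hst : QStable p (G ⧸ N) := (abSylTwo_of_odd hoddq).qStable hp
  have hn := Cfsg.Agent.Lib.Helper1.ZJE.centerThompsonOf_normal hp hc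
    (fun P _ hP => hst.isPStableOn P hP) (Sylow.mapSurjective hπs S)
  have hmap : centerThompsonOf p ((Sylow.mapSurjective hπs S : Sylow p (G ⧸ N)) : Subgroup (G ⧸ N))
      = (centerThompsonOf p (S : Subgroup G)).map π := by
    rw [← Cfsg.Agent.Lib.Helper1.ZJE.inducedFunctor_zjE, ← Cfsg.Agent.Lib.Helper1.ZJE.inducedFunctor_zjE]
    refine inducedFunctor_map_of_injOn Cfsg.Agent.Lib.Helper1.ZJE.isCharPFunctor_zjE π (S : Subgroup G)
      S.isPGroup' ?_
    intro x hx hx1
    have hxN : x ∈ N := (QuotientGroup.eq_one_iff x).mp hx1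
    obtain ⟨k, hk⟩ := S.isPGroup' ⟨x, hx⟩
    have h1 : x ^ p ^ k = 1 := congrArg Subtype.val hk
    have h2 : x ^ Nat.card N = 1 := by
      have := pow_card_eq_one' (x := (⟨x, hxN⟩ : N))
      exact congrArg Subtype.val this
    exact eq_one_of_pow_eq_one_of_coprime
      (Nat.Coprime.pow_right k (Cfsg.Agent.Lib.Helper1.pPrimeCore_coprime (Fact.out : p.Prime))) h2 h1
  rw [hmap] at hn
  have h3 : centerThompsonOf p (S : Subgroup G) ⊔ N
      = ((centerThompsonOf p (S : Subgroup G)).map π).comap π := by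
    rw [Subgroup.comap_map_eq, QuotientGroup.ker_mk']
  rw [h3]
  exact hn.comap π

end Cfsg.Agent.S1458
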