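import Cfsg.Statements.S2908
import Cfsg.Agent.Lib.Helper1.Coprime2
import Cfsg.Agent.Lib.Helper24.PGroup

set_option autoImplicit false
open Cfsg

namespace Cfsg.Agent.S2908

open scoped commutatorElement in
theorem aux {G : Type*} [Group G] [Finite G] {p : ℕ} [Fact p.Prime] (P A B : Subgroup G) (hP : IsPGroup p ↥P) (hA : IsPGroup p ↥A) (hB : ¬ p ∣ Nat.card ↥B) (hnA : A ≤ Subgroup.normalizer (P : Set G)) (hnB : B ≤ Subgroup.normalizer (P : Set G)) (hAB : ⁅A, B⁆ = ⊥) (hcomm : ⁅P, B⁆ ≤ ⁅P, A⁆) : ⁅P, B⁆ = ⊥ := by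
  classical
  set W := ⁅P, B⁆ with hW
  set H := P ⊔ A with hH
  have hHp : IsPGroup p H := hP.to_sup_of_normal_left' hA hnA
  have hHnil : Group.IsNilpotent H := hHp.isNilpotent
  have hWP : W ≤ P := Subgroup.le_normalizer_iff_commutator_le_left.1 hnB
  have hcop : (Nat.card B).Coprime (Nat.card P) := by
    obtain ⟨n, hn⟩ := IsPGroup.iff_card.mp hP
    rw [hn]
    exact Nat.Coprime.pow_right n ((Nat.Prime.coprime_iff_not_dvd Fact.out).mpr hB).symm
  have hPnil : Group.IsNilpotent P := hP.isNilpotent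
  have hsolv : Group.IsSolvable B ∨ Group.IsSolvable P := Or.inr inferInstance
  have hABc : A ≤ Subgroup.centralizer (B : Set G) := Subgroup.commutator_eq_bot_iff_le_centralizer.mp hAB
  have hBAc : B ≤ Subgroup.centralizer (A : Set G) := by
    rw [Subgroup.commutator_comm] at hAB
    exact Subgroup.commutator_eq_bot_iff_le_centralizer.mp hAB
  have hHW : H ≤ Subgroup.normalizer (W : Set G) :=
    sup_le (Subgroup.normalizer_commutator_ge_left P B)
      ((le_inf hnA (hABc.trans (Lib.Helper24.centralizer_le_normalizer' B))).trans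
        (Lib.Helper24.normalizer_inf_le_normalizer_commutator P B))
  set W1 := ⁅W, H⁆ with hW1
  have hW1W : W1 ≤ W := Subgroup.le_normalizer_iff_commutator_le_left.1 hHW
  have hHW1 : H ≤ Subgroup.normalizer (W1 : Set G) := Subgroup.normalizer_commutator_ge_right W H
  have hBW : B ≤ Subgroup.normalizer (W : Set G) := Subgroup.normalizer_commutator_ge_right P B
  have hBH : B ≤ Subgroup.normalizer (H : Set G) := by
    intro b hb
    rw [Subgroup.mem_normalizer_iff_map_conj_eq, hH, Subgroup.map_sup,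
      Subgroup.mem_normalizer_iff_map_conj_eq.mp (hnB hb),
      Subgroup.mem_normalizer_iff_map_conj_eq.mp
        ((hBAc.trans (Lib.Helper24.centralizer_le_normalizer' A)) hb)]
  have hBW1 : B ≤ Subgroup.normalizer (W1 : Set G) :=
    (le_inf hBW hBH).trans (Lib.Helper24.normalizer_inf_le_normalizer_commutator W H)
  apply Lib.Helper24.eq_bot_of_le_commutator hHnil (hWP.trans le_sup_left)
  set C := P ⊓ Subgroup.centralizer (B : Set G) with hC
  have hb : ⁅P, A⁆ ≤ C ⊔ W1 := by
    rw [Subgroup.commutator_le]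
    intro k hk a ha
    obtain ⟨x, hx, c, hc, rfl⟩ := Lib.Helper1.exists_commutator_mul_fixed B P hnB hcop hsolv k hk
    rw [commutatorElement_mul_left_eq_conj_mul]
    have h1 : ⁅c, a⁆ ∈ C := by
      refine Subgroup.mem_inf.mpr ⟨?_, ?_⟩
      · have h5 : a * c⁻¹ * a⁻¹ ∈ P :=
          (Subgroup.mem_normalizer_iff.mp (hnA ha) _).mp (P.inv_mem hc.1)
        have h6 := P.mul_mem hc.1 h5
        rw [commutatorElement_def]
        simpa [mul_assoc] using h6
      · rw [commutatorElement_def]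
        exact Subgroup.mul_mem _ (Subgroup.mul_mem _ (Subgroup.mul_mem _ hc.2 (hABc ha))
          (Subgroup.inv_mem _ hc.2)) (Subgroup.inv_mem _ (hABc ha))
    have h2 : ⁅x, a⁆ ∈ W1 := Subgroup.commutator_mem_commutator hx (Subgroup.mem_sup_right ha)
    have h3 : x * ⁅c, a⁆ * x⁻¹ = ⁅x, ⁅c, a⁆⁆ * ⁅c, a⁆ := by
      simp [commutatorElement_def, mul_assoc]
    have h4 : ⁅x, ⁅c, a⁆⁆ ∈ W1 := Subgroup.commutator_mem_commutator hx (Subgroup.mem_sup_left h1.1)
    rw [h3]
    exact Subgroup.mul_mem _ (Subgroup.mul_mem _ (Subgroup.mem_sup_right h4) (Subgroup.mem_sup_left h1))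
      (Subgroup.mem_sup_right h2)
  have hd : ∀ g ∈ C ⊔ W1, g ∈ P ∧ ∀ b ∈ B, ⁅g, b⁆ ∈ W1 := by
    intro g hg
    rw [Subgroup.sup_eq_closure] at hg
    induction hg using Subgroup.closure_induction with
    | mem y hy =>
      rcases hy with hy | hy
      · refine ⟨hy.1, fun b hb' => ?_⟩
        have : ⁅y, b⁆ = 1 := by
          rw [commutatorElement_eq_one_iff_mul_comm]
          exact (Subgroup.mem_centralizer_iff.mp hy.2 b hb').symm
        rw [this]; exact Subgroup.one_mem _
      · refine ⟨hWP (hW1W hy), fun b hb' => ?_⟩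
        have h5 : b * y⁻¹ * b⁻¹ ∈ W1 :=
          (Subgroup.mem_normalizer_iff.mp (hBW1 hb') _).mp (W1.inv_mem hy)
        have h6 := W1.mul_mem hy h5
        rw [commutatorElement_def]
        simpa [mul_assoc] using h6
    | one => exact ⟨P.one_mem, fun b _ => by simp⟩
    | mul y z _ _ ihy ihz =>
      refine ⟨P.mul_mem ihy.1 ihz.1, fun b hb' => ?_⟩
      rw [commutatorElement_mul_left_eq_conj_mul]
      exact W1.mul_mem ((Subgroup.mem_normalizer_iff.mp (hHW1 (Subgroup.mem_sup_left ihy.1)) _).mp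
        (ihz.2 b hb')) (ihy.2 b hb')
    | inv y _ ihy =>
      refine ⟨P.inv_mem ihy.1, fun b hb' => ?_⟩
      rw [commutatorElement_inv_left]
      have h5 : ⁅b, y⁆ ∈ W1 := by
        rw [← commutatorElement_inv]; exact W1.inv_mem (ihy.2 b hb')
      have h6 := (Subgroup.mem_normalizer_iff.mp
        (hHW1 (Subgroup.mem_sup_left (P.inv_mem ihy.1))) _).mp h5
      simpa using h6
  have heq : ⁅W, B⁆ = W := Lib.Helper1.commutator_commutator_eq B P hnB hcop hsolv
  calc W = ⁅W, B⁆ := heq.symm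
    _ ≤ W1 := by
      rw [Subgroup.commutator_le]
      intro w hw b hb'
      exact (hd w (hb (hcomm hw))).2 b hb'

/-- Let P be a p-subgroup of a finite group, normalized by a p-subgroup A and by a subgroup B of order prime to p that commutes elementwise with A. If [P, B] ≤ [P, A], then B centralizes P. -/
theorem result {G : Type*} [Group G] [Finite G] {p : ℕ} [Fact p.Prime] (P A B : Subgroup G) (hP : IsPGroup p ↥P) (hA : IsPGroup p ↥A) (hB : ¬ p ∣ Nat.card ↥B) (hnA : A ≤ Subgroup.normalizer (P : Set G)) (hnB : B ≤ Subgroup.normalizer (P : Set G)) (hAB : ⁅A, B⁆ = ⊥) (hcomm : ⁅P, B⁆ ≤ ⁅P, A⁆) : ⁅P, B⁆ = ⊥ :=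
  aux P A B hP hA hB hnA hnB hAB hcomm

end Cfsg.Agent.S2908
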