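import Cfsg.Statements.S2909
import Cfsg.Agent.Lib.Helper24.PGroup
import Cfsg.Agent.Lib.Helper22.Generation
import Cfsg.Agent.S2908

set_option autoImplicit false
open Cfsg

namespace Cfsg.Agent.S2909

/-- the elements normalizing `F` and acting trivially on `E / F` -/
def trivOn {G : Type*} [Group G] (E F : Subgroup G) : Subgroup G where
  carrier := {g | g ∈ Subgroup.normalizer (F : Set G) ∧ ∀ e ∈ E, g * e * g⁻¹ * e⁻¹ ∈ F}
  one_mem' := ⟨Subgroup.one_mem _, fun e _ => by simp⟩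
  mul_mem' := by
    rintro g h ⟨hg, hg'⟩ ⟨hh, hh'⟩
    refine ⟨Subgroup.mul_mem _ hg hh, fun e he => ?_⟩
    have h1 : g * (h * e * h⁻¹ * e⁻¹) * g⁻¹ ∈ F := (Subgroup.mem_normalizer_iff.mp hg _).mp (hh' e he)
    have h2 := F.mul_mem h1 (hg' e he)
    have h3 : g * (h * e * h⁻¹ * e⁻¹) * g⁻¹ * (g * e * g⁻¹ * e⁻¹) = g * h * e * (g * h)⁻¹ * e⁻¹ := by
      group
    rwa [h3] at h2
  inv_mem' := by
    rintro g ⟨hg, hg'⟩
    refine ⟨Subgroup.inv_mem _ hg, fun e he => ?_⟩
    have h1 := F.inv_mem (hg' e he)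
    have h2 := (Subgroup.mem_normalizer_iff.mp (Subgroup.inv_mem _ hg) _).mp h1
    have h3 : g⁻¹ * (g * e * g⁻¹ * e⁻¹)⁻¹ * g⁻¹⁻¹ = g⁻¹ * e * g⁻¹⁻¹ * e⁻¹ := by group
    rwa [h3] at h2

theorem conj_mem_trivOn {G : Type*} [Group G] {E F : Subgroup G} {b t : G}
    (hbE : b ∈ Subgroup.normalizer (E : Set G)) (hbF : b ∈ Subgroup.normalizer (F : Set G))
    (ht : t ∈ trivOn E F) : b * t * b⁻¹ ∈ trivOn E F := by
  obtain ⟨ht1, ht2⟩ := ht
  refine ⟨Subgroup.mul_mem _ (Subgroup.mul_mem _ hbF ht1) (Subgroup.inv_mem _ hbF), fun e he => ?_⟩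
  have h1 : b⁻¹ * e * b⁻¹⁻¹ ∈ E :=
    (Subgroup.mem_normalizer_iff.mp (Subgroup.inv_mem _ hbE) _).mp he
  have h2 := (Subgroup.mem_normalizer_iff.mp hbF _).mp (ht2 _ h1)
  have h3 : b * (t * (b⁻¹ * e * b⁻¹⁻¹) * t⁻¹ * (b⁻¹ * e * b⁻¹⁻¹)⁻¹) * b⁻¹
      = b * t * b⁻¹ * e * (b * t * b⁻¹)⁻¹ * e⁻¹ := by group
  rwa [h3] at h2

theorem conj_mem_centralizer {G : Type*} [Group G] {F : Subgroup G} {b t : G}
    (hbF : b ∈ Subgroup.normalizer (F : Set G))
    (ht : t ∈ Subgroup.centralizer (F : Set G)) : b * t * b⁻¹ ∈ Subgroup.centralizer (F : Set G) := by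
  rw [Subgroup.mem_centralizer_iff] at ht ⊢
  intro f hf
  have h1 : b⁻¹ * f * b⁻¹⁻¹ ∈ F :=
    (Subgroup.mem_normalizer_iff.mp (Subgroup.inv_mem _ hbF) _).mp hf
  have h2 := ht _ h1
  have h3 : f * (b * t * b⁻¹) = b * ((b⁻¹ * f * b⁻¹⁻¹) * t) * b⁻¹ := by group
  rw [h3, h2]
  group

open scoped commutatorElement in
theorem aux {G : Type*} [Group G] [Finite G] {p : ℕ} [Fact p.Prime] (E : Subgroup G) [E.Normal]
    (hE : IsPGroup p ↥E) (U : Subgroup G) (hU : Cfsg.IsElementaryAbelian p U)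
    (hcond : (∀ u ∈ U, u ≠ 1 → E ⊓ Subgroup.centralizer (U : Set G) = E ⊓ Subgroup.centralizer ({u} : Set G)) ∨ (∀ u ∈ U, u ≠ 1 → ⁅E, U⁆ = ⁅E, Subgroup.zpowers u⁆))
    (R : Subgroup G) (hR : ¬ p ∣ Nat.card ↥R) (hRU : U ≤ Subgroup.normalizer (R : Set G))
    (u : G) (huU : u ∈ U) (hu1 : u ≠ 1) :
    ⁅R ⊓ Subgroup.centralizer ({u} : Set G), U⁆ ≤ Subgroup.centralizer (E : Set G) := by
  have hp : p.Prime := Fact.out
  have hUcomm : ∀ v ∈ U, ∀ w ∈ U, v * w = w * v := by
    intro v hv w hw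
    exact congrArg Subtype.val (hU.1.is_comm.comm (⟨v, hv⟩ : U) ⟨w, hw⟩)
  set B := R ⊓ Subgroup.centralizer ({u} : Set G) with hB
  have hUB : U ≤ Subgroup.normalizer (B : Set G) := fun v hv =>
    Lib.Helper22.mem_normalizer_inf_centralizer_singleton (hRU hv) (hUcomm v hv u huU)
  have hDB : ⁅B, U⁆ ≤ B := Subgroup.le_normalizer_iff_commutator_le_left.1 hUB
  have hDcop : ¬ p ∣ Nat.card (⁅B, U⁆ : Subgroup G) := fun h =>
    hR (h.trans (Subgroup.card_dvd_of_le (hDB.trans inf_le_left)))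
  have hDu : ⁅B, U⁆ ≤ Subgroup.centralizer ((Subgroup.zpowers u : Subgroup G) : Set G) := by
    rw [Lib.Helper22.centralizer_zpowers]
    exact hDB.trans inf_le_right
  have hEn : ∀ g : G, g ∈ Subgroup.normalizer (E : Set G) := by
    intro g
    rw [Subgroup.normalizer_eq_top]
    trivial
  have hup : IsPGroup p (Subgroup.zpowers u) := by
    apply IsPGroup.of_card (n := 1)
    rw [Nat.card_zpowers, pow_one]
    exact orderOf_eq_prime (hU.2 u huU) hu1
  rcases hcond with hc | hc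
  · have hc := hc u huU hu1
    have hD : ⁅B, U⁆ ≤ Subgroup.centralizer ((E ⊓ Subgroup.centralizer ({u} : Set G) : Subgroup G) : Set G) := by
      rw [Subgroup.commutator_le]
      intro b hb v hv
      have hv' : v ∈ Subgroup.centralizer ((E ⊓ Subgroup.centralizer ({u} : Set G) : Subgroup G) : Set G) := by
        rw [← hc]
        have : E ⊓ Subgroup.centralizer (U : Set G) ≤ Subgroup.centralizer (U : Set G) := inf_le_right
        exact (Subgroup.le_centralizer_iff.mp this) hv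
      have hbn : b ∈ Subgroup.normalizer ((E ⊓ Subgroup.centralizer ({u} : Set G) : Subgroup G) : Set G) := by
        apply Lib.Helper22.mem_normalizer_inf_centralizer_singleton (hEn b)
        have := Subgroup.mem_centralizer_iff.mp hb.2 u rfl
        exact this.symm
      rw [commutatorElement_def]
      exact Subgroup.mul_mem _ (conj_mem_centralizer hbn hv') (Subgroup.inv_mem _ hv')
    have := Lib.Helper24.thompson_AxB p ⁅B, U⁆ (Subgroup.zpowers u) E hE hup
      ((Nat.coprime_comm.mp ((Nat.Prime.coprime_iff_not_dvd hp).mpr hDcop))) hDu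
      (fun g _ => hEn g) (fun g _ => hEn g)
      (by
        rw [Lib.Helper22.centralizer_zpowers]
        exact Subgroup.le_centralizer_iff.mp hD)
    exact Subgroup.le_centralizer_iff.mp this
  · have hc := hc u huU hu1
    have hD : ⁅B, U⁆ ≤ trivOn E ⁅E, U⁆ := by
      rw [Subgroup.commutator_le]
      intro b hb v hv
      have hv' : v ∈ trivOn E ⁅E, U⁆ := by
        refine ⟨Lib.Helper24.normalizer_inf_le_normalizer_commutator E U
          ⟨hEn v, Subgroup.le_normalizer hv⟩, fun e he => ?_⟩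
        rw [Subgroup.commutator_comm]
        exact Subgroup.commutator_mem_commutator hv he
      have hbn : b ∈ Subgroup.normalizer ((⁅E, U⁆ : Subgroup G) : Set G) := by
        rw [hc]
        refine Lib.Helper24.normalizer_inf_le_normalizer_commutator E _ ⟨hEn b, ?_⟩
        apply Lib.Helper24.centralizer_le_normalizer'
        rw [Lib.Helper22.centralizer_zpowers]
        exact hb.2
      rw [commutatorElement_def]
      exact Subgroup.mul_mem _ (conj_mem_trivOn (hEn b) hbn hv') (Subgroup.inv_mem _ hv')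
    have h1 : ⁅E, ⁅B, U⁆⁆ ≤ ⁅E, Subgroup.zpowers u⁆ := by
      rw [← hc, Subgroup.commutator_comm, Subgroup.commutator_le]
      intro d hd e he
      exact (hD hd).2 e he
    have h2 := S2908.result E (Subgroup.zpowers u) ⁅B, U⁆ hE hup hDcop (fun g _ => hEn g)
      (fun g _ => hEn g) (by
        rw [Subgroup.commutator_comm, Subgroup.commutator_eq_bot_iff_le_centralizer]
        exact hDu) h1
    rw [Subgroup.commutator_comm, Subgroup.commutator_eq_bot_iff_le_centralizer] at h2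
    exact h2

/-- the elements commuting with `U` modulo the normal subgroup `C` -/
def commMod {G : Type*} [Group G] (C : Subgroup G) [C.Normal] (U : Subgroup G) : Subgroup G :=
  (Subgroup.centralizer ((U.map (QuotientGroup.mk' C) : Subgroup (G ⧸ C)) : Set (G ⧸ C))).comap
    (QuotientGroup.mk' C)

open scoped commutatorElement in
theorem le_commMod_iff {G : Type*} [Group G] (C : Subgroup G) [C.Normal] (U R : Subgroup G) :
    R ≤ commMod C U ↔ ⁅R, U⁆ ≤ C := by
  rw [Subgroup.commutator_le]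
  unfold commMod
  constructor
  · intro h g hg v hv
    have h1 := h hg
    rw [Subgroup.mem_comap, Subgroup.mem_centralizer_iff] at h1
    have h2 := h1 _ (Subgroup.mem_map_of_mem _ hv)
    rw [← QuotientGroup.eq_one_iff, commutatorElement_def]
    simp only [QuotientGroup.mk'_apply] at h2
    simp only [QuotientGroup.mk_mul, QuotientGroup.mk_inv]
    rw [← h2]
    group
  · intro h g hg
    rw [Subgroup.mem_comap, Subgroup.mem_centralizer_iff]
    rintro _ ⟨v, hv, rfl⟩
    have h1 := h g hg v hv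
    rw [← QuotientGroup.eq_one_iff, commutatorElement_def] at h1
    simp only [QuotientGroup.mk_mul, QuotientGroup.mk_inv] at h1
    simp only [QuotientGroup.mk'_apply]
    have h2 : (g : G ⧸ C) * (v : G ⧸ C) = ((g : G ⧸ C) * v * (g : G ⧸ C)⁻¹ * (v : G ⧸ C)⁻¹) * (v * g) := by
      group
    rw [h2, h1, one_mul]

/-- Let p be a prime, E a normal p-subgroup of the finite group G, and U a non-cyclic elementary abelian p-subgroup of G such that either C_E(U) = C_E(u) for every nontrivial u ∈ U, or [E, U] = [E, ⟨u⟩] for every nontrivial u ∈ U. If R is a subgroup of order prime to p normalized by U, then [R, U] centralizes E. -/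
theorem result {G : Type*} [Group G] [Finite G] {p : ℕ} [Fact p.Prime] (E : Subgroup G) [E.Normal] (hE : IsPGroup p ↥E) (U : Subgroup G) (hU : Cfsg.IsElementaryAbelian p U) (hnc : ¬ IsCyclic ↥U) (hcond : (∀ u ∈ U, u ≠ 1 → E ⊓ Subgroup.centralizer (U : Set G) = E ⊓ Subgroup.centralizer ({u} : Set G)) ∨ (∀ u ∈ U, u ≠ 1 → ⁅E, U⁆ = ⁅E, Subgroup.zpowers u⁆)) (R : Subgroup G) (hR : ¬ p ∣ Nat.card ↥R) (hRU : U ≤ Subgroup.normalizer (R : Set G)) : ⁅R, U⁆ ≤ Subgroup.centralizer (E : Set G) := by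
  have hp : p.Prime := Fact.out
  rw [← le_commMod_iff]
  have hUcomm : ∀ v ∈ U, ∀ w ∈ U, v * w = w * v := by
    intro v hv w hw
    exact congrArg Subtype.val (hU.1.is_comm.comm (⟨v, hv⟩ : U) ⟨w, hw⟩)
  have hU1 : U ≠ ⊥ := by
    rintro rfl
    exact hnc inferInstance
  obtain ⟨⟨b, hbU⟩, hb1'⟩ := (Subgroup.ne_bot_iff_exists_ne_one).mp hU1
  have hb1 : b ≠ 1 := fun h => hb1' (Subtype.ext h)
  have hex : ∃ a ∈ U, a ∉ Subgroup.zpowers b := by
    by_contra hcon
    push Not at hcon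
    have hle : U ≤ Subgroup.zpowers b := hcon
    have : U = Subgroup.zpowers b := le_antisymm hle (by simpa using hbU)
    apply hnc
    rw [this]
    infer_instance
  obtain ⟨a, haU, hab⟩ := hex
  have hUp : IsPGroup p U := fun x => ⟨1, by rw [pow_one]; exact Subtype.ext (hU.2 x.1 x.2)⟩
  have hgen := Lib.Helper22.le_genTwo U R hUp hR hRU a b haU hbU (hUcomm a haU b hbU) (hU.2 a haU)
    (hU.2 b hbU)
  refine hgen.trans ?_
  unfold Lib.Helper22.genTwo
  apply sup_le
  · rw [le_commMod_iff]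
    exact aux E hE U hU hcond R hR hRU b hbU hb1
  · apply iSup_le
    intro i
    rw [le_commMod_iff]
    apply aux E hE U hU hcond R hR hRU _ (U.mul_mem haU (U.pow_mem hbU i))
    intro h
    apply hab
    have : a = (b ^ i)⁻¹ := eq_inv_of_mul_eq_one_left h
    rw [this]
    exact Subgroup.inv_mem _ (Subgroup.pow_mem _ (Subgroup.mem_zpowers b) i)

end Cfsg.Agent.S2909
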