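import Cfsg.Statements.S1444
import Cfsg.Agent.Lib.Helper68.BG36a2
import Cfsg.Agent.Lib.Helper24.BG36b
import Cfsg.Agent.S1545
import Cfsg.Agent.S3769

set_option autoImplicit false
open Cfsg

namespace Cfsg.Agent.S1444

/-- Let G be a solvable group of odd order, H a normal subgroup of order coprime to its index, R a complement to H in G, and R₀ ≤ R a subgroup of prime order such that every Sylow subgroup of H ∩ C_G(R₀) is cyclic. Then for every prime p the commutator subgroup [H, R] satisfies [H,R] = O_{p',p,p'}([H,R]). -/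
theorem result {G : Type*} [Group G] [Finite G] [Group.IsSolvable G] (hodd : Odd (Nat.card G)) (H R R₀ : Subgroup G) [H.Normal] (hHall : (Nat.card H).Coprime H.index)
    (hR : Subgroup.IsComplement' H R) (hR₀ : R₀ ≤ R) (hR₀p : (Nat.card R₀).Prime) (hZ : IsZGroup ↥(H ⊓ Subgroup.centralizer (R₀ : Set G)))
    (p : ℕ) [Fact p.Prime] :
    Cfsg.PLengthLE p 1 ↥⁅H, R⁆ := by
  exact Cfsg.Agent.Lib.Helper68.BG36.bg36_of_core
    (fun X _ _ _ hodd p q r hp hq hr hpq hpr hqr V Q P R₀ hV hQ hP hR₀ hQV hPV hRV hPQ hRQ hRP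
        hfaith hPU hZp hZq =>
      Cfsg.Agent.Lib.Helper24.bg36_core
        (fun U E H h1 h2 h3 h4 h5 h6 h7 h8 h9 => Cfsg.Agent.S1545.result U E H h1 h2 h3 h4 h5 h6 h7 h8 h9)
        (fun G h1 h2 V _ h3 h4 h5 h6 K R h7 h8 h9 h10 h11 h12 h13 h14 =>
          Cfsg.Agent.S3769.result G h1 h2 V h3 h4 h5 h6 K R h7 h8 h9 h10 h11 h12 h13 h14)
        hodd hp hq hr hpq hpr hqr V Q P R₀ hV hQ hP hR₀ hQV hPV hRV hPQ hRQ hRP hfaith hPU hZp hZq)
    hodd H R R₀ hHall hR hR₀ hR₀p hZ p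

end Cfsg.Agent.S1444
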