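import Cfsg.Statements.S1459
import Cfsg.Agent.Lib.Lead.Cores
import Cfsg.Agent.Lib.Lead.Residual
import Cfsg.Agent.Lib.Helper1.FPF
import Cfsg.Agent.Lib.Helper2.PGroupFrattini
import Cfsg.Agent.Lib.Helper63.AbIndexP
import Cfsg.Agent.Lib.Helper48.FF1

set_option autoImplicit false
open Cfsg

namespace Cfsg.Agent.S1459
open Subgroup
open scoped commutatorElement

theorem comm_mul {Q : Type*} [Group Q] {A B : Subgroup Q} (h : ∀ a ∈ A, ∀ b ∈ B, a * b = b * a)
    {a₁ a₂ b₁ b₂ : Q} (ha₁ : a₁ ∈ A) (ha₂ : a₂ ∈ A) (hb₁ : b₁ ∈ B) (hb₂ : b₂ ∈ B) :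
    ⁅a₁ * b₁, a₂ * b₂⁆ = ⁅a₁, a₂⁆ * ⁅b₁, b₂⁆ := by
  let Φ : A × B →* Q := MonoidHom.noncommCoprod A.subtype B.subtype (fun a b => h a a.2 b b.2)
  have h1 : Φ (⟨a₁, ha₁⟩, ⟨b₁, hb₁⟩) = a₁ * b₁ := rfl
  have h2 : Φ (⟨a₂, ha₂⟩, ⟨b₂, hb₂⟩) = a₂ * b₂ := rfl
  rw [← h1, ← h2, ← map_commutatorElement]
  rfl

theorem partA {G : Type*} [Group G] [Finite G] [Group.IsSolvable G] (H K : Subgroup G) (hHn : H.Normal)
    (hcop : (Nat.card H).Coprime H.index) (hc : IsComplement' H K) (hle : H ≤ commutator G) :
    H = ⁅H, K⁆ ∧ H ⊓ centralizer (K : Set G) ≤ ⁅H, H⁆ := by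
  have hKcard : Nat.card K = H.index := by
    have h1 := hc.card_mul_card
    rw [← card_mul_index H] at h1
    exact Nat.eq_of_mul_eq_mul_left Nat.card_pos h1
  have hcop' : (Nat.card H).Coprime (Nat.card K) := by rw [hKcard]; exact hcop
  have htop : H ⊔ K = ⊤ := hc.sup_eq_top
  have hNH : ⁅H, K⁆ ≤ H := commutator_le_left H K
  have key : H = ⁅H, K⁆ := by
    apply le_antisymm _ hNH
    have hNn : (⁅H, K⁆).Normal := by
      rw [← normalizer_eq_top_iff, eq_top_iff, ← htop]
      exact sup_le (normalizer_commutator_ge_left H K) (normalizer_commutator_ge_right H K)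
    let π := QuotientGroup.mk' ⁅H, K⁆
    have hπ : Function.Surjective π := QuotientGroup.mk'_surjective _
    have hcomm : ∀ a ∈ H.map π, ∀ b ∈ K.map π, a * b = b * a := by
      have h1 : ⁅H.map π, K.map π⁆ = ⊥ := by
        rw [← map_commutator, ← le_bot_iff, map_le_iff_le_comap, MonoidHom.comap_bot,
          QuotientGroup.ker_mk']
      rw [commutator_eq_bot_iff_le_centralizer] at h1
      intro a ha b hb
      exact (mem_centralizer_iff.1 (h1 ha) b hb).symm
    have hHbn : (H.map π).Normal := hHn.map π hπ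
    have hdis : H.map π ⊓ K.map π = ⊥ := by
      apply (disjoint_of_coprime_natCard _).eq_bot
      exact Nat.Coprime.coprime_dvd_left (card_map_dvd H π)
        (Nat.Coprime.coprime_dvd_right (card_map_dvd K π) hcop')
    have h2 : commutator (G ⧸ ⁅H, K⁆) ≤ K.map π ⊔ ⁅H.map π, H.map π⁆ := by
      rw [_root_.commutator_def, commutator_le]
      intro g₁ _ g₂ _
      have hdec : ∀ g : G ⧸ ⁅H, K⁆, ∃ a ∈ H.map π, ∃ b ∈ K.map π, g = a * b := by
        intro g
        obtain ⟨x, rfl⟩ := hπ g
        have hx : x ∈ H ⊔ K := by rw [htop]; trivial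
        rw [sup_comm, mem_sup_of_normal_right] at hx
        obtain ⟨k, hk, h, hh, rfl⟩ := hx
        refine ⟨π (k * h * k⁻¹), mem_map_of_mem _ (hHn.conj_mem h hh k), π k, mem_map_of_mem _ hk, ?_⟩
        rw [← map_mul]; congr 1; group
      obtain ⟨a₁, ha₁, b₁, hb₁, rfl⟩ := hdec g₁
      obtain ⟨a₂, ha₂, b₂, hb₂, rfl⟩ := hdec g₂
      rw [comm_mul hcomm ha₁ ha₂ hb₁ hb₂]
      exact mul_mem (le_sup_right (a := K.map π) (commutator_mem_commutator ha₁ ha₂))
        (le_sup_left (b := ⁅H.map π, H.map π⁆) (by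
          rw [commutatorElement_def]
          exact mul_mem (mul_mem (mul_mem hb₁ hb₂) (inv_mem hb₁)) (inv_mem hb₂)))
    have h3 : H.map π ≤ commutator (G ⧸ ⁅H, K⁆) := by
      refine (map_mono hle).trans ?_
      rw [_root_.commutator_def, _root_.commutator_def, map_commutator]
      exact commutator_mono le_top le_top
    have h4 : H.map π ≤ ⁅H.map π, H.map π⁆ := by
      intro x hx
      have hx' := h2 (h3 hx)
      rw [mem_sup_of_normal_right] at hx'
      obtain ⟨b, hb, c, hcc, rfl⟩ := hx'
      have hcH : c ∈ H.map π := commutator_le_left _ _ hcc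
      have hbH : b ∈ H.map π := by
        have := mul_mem hx (inv_mem hcH)
        simpa using this
      have hb1 : b ∈ H.map π ⊓ K.map π := ⟨hbH, hb⟩
      rw [hdis, mem_bot] at hb1
      rw [hb1, one_mul]; exact hcc
    have h5 : H.map π = ⊥ := by
      by_contra hne
      exact absurd h4 (not_le_of_gt (Group.IsSolvable.commutator_lt_of_ne_bot hne))
    rw [← le_bot_iff, map_le_iff_le_comap, MonoidHom.comap_bot, QuotientGroup.ker_mk'] at h5
    exact h5
  refine ⟨key, ?_⟩
  let π := QuotientGroup.mk' ⁅H, H⁆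
  have hπ : Function.Surjective π := QuotientGroup.mk'_surjective _
  have hab : IsMulCommutative (H.map π) := by
    have h1 : ⁅H.map π, H.map π⁆ = ⊥ := by
      rw [← map_commutator, ← le_bot_iff, map_le_iff_le_comap, MonoidHom.comap_bot,
        QuotientGroup.ker_mk']
    rw [commutator_eq_bot_iff_le_centralizer] at h1
    exact ⟨⟨fun a b => Subtype.ext (mem_centralizer_iff.1 (h1 a.2) b b.2).symm⟩⟩
  have hHbn : (H.map π).Normal := hHn.map π hπ
  have h6 := Cfsg.Agent.Lib.Helper48.commutator_inf_centralizer_eq_bot (V := H.map π) (N := K.map π) hab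
    (by rw [normalizer_eq_top_iff.mpr hHbn]; exact le_top) (by
      intro v hv hvK
      have h7 : orderOf v ∣ Nat.card (K.map π) := orderOf_dvd_of_pow_eq_one hvK
      have h8 : orderOf v ∣ Nat.card (H.map π) := by
        have := orderOf_dvd_natCard (⟨v, hv⟩ : H.map π)
        rwa [Subgroup.orderOf_mk] at this
      have h9 : orderOf v = 1 := Nat.eq_one_of_dvd_coprimes hcop' (h8.trans (card_map_dvd H π))
        (h7.trans (card_map_dvd K π))
      exact orderOf_eq_one_iff.1 h9)
  rw [← map_commutator, ← key] at h6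
  intro x hx
  have h10 : π x ∈ H.map π ⊓ centralizer ((K.map π : Subgroup _) : Set _) := by
    refine ⟨mem_map_of_mem _ hx.1, ?_⟩
    change π x ∈ centralizer ((K.map π : Subgroup _) : Set _)
    rw [mem_centralizer_iff]
    rintro _ ⟨k, hk, rfl⟩
    rw [← map_mul, ← map_mul, mem_centralizer_iff.1 hx.2 k hk]
  rw [h6, mem_bot] at h10
  exact (QuotientGroup.eq_one_iff x).1 h10

theorem partB {G : Type*} [Group G] [Finite G] [Group.IsSolvable G]
    (hnil : Group.IsNilpotent ↥(commutator G)) (hidx : (commutator G).index.Prime) :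
    (Nat.card ↥(commutator G)).Coprime (commutator G).index := by
  obtain ⟨p, hp⟩ : ∃ p, p = (commutator G).index := ⟨_, rfl⟩
  rw [← hp] at hidx ⊢
  have : Fact p.Prime := ⟨hidx⟩
  obtain ⟨k, hk⟩ := (Cfsg.Agent.Lib.Lead.hasNormalPComplement_iff_index_pPrimeCore
    (G := ↥(commutator G)) (p := p)).1 (Cfsg.Agent.Lib.Helper1.FPF.hasNormalPComplement_of_isNilpotent p)
  have h1 : (pPrimeCore p G).index ∣ p ^ (k + 1) := by
    have h2 := index_dvd_of_le (Cfsg.Agent.Lib.Lead.pPrimeCore_normal_subgroup_le (p := p) (commutator G))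
    rwa [index_map_subtype, hk, ← hp, ← pow_succ] at h2
  obtain ⟨j, _, hj⟩ := (Nat.dvd_prime_pow hidx).1 h1
  have hQ : IsPGroup p (G ⧸ pPrimeCore p G) := IsPGroup.of_card (n := j) (by rw [← hj]; rfl)
  let π := QuotientGroup.mk' (pPrimeCore p G)
  have hπ : Function.Surjective π := QuotientGroup.mk'_surjective _
  have hmap : (commutator G).map π = commutator (G ⧸ pPrimeCore p G) := by
    rw [_root_.commutator_def, _root_.commutator_def, map_commutator, ← MonoidHom.range_eq_map,
      MonoidHom.range_eq_top.2 hπ]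
  have hidx' : (commutator (G ⧸ pPrimeCore p G)).index ∣ p := by
    rw [← hmap]
    have := index_map_dvd (commutator G) hπ
    rwa [← hp] at this
  have hbot : commutator (G ⧸ pPrimeCore p G) = ⊥ := by
    rcases (Nat.dvd_prime hidx).1 hidx' with h | h
    · rw [index_eq_one] at h
      by_contra hne
      have : Nontrivial (G ⧸ pPrimeCore p G) := by
        by_contra hnt
        rw [not_nontrivial_iff_subsingleton] at hnt
        exact hne (Subsingleton.elim _ _)
      exact (Group.IsSolvable.commutator_lt_top_of_nontrivial (G ⧸ pPrimeCore p G)).ne h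
    · obtain ⟨x, hx⟩ : ∃ x, x ∉ commutator (G ⧸ pPrimeCore p G) := by
        by_contra hall
        push Not at hall
        have : commutator (G ⧸ pPrimeCore p G) = ⊤ := eq_top_iff.2 (fun x _ => hall x)
        rw [this, index_top] at h
        exact hidx.one_lt.ne h
      have h3 : zpowers x ⊔ commutator (G ⧸ pPrimeCore p G) = ⊤ :=
        Cfsg.Agent.Lib.Helper63.eq_top_of_index_prime_of_lt hidx h le_sup_right
          (fun hle => hx (hle (le_sup_left (a := zpowers x) (mem_zpowers x))))
      have h4 : zpowers x ⊔ frattini (G ⧸ pPrimeCore p G) = ⊤ := by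
        rw [eq_top_iff, ← h3]
        exact sup_le_sup_left (Cfsg.Agent.Lib.Helper2.commutator_le_frattini hQ) _
      have h5 := frattini_nongenerating h4
      rw [_root_.commutator_def, commutator_eq_bot_iff_le_centralizer]
      intro a _
      rw [mem_centralizer_iff]
      intro b _
      have ha : a ∈ zpowers x := by rw [h5]; trivial
      have hb : b ∈ zpowers x := by rw [h5]; trivial
      obtain ⟨m, rfl⟩ := ha
      obtain ⟨n, rfl⟩ := hb
      exact (Commute.zpow_zpow_self x n m)
  have hle : commutator G ≤ pPrimeCore p G := by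
    rw [← hmap, ← le_bot_iff, map_le_iff_le_comap, MonoidHom.comap_bot, QuotientGroup.ker_mk'] at hbot
    exact hbot
  exact Nat.Coprime.coprime_dvd_left (card_dvd_of_le hle) (Cfsg.Agent.Lib.Lead.card_pPrimeCore_coprime p)

/-- Let G be a finite solvable group. (a) If H is a normal subgroup of order coprime to its index, K is a complement to H, and H ≤ G', then H = [H, K] and H ∩ C_G(K) ≤ [H, H]. (b) If G' is nilpotent and has prime index in G, then the order of G' is coprime to its index and G' = [G, K] (the subgroup generated by commutators of elements of G with elements of K) for every complement K of G'. -/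
theorem result {G : Type*} [Group G] [Finite G] [Group.IsSolvable G] :
    (∀ (H K : Subgroup G), H.Normal → (Nat.card H).Coprime H.index → Subgroup.IsComplement' H K → H ≤ commutator G →
        H = ⁅H, K⁆ ∧ H ⊓ Subgroup.centralizer (K : Set G) ≤ ⁅H, H⁆) ∧
      (Group.IsNilpotent ↥(commutator G) → (commutator G).index.Prime →
        (Nat.card ↥(commutator G)).Coprime (commutator G).index ∧
        ∀ K : Subgroup G, Subgroup.IsComplement' (commutator G) K → commutator G = ⁅(⊤ : Subgroup G), K⁆) := by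
  refine ⟨fun H K h1 h2 h3 h4 => partA H K h1 h2 h3 h4, fun hnil hidx => ?_⟩
  have hcop := partB hnil hidx
  refine ⟨hcop, fun K hK => ?_⟩
  have h := (partA (commutator G) K inferInstance hcop hK le_rfl).1
  apply le_antisymm
  · rw [h]
    exact (commutator_mono le_top le_rfl)
  · rw [_root_.commutator_def]
    exact commutator_mono le_rfl le_top

end Cfsg.Agent.S1459
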