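import Cfsg.Statements.S1411
import Cfsg.Agent.S1410
import Cfsg.Agent.S1461
import Cfsg.Agent.S1459
import Cfsg.Agent.S1403
import Cfsg.Agent.Lib.Helper24.BG10d

set_option autoImplicit false
set_option linter.style.haveILetI false
open Cfsg

namespace Cfsg.Agent.S1411

open Cfsg.Agent.Lib.Helper24 Cfsg.Agent.Lib.Helper34

/-- Let G be a minimal simple group of odd order, p a prime, P a Sylow p-subgroup of G and V a complement to P in its normalizer N_G(P). Then P equals the commutator subgroup [P, V], and P is contained in the derived subgroup of N_G(P). -/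
theorem result {G : Type*} [Group G] [Finite G] (hG : Cfsg.IsMinSimpleOddOrder G) (p : ℕ) [Fact p.Prime] (P : Sylow p G)
    (V : Subgroup G) (hV : Cfsg.IsComplIn (P : Subgroup G) V (Subgroup.normalizer ((P : Subgroup G) : Set G))) :
    (P : Subgroup G) = ⁅(P : Subgroup G), V⁆ ∧
      (P : Subgroup G) ≤ ⁅Subgroup.normalizer ((P : Subgroup G) : Set G), Subgroup.normalizer ((P : Subgroup G) : Set G)⁆ := by
  have hU : UT G := fun K hK h2 h3 => Cfsg.Agent.S1403.result hG K hK h2 h3
  by_cases hP1 : (P : Subgroup G) = ⊥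
  · rw [hP1]
    exact ⟨(Subgroup.commutator_bot_left V).symm, bot_le⟩
  set N := Subgroup.normalizer ((P : Subgroup G) : Set G) with hN
  have hPtop : (P : Subgroup G) ≠ ⊤ := MS_isPGroup_ne_top hG P.2
  have hNtop : N ≠ ⊤ := MS_normalizer_ne_top hG hP1 hPtop
  obtain ⟨M, hM, hNM⟩ := exists_coatom_ge hNtop
  have hPN : (P : Subgroup G) ≤ N := Subgroup.le_normalizer
  have hPM : (P : Subgroup G) ≤ M := hPN.trans hNM
  have hSM : IsSylowIn p (P : Subgroup G) M := (Sylow.isSylowIn_top P).of_le hPM le_top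
  have hSN : IsSylowIn p (P : Subgroup G) N := (Sylow.isSylowIn_top P).of_le hPN le_top
  have hpM : p ∣ Nat.card M := by
    obtain ⟨k, hk⟩ := (IsPGroup.iff_card.1 P.2)
    have hk0 : k ≠ 0 := by
      rintro rfl
      rw [pow_zero] at hk
      exact hP1 (Subgroup.card_eq_one.1 hk)
    exact (hk ▸ dvd_pow_self p hk0 : p ∣ Nat.card (P : Subgroup G)).trans (Subgroup.card_dvd_of_le hPM)
  have hσ : p ∈ Cfsg.sigma M := mem_sigma_iff.2 ⟨hpM, _, hSM, hNM⟩
  have hPc : (P : Subgroup G) ≤ ⁅M, M⁆ := sigma_sylow_le_commutator hG hU hM hσ hSM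
  -- second claim
  have h2 : (P : Subgroup G) ≤ ⁅N, N⁆ := by
    haveI : Group.IsSolvable M := MS_solvable hG hM.1
    have hpl : Cfsg.PLengthLE p 1 M := Cfsg.Agent.S1410.result hG p M hM.1
    have h := (Cfsg.Agent.S1461.result (G := M) p hpl hSM.toSylow).1
    rw [hSM.coe_toSylow] at h
    have h3 : (P : Subgroup G).subgroupOf M ≤ commutator M := by
      intro x hx
      have hx' : (x : G) ∈ ⁅M, M⁆ := hPc (Subgroup.mem_subgroupOf.1 hx)
      have e : (commutator M).map M.subtype = ⁅M, M⁆ := by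
        rw [commutator_def, Subgroup.map_commutator, ← MonoidHom.range_eq_map, Subgroup.range_subtype]
      rw [← e] at hx'
      obtain ⟨y, hy, hyx⟩ := hx'
      have : y = x := Subtype.ext hyx
      exact this ▸ hy
    have h4 := Subgroup.map_mono (f := M.subtype) (h h3)
    rw [Subgroup.map_subgroupOf_eq_of_le hPM, Subgroup.map_commutator] at h4
    refine h4.trans (Subgroup.commutator_mono ?_ ?_) <;>
    · rintro _ ⟨y, hy, rfl⟩
      rw [hN, Subgroup.mem_normalizer_iff]
      intro z
      constructor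
      · intro hz
        have := (Subgroup.mem_normalizer_iff.1 hy ⟨z, hPM hz⟩).1 (Subgroup.mem_subgroupOf.2 hz)
        exact Subgroup.mem_subgroupOf.1 this
      · intro hz
        have hzM : z ∈ M := by
          have h5 : (y : G)⁻¹ * ((y : G) * z * (y : G)⁻¹) * (y : G) ∈ M :=
            M.mul_mem (M.mul_mem (M.inv_mem y.2) (hPM hz)) y.2
          simpa [mul_assoc] using h5
        have := (Subgroup.mem_normalizer_iff.1 hy ⟨z, hzM⟩).2 (Subgroup.mem_subgroupOf.2 hz)
        exact Subgroup.mem_subgroupOf.1 this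
  refine ⟨?_, h2⟩
  haveI : Group.IsSolvable N := MS_solvable hG hNtop
  obtain ⟨-, hVN, hdisj, hprod⟩ := hV
  have hnorm : ((P : Subgroup G).subgroupOf N).Normal := Subgroup.normal_in_normalizer
  have hcop : (Nat.card ((P : Subgroup G).subgroupOf N)).Coprime ((P : Subgroup G).subgroupOf N).index := by
    obtain ⟨k, hk⟩ := IsPGroup.iff_card.1 (isPGroup_subgroupOf N P.2)
    rw [hk]
    exact Nat.Coprime.pow_left _ ((Nat.Prime.coprime_iff_not_dvd Fact.out).2 hSN.2.2)
  have hcompl : Subgroup.IsComplement' ((P : Subgroup G).subgroupOf N) (V.subgroupOf N) := by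
    apply Subgroup.isComplement'_of_disjoint_and_mul_eq_univ
    · rw [disjoint_iff, Subgroup.subgroupOf, Subgroup.subgroupOf, ← Subgroup.comap_inf, hdisj]
      exact Subgroup.bot_subgroupOf _
    · ext x
      simp only [Set.mem_univ, iff_true]
      obtain ⟨a, ha, b, hb, hab⟩ := hprod x x.2
      exact ⟨⟨a, hPN ha⟩, Subgroup.mem_subgroupOf.2 ha, ⟨b, hVN hb⟩, Subgroup.mem_subgroupOf.2 hb,
        Subtype.ext hab.symm⟩
  have hle : (P : Subgroup G).subgroupOf N ≤ commutator N := by
    intro x hx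
    have hx' : (x : G) ∈ ⁅N, N⁆ := h2 (Subgroup.mem_subgroupOf.1 hx)
    have e : (commutator N).map N.subtype = ⁅N, N⁆ := by
      rw [commutator_def, Subgroup.map_commutator, ← MonoidHom.range_eq_map, Subgroup.range_subtype]
    rw [← e] at hx'
    obtain ⟨y, hy, hyx⟩ := hx'
    have : y = x := Subtype.ext hyx
    exact this ▸ hy
  have h := ((Cfsg.Agent.S1459.result (G := N)).1 _ _ hnorm hcop hcompl hle).1
  have h' := congrArg (Subgroup.map N.subtype) h
  rwa [Subgroup.map_commutator, Subgroup.map_subgroupOf_eq_of_le hPN,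
    Subgroup.map_subgroupOf_eq_of_le hVN] at h'

end Cfsg.Agent.S1411
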