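import Cfsg.Statements.S4209
import Cfsg.Agent.Lib.Helper73.PolySeq
import Cfsg.Agent.S4206

set_option autoImplicit false
open Cfsg

namespace Cfsg.Agent.S4209

open Cfsg.Agent.Lib.Helper73

theorem lcs_comm_le {G : Type*} [Group G] [Finite G] (H : Subgroup G) (i j : ℕ) :
    ⁅H.lowerCentralSeries i, H.lowerCentralSeries j⁆ ≤ H.lowerCentralSeries (i + j + 1) := by
  have := S4206.result (G := ↥H) (fun i => (⊤ : Subgroup H).lowerCentralSeries i)
    (fun i => inferInstance) (fun i => Subgroup.lowerCentralSeries_antitone _ (Nat.le_succ i)) ⊤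
    (fun i => le_rfl) i j
  have h2 := Subgroup.map_mono (f := H.subtype) this
  rw [Subgroup.map_commutator] at h2
  simp only [Subgroup.top_subtype_lowerCentralSeries] at h2
  exact h2

theorem lcs_mono {G : Type*} [Group G] {H K : Subgroup G} (h : H ≤ K) (n : ℕ) :
    H.lowerCentralSeries n ≤ K.lowerCentralSeries n := by
  induction n with
  | zero => exact h
  | succ n ih => exact Subgroup.commutator_mono ih h

theorem pow_dvd_choose {p : ℕ} (hp : p.Prime) (n j : ℕ) (h0 : 0 < j) (hj : j < p) :
    p ^ n ∣ (p ^ n).choose j := by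
  have hpos : 0 < p ^ n := pow_pos hp.pos n
  have h1 := Nat.add_one_mul_choose_eq (p ^ n - 1) (j - 1)
  rw [Nat.sub_add_cancel hpos, Nat.sub_add_cancel h0] at h1
  have h2 : p ^ n ∣ (p ^ n).choose j * j := ⟨_, h1.symm⟩
  refine Nat.Coprime.dvd_of_dvd_mul_right ?_ h2
  exact Nat.Coprime.pow_left n ((Nat.Prime.coprime_iff_not_dvd hp).2 (Nat.not_dvd_of_pos_of_lt h0 hj))

/-- Hall–Petrescu consequence for a subgroup `H` of class `< p`. -/
theorem power_formula {G : Type*} [Group G] [Finite G] {p : ℕ} (hp : p.Prime) (H : Subgroup G)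
    (hcl : H.lowerCentralSeries (p - 1) = ⊥) {a b : G} (ha : a ∈ H) (hb : b ∈ H) (n : ℕ) :
    ∃ c ∈ powerClosure p n ⁅H, H⁆, (a * b) ^ (p ^ n) = a ^ (p ^ n) * b ^ (p ^ n) * c := by
  have hanti : Antitone (fun d : ℕ => H.lowerCentralSeries (d - 1)) := by
    intro d e hde
    exact Subgroup.lowerCentralSeries_antitone _ (by omega)
  have hF : ∀ i j, ⁅(fun d : ℕ => H.lowerCentralSeries (d - 1)) i,
      (fun d : ℕ => H.lowerCentralSeries (d - 1)) j⁆ ≤
      (fun d : ℕ => H.lowerCentralSeries (d - 1)) (i + j) := by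
    intro i j
    refine (lcs_comm_le H (i - 1) (j - 1)).trans ?_
    exact Subgroup.lowerCentralSeries_antitone _ (by omega)
  refine PolySeq.hall_petrescu (F := fun d : ℕ => H.lowerCentralSeries (d - 1)) hF hanti
    (c := p) hp.two_le hcl _ (p ^ n) ?_ ha hb
  intro j hj u hu
  by_cases hjp : j < p
  · obtain ⟨t, ht⟩ := pow_dvd_choose hp n j (by omega) hjp
    rw [ht, mul_comm, pow_mul]
    refine Subgroup.subset_closure ⟨u ^ t, Subgroup.pow_mem _ ?_ _, rfl⟩
    have : H.lowerCentralSeries (j - 1) ≤ H.lowerCentralSeries 1 :=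
      Subgroup.lowerCentralSeries_antitone _ (by omega)
    exact this hu
  · have : H.lowerCentralSeries (j - 1) ≤ H.lowerCentralSeries (p - 1) :=
      Subgroup.lowerCentralSeries_antitone _ (by omega)
    have h1 := this hu
    rw [hcl, Subgroup.mem_bot] at h1
    rw [h1, one_pow]
    exact Subgroup.one_mem _

/-- A finite `p`-group of nilpotency class less than `p` (the term of index `p - 1` of the lower central series of the whole group, indexed from `0`, is trivial) is a regular `p`-group. -/
theorem result {G : Type*} [Group G] [Finite G] {p : ℕ} [Fact p.Prime] (hG : IsPGroup p G) (hcl : (⊤ : Subgroup G).lowerCentralSeries (p - 1) = ⊥) : Cfsg.IsRegularPGroup p G := by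
  refine ⟨hG, fun a b n => ?_⟩
  apply power_formula (Fact.out : p.Prime)
  · rw [eq_bot_iff, ← hcl]
    exact lcs_mono le_top _
  · exact Subgroup.subset_closure (by simp)
  · exact Subgroup.subset_closure (by simp)

end Cfsg.Agent.S4209
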