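import Cfsg.Statements.S3872
import Cfsg.Agent.S4209
import Cfsg.Agent.S4225
import Cfsg.Agent.Lib.Helper52.FPF
import Cfsg.Agent.Lib.Helper73.MaxClass

set_option autoImplicit false
open Cfsg

namespace Cfsg.Agent.S3872

theorem card_mul_le {G : Type*} [Group G] [Finite G] {p : ℕ} [hp : Fact p.Prime] (hG : IsPGroup p G)
    {A B : Subgroup G} (h : A < B) : p * Nat.card A ≤ Nat.card B := by
  obtain ⟨a, ha⟩ := (hG.to_subgroup A).exists_card_eq
  obtain ⟨b, hb⟩ := (hG.to_subgroup B).exists_card_eq
  have hlt : Nat.card A < Nat.card B := by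
    by_contra hh
    exact h.ne (Subgroup.eq_of_le_of_card_ge h.le (not_lt.1 hh))
  rw [ha, hb] at hlt ⊢
  have hab : a < b := (Nat.pow_lt_pow_iff_right hp.out.one_lt).1 hlt
  rw [← pow_succ']
  exact Nat.pow_le_pow_right hp.out.pos hab

theorem lcs_lt {G : Type*} [Group G] [Finite G] {p : ℕ} [hp : Fact p.Prime] (hG : IsPGroup p G)
    (i : ℕ) (h : (⊤ : Subgroup G).lowerCentralSeries i ≠ ⊥) :
    (⊤ : Subgroup G).lowerCentralSeries (i + 1) < (⊤ : Subgroup G).lowerCentralSeries i := by
  refine lt_of_le_of_ne (Subgroup.lowerCentralSeries_antitone _ (Nat.le_succ i)) ?_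
  intro heq
  apply h
  have hnil : Group.IsNilpotent G := hG.isNilpotent
  obtain ⟨n, hn⟩ := Subgroup.nilpotent_iff_lowerCentralSeries.1 hnil
  have hk : ∀ k, (⊤ : Subgroup G).lowerCentralSeries (i + k) =
      (⊤ : Subgroup G).lowerCentralSeries i := by
    intro k
    induction k with
    | zero => rfl
    | succ k ih =>
      rw [← add_assoc, Subgroup.lowerCentralSeries_succ, ih, ← Subgroup.lowerCentralSeries_succ, heq]
  rw [← hk n, eq_bot_iff, ← hn]
  exact Subgroup.lowerCentralSeries_antitone _ (Nat.le_add_left n i)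

theorem card_lcs_ge {G : Type*} [Group G] [Finite G] {p : ℕ} [hp : Fact p.Prime]
    (hG : IsPGroup p G) (c : ℕ) : ∀ k, (⊤ : Subgroup G).lowerCentralSeries (k + c) ≠ ⊥ →
    p ^ (c + 1) ≤ Nat.card ((⊤ : Subgroup G).lowerCentralSeries k) := by
  induction c with
  | zero =>
    intro k hk
    have := card_mul_le hG (bot_lt_iff_ne_bot.2 hk)
    simpa using this
  | succ c ih =>
    intro k hk
    have h1 := ih (k + 1) (by rwa [show k + 1 + c = k + (c + 1) by ring])
    have h2 : (⊤ : Subgroup G).lowerCentralSeries k ≠ ⊥ := by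
      intro h0
      apply hk
      rw [eq_bot_iff, ← h0]
      exact Subgroup.lowerCentralSeries_antitone _ (Nat.le_add_right k (c + 1))
    have h3 := card_mul_le hG (lcs_lt hG k h2)
    calc p ^ (c + 1 + 1) = p * p ^ (c + 1) := pow_succ' _ _
      _ ≤ p * Nat.card ((⊤ : Subgroup G).lowerCentralSeries (k + 1)) := Nat.mul_le_mul_left _ h1
      _ ≤ _ := h3

theorem sq_le_index_commutator {G : Type*} [Group G] [Finite G] {p : ℕ} [hp : Fact p.Prime]
    (hG : IsPGroup p G) (h : commutator G ≠ ⊥) : p ^ 2 ≤ (commutator G).index := by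
  obtain ⟨n, hn⟩ := hG.exists_card_eq
  have hdvd : (commutator G).index ∣ p ^ n := hn ▸ Subgroup.index_dvd_card _
  obtain ⟨k, -, hk⟩ := (Nat.dvd_prime_pow hp.out).1 hdvd
  rw [hk]
  apply Nat.pow_le_pow_right hp.out.pos
  by_contra hlt
  have hcyc : IsCyclic (G ⧸ commutator G) := by
    have hk1 : k = 0 ∨ k = 1 := by omega
    rcases hk1 with rfl | rfl
    · have : Nat.card (G ⧸ commutator G) = 1 := by rw [← Subgroup.index_eq_card, hk, pow_zero]
      have := (Nat.card_eq_one_iff_unique.1 this).1
      exact isCyclic_of_subsingleton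
    · have : Nat.card (G ⧸ commutator G) = p := by rw [← Subgroup.index_eq_card, hk, pow_one]
      exact isCyclic_of_prime_card this
  have hcomm := Cfsg.Agent.Lib.Helper73.comm_of_isCyclic_quotient_commutator _ G rfl hG hcyc
  apply h
  rw [eq_bot_iff, commutator_eq_closure, Subgroup.closure_le]
  rintro _ ⟨a, b, rfl⟩
  rw [SetLike.mem_coe, Subgroup.mem_bot, commutatorElement_def, hcomm a b]
  group

/-- A finite `p`-group of class at least `c + 2` ... -/
theorem pow_le_card {G : Type*} [Group G] [Finite G] {p : ℕ} [hp : Fact p.Prime]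
    (hG : IsPGroup p G) (c : ℕ) (h : (⊤ : Subgroup G).lowerCentralSeries (1 + c) ≠ ⊥) :
    p ^ (c + 3) ≤ Nat.card G := by
  have h1 := card_lcs_ge hG c 1 h
  rw [Subgroup.top_lowerCentralSeries_one] at h1
  have h2 : commutator G ≠ ⊥ := by
    intro h0
    apply h
    rw [eq_bot_iff, ← h0, ← Subgroup.top_lowerCentralSeries_one]
    exact Subgroup.lowerCentralSeries_antitone _ (Nat.le_add_right 1 c)
  have h3 := sq_le_index_commutator hG h2
  rw [← Subgroup.card_mul_index (commutator G)]
  calc p ^ (c + 3) = p ^ (c + 1) * p ^ 2 := by rw [← pow_add]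
    _ ≤ _ := Nat.mul_le_mul h1 h3

/-- Say that a finite group is p-exponent closed when its elements of order dividing p form a subgroup. Let G be a finite p-group that is not p-exponent closed, but all of whose proper subgroups and proper quotients are. Then G is generated by two elements, has nilpotency class at least p, has exponent p², has cyclic center, and has order at least p^(p+1). -/
theorem result {G : Type*} [Group G] [Finite G] {p : ℕ} [Fact p.Prime] (hG : IsPGroup p G)
    (hnc : ¬ (∃ H : Subgroup G, (H : Set G) = {g : G | g ^ p = 1})) (hsub : ∀ K : Subgroup G, K ≠ ⊤ → (∃ H : Subgroup ↥K, (H : Set ↥K) = {g : ↥K | g ^ p = 1}))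
    (hquo : ∀ (N : Subgroup G) [N.Normal], N ≠ ⊥ → (∃ H : Subgroup (G ⧸ N), (H : Set (G ⧸ N)) = {g : (G ⧸ N) | g ^ p = 1})) :
    (∃ x y : G, Subgroup.closure ({x, y} : Set G) = ⊤) ∧ (⊤ : Subgroup G).lowerCentralSeries (p - 1) ≠ ⊥ ∧
      Monoid.exponent G = p ^ 2 ∧ IsCyclic ↥(Subgroup.center G) ∧ p ^ (p + 1) ≤ Nat.card G := by
  have hp : p.Prime := Fact.out
  -- step 1
  obtain ⟨x, y, hx, hy, hxy⟩ : ∃ x y : G, x ^ p = 1 ∧ y ^ p = 1 ∧ (x * y) ^ p ≠ 1 := by
    by_contra hcon
    push Not at hcon
    apply hnc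
    exact ⟨{ carrier := {g : G | g ^ p = 1}
             mul_mem' := fun {a b} ha hb => hcon a b ha hb
             one_mem' := one_pow p
             inv_mem' := fun {a} ha => by
              change a⁻¹ ^ p = 1
              rw [inv_pow, show a ^ p = 1 from ha, inv_one] }, rfl⟩
  -- step 2
  have hgen : Subgroup.closure ({x, y} : Set G) = ⊤ := by
    by_contra hne
    obtain ⟨H, hH⟩ := hsub _ hne
    have hxK : x ∈ Subgroup.closure ({x, y} : Set G) := Subgroup.subset_closure (by simp)
    have hyK : y ∈ Subgroup.closure ({x, y} : Set G) := Subgroup.subset_closure (by simp)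
    have h1 : (⟨x, hxK⟩ : ↥(Subgroup.closure ({x, y} : Set G))) ∈ H := by
      rw [← SetLike.mem_coe, hH]
      exact Subtype.ext (by simpa using hx)
    have h2 : (⟨y, hyK⟩ : ↥(Subgroup.closure ({x, y} : Set G))) ∈ H := by
      rw [← SetLike.mem_coe, hH]
      exact Subtype.ext (by simpa using hy)
    have h3 := H.mul_mem h1 h2
    rw [← SetLike.mem_coe, hH] at h3
    exact hxy (by simpa using congrArg Subtype.val h3)
  -- step 3
  have hcl : (⊤ : Subgroup G).lowerCentralSeries (p - 1) ≠ ⊥ := by
    intro h0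
    obtain ⟨H, -, hH⟩ := S4225.result (S4209.result hG h0) 1
    exact hnc ⟨H, by simpa using hH⟩
  -- step 4
  have hpow : ∀ (N : Subgroup G) [N.Normal], N ≠ ⊥ → ∀ g : G, g ^ p ∈ N := by
    intro N _ hN g
    obtain ⟨H, hH⟩ := hquo N hN
    have h1 : Subgroup.closure ({x, y} : Set G) ≤ H.comap (QuotientGroup.mk' N) := by
      rw [Subgroup.closure_le]
      rintro u (rfl | rfl)
      · change (QuotientGroup.mk' N u) ∈ (H : Set (G ⧸ N))
        rw [hH]
        change (QuotientGroup.mk' N u) ^ p = 1
        rw [← map_pow, hx, map_one]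
      · change (QuotientGroup.mk' N u) ∈ (H : Set (G ⧸ N))
        rw [hH]
        change (QuotientGroup.mk' N u) ^ p = 1
        rw [← map_pow, hy, map_one]
    rw [hgen] at h1
    have h2 : (QuotientGroup.mk' N g) ∈ (H : Set (G ⧸ N)) := h1 (Subgroup.mem_top g)
    rw [hH] at h2
    have h3 : (QuotientGroup.mk' N g) ^ p = 1 := h2
    rw [← map_pow] at h3
    exact (QuotientGroup.eq_one_iff _).1 h3
  have hnormal : ∀ w : G, w ∈ Subgroup.center G → (Subgroup.zpowers w).Normal := by
    intro w hw
    refine ⟨fun n hn g => ?_⟩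
    have : n ∈ Subgroup.center G := (Subgroup.zpowers_le.2 hw) hn
    rw [Subgroup.mem_center_iff] at this
    rw [this g, mul_inv_cancel_right]
    exact hn
  have hnt : Nontrivial G := by
    by_contra hh
    rw [not_nontrivial_iff_subsingleton] at hh
    exact hxy (Subsingleton.elim _ _)
  refine ⟨⟨x, y, hgen⟩, hcl, ?_, ?_, ?_⟩
  · -- exponent
    have hZnt : Nontrivial (Subgroup.center G) := hG.center_nontrivial
    obtain ⟨j, hj0, hj⟩ := (hG.to_subgroup (Subgroup.center G)).nontrivial_iff_card.mp hZnt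
    obtain ⟨w, hw⟩ := exists_prime_orderOf_dvd_card' (G := Subgroup.center G) p
      (by rw [hj]; exact dvd_pow_self p (by omega))
    have hwo : orderOf (w : G) = p := by rw [Subgroup.orderOf_coe, hw]
    have := hnormal (w : G) w.2
    have hne : Subgroup.zpowers (w : G) ≠ ⊥ := by
      intro h0
      rw [Subgroup.zpowers_eq_bot] at h0
      rw [h0, orderOf_one] at hwo
      exact hp.one_lt.ne hwo
    have hall : ∀ g : G, g ^ (p ^ 2) = 1 := by
      intro g
      obtain ⟨i, hi⟩ := Subgroup.mem_zpowers_iff.1 (hpow _ hne g)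
      rw [pow_two, pow_mul, ← hi, ← zpow_natCast, ← zpow_mul, mul_comm, zpow_mul, zpow_natCast,
        ← hwo, pow_orderOf_eq_one, one_zpow]
    have hdvd : Monoid.exponent G ∣ p ^ 2 := Monoid.exponent_dvd_of_forall_pow_eq_one hall
    obtain ⟨k, hk2, hk⟩ := (Nat.dvd_prime_pow hp).1 hdvd
    have hk' : k = 2 := by
      by_contra hne2
      have hk1 : k ≤ 1 := by omega
      apply hxy
      have h1 : Monoid.exponent G ∣ p := by
        rw [hk]
        calc p ^ k ∣ p ^ 1 := pow_dvd_pow p hk1
          _ = p := pow_one p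
      obtain ⟨t, ht⟩ := h1
      rw [ht, pow_mul, Monoid.pow_exponent_eq_one, one_pow]
    rw [hk, hk']
  · -- centre cyclic
    by_contra hncyc
    let _ : CommGroup (Subgroup.center G) :=
      { (inferInstance : Group (Subgroup.center G)) with
        mul_comm := fun a b => Subtype.ext ((Subgroup.mem_center_iff.1 a.2 b).symm) }
    obtain ⟨r, c, d, hr, hc, hd, hcd⟩ :=
      Cfsg.Agent.Lib.Helper52.exists_rank_two (A := Subgroup.center G) hncyc
    have hrp : r = p := by
      obtain ⟨k, hk⟩ := (hG.to_subgroup (Subgroup.center G)).exists_orderOf_eq_pow d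
      rw [hd] at hk
      have h1 : r ∣ p ^ k := by rw [← hk]
      exact (Nat.prime_dvd_prime_iff_eq hr hp).mp (hr.dvd_of_dvd_pow h1)
    subst hrp
    have hc1 : c ≠ 1 := by
      rintro rfl; exact hcd (one_mem _)
    have hoc : orderOf (c : G) = r := by
      rw [Subgroup.orderOf_coe]; exact orderOf_eq_prime hc hc1
    have hod : orderOf (d : G) = r := by rw [Subgroup.orderOf_coe, hd]
    have key : ∀ w : G, w ∈ Subgroup.center G → orderOf w = r →
        Subgroup.zpowers ((x * y) ^ r) = Subgroup.zpowers w := by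
      intro w hw hwo
      have := hnormal w hw
      have hne : Subgroup.zpowers w ≠ ⊥ := by
        intro h0
        rw [Subgroup.zpowers_eq_bot] at h0
        rw [h0, orderOf_one] at hwo
        exact hp.one_lt.ne hwo
      have hmem := hpow _ hne (x * y)
      have hle : Subgroup.zpowers ((x * y) ^ r) ≤ Subgroup.zpowers w := Subgroup.zpowers_le.2 hmem
      refine Subgroup.eq_of_le_of_card_ge hle ?_
      rw [Nat.card_zpowers, Nat.card_zpowers, hwo]
      have h1 : orderOf ((x * y) ^ r) ∣ r := by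
        have := Subgroup.card_dvd_of_le hle
        rwa [Nat.card_zpowers, Nat.card_zpowers, hwo] at this
      rcases (Nat.dvd_prime hp).1 h1 with h2 | h2
      · exact absurd (orderOf_eq_one_iff.1 h2) hxy
      · exact h2.ge
    have h1 : (c : G) ∈ Subgroup.zpowers (d : G) := by
      rw [← key d d.2 hod, key c c.2 hoc]
      exact Subgroup.mem_zpowers _
    obtain ⟨i, hi⟩ := Subgroup.mem_zpowers_iff.mp h1
    apply hcd
    rw [Subgroup.mem_zpowers_iff]
    exact ⟨i, Subtype.ext (by rw [Subgroup.coe_zpow, hi])⟩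
  · have h2 : 2 ≤ p := hp.two_le
    have := pow_le_card hG (p - 2) (by rwa [show 1 + (p - 2) = p - 1 by omega])
    rwa [show p - 2 + 3 = p + 1 by omega] at this

end Cfsg.Agent.S3872
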