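import Cfsg.Statements.S0637
import Cfsg.Agent.S3872
import Cfsg.Agent.S4209
import Cfsg.Agent.S4210
import Cfsg.Agent.S4225
import Cfsg.Agent.S0636
import Cfsg.Agent.S4023
import Cfsg.Agent.Lib.Helper48.PG
import Cfsg.Agent.Lib.Helper29.Metacyclic

set_option autoImplicit false
open Cfsg

universe u

namespace Cfsg.Agent.S0637

/-- a `p`-group of order at most `p ^ p` is regular -/
theorem regular_of_card_le {K : Type*} [Group K] [Finite K] {p : ℕ} [hp : Fact p.Prime]
    (hK : IsPGroup p K) (h : Nat.card K ≤ p ^ p) : IsRegularPGroup p K := by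
  apply S4209.result hK
  by_contra hne
  have h2 := hp.out.two_le
  have h3 := S3872.pow_le_card hK (p - 2) (by rwa [show 1 + (p - 2) = p - 1 by omega])
  rw [show p - 2 + 3 = p + 1 by omega] at h3
  have h4 : p ^ p < p ^ (p + 1) := Nat.pow_lt_pow_right hp.out.one_lt (Nat.lt_succ_self p)
  omega

/-- In a subgroup `S` which is regular, if all `p`-th powers lie in `Z`, then the elements of
order dividing `p` form a subgroup `W` with `|S| ≤ |Z| |W|`. -/
theorem exists_omega {R : Type*} [Group R] [Finite R] {p : ℕ} [hp : Fact p.Prime]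
    (S Z : Subgroup R) (hS : IsRegularPGroup p S) (hZ : ∀ s ∈ S, s ^ p ∈ Z) :
    ∃ W : Subgroup R, W ≤ S ∧ (∀ w ∈ S, w ∈ W ↔ w ^ p = 1) ∧
      Nat.card S ≤ Nat.card Z * Nat.card W := by
  obtain ⟨W, -, hW⟩ := S4225.result hS 1
  have hW' : ∀ w : S, w ∈ W ↔ w ^ p = 1 := by
    intro w
    rw [← SetLike.mem_coe, hW]
    simp
  have hrel : ∀ a b : S, a⁻¹ * b ∈ W ↔ a ^ p = b ^ p := by
    intro a b
    have := S4210.result hS a⁻¹ b⁻¹ 1
    rw [pow_one, inv_inv, inv_pow, inv_pow, inv_inj] at this
    rw [hW', this]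
  let f : S → Z := fun s => ⟨(s : R) ^ p, hZ s s.2⟩
  have hf : ∀ a b : S, (QuotientGroup.leftRel W) a b → f a = f b := by
    intro a b hab
    rw [QuotientGroup.leftRel_apply, hrel] at hab
    exact Subtype.ext (by simpa [f] using congrArg Subtype.val hab)
  have hinj : Function.Injective (Quotient.lift f hf : S ⧸ W → Z) := by
    intro a b
    induction a using Quotient.inductionOn
    induction b using Quotient.inductionOn
    rename_i a b
    intro hab
    apply Quotient.sound
    change (QuotientGroup.leftRel W) a b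
    rw [QuotientGroup.leftRel_apply, hrel]
    have : f a = f b := hab
    exact Subtype.ext (by simpa [f] using congrArg Subtype.val this)
  have hcard := Nat.card_le_card_of_injective _ hinj
  refine ⟨W.map S.subtype, ?_, ?_, ?_⟩
  · rintro _ ⟨w, -, rfl⟩; exact w.2
  · intro w hw
    constructor
    · rintro ⟨w', hw', rfl⟩
      have := (hW' w').1 hw'
      simpa using congrArg Subtype.val this
    · intro h1
      exact ⟨⟨w, hw⟩, (hW' _).2 (Subtype.ext (by simpa using h1)), rfl⟩
  · rw [Subgroup.card_map_of_injective S.subtype_injective,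
      Subgroup.card_eq_card_quotient_mul_card_subgroup W]
    exact Nat.mul_le_mul_right _ hcard

theorem mem_omegaOne {R : Type*} [Group R] {p : ℕ} {x : R} (hx : x ^ p = 1) :
    x ∈ omegaOne p (⊤ : Subgroup R) :=
  Subgroup.subset_closure ⟨Subgroup.mem_top x, hx⟩

theorem core {R : Type*} [Group R] [Finite R] {p : ℕ} [hpf : Fact p.Prime] (hp : 3 < p)
    (hR : IsPGroup p R) (hO : Nat.card ↥(omegaOne p (⊤ : Subgroup R)) ≤ p ^ 2)
    (z : R) (hz : orderOf z = p) [hn : (Subgroup.zpowers z).Normal] :
    Nat.card ↥(omegaOne p (⊤ : Subgroup (R ⧸ Subgroup.zpowers z))) ≤ p ^ 2 := by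
  by_contra hcon
  rw [not_le] at hcon
  have hQ : IsPGroup p (R ⧸ Subgroup.zpowers z) := hR.to_quotient _
  have hnc : ¬ IsCyclic (⊤ : Subgroup (R ⧸ Subgroup.zpowers z)) := by
    intro hc
    have hcQ : IsCyclic (R ⧸ Subgroup.zpowers z) :=
      isCyclic_of_surjective (Subgroup.topEquiv : (⊤ : Subgroup (R ⧸ Subgroup.zpowers z)) ≃* _)
        (Subgroup.topEquiv : (⊤ : Subgroup (R ⧸ Subgroup.zpowers z)) ≃* _).surjective
    have hcomm : ∀ a b : R ⧸ Subgroup.zpowers z, a * b = b * a :=
      fun a b => (IsCyclic.commGroup (α := R ⧸ Subgroup.zpowers z)).mul_comm a b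
    have hall : ∀ x ∈ omegaOne p (⊤ : Subgroup (R ⧸ Subgroup.zpowers z)), x ^ p = 1 := by
      intro x hx
      induction hx using Subgroup.closure_induction with
      | mem x hx => exact hx.2
      | one => exact one_pow p
      | mul x y _ _ hx hy => rw [(show Commute x y from hcomm x y).mul_pow, hx, hy, one_mul]
      | inv x _ hx => rw [inv_pow, hx, inv_one]
    have := Cfsg.Agent.Lib.Helper29.card_le_of_isCyclic_of_pow
      (H := omegaOne p (⊤ : Subgroup (R ⧸ Subgroup.zpowers z))) hpf.out.pos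
      (fun x => Subtype.ext (by simpa using hall x x.2))
    have h2 : p ≤ p ^ 2 := by nlinarith [hpf.out.pos]
    omega
  obtain ⟨E, -, hEn, hEel, hEcard⟩ := S0636.result (by omega) hQ ⊤ hnc
  obtain ⟨x, hx1, hxE⟩ : ∃ x : R ⧸ Subgroup.zpowers z, x ^ p = 1 ∧ x ∉ E := by
    by_contra hall
    push Not at hall
    have : omegaOne p (⊤ : Subgroup (R ⧸ Subgroup.zpowers z)) ≤ E := by
      rw [omegaOne, Subgroup.closure_le]
      intro y hy
      exact hall y hy.2
    have := Subgroup.card_le_of_le this
    omega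
  have hxo : orderOf x = p := orderOf_eq_prime hx1 (by rintro rfl; exact hxE E.one_mem)
  have hScard := S4023.card_sup_zpowers p hxo E hxE (fun e he => hEn.conj_mem e he x)
  rw [hEcard] at hScard
  set Sb := Subgroup.zpowers x ⊔ E with hSb
  have hSbreg : IsRegularPGroup p Sb := by
    apply regular_of_card_le (hQ.to_subgroup _)
    rw [hScard, ← pow_succ']
    exact Nat.pow_le_pow_right hpf.out.pos (by omega)
  have hSbexp : ∀ s ∈ Sb, s ^ p = 1 := by
    obtain ⟨W, hWS, hW, -⟩ := exists_omega Sb ⊤ hSbreg (fun _ _ => Subgroup.mem_top _)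
    have h1 : Sb ≤ W := by
      rw [hSb, sup_le_iff]
      constructor
      · rw [Subgroup.zpowers_le]
        exact (hW x (Subgroup.mem_sup_left (Subgroup.mem_zpowers x))).2 hx1
      · intro e he
        exact (hW e (Subgroup.mem_sup_right he)).2 (hEel.2 e he)
    intro s hs
    exact (hW s hs).1 (h1 hs)
  set S := Sb.comap (QuotientGroup.mk' (Subgroup.zpowers z)) with hS
  have hcardS : Nat.card S = p ^ 4 := by
    have h1 := Subgroup.card_mul_index S
    have h2 := Subgroup.card_mul_index Sb
    have h3 : S.index = Sb.index :=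
      Subgroup.index_comap_of_surjective Sb (QuotientGroup.mk'_surjective _)
    have h4 := Subgroup.card_eq_card_quotient_mul_card_subgroup (Subgroup.zpowers z)
    rw [Nat.card_zpowers, hz] at h4
    rw [h3, h4, ← h2, hScard] at h1
    have hpos : 0 < Sb.index := Nat.pos_of_ne_zero Subgroup.index_ne_zero_of_finite
    have : Nat.card S * Sb.index = p ^ 4 * Sb.index := by rw [h1]; ring
    exact Nat.eq_of_mul_eq_mul_right hpos this
  have hSreg : IsRegularPGroup p S := by
    apply regular_of_card_le (hR.to_subgroup _)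
    rw [hcardS]
    exact Nat.pow_le_pow_right hpf.out.pos (by omega)
  obtain ⟨W, hWS, hW, hWcard⟩ := exists_omega S (Subgroup.zpowers z) hSreg (by
    intro s hs
    have h1 : (QuotientGroup.mk' (Subgroup.zpowers z) s) ^ p = 1 := hSbexp _ hs
    rw [← map_pow] at h1
    exact (QuotientGroup.eq_one_iff _).1 h1)
  have hWle : W ≤ omegaOne p (⊤ : Subgroup R) := by
    intro w hw
    exact mem_omegaOne ((hW w (hWS hw)).1 hw)
  have h5 := Subgroup.card_le_of_le hWle
  rw [hcardS, Nat.card_zpowers, hz] at hWcard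
  have h6 : p * Nat.card W ≤ p * p ^ 2 := Nat.mul_le_mul_left _ (h5.trans hO)
  have h7 : p * p ^ 2 < p ^ 4 := by
    rw [← pow_succ']
    exact Nat.pow_lt_pow_right hpf.out.one_lt (by norm_num)
  omega

theorem aux {p : ℕ} [hpf : Fact p.Prime] (hp : 3 < p) : ∀ (n : ℕ) (R Q : Type u) [Group R]
    [Finite R] [Group Q] (f : R →* Q), Function.Surjective f → Nat.card R = n → IsPGroup p R →
    Nat.card ↥(omegaOne p (⊤ : Subgroup R)) ≤ p ^ 2 →
    Nat.card ↥(omegaOne p (⊤ : Subgroup Q)) ≤ p ^ 2 := by
  intro n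
  induction n using Nat.strong_induction_on with
  | _ n ih =>
  intro R Q _ _ _ f hf hn hR hO
  have : Finite Q := Finite.of_surjective f hf
  by_cases hk : f.ker = ⊥
  · have hinj : Function.Injective f := (MonoidHom.ker_eq_bot_iff f).1 hk
    have h1 : omegaOne p (⊤ : Subgroup Q) ≤ (omegaOne p (⊤ : Subgroup R)).map f := by
      rw [omegaOne, Subgroup.closure_le]
      rintro y ⟨-, hy⟩
      obtain ⟨x, rfl⟩ := hf y
      refine ⟨x, mem_omegaOne ?_, rfl⟩
      apply hinj
      rw [map_pow, hy, map_one]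
    have h2 := Subgroup.card_le_of_le h1
    rw [Subgroup.card_map_of_injective hinj] at h2
    exact h2.trans hO
  · obtain ⟨t, htk, hto, htc⟩ := Cfsg.Agent.Lib.Helper48.exists_central_orderOf_eq_of_normal
      (S := (⊤ : Subgroup R)) (W := f.ker) (hR.to_subgroup _) le_top
      (by rw [Subgroup.normalizer_eq_top]) hk
    have hnorm : (Subgroup.zpowers t).Normal := by
      refine ⟨fun m hm g => ?_⟩
      obtain ⟨i, rfl⟩ := Subgroup.mem_zpowers_iff.1 hm
      have : g * t ^ i * g⁻¹ = t ^ i := by
        have hc : Commute g t := htc g (Subgroup.mem_top g)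
        rw [(hc.zpow_right i).eq, mul_inv_cancel_right]
      rw [this]
      exact Subgroup.zpow_mem_zpowers t i
    have hcore := core hp hR hO t hto
    have hle : Subgroup.zpowers t ≤ f.ker := Subgroup.zpowers_le.2 htk
    have hcard : Nat.card (R ⧸ Subgroup.zpowers t) < n := by
      have h4 := Subgroup.card_eq_card_quotient_mul_card_subgroup (Subgroup.zpowers t)
      rw [Nat.card_zpowers, hto, hn] at h4
      have hpos : 0 < Nat.card (R ⧸ Subgroup.zpowers t) := Nat.card_pos
      have := hpf.out.two_le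
      nlinarith
    refine ih _ hcard (R ⧸ Subgroup.zpowers t) Q (QuotientGroup.lift _ f hle) ?_ rfl
      (hR.to_quotient _) hcore
    intro y
    obtain ⟨x, rfl⟩ := hf y
    exact ⟨QuotientGroup.mk x, rfl⟩

/-- For p greater than 3, the bound p² on the order of the subgroup generated by the elements of order dividing p passes from a p-group to all its quotients. -/
theorem result {R : Type*} [Group R] [Finite R] {p : ℕ} [Fact p.Prime] (hp : 3 < p) (hR : IsPGroup p R) (hO : Nat.card ↥(Cfsg.omegaOne p (⊤ : Subgroup R)) ≤ p ^ 2) (T : Subgroup R) [T.Normal] : Nat.card ↥(Cfsg.omegaOne p (⊤ : Subgroup (R ⧸ T))) ≤ p ^ 2 := by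
  exact aux hp _ R (R ⧸ T) (QuotientGroup.mk' T) (QuotientGroup.mk'_surjective T) rfl hR hO

end Cfsg.Agent.S0637
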