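import Cfsg.Statements.S0639
import Cfsg.Agent.S0637
import Cfsg.Agent.Lib.Helper52.FPF
import Cfsg.Agent.Lib.Helper73.CycNormal

set_option autoImplicit false
open Cfsg

universe u

namespace Cfsg.Agent.S0639

open scoped commutatorElement
open Cfsg.Agent.Lib.Helper73

/-- If `R = ⟨b⟩ N`, `N = ⟨a⟩ ⟨z⟩` normal with `z` central, then `R' ≤ ⟨[b,a]⟩`. -/
theorem commutator_le_zpowers {R : Type*} [Group R] (z a b : R) (hz : ∀ g, g * z = z * g)
    (N : Subgroup R) [hNn : N.Normal] (hN : ∀ n ∈ N, ∃ i j : ℤ, n = a ^ i * z ^ j) (haN : a ∈ N)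
    (hR : ∀ g, ∃ k : ℕ, ∃ n ∈ N, g = b ^ k * n) : commutator R ≤ Subgroup.zpowers ⁅b, a⁆ := by
  have hzc : ∀ g : R, Commute g z := fun g => hz g
  have hNab : ∀ n ∈ N, ∀ n' ∈ N, Commute n n' := by
    intro n hn n' hn'
    obtain ⟨i, j, rfl⟩ := hN n hn
    obtain ⟨i', j', rfl⟩ := hN n' hn'
    have h1 : Commute (a ^ i) (a ^ i') := (Commute.refl a).zpow_zpow i i'
    have h2 : Commute (a ^ i) (z ^ j') := (hzc _).zpow_right j'
    have h3 : Commute (z ^ j) (a ^ i') := ((hzc _).zpow_right j).symm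
    have h4 : Commute (z ^ j) (z ^ j') := (Commute.refl z).zpow_zpow j j'
    exact (h1.mul_right h2).mul_left (h3.mul_right h4)
  have ha' : b * a * b⁻¹ ∈ N := hNn.conj_mem a haN b
  have hphi : ∀ n ∈ N, ⁅b, n⁆ ∈ Subgroup.zpowers ⁅b, a⁆ := by
    intro n hn
    obtain ⟨i, j, rfl⟩ := hN n hn
    refine ⟨i, ?_⟩
    have hc : Commute (b * a * b⁻¹) a⁻¹ := (hNab _ ha' _ haN).inv_right
    have e1 : ⁅b, a⁆ = (b * a * b⁻¹) * a⁻¹ := by rw [commutatorElement_def]
    have e2 : b * (a ^ i * z ^ j) * b⁻¹ = (b * a * b⁻¹) ^ i * z ^ j := by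
      rw [conj_zpow]
      have : Commute b⁻¹ (z ^ j) := (hzc _).zpow_right j
      calc b * (a ^ i * z ^ j) * b⁻¹ = b * a ^ i * (z ^ j * b⁻¹) := by group
        _ = b * a ^ i * (b⁻¹ * z ^ j) := by rw [this.eq]
        _ = _ := by group
    change ⁅b, a⁆ ^ i = _
    rw [e1, hc.mul_zpow, commutatorElement_def, e2, mul_inv_rev, inv_zpow]
    group
  have hcN : ⁅b, a⁆ ∈ N := by
    rw [commutatorElement_def]
    exact N.mul_mem ha' (N.inv_mem haN)
  have hIN : Subgroup.zpowers ⁅b, a⁆ ≤ N := Subgroup.zpowers_le.2 hcN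
  have hb : ∀ x ∈ Subgroup.zpowers ⁅b, a⁆, b * x * b⁻¹ ∈ Subgroup.zpowers ⁅b, a⁆ := by
    intro x hx
    have : b * x * b⁻¹ = ⁅b, x⁆ * x := by rw [commutatorElement_def]; group
    rw [this]
    exact Subgroup.mul_mem _ (hphi x (hIN hx)) hx
  have hbk : ∀ (k : ℕ), ∀ x ∈ Subgroup.zpowers ⁅b, a⁆,
      b ^ k * x * (b ^ k)⁻¹ ∈ Subgroup.zpowers ⁅b, a⁆ := by
    intro k
    induction k with
    | zero => intro x hx; simpa using hx
    | succ k ih =>
      intro x hx
      have : b ^ (k + 1) * x * (b ^ (k + 1))⁻¹ = b * (b ^ k * x * (b ^ k)⁻¹) * b⁻¹ := by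
        rw [pow_succ']; group
      rw [this]
      exact hb _ (ih x hx)
  have hnorm : (Subgroup.zpowers ⁅b, a⁆).Normal := by
    refine ⟨fun x hx g => ?_⟩
    obtain ⟨k, n, hn, rfl⟩ := hR g
    have h1 : n * x * n⁻¹ = x := by
      rw [(hNab n hn x (hIN hx)).eq, mul_inv_cancel_right]
    have : b ^ k * n * x * (b ^ k * n)⁻¹ = b ^ k * (n * x * n⁻¹) * (b ^ k)⁻¹ := by group
    rw [this, h1]
    exact hbk k x hx
  have hcb : ∀ n ∈ N, Commute (QuotientGroup.mk' (Subgroup.zpowers ⁅b, a⁆) b)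
      (QuotientGroup.mk' (Subgroup.zpowers ⁅b, a⁆) n) := by
    intro n hn
    rw [← commutatorElement_eq_one_iff_commute, ← map_commutatorElement]
    exact (QuotientGroup.eq_one_iff _).2 (hphi n hn)
  rw [commutator_eq_closure, Subgroup.closure_le]
  rintro _ ⟨g, h, rfl⟩
  rw [SetLike.mem_coe, ← QuotientGroup.eq_one_iff]
  change QuotientGroup.mk' (Subgroup.zpowers ⁅b, a⁆) ⁅g, h⁆ = 1
  rw [map_commutatorElement, commutatorElement_eq_one_iff_commute]
  obtain ⟨k, n, hn, rfl⟩ := hR g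
  obtain ⟨l, n', hn', rfl⟩ := hR h
  rw [map_mul, map_mul, map_pow, map_pow]
  have h1 := (Commute.refl (QuotientGroup.mk' (Subgroup.zpowers ⁅b, a⁆) b)).pow_pow k l
  have h2 := (hcb n' hn').pow_left k
  have h3 := ((hcb n hn).pow_left l).symm
  have h4 : Commute (QuotientGroup.mk' (Subgroup.zpowers ⁅b, a⁆) n)
      (QuotientGroup.mk' (Subgroup.zpowers ⁅b, a⁆) n') := (hNab n hn n' hn').map _
  exact (h1.mul_right h2).mul_left (h3.mul_right h4)

theorem map_mk_sup_zpowers {R : Type*} [Group R] (M : Subgroup R) [M.Normal] (g : R) :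
    (M ⊔ Subgroup.zpowers g).map (QuotientGroup.mk' M) =
      Subgroup.zpowers (QuotientGroup.mk' M g) := by
  rw [Subgroup.map_sup, QuotientGroup.map_mk'_self, bot_sup_eq, MonoidHom.map_zpowers]

theorem zpowers_eq_of_mem {X : Type*} [Group X] [Finite X] {p : ℕ} (hp : p.Prime) {x y : X}
    (hx : orderOf x = p) (hy : y ≠ 1) (hyx : y ∈ Subgroup.zpowers x) :
    Subgroup.zpowers y = Subgroup.zpowers x := by
  have hle : Subgroup.zpowers y ≤ Subgroup.zpowers x := Subgroup.zpowers_le.2 hyx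
  refine Subgroup.eq_of_le_of_card_ge hle ?_
  rw [Nat.card_zpowers, Nat.card_zpowers, hx]
  have h1 : orderOf y ∣ p := by
    have := Subgroup.card_dvd_of_le hle
    rwa [Nat.card_zpowers, Nat.card_zpowers, hx] at this
  rcases (Nat.dvd_prime hp).1 h1 with h2 | h2
  · exact absurd (orderOf_eq_one_iff.1 h2) hy
  · exact h2.ge

theorem metacyclic_of_cyclic_ge_commutator {R : Type*} [Group R] [Finite R] {p : ℕ}
    [hpf : Fact p.Prime] (hp2 : p ≠ 2) (hR : IsPGroup p R)
    (hO : Nat.card ↥(omegaOne p (⊤ : Subgroup R)) ≤ p ^ 2) (M₀ : Subgroup R) (hM₀ : IsCyclic M₀)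
    (hc : commutator R ≤ M₀) : IsMetacyclic R := by
  have hp := hpf.out
  obtain ⟨M, hM⟩ := (Set.toFinite {M : Subgroup R | IsCyclic M ∧ commutator R ≤ M}).exists_maximal
    ⟨M₀, hM₀, hc⟩
  obtain ⟨⟨hMc, hMcomm⟩, hMmax⟩ := hM
  have hMn : M.Normal := by
    refine ⟨fun m hm g => ?_⟩
    have : g * m * g⁻¹ = ⁅g, m⁆ * m := by rw [commutatorElement_def]; group
    rw [this]
    refine M.mul_mem (hMcomm ?_) hm
    rw [commutator_def]
    exact Subgroup.commutator_mem_commutator (Subgroup.mem_top _) (Subgroup.mem_top _)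
  refine ⟨M, hMn, hMc, ?_⟩
  by_contra hncyc
  -- lemma U
  have hU : ∀ g : R, g ∉ M → ∃ u : R, u ^ p = 1 ∧ u ∉ M ∧
      QuotientGroup.mk' M u ∈ Subgroup.zpowers (QuotientGroup.mk' M g) := by
    intro g hg
    have hK : ¬ IsCyclic ↥(M ⊔ Subgroup.zpowers g) := by
      intro hcyc
      have := hMmax (y := M ⊔ Subgroup.zpowers g) ⟨hcyc, hMcomm.trans le_sup_left⟩ le_sup_left
      exact hg (this (Subgroup.mem_sup_right (Subgroup.mem_zpowers g)))
    have hK' : ¬ IsCyclic (⊤ : Subgroup ↥(M ⊔ Subgroup.zpowers g)) := by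
      intro h
      exact hK (isCyclic_of_surjective
        (Subgroup.topEquiv : (⊤ : Subgroup ↥(M ⊔ Subgroup.zpowers g)) ≃* _)
        (Subgroup.topEquiv : (⊤ : Subgroup ↥(M ⊔ Subgroup.zpowers g)) ≃* _).surjective)
    obtain ⟨A, -, -, hAel, hAcard⟩ := S0636.result hp2 (hR.to_subgroup _) ⊤ hK'
    obtain ⟨u, huA, huM⟩ : ∃ u ∈ A, (u : R) ∉ M := by
      by_contra hall
      push Not at hall
      have hle : A.map (Subgroup.subtype _) ≤ M := by
        rintro _ ⟨u, hu, rfl⟩
        exact hall u hu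
      have hcyc : IsCyclic ↥(A.map (Subgroup.subtype (M ⊔ Subgroup.zpowers g))) :=
        isCyclic_of_surjective (Subgroup.subgroupOfEquivOfLe hle)
          (Subgroup.subgroupOfEquivOfLe hle).surjective
      have h1 := Cfsg.Agent.Lib.Helper29.card_le_of_isCyclic_of_pow
        (H := ↥(A.map (Subgroup.subtype (M ⊔ Subgroup.zpowers g)))) hp.pos (by
          rintro ⟨_, u, hu, rfl⟩
          apply Subtype.ext
          have := hAel.2 u hu
          simpa using congrArg Subtype.val this)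
      rw [Subgroup.card_map_of_injective (Subgroup.subtype_injective _), hAcard] at h1
      have : p < p ^ 2 := by nlinarith [hp.two_le]
      omega
    refine ⟨u, ?_, huM, ?_⟩
    · have := hAel.2 u huA
      simpa using congrArg Subtype.val this
    · rw [← map_mk_sup_zpowers]
      exact ⟨u, u.2, rfl⟩
  let _ : CommGroup (R ⧸ M) :=
    { (inferInstance : Group (R ⧸ M)) with
      mul_comm := by
        intro x y
        induction x using QuotientGroup.induction_on
        induction y using QuotientGroup.induction_on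
        rename_i x y
        have : Commute (QuotientGroup.mk' M x) (QuotientGroup.mk' M y) := by
          rw [← commutatorElement_eq_one_iff_commute, ← map_commutatorElement]
          refine (QuotientGroup.eq_one_iff _).2 (hMcomm ?_)
          rw [commutator_def]
          exact Subgroup.commutator_mem_commutator (Subgroup.mem_top _) (Subgroup.mem_top _)
        exact this }
  obtain ⟨r, c', d', hr, hc', hd', hcd⟩ :=
    Cfsg.Agent.Lib.Helper52.exists_rank_two (A := R ⧸ M) hncyc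
  have hrp : r = p := by
    obtain ⟨k, hk⟩ := (hR.to_quotient M).exists_orderOf_eq_pow d'
    rw [hd'] at hk
    have h1 : r ∣ p ^ k := by rw [← hk]
    exact (Nat.prime_dvd_prime_iff_eq hr hp).mp (hr.dvd_of_dvd_pow h1)
  subst hrp
  obtain ⟨c, rfl⟩ := QuotientGroup.mk'_surjective M c'
  obtain ⟨d, rfl⟩ := QuotientGroup.mk'_surjective M d'
  have hc1 : QuotientGroup.mk' M c ≠ 1 := by
    intro h; rw [h] at hcd; exact hcd (one_mem _)
  have hcM : c ∉ M := fun h => hc1 ((QuotientGroup.eq_one_iff _).2 h)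
  have hd1 : QuotientGroup.mk' M d ≠ 1 := by
    intro h; rw [h, orderOf_one] at hd'; exact hp.one_lt.ne hd'
  have hdM : d ∉ M := fun h => hd1 ((QuotientGroup.eq_one_iff _).2 h)
  have hco : orderOf (QuotientGroup.mk' M c) = r := orderOf_eq_prime hc' hc1
  obtain ⟨uc, huc1, hucM, hucz⟩ := hU c hcM
  obtain ⟨ud, hud1, hudM, hudz⟩ := hU d hdM
  have hMne : M ≠ ⊥ := by
    intro h0
    have := hMmax (y := Subgroup.zpowers d) ⟨inferInstance, by rw [h0] at hMcomm; exact hMcomm.trans bot_le⟩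
      (by rw [h0]; exact bot_le)
    exact hdM (this (Subgroup.mem_zpowers d))
  obtain ⟨u0, hu0M, hu0o, -⟩ := Cfsg.Agent.Lib.Helper48.exists_central_orderOf_eq_of_normal
      (S := (⊤ : Subgroup R)) (W := M) (hR.to_subgroup _) le_top
      (by rw [Subgroup.normalizer_eq_top]) hMne
  have hL : Subgroup.zpowers u0 ⊔ Subgroup.zpowers ud = omegaOne r (⊤ : Subgroup R) := by
    have hle : Subgroup.zpowers u0 ⊔ Subgroup.zpowers ud ≤ omegaOne r (⊤ : Subgroup R) := by
      rw [sup_le_iff, Subgroup.zpowers_le, Subgroup.zpowers_le]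
      exact ⟨S0637.mem_omegaOne (by rw [← hu0o, pow_orderOf_eq_one]), S0637.mem_omegaOne hud1⟩
    refine Subgroup.eq_of_le_of_card_ge hle ?_
    have hlt : Subgroup.zpowers u0 < Subgroup.zpowers u0 ⊔ Subgroup.zpowers ud := by
      refine lt_of_le_of_ne le_sup_left ?_
      intro heq
      apply hudM
      have : ud ∈ Subgroup.zpowers u0 := by
        rw [heq]; exact Subgroup.mem_sup_right (Subgroup.mem_zpowers ud)
      exact (Subgroup.zpowers_le.2 hu0M) this
    have := S3872.card_mul_le hR hlt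
    rw [Nat.card_zpowers, hu0o] at this
    calc _ ≤ r ^ 2 := hO
      _ = r * r := pow_two r
      _ ≤ _ := this
  have h1 : uc ∈ M ⊔ Subgroup.zpowers ud := by
    have : uc ∈ Subgroup.zpowers u0 ⊔ Subgroup.zpowers ud := by
      rw [hL]; exact S0637.mem_omegaOne huc1
    exact (sup_le_sup_right (Subgroup.zpowers_le.2 hu0M) _) this
  have h2 : QuotientGroup.mk' M uc ∈ Subgroup.zpowers (QuotientGroup.mk' M ud) := by
    rw [← map_mk_sup_zpowers]
    exact ⟨uc, h1, rfl⟩
  have h3 : QuotientGroup.mk' M uc ∈ Subgroup.zpowers (QuotientGroup.mk' M d) :=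
    (Subgroup.zpowers_le.2 hudz) h2
  have huc1' : QuotientGroup.mk' M uc ≠ 1 := fun h => hucM ((QuotientGroup.eq_one_iff _).1 h)
  have h4 := zpowers_eq_of_mem hp hco huc1' hucz
  apply hcd
  have : QuotientGroup.mk' M c ∈ Subgroup.zpowers (QuotientGroup.mk' M uc) := by
    rw [h4]; exact Subgroup.mem_zpowers _
  exact (Subgroup.zpowers_le.2 h3) this

theorem aux {p : ℕ} [hpf : Fact p.Prime] (hp : 3 < p) : ∀ (n : ℕ) (R : Type u) [Group R]
    [Finite R], Nat.card R = n → IsPGroup p R →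
    Nat.card ↥(omegaOne p (⊤ : Subgroup R)) ≤ p ^ 2 → IsMetacyclic R := by
  intro n
  induction n using Nat.strong_induction_on with
  | _ n ih =>
  intro R _ _ hn hR hO
  rcases subsingleton_or_nontrivial R with hs | hnt
  · refine metacyclic_of_cyclic_ge_commutator (by omega) hR hO ⊥ inferInstance ?_
    intro x _
    rw [Subsingleton.elim x 1]; exact Subgroup.one_mem _
  · obtain ⟨z, -, hzo, hzc⟩ := Cfsg.Agent.Lib.Helper48.exists_central_orderOf_eq_of_normal
      (S := (⊤ : Subgroup R)) (W := ⊤) (hR.to_subgroup _) le_top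
      (by rw [Subgroup.normalizer_eq_top]) top_ne_bot
    have hzc' : ∀ g : R, g * z = z * g := fun g => hzc g (Subgroup.mem_top g)
    have hnorm : (Subgroup.zpowers z).Normal := by
      refine ⟨fun m hm g => ?_⟩
      obtain ⟨i, rfl⟩ := Subgroup.mem_zpowers_iff.1 hm
      have : g * z ^ i * g⁻¹ = z ^ i := by
        have hc : Commute g z := hzc' g
        rw [(hc.zpow_right i).eq, mul_inv_cancel_right]
      rw [this]
      exact Subgroup.zpow_mem_zpowers z i
    have hcard : Nat.card (R ⧸ Subgroup.zpowers z) < n := by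
      have h4 := Subgroup.card_eq_card_quotient_mul_card_subgroup (Subgroup.zpowers z)
      rw [Nat.card_zpowers, hzo, hn] at h4
      have hpos : 0 < Nat.card (R ⧸ Subgroup.zpowers z) := Nat.card_pos
      have := hpf.out.two_le
      nlinarith
    obtain ⟨Nb, hNbn, hNbc, hQc⟩ := ih _ hcard (R ⧸ Subgroup.zpowers z) rfl (hR.to_quotient _)
      (S0637.result hp hR hO (Subgroup.zpowers z))
    obtain ⟨⟨a', ha'N⟩, ha'⟩ := hNbc
    obtain ⟨a, rfl⟩ := QuotientGroup.mk'_surjective _ a'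
    obtain ⟨b'', hb''⟩ := hQc
    obtain ⟨b', rfl⟩ := QuotientGroup.mk'_surjective _ b''
    obtain ⟨b, rfl⟩ := QuotientGroup.mk'_surjective _ b'
    have hNn : (Nb.comap (QuotientGroup.mk' (Subgroup.zpowers z))).Normal := inferInstance
    have hcomm := commutator_le_zpowers z a b hzc' (Nb.comap (QuotientGroup.mk' (Subgroup.zpowers z)))
      (by
        intro m hm
        obtain ⟨i, hi⟩ := Subgroup.mem_zpowers_iff.1 (ha' ⟨QuotientGroup.mk' _ m, hm⟩)
        have h1 : (QuotientGroup.mk' (Subgroup.zpowers z) a) ^ i = QuotientGroup.mk' _ m := by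
          simpa using congrArg Subtype.val hi
        have h2 : (a ^ i)⁻¹ * m ∈ Subgroup.zpowers z := by
          rw [← QuotientGroup.eq_one_iff]
          change QuotientGroup.mk' (Subgroup.zpowers z) ((a ^ i)⁻¹ * m) = 1
          rw [map_mul, map_inv, map_zpow, h1, inv_mul_cancel]
        obtain ⟨j, hj⟩ := Subgroup.mem_zpowers_iff.1 h2
        exact ⟨i, j, by rw [hj, mul_inv_cancel_left]⟩)
      ha'N
      (by
        intro g
        obtain ⟨k, hk⟩ := exists_pow_of_mem_zpowers _ _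
          (hb'' (QuotientGroup.mk' Nb (QuotientGroup.mk' _ g)))
        refine ⟨k, (b ^ k)⁻¹ * g, ?_, by rw [mul_inv_cancel_left]⟩
        change QuotientGroup.mk' (Subgroup.zpowers z) ((b ^ k)⁻¹ * g) ∈ Nb
        rw [← QuotientGroup.eq_one_iff]
        change QuotientGroup.mk' Nb (QuotientGroup.mk' (Subgroup.zpowers z) ((b ^ k)⁻¹ * g)) = 1
        rw [map_mul, map_mul, hk, map_inv, map_inv, map_pow, map_pow, inv_mul_cancel])
    exact metacyclic_of_cyclic_ge_commutator (by omega) hR hO _ inferInstance hcomm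

/-- Huppert's criterion: for p greater than 3, a p-group whose elements of order dividing p generate a subgroup of order at most p² is metacyclic. -/
theorem result {R : Type*} [Group R] [Finite R] {p : ℕ} [Fact p.Prime] (hp : 3 < p) (hR : IsPGroup p R) (hO : Nat.card ↥(Cfsg.omegaOne p (⊤ : Subgroup R)) ≤ p ^ 2) : Cfsg.IsMetacyclic R := by
  exact aux hp _ R rfl hR hO

end Cfsg.Agent.S0639
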