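import Cfsg.Statements.S3880
import Cfsg.Agent.Lib.Helper64.MetaSub

set_option autoImplicit false
open Cfsg

namespace Cfsg.Agent.S3880

open Cfsg.Agent.Lib.Helper64

/-- Let p be an odd prime and G a finite metacyclic p-group (G has a cyclic normal subgroup with cyclic quotient). Then a subgroup L of G is abelian if and only if |L| ≤ |G : G'|, and L is a maximal abelian subgroup of G if and only if |L| = |G : G'|. -/
theorem result {G : Type*} [Group G] [Finite G] {p : ℕ} [Fact p.Prime] (hp : p ≠ 2) (hG : IsPGroup p G) (hmc : Cfsg.IsMetacyclic G) (L : Subgroup G) :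
    (IsMulCommutative ↥L ↔ Nat.card ↥L ≤ (commutator G).index) ∧
      (Maximal (fun K : Subgroup G => IsMulCommutative ↥K) L ↔ Nat.card ↥L = (commutator G).index) := by
  have hpp : p.Prime := Fact.out
  obtain ⟨a, b, κ, m, k, n, D⟩ := exists_metaData hG hmc
  refine ⟨D.isMulCommutative_iff_card_le hp L, ?_⟩
  constructor
  · rintro ⟨hL, hmax⟩
    have h1 := (D.isMulCommutative_iff_card_le hp L).1 hL
    by_contra hne
    have hlt : Nat.card ↥L < (commutator G).index := lt_of_le_of_ne h1 hne
    obtain ⟨r, hr⟩ := (hG.to_subgroup L).exists_card_eq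
    rw [D.index_commutator, hr, Nat.pow_lt_pow_iff_right hpp.one_lt] at hlt
    have hdvd : p ^ (r + 1) ∣ Nat.card G := by
      rw [D.card_eq, ← pow_add]; exact pow_dvd_pow p (by omega)
    obtain ⟨K, hK, hLK⟩ := Sylow.exists_subgroup_card_pow_succ hdvd hr
    have hKc : IsMulCommutative ↥K := by
      rw [D.isMulCommutative_iff_card_le hp K, hK, D.index_commutator]
      exact Nat.pow_le_pow_right hpp.pos (by omega)
    have h2 := Subgroup.card_le_of_le (hmax hKc hLK)
    rw [hK, hr, Nat.pow_le_pow_iff_right hpp.one_lt] at h2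
    omega
  · intro h
    refine ⟨(D.isMulCommutative_iff_card_le hp L).2 h.le, ?_⟩
    intro K hK hLK
    have h1 := (D.isMulCommutative_iff_card_le hp K).1 hK
    exact (Subgroup.eq_of_le_of_card_ge hLK (by omega)).ge

end Cfsg.Agent.S3880
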