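import Cfsg.Statements.S0013
import Mathlib

set_option autoImplicit false
open Cfsg

namespace Cfsg.Agent.S0013


/-- In a finite p-group the Frattini subgroup is the smallest normal subgroup with elementary abelian quotient: it lies below any normal subgroup containing all commutators and all p-th powers. -/
theorem result {G : Type*} [Group G] [Finite G] (p : ℕ) [Fact p.Prime]
    (hG : IsPGroup p G) (N : Subgroup G) [N.Normal] (hcomm : commutator G ≤ N) (hpow : ∀ x : G, x ^ p ∈ N) :
    frattini G ≤ N := by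
  intro x hx
  by_contra hxN
  let S : Set (Subgroup G) := {M | N ≤ M ∧ x ∉ M}
  have hSfin : S.Finite := Set.toFinite S
  obtain ⟨M, hM⟩ := hSfin.exists_maximal ⟨N, le_rfl, hxN⟩
  have hNM : N ≤ M := hM.prop.1
  have hxM : x ∉ M := hM.prop.2
  have hMn : M.Normal := Subgroup.Normal.of_commutator_le G (hcomm.trans hNM)
  have key : ∀ K : Subgroup G, M < K → x ∈ K := by
    intro K hK
    by_contra hxK
    exact hK.not_ge (hM.le_of_ge ⟨hNM.trans hK.le, hxK⟩ hK.le)
  have htop : M ⊔ Subgroup.zpowers x = ⊤ := by
    rw [eq_top_iff]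
    intro g _
    by_cases hg : g ∈ M
    · exact Subgroup.mem_sup_left hg
    · have h1 : x ∈ M ⊔ Subgroup.zpowers g := key _ (by
        refine lt_of_le_of_ne le_sup_left ?_
        intro h
        apply hg
        rw [h]
        exact Subgroup.mem_sup_right (Subgroup.mem_zpowers g))
      rw [Subgroup.mem_sup_of_normal_left] at h1
      obtain ⟨m, hm, z, ⟨i, rfl⟩, hmz⟩ := h1
      have hi : ¬ (p : ℤ) ∣ i := by
        rintro ⟨j, rfl⟩
        apply hxM
        rw [← hmz]
        refine M.mul_mem hm (hNM ?_)
        simp only [zpow_mul, zpow_natCast]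
        exact N.zpow_mem (hpow g) j
      have hcop : IsCoprime (p : ℤ) i :=
        (Nat.prime_iff_prime_int.1 Fact.out).irreducible.coprime_iff_not_dvd.2 hi
      obtain ⟨a, b, hab⟩ := hcop
      have h2 : g = (g ^ p) ^ a * (g ^ i) ^ b := by
        rw [← zpow_natCast, ← zpow_mul, ← zpow_mul, ← zpow_add, mul_comm (p:ℤ), mul_comm i, hab,
          zpow_one]
      rw [h2]
      refine Subgroup.mul_mem _ (Subgroup.zpow_mem _ (Subgroup.mem_sup_left (hNM (hpow g))) _)
        (Subgroup.zpow_mem _ ?_ _)
      have h3 : g ^ i = m⁻¹ * x := by rw [← hmz]; group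
      rw [h3]
      exact Subgroup.mul_mem _ (Subgroup.mem_sup_left (M.inv_mem hm))
        (Subgroup.mem_sup_right (Subgroup.mem_zpowers x))
  have hcoatom : IsCoatom M := by
    refine ⟨fun h => hxM (h ▸ Subgroup.mem_top x), fun K hK => ?_⟩
    rw [eq_top_iff, ← htop]
    exact sup_le hK.le (by rw [Subgroup.zpowers_le]; exact key K hK)
  exact hxM (frattini_le_coatom hcoatom hx)

end Cfsg.Agent.S0013
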