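import Cfsg.Statements.S0660
import Mathlib

set_option autoImplicit false

open Cfsg

namespace Cfsg.Agent.S0660

open Subgroup

theorem abstract_maschke {V A : Type*} [CommGroup V] [Finite V] [Group A] [Fintype A]
    [MulDistribMulAction A V]
    (U W : Subgroup V) (hU : ∀ (a : A), ∀ u ∈ U, a • u ∈ U)
    (hcop : (Fintype.card A).Coprime (Nat.card V))
    (hUW : U ⊓ W = ⊥) (hsup : U ⊔ W = ⊤) :
    ∃ W' : Subgroup V, (∀ (a : A), ∀ w ∈ W', a • w ∈ W') ∧ U ⊓ W' = ⊥ ∧ U ⊔ W' = ⊤ := by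
  classical
  have hdec : ∀ v : V, ∃ u ∈ U, ∃ w ∈ W, u * w = v :=
    fun v => Subgroup.mem_sup.1 (hsup ▸ Subgroup.mem_top v)
  choose pu hpu pw hpw hpv using hdec
  have huniq : ∀ u ∈ U, ∀ w ∈ W, ∀ u' ∈ U, ∀ w' ∈ W, u * w = u' * w' → u = u' := by
    intro u hu w hw u' hu' w' hw' h
    have h1 : u'⁻¹ * u = w' * w⁻¹ := by
      rw [inv_mul_eq_iff_eq_mul, ← mul_assoc, ← h, mul_inv_cancel_right]
    have h2 : u'⁻¹ * u ∈ U ⊓ W :=
      Subgroup.mem_inf.2 ⟨mul_mem (inv_mem hu') hu, h1 ▸ mul_mem hw' (inv_mem hw)⟩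
    rw [hUW, Subgroup.mem_bot, inv_mul_eq_one] at h2
    exact h2.symm
  have hpu_mul : ∀ v v', pu (v * v') = pu v * pu v' := by
    intro v v'
    refine huniq _ (hpu _) _ (hpw (v * v')) _ (mul_mem (hpu v) (hpu v')) (pw v * pw v')
      (mul_mem (hpw v) (hpw v')) ?_
    rw [hpv, mul_mul_mul_comm, hpv, hpv]
  have hpu_U : ∀ u ∈ U, pu u = u := by
    intro u hu
    exact huniq _ (hpu _) _ (hpw u) u hu 1 (one_mem _) (by rw [hpv, mul_one])
  let θ : V →* V := MonoidHom.mk' (fun v => ∏ a : A, a⁻¹ • pu (a • v)) (by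
    intro v v'
    simp only [smul_mul', hpu_mul, Finset.prod_mul_distrib])
  have hθ : ∀ v, θ v = ∏ a : A, a⁻¹ • pu (a • v) := fun v => rfl
  have hθU : ∀ v, θ v ∈ U := fun v => by
    rw [hθ]; exact Subgroup.prod_mem _ (fun a _ => hU _ _ (hpu _))
  have hθu : ∀ u ∈ U, θ u = u ^ Fintype.card A := by
    intro u hu
    rw [hθ]
    have : ∀ a : A, a⁻¹ • pu (a • u) = u := fun a => by rw [hpu_U _ (hU a u hu), inv_smul_smul]
    simp only [this, Finset.prod_const, Finset.card_univ]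
  have hθeq : ∀ (b : A) v, θ (b • v) = b • θ v := by
    intro b v
    rw [hθ, hθ, Finset.smul_prod']
    refine Fintype.prod_equiv (Equiv.mulRight b) _ _ ?_
    intro a
    simp [mul_smul, mul_inv_rev]
  refine ⟨θ.ker, ?_, ?_, ?_⟩
  · intro a w hw
    rw [MonoidHom.mem_ker] at hw ⊢
    rw [hθeq, hw, smul_one]
  · rw [eq_bot_iff]
    intro u hu
    obtain ⟨hu1, hu2⟩ := Subgroup.mem_inf.1 hu
    rw [MonoidHom.mem_ker, hθu u hu1] at hu2
    have h1 := orderOf_dvd_of_pow_eq_one hu2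
    have h2 := orderOf_dvd_natCard u
    have h3 : orderOf u = 1 := Nat.eq_one_of_dvd_coprimes hcop h1 h2
    rw [Subgroup.mem_bot]
    exact orderOf_eq_one_iff.1 h3
  · rw [eq_top_iff]
    intro v _
    have hcU : (Nat.card U).Coprime (Fintype.card A) :=
      (Nat.Coprime.coprime_dvd_right (Subgroup.card_subgroup_dvd_card U) hcop).symm
    set u0 : U := (powCoprime hcU).symm ⟨θ v, hθU v⟩ with hu0
    have h1 : u0 ^ Fintype.card A = ⟨θ v, hθU v⟩ := (powCoprime hcU).apply_symm_apply _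
    have h2 : θ (u0 : V) = θ v := by
      rw [hθu _ u0.2]
      exact congrArg Subtype.val h1
    have h3 : v = (u0 : V) * ((u0 : V)⁻¹ * v) := by group
    rw [h3]
    refine mul_mem (mem_sup_left u0.2) (mem_sup_right ?_)
    rw [MonoidHom.mem_ker, map_mul, map_inv, h2, inv_mul_cancel]

/-- the conjugation action of `A ≤ N(V)` on `V` -/
@[reducible] def act {G : Type*} [Group G] (V A : Subgroup G)
    (hAV : A ≤ Subgroup.normalizer (V : Set G)) : MulDistribMulAction A V where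
  smul a v := ⟨a * v * a⁻¹, (mem_normalizer_iff.1 (hAV a.2) v).1 v.2⟩
  one_smul v := by apply Subtype.ext; show ((1 : A) : G) * v * ((1 : A) : G)⁻¹ = v; simp
  mul_smul a b v := by
    apply Subtype.ext
    show ((a * b : A) : G) * v * ((a * b : A) : G)⁻¹ = a * (b * v * (b : G)⁻¹) * (a : G)⁻¹
    push_cast; group
  smul_mul a v w := by
    apply Subtype.ext
    show (a : G) * ((v * w : V) : G) * (a : G)⁻¹ = (a * v * (a : G)⁻¹) * (a * w * (a : G)⁻¹)
    push_cast; group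
  smul_one a := by
    apply Subtype.ext
    show (a : G) * ((1 : V) : G) * (a : G)⁻¹ = 1
    simp

/-- Under a coprime action on an abelian group, an invariant subgroup that is complemented admits an invariant complement. -/
theorem result {G : Type*} [Group G] [Finite G] (V A U : Subgroup G) (hVab : IsMulCommutative V) (hAV : A ≤ Subgroup.normalizer (V : Set G)) (hcop : (Nat.card A).Coprime (Nat.card V)) (hUV : U ≤ V) (hAU : A ≤ Subgroup.normalizer (U : Set G)) (W : Subgroup G) (hWV : W ≤ V) (hUW : U ⊓ W = ⊥) (hUWV : U ⊔ W = V) : ∃ W' : Subgroup G, W' ≤ V ∧ A ≤ Subgroup.normalizer (W' : Set G) ∧ U ⊓ W' = ⊥ ∧ U ⊔ W' = V := by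
  classical
  letI : CommGroup V := { (inferInstance : Group V) with mul_comm := fun a b => mul_comm' a b }
  letI : Fintype A := Fintype.ofFinite A
  letI : MulDistribMulAction A V := act V A hAV
  have hsm : ∀ (a : A) (v : V), ((a • v : V) : G) = a * v * (a : G)⁻¹ := fun a v => rfl
  obtain ⟨W', h1, h2, h3⟩ := abstract_maschke (V := V) (A := A) (U.subgroupOf V) (W.subgroupOf V)
    (by
      intro a u hu
      rw [mem_subgroupOf] at hu ⊢
      rw [hsm]
      exact (mem_normalizer_iff.1 (hAU a.2) u).1 hu)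
    (by rw [← Nat.card_eq_fintype_card]; exact hcop)
    (by
      rw [eq_bot_iff]
      intro v hv
      obtain ⟨hv1, hv2⟩ := Subgroup.mem_inf.1 hv
      rw [mem_subgroupOf] at hv1 hv2
      have : (v : G) ∈ U ⊓ W := Subgroup.mem_inf.2 ⟨hv1, hv2⟩
      rw [hUW, mem_bot] at this
      rw [mem_bot]
      exact Subtype.ext this)
    (by rw [← subgroupOf_sup hUV hWV, hUWV, subgroupOf_self])
  refine ⟨W'.map V.subtype, map_subtype_le W', ?_, ?_, ?_⟩
  · have key : ∀ a ∈ A, ∀ g ∈ W'.map V.subtype, a * g * a⁻¹ ∈ W'.map V.subtype := by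
      rintro a ha _ ⟨w, hw, rfl⟩
      exact ⟨(⟨a, ha⟩ : A) • w, h1 _ w hw, rfl⟩
    intro a ha
    rw [mem_normalizer_iff]
    intro g
    refine ⟨key a ha g, fun h => ?_⟩
    have := key a⁻¹ (inv_mem ha) _ h
    have e : a⁻¹ * (a * g * a⁻¹) * a⁻¹⁻¹ = g := by group
    rwa [e] at this
  · rw [eq_bot_iff]
    intro g hg
    obtain ⟨hg1, hg2⟩ := Subgroup.mem_inf.1 hg
    obtain ⟨w, hw, rfl⟩ := hg2
    have : w ∈ U.subgroupOf V ⊓ W' := Subgroup.mem_inf.2 ⟨mem_subgroupOf.2 hg1, hw⟩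
    rw [h2, mem_bot] at this
    rw [this]; exact one_mem _
  · conv_lhs => rw [← map_subgroupOf_eq_of_le hUV]
    rw [← Subgroup.map_sup, h3, ← MonoidHom.range_eq_map, Subgroup.range_subtype]

end Cfsg.Agent.S0660
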