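import Cfsg.Statements.S1447
import Cfsg.Agent.Lib.Helper46.MetaCop4

set_option autoImplicit false
open Cfsg

namespace Cfsg.Agent.S1447

open scoped commutatorElement


/-- Let G be a finite group, p an odd prime, R a metacyclic p-subgroup and A a subgroup of order coprime to p normalizing R. Then [R, A] is abelian; R is generated by [R, A] and R ∩ C_G(A), which meet trivially; and if R is non-abelian and A does not centralize R, then [R, A] and R ∩ C_G(A) are nontrivial cyclic groups and [R, R] ≤ [R, A]. -/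
theorem result {G : Type*} [Group G] [Finite G] (p : ℕ) [Fact p.Prime] (hp : p ≠ 2) (R A : Subgroup G) (hR : IsPGroup p R) (hRm : Cfsg.IsMetacyclic R)
    (hA : (A ≤ Subgroup.normalizer (R : Set G))) (hcop : (Nat.card A).Coprime p) :
    IsMulCommutative ↥⁅R, A⁆ ∧ ⁅R, A⁆ ⊔ (R ⊓ Subgroup.centralizer (A : Set G)) = R ∧ ⁅R, A⁆ ⊓ (R ⊓ Subgroup.centralizer (A : Set G)) = ⊥ ∧
      (¬ IsMulCommutative R → ¬ A ≤ Subgroup.centralizer (R : Set G) →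
        ⁅R, A⁆ ≠ ⊥ ∧ IsCyclic ↥⁅R, A⁆ ∧ (R ⊓ Subgroup.centralizer (A : Set G)) ≠ ⊥ ∧ IsCyclic ↥(R ⊓ Subgroup.centralizer (A : Set G)) ∧ ⁅R, R⁆ ≤ ⁅R, A⁆) := by
  have hcop' : (Nat.card A).Coprime (Nat.card R) := by
    obtain ⟨j, hj⟩ := IsPGroup.iff_card.1 hR
    rw [hj]
    exact Nat.Coprime.pow_right j hcop
  have hnil : Group.IsNilpotent R := hR.isNilpotent
  have hsolv : Group.IsSolvable A ∨ Group.IsSolvable R := Or.inr inferInstance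
  have hTR : ⁅R, A⁆ ≤ R := Subgroup.le_normalizer_iff_commutator_le_left.1 hA
  have hTT : ⁅⁅R, A⁆, A⁆ = ⁅R, A⁆ :=
    Cfsg.Agent.Lib.Helper1.commutator_commutator_eq A R hA hcop' hsolv
  have hAT : A ≤ Subgroup.normalizer ((⁅R, A⁆ : Subgroup G) : Set G) := Subgroup.normalizer_commutator_ge_right R A
  have hRT : R ≤ Subgroup.normalizer ((⁅R, A⁆ : Subgroup G) : Set G) := Subgroup.normalizer_commutator_ge_left R A
  have hmT : Cfsg.IsMetacyclic (⁅R, A⁆ : Subgroup G) :=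
    Cfsg.Agent.Lib.Helper64.isMetacyclic_of_injective
      (Subgroup.inclusion hTR) (Subgroup.inclusion_injective hTR) hRm
  have hTab : ⁅⁅R, A⁆, ⁅R, A⁆⁆ = ⊥ :=
    Cfsg.Agent.Lib.Helper46.MetaCop.commutator_self_eq_bot hp ⁅R, A⁆ A hAT (hR.to_le hTR) hmT hcop
      hTT
  have hTc : IsMulCommutative (⁅R, A⁆ : Subgroup G) := by
    rw [Subgroup.commutator_eq_bot_iff_le_centralizer] at hTab
    exact ⟨⟨fun a b => Subtype.ext ((Subgroup.mem_centralizer_iff.1 (hTab a.2) b b.2).symm)⟩⟩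
  have hsup : ⁅R, A⁆ ⊔ (R ⊓ Subgroup.centralizer (A : Set G)) = R :=
    Cfsg.Agent.Lib.Helper1.commutator_sup_centralizer A R hA hcop' hsolv
  have hinf : ⁅R, A⁆ ⊓ (R ⊓ Subgroup.centralizer (A : Set G)) = ⊥ := by
    have hc2 : (Nat.card A).Coprime (Nat.card (⁅R, A⁆ : Subgroup G)) :=
      Nat.Coprime.coprime_dvd_right (Subgroup.card_dvd_of_le hTR) hcop'
    have h1 := (Cfsg.Agent.S0055.result A ⁅R, A⁆ hAT hc2).1
    rw [hTT] at h1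
    rw [eq_bot_iff, ← h1]
    intro x hx
    exact ⟨⟨hx.1, hx.2.2⟩, hx.1⟩
  refine ⟨hTc, hsup, hinf, fun hna hnc => ?_⟩
  have hTne : ⁅R, A⁆ ≠ ⊥ := by
    intro h
    apply hnc
    rw [Subgroup.commutator_eq_bot_iff_le_centralizer] at h
    exact Subgroup.le_centralizer_iff.1 h
  have hCne : R ⊓ Subgroup.centralizer (A : Set G) ≠ ⊥ := by
    intro h
    apply hna
    rw [h, sup_bot_eq] at hsup
    rw [← hsup]
    exact hTc
  have hTcyc := Cfsg.Agent.Lib.Helper46.MetaCop.isCyclic_of_disjoint hp R ⁅R, A⁆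
    (R ⊓ Subgroup.centralizer (A : Set G)) hR hRm hTR inf_le_left hinf hCne
  have hCcyc := Cfsg.Agent.Lib.Helper46.MetaCop.isCyclic_of_disjoint hp R
    (R ⊓ Subgroup.centralizer (A : Set G)) ⁅R, A⁆ hR hRm inf_le_left hTR
    (by rw [inf_comm]; exact hinf) hTne
  refine ⟨hTne, hTcyc, hCne, hCcyc, ?_⟩
  rw [Subgroup.commutator_le]
  intro x hx y hy
  obtain ⟨t₁, ht₁, c₁, hc₁, rfl⟩ :=
    Cfsg.Agent.Lib.Helper1.exists_commutator_mul_fixed A R hA hcop' hsolv x hx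
  obtain ⟨t₂, ht₂, c₂, hc₂, rfl⟩ :=
    Cfsg.Agent.Lib.Helper1.exists_commutator_mul_fixed A R hA hcop' hsolv y hy
  have hcc : c₁ * c₂ = c₂ * c₁ := by
    have hcomm : IsMulCommutative ↥(R ⊓ Subgroup.centralizer (A : Set G)) := inferInstance
    exact congrArg Subtype.val (mul_comm'
      (⟨c₁, hc₁⟩ : ↥(R ⊓ Subgroup.centralizer (A : Set G))) ⟨c₂, hc₂⟩)
  have h1 : c₁ * t₂ * c₁⁻¹ ∈ ⁅R, A⁆ := (Subgroup.mem_normalizer_iff.1 (hRT hc₁.1) t₂).1 ht₂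
  have h2 : c₂ * t₁⁻¹ * c₂⁻¹ ∈ ⁅R, A⁆ :=
    (Subgroup.mem_normalizer_iff.1 (hRT hc₂.1) t₁⁻¹).1 (inv_mem ht₁)
  have h3 : ⁅t₁ * c₁, t₂ * c₂⁆ = t₁ * (c₁ * t₂ * c₁⁻¹) * (c₂ * t₁⁻¹ * c₂⁻¹) * t₂⁻¹ := by
    rw [commutatorElement_def]
    have : t₁ * c₁ * (t₂ * c₂) * (t₁ * c₁)⁻¹ * (t₂ * c₂)⁻¹
        = t₁ * (c₁ * t₂ * c₁⁻¹) * (c₁ * c₂) * c₁⁻¹ * t₁⁻¹ * c₂⁻¹ * t₂⁻¹ := by group
    rw [this, hcc]
    group
  rw [h3]
  exact mul_mem (mul_mem (mul_mem ht₁ h1) h2) (inv_mem ht₂)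

end Cfsg.Agent.S1447
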