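import Cfsg.Statements.S1412
import Cfsg.Agent.S1411
import Cfsg.Agent.S1448
import Cfsg.Agent.Lib.Helper46.OrderCube
import Cfsg.Agent.Lib.Helper24.BGBase

set_option autoImplicit false
open Cfsg

namespace Cfsg.Agent.S1412

open Cfsg.Agent.Lib.Helper24

/-- For a nonabelian subgroup `R` of order `p ^ 3`, `[R, R] = R ∩ C(R)`. -/
theorem commutator_eq_inf_centralizer {G : Type*} [Group G] (p : ℕ) [Fact p.Prime] (R : Subgroup G)
    (hna : ¬ IsMulCommutative R) (hcard : Nat.card R = p ^ 3) :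
    ⁅R, R⁆ = R ⊓ Subgroup.centralizer (R : Set G) := by
  have hnc : ∃ x y : R, x * y ≠ y * x := by
    by_contra h
    push Not at h
    exact hna ⟨⟨h⟩⟩
  have h1 := Cfsg.Agent.Lib.Helper46.OrderCube.commutator_eq_center (p := p) hcard hnc
  have h2 : (commutator R).map R.subtype = ⁅R, R⁆ := by
    rw [commutator_def, Subgroup.map_commutator, ← MonoidHom.range_eq_map, Subgroup.range_subtype]
  rw [← h2, h1]
  ext x
  constructor
  · rintro ⟨y, hy, rfl⟩
    refine ⟨y.2, ?_⟩
    refine Subgroup.mem_centralizer_iff.2 ?_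
    intro z hz
    have := (Subgroup.mem_center_iff.1 hy) ⟨z, hz⟩
    exact congrArg Subtype.val this
  · rintro ⟨hx, hc⟩
    refine ⟨⟨x, hx⟩, ?_, rfl⟩
    rw [SetLike.mem_coe, Subgroup.mem_center_iff]
    intro z
    exact Subtype.ext (Subgroup.mem_centralizer_iff.1 hc z z.2)

/-- A Sylow subgroup has a complement in its normalizer (Schur-Zassenhaus). -/
theorem exists_compl_normalizer {G : Type*} [Group G] [Finite G] (p : ℕ) [Fact p.Prime]
    (P : Sylow p G) :
    ∃ V : Subgroup G, Cfsg.IsComplIn (P : Subgroup G) V (Subgroup.normalizer ((P : Subgroup G) : Set G)) ∧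
      (Nat.card V).Coprime p := by
  set N := Subgroup.normalizer ((P : Subgroup G) : Set G) with hN
  have hPN : (P : Subgroup G) ≤ N := Subgroup.le_normalizer
  have : ((P : Subgroup G).subgroupOf N).Normal := Subgroup.normal_in_normalizer
  have hcard : Nat.card ((P : Subgroup G).subgroupOf N) = Nat.card (P : Subgroup G) :=
    Nat.card_congr (Subgroup.subgroupOfEquivOfLe hPN).toEquiv
  have hidx : ¬ p ∣ ((P : Subgroup G).subgroupOf N).index := by
    intro h
    have h1 : ((P : Subgroup G).subgroupOf N).index ∣ (P : Subgroup G).index :=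
      Subgroup.relIndex_dvd_index_of_le hPN
    exact P.not_dvd_index (h.trans h1)
  have hp : p.Prime := Fact.out
  have hcop : (Nat.card ((P : Subgroup G).subgroupOf N)).Coprime ((P : Subgroup G).subgroupOf N).index := by
    rw [hcard]
    obtain ⟨n, hn⟩ := IsPGroup.iff_card.1 P.isPGroup'
    rw [hn]
    exact Nat.Coprime.pow_left _ ((Nat.Prime.coprime_iff_not_dvd hp).2 hidx)
  obtain ⟨K, hK⟩ := Subgroup.exists_right_complement'_of_coprime hcop
  refine ⟨K.map N.subtype, ⟨hPN, ?_, ?_, ?_⟩, ?_⟩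
  · rintro _ ⟨y, -, rfl⟩
    exact y.2
  · rw [eq_bot_iff]
    rintro x ⟨hx, ⟨y, hy, rfl⟩⟩
    have h1 : y ∈ (P : Subgroup G).subgroupOf N ⊓ K := ⟨Subgroup.mem_subgroupOf.2 hx, hy⟩
    rw [hK.isCompl.inf_eq_bot, Subgroup.mem_bot] at h1
    rw [h1]
    exact Subgroup.mem_bot.2 rfl
  · intro m hm
    obtain ⟨⟨a, b⟩, hab⟩ := hK.2 ⟨m, hm⟩
    refine ⟨a.1.1, Subgroup.mem_subgroupOf.1 a.2, b.1.1, ⟨b.1, b.2, rfl⟩, ?_⟩
    exact (congrArg Subtype.val hab).symm
  · have h1 : Nat.card (K.map N.subtype) = Nat.card K :=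
      Subgroup.card_map_of_injective N.subtype_injective
    rw [h1, ← hK.symm.index_eq_card]
    exact ((Nat.Prime.coprime_iff_not_dvd hp).2 hidx).symm

/-- Let G be a minimal simple group of odd order, p a prime and P a Sylow p-subgroup of G with no elementary abelian subgroup of order p ^ 3. Then either P is abelian, or P is generated by two elementwise-commuting subgroups P₁, P₂ with P₁ nonabelian of order p ^ 3 and exponent p, P₂ cyclic, and the elements of P₂ of order dividing p generating exactly the centre of P₁. -/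
theorem result {G : Type*} [Group G] [Finite G] (hG : Cfsg.IsMinSimpleOddOrder G) (p : ℕ) [Fact p.Prime] (P : Sylow p G) (hr : Cfsg.PRankLE p 2 (P : Subgroup G)) :
    IsMulCommutative (P : Subgroup G) ∨ ∃ P₁ P₂ : Subgroup G, P₁ ⊔ P₂ = (P : Subgroup G) ∧ (∀ a ∈ P₁, ∀ b ∈ P₂, a * b = b * a) ∧
        ¬ IsMulCommutative P₁ ∧ Nat.card P₁ = p ^ 3 ∧ Monoid.exponent P₁ = p ∧ IsCyclic P₂ ∧
        Subgroup.closure {x : G | x ∈ P₂ ∧ x ^ p = 1} = P₁ ⊓ Subgroup.centralizer (P₁ : Set G) := by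
  by_cases hP1 : (P : Subgroup G) = ⊥
  · left
    rw [hP1]
    exact ⟨⟨fun a b => Subsingleton.elim _ _⟩⟩
  obtain ⟨V, hV, hcop⟩ := exists_compl_normalizer p P
  have h11 := (Cfsg.Agent.S1411.result hG p P V hV).1
  have hp2 : p ≠ 2 := by
    refine MS_prime_ne_two hG (H := (P : Subgroup G)) ?_
    obtain ⟨n, hn⟩ := IsPGroup.iff_card.1 P.isPGroup'
    rw [hn]
    rcases Nat.eq_zero_or_pos n with h0 | h0
    · exfalso
      rw [h0, pow_zero] at hn
      exact hP1 (Subgroup.card_eq_one.1 hn)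
    · exact dvd_pow_self p h0.ne'
  obtain ⟨-, h48⟩ := Cfsg.Agent.S1448.result p hp2 (P : Subgroup G) V P.isPGroup' hP1 hr hV.2.1 hcop
    (MS_odd hG V) h11.symm
  rcases h48 with h | ⟨R₁, R₂, h1, h2, h3, h4, h5, h6, h7⟩
  · exact Or.inl h
  · exact Or.inr ⟨R₁, R₂, h1, h2, h3, h4, h5, h6, h7.trans (commutator_eq_inf_centralizer p R₁ h3 h4)⟩

end Cfsg.Agent.S1412
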