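import Cfsg.Statements.S1427
import Cfsg.Agent.S1403
import Cfsg.Agent.S1414
import Cfsg.Agent.S1417
import Cfsg.Agent.S1418
import Cfsg.Agent.Lib.Helper34.BG13b

set_option autoImplicit false
open Cfsg

namespace Cfsg.Agent.S1427

/-- Let G be a minimal simple group of odd order, M a maximal subgroup, E a complement to M_σ in M, and S a nontrivial cyclic Sylow subgroup of E (for some prime). Then M_σ ∩ C_G(x) = M_σ ∩ C_G(S) for every non-identity x ∈ S. -/
theorem result {G : Type*} [Group G] [Finite G] (hG : Cfsg.IsMinSimpleOddOrder G)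
    (M : Subgroup G) (hM : IsCoatom M) (E : Subgroup G) (hE : Cfsg.IsComplIn E (Cfsg.sigmaCore M) M) (p : ℕ) [Fact p.Prime] (S : Sylow p E) (hS1 : (S : Subgroup E) ≠ ⊥) (hSc : IsCyclic (S : Subgroup E)) :
    ∀ x ∈ (S : Subgroup E).map E.subtype, x ≠ 1 →
        Cfsg.sigmaCore M ⊓ Subgroup.centralizer ({x} : Set G) = Cfsg.sigmaCore M ⊓ Subgroup.centralizer (((S : Subgroup E).map E.subtype : Subgroup G) : Set G) :=
  Cfsg.Agent.Lib.Helper34.BG13.prime_action hG
    (fun K hK hK2 hK3 => Cfsg.Agent.S1403.result hG K hK hK2 hK3)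
    (fun L hL q hq hd hβ =>
      ⟨((Cfsg.Agent.S1414.result hG L hL).2.2.2.2 q hq hd hβ).1,
        ((Cfsg.Agent.S1414.result hG L hL).2.2.2.2 q hq hd hβ).2.1⟩)
    (fun L hL q _ hq A hA => Cfsg.Agent.S1417.result hG L hL q hq A hA)
    (fun L hL E hE q _ hq A hA => Cfsg.Agent.S1418.result hG L hL E hE q hq A hA)
    M hM E hE p S hS1 hSc

end Cfsg.Agent.S1427
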