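import Cfsg.Statements.S1422
import Cfsg.Agent.Lib.Helper9.BG12c
import Cfsg.Agent.S1403
import Cfsg.Agent.S1410
import Cfsg.Agent.S1412
import Cfsg.Agent.S1416
import Cfsg.Agent.S1417

set_option autoImplicit false
open Cfsg

namespace Cfsg.Agent.S1422

/-- Let G be a minimal simple group of odd order, p a prime and P a non-abelian p-subgroup of G. Then P lies in exactly one maximal subgroup of G. -/
theorem result {G : Type*} [Group G] [Finite G] (hG : Cfsg.IsMinSimpleOddOrder G) (p : ℕ) [Fact p.Prime] (P : Subgroup G) (hP : IsPGroup p P) (hPna : ¬ IsMulCommutative P) :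
    Cfsg.InUniqueMaximal P := by
  have hU : Cfsg.Agent.Lib.Helper24.UT G := fun K hK hK2 hK3 => Cfsg.Agent.S1403.result hG K hK hK2 hK3
  have hPL : Cfsg.Agent.Lib.Helper31.BG11.PL1 G := fun p _ H hH => Cfsg.Agent.S1410.result hG p H hH
  have h12 : Cfsg.Agent.Lib.Helper31.BG11.H1412 G := fun p _ P hr => Cfsg.Agent.S1412.result hG p P hr
  have h16 : Cfsg.Agent.Lib.Helper9.BG12.H1416 G := fun M hM p _ A hA =>
    Cfsg.Agent.S1416.result hG M hM p A hA
  have h17 : Cfsg.Agent.Lib.Helper9.BG12.H1417b G := by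
    intro M hM p _ hp P
    obtain ⟨A, hA⟩ := Cfsg.Agent.Lib.Helper24.exists_elemAb_sq hp.2.2.1 hp.2.2.2
    exact ((Cfsg.Agent.S1417.result hG M hM p hp A hA).2.1 P).1
  exact Cfsg.Agent.Lib.Helper9.BG12.nonabelian_uniqueness hG hU hPL h12 h16 h17 hP hPna

end Cfsg.Agent.S1422
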