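import Cfsg.Statements.S1378
import Cfsg.Agent.Lib.Helper72.BG139H
import Cfsg.Agent.Lib.Helper58.BG139B
import Cfsg.Agent.Lib.Helper24.BG13BC

set_option autoImplicit false
open Cfsg

namespace Cfsg.Agent.S1378

/-- Let G be a minimal simple group of odd order. Then every prime dividing the order of G belongs to σ(M) for some maximal subgroup M, and if σ(M) and σ(N) have a prime in common for maximal subgroups M, N then N is conjugate to M; so the sets σ(M_i) over representatives of the conjugacy classes of maximal subgroups partition the prime divisors of #G. -/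
theorem result {G : Type*} [Group G] [Finite G] (hG : Cfsg.IsMinSimpleOddOrder G) :
    (∀ p : ℕ, p.Prime → p ∣ Nat.card G → ∃ M : Subgroup G, IsCoatom M ∧ p ∈ Cfsg.sigma M) ∧
      ∀ M N : Subgroup G, IsCoatom M → IsCoatom N → (Cfsg.sigma M ∩ Cfsg.sigma N).Nonempty → ∃ g : G, N = M.map (MulAut.conj g).toMonoidHom := by
  exact Cfsg.Agent.Lib.Helper72.BG139.main_of hG (fun M L S q h => h.dichotomy' hG)
    (fun q p₁ p₂ M S S₁ S₂ P₁ P₂ hq hS hM hNM tau hne a b c d e f g h i j k l m n =>
      Cfsg.Agent.Lib.Helper24.BG13BC.BC_false hG hq hS hM hNM tau hne a b c d e f g h i j k l m n)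

end Cfsg.Agent.S1378
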