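import Cfsg.Statements.S1432
import Cfsg.Agent.Lib.Helper52.BG14a
import Cfsg.Agent.S1420

set_option autoImplicit false
open Cfsg
open Subgroup
open Cfsg.Agent.Lib
open Cfsg.Agent.Lib.Helper24 Cfsg.Agent.Lib.Helper34 Cfsg.Agent.Lib.Helper31.BG11
open Cfsg.Agent.Lib.Helper34.BG13 Cfsg.Agent.Lib.Helper34.BG16 Cfsg.Agent.Lib.Helper52.BG14

namespace Cfsg.Agent.S1432

/-- Let G be a minimal simple group of odd order, M a maximal subgroup, x a non-identity element of M_σ and x' a non-identity element of C_M(x) no prime divisor of whose order lies in σ(M). Then either all prime divisors of the order of x' lie in κ(M) and C_G(x) ≤ M; or all of them lie in τ₂(M), they all lie in σ(L) for a single maximal subgroup L, and C_G(x') ≤ M with M the unique maximal subgroup containing C_G(x'). -/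
theorem result {G : Type*} [Group G] [Finite G] (hG : Cfsg.IsMinSimpleOddOrder G)
    (M : Subgroup G) (hM : IsCoatom M) (x : G) (hx : x ∈ Cfsg.sigmaCore M) (hx1 : x ≠ 1) (x' : G) (hx' : x' ∈ M ⊓ Subgroup.centralizer ({x} : Set G)) (hx'1 : x' ≠ 1)
    (hσ : ∀ p : ℕ, p.Prime → p ∣ orderOf x' → p ∉ Cfsg.sigma M) :
    ((∀ p : ℕ, p.Prime → p ∣ orderOf x' → p ∈ Cfsg.kappa M) ∧ Subgroup.centralizer ({x} : Set G) ≤ M) ∨
      ((∀ p : ℕ, p.Prime → p ∣ orderOf x' → p ∈ Cfsg.tau2 M) ∧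
        (∃ L : Subgroup G, IsCoatom L ∧ ∀ p : ℕ, p.Prime → p ∣ orderOf x' → p ∈ Cfsg.sigma L) ∧
        (Subgroup.centralizer ({x'} : Set G) ≤ M ∧ ∀ L : Subgroup G, IsCoatom L → Subgroup.centralizer ({x'} : Set G) ≤ L → L = M)) := by
  have hU := hU_of hG
  obtain ⟨hx'M, hx'c⟩ := mem_inf.1 hx'
  have hcomm : x' * x = x * x' := (mem_centralizer_singleton_iff.1 hx'c)
  have ho1 : orderOf x' ≠ 1 := fun h => hx'1 (orderOf_eq_one_iff.1 h)
  by_cases hall : ∀ p : ℕ, p.Prime → p ∣ orderOf x' → p ∈ Cfsg.tau2 M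
  · right
    refine ⟨hall, ?_, ?_⟩
    · obtain ⟨E, hE, hxE⟩ := exists_compl_ge hG hU hM (zpowers_le.2 hx'M) (by
        intro r hr hd
        rw [Nat.card_zpowers] at hd
        exact hσ r hr hd)
      obtain ⟨p, hp, hpd⟩ := Nat.exists_prime_and_dvd ho1
      obtain ⟨A, hA⟩ := exists_T2 hE (hall p hp hpd)
      have : Fact p.Prime := ⟨hp⟩
      obtain ⟨L, hL, hNL⟩ := exists_coatom_ge
        (MS_normalizer_ne_top hG hA.ne_bot (MS_isPGroup_ne_top hG hA.pg))
      exact ⟨L, hL, fun q hq hqd =>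
        tau2_subset_sigma hG hU (h18_of hG) hM hE hA hL hNL (hall q hq hqd)⟩
    · obtain ⟨E, hE⟩ := exists_compl hG hU hM
      exact (Cfsg.Agent.S1420.result hG M hM E hE).2.2.2 x' hx'M hx'1 hall
        ⟨hx'M, x, hx, hx1, hcomm⟩
  · left
    push Not at hall
    obtain ⟨p, hp, hpd, hpτ⟩ := hall
    have hyo : orderOf (x' ^ (orderOf x' / p)) = p :=
      orderOf_pow_orderOf_div (orderOf_pos x').ne' hpd
    have hyM : x' ^ (orderOf x' / p) ∈ M := pow_mem hx'M _
    have h1 : PRankLE p 1 M :=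
      (tau2_or_rank_one hG hU hM hp (hσ p hp hpd)).resolve_left hpτ
    have hyx : x' ^ (orderOf x' / p) * x = x * x' ^ (orderOf x' / p) :=
      ((show Commute x' x from hcomm).pow_left _).eq
    have hκ : p ∈ kappa M := mem_kappa_of hG hM hp (hσ p hp hpd) h1 hyM hyo hx hx1 hyx
    obtain ⟨K, hK, hyK⟩ := exists_hall_ge (π := kappa M) (MS_solvable hG hM.1)
      (zpowers_le.2 hyM) (by
        intro r hr hd
        rw [Nat.card_zpowers, hyo] at hd
        rw [(Nat.prime_dvd_prime_iff_eq hr hp).1 hd]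
        exact hκ)
    have hy1 : x' ^ (orderOf x' / p) ≠ 1 := by
      intro h
      rw [h, orderOf_one] at hyo
      exact hp.one_lt.ne hyo
    have hyK' : x' ^ (orderOf x' / p) ∈ K := hyK (mem_zpowers _)
    have hK1 : K ≠ ⊥ := by
      intro h
      rw [h, mem_bot] at hyK'
      exact hy1 hyK'
    -- `x ∈ K*`
    have hxK : x ∈ Kst M K := by
      rw [← P1 hG hM hK hK1 hyK' hy1]
      exact mem_inf.2 ⟨hx, mem_centralizer_singleton_iff.2 hyx.symm⟩
    refine ⟨?_, cent_le hG hM hK hK1 hxK hx1⟩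
    -- `x' ∈ K K*`
    have hx'Z : x' ∈ K ⊔ Kst M K := by
      rw [← P3a hG hM hK hK1 hyK (by rw [Nat.card_zpowers, hyo]; exact hp)]
      refine mem_inf.2 ⟨hx'M, ?_⟩
      apply Subgroup.centralizer_le_normalizer
      rw [mem_centralizer_iff]
      intro z hz
      obtain ⟨n, rfl⟩ := mem_zpowers_iff.1 hz
      exact (((Commute.refl x').pow_left _).zpow_left n).eq
    obtain ⟨k, hk, a, ha, hka⟩ := mem_Z_iff.1 hx'Z
    have hcop : (orderOf x').Coprime (Nat.card (Kst M K)) :=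
      Nat.coprime_of_dvd fun r hr h1 h2 =>
        hσ r hr h1 (sc_primes M hr (h2.trans (card_dvd_of_le inf_le_left)))
    have hx'K : x' ∈ K := by
      refine mem_of_pow_mem_of_coprime hcop (by rw [pow_orderOf_eq_one]; exact one_mem _) ?_
      rw [hka, (show Commute k a from comm_K_Kst hk ha).mul_pow]
      have : a ^ Nat.card (Kst M K) = 1 := by
        have := pow_card_eq_one' (G := Kst M K) (x := ⟨a, ha⟩)
        exact congrArg Subtype.val this
      rw [this, mul_one]
      exact pow_mem hk _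
    intro q hq hqd
    exact hK.2.1 q hq (hqd.trans (orderOf_dvd_card_of_mem hx'K))

end Cfsg.Agent.S1432
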