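import Cfsg.Statements.S1429
import Cfsg.Agent.Lib.Helper31.BG11a
import Cfsg.Agent.S1403
import Cfsg.Agent.S1417

set_option autoImplicit false
open Cfsg

namespace Cfsg.Agent.S1429

open Cfsg.Agent.Lib.Helper24 Cfsg.Agent.Lib.Helper34 Cfsg.Agent.Lib.Helper31.BG11

/-- Let G be a minimal simple group of odd order and M a maximal subgroup such that κ(M) is not the whole of the primes of M outside σ(M) (M is not of type P₁). Let p divide the order of M with p ∉ σ(M) ∪ κ(M), S a Sylow p-subgroup of M, and A the subgroup generated by the elements of S of order dividing p. Then A has order at most p ^ 2, M_σ ∩ C_G(A) = 1, and M_σ is nilpotent. -/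
theorem result {G : Type*} [Group G] [Finite G] (hG : Cfsg.IsMinSimpleOddOrder G)
    (M : Subgroup G) (hM : IsCoatom M) (hP1 : ¬ (∀ q : ℕ, q.Prime → q ∣ Nat.card M → q ∉ Cfsg.sigma M → q ∈ Cfsg.kappa M))
    (p : ℕ) [Fact p.Prime] (hpM : p ∣ Nat.card M) (hp : p ∉ Cfsg.sigma M ∪ Cfsg.kappa M) (S : Sylow p M) :
    Nat.card ↥(Subgroup.closure {x : G | x ∈ (S : Subgroup M).map M.subtype ∧ x ^ p = 1}) ≤ p ^ 2 ∧
      Cfsg.sigmaCore M ⊓ Subgroup.centralizer ((Subgroup.closure {x : G | x ∈ (S : Subgroup M).map M.subtype ∧ x ^ p = 1} : Subgroup G) : Set G) = ⊥ ∧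
      Group.IsNilpotent (Cfsg.sigmaCore M) := by
  have hU : UT G := fun K hK h2 h3 => Cfsg.Agent.S1403.result hG K hK h2 h3
  have hpp : p.Prime := Fact.out
  have hpσ : p ∉ Cfsg.sigma M := fun h => hp (Or.inl h)
  have hpκ : p ∉ Cfsg.kappa M := fun h => hp (Or.inr h)
  have hp2 : p ≠ 2 := MS_prime_ne_two hG hpM
  have hr2 : Cfsg.PRankLE p 2 M := by
    by_contra h
    exact hpσ (alpha_subset_sigma hG hU hM ⟨hpp, h⟩)
  have hS : IsSylowIn p ((S : Subgroup M).map M.subtype) M := Sylow.isSylowIn_map S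
  set S' := (S : Subgroup M).map M.subtype with hS'
  by_cases hr1 : Cfsg.PRankLE p 1 M
  · -- the Sylow subgroups are cyclic and act freely on the sigma core
    have hcyc : ∀ P : Sylow p M, IsCyclic P := fun P =>
      isCyclic_of_pRankLE_one hp2 P.2
        (Cfsg.Agent.Lib.Helper23.pRankLE_of_injective p 1 (P : Subgroup M).subtype
          (Subgroup.subtype_injective _) hr1)
    have hfree : ∃ P : Sylow p M, ∀ x : M, x ∈ (P : Subgroup M) → x ≠ 1 →
        ∀ y ∈ Cfsg.sigmaCore M, y ≠ 1 → (x : G) * y ≠ y * x := by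
      by_contra hcon
      push Not at hcon
      exact hpκ ⟨hpp, hpM, hpσ, fun P => ⟨hcyc P, by
        obtain ⟨x, hx, hx1, y, hy, hy1, hxy⟩ := hcon P
        exact ⟨x, hx, hx1, y, hy, hy1, hxy⟩⟩⟩
    obtain ⟨P, hP⟩ := hfree
    obtain ⟨n, hn, hnP⟩ := isSylowIn_exists_cj_eq hS (Sylow.isSylowIn_map P)
    have hfreeS : ∀ x ∈ S', x ≠ 1 → ∀ y ∈ Cfsg.sigmaCore M, x * y = y * x → y = 1 := by
      intro x hx hx1 y hy hxy
      by_contra hy1
      rw [← hnP] at hx
      obtain ⟨x₀, hx₀, rfl⟩ := hx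
      obtain ⟨x₁, hx₁, rfl⟩ := hx₀
      have hx₁1 : x₁ ≠ 1 := by
        rintro rfl
        apply hx1
        simp
      have hy' : n⁻¹ * y * n⁻¹⁻¹ ∈ Cfsg.sigmaCore M :=
        (Subgroup.mem_normalizer_iff.1 (sc_norm M (M.inv_mem hn)) y).1 hy
      apply hP x₁ hx₁ hx₁1 _ hy' (fun h => hy1 (conj_eq_one_iff.1 h))
      have h3 : n * (x₁ : G) * n⁻¹ * y = y * (n * (x₁ : G) * n⁻¹) := hxy
      calc (x₁ : G) * (n⁻¹ * y * n⁻¹⁻¹) = n⁻¹ * (n * (x₁ : G) * n⁻¹ * y) * n := by group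
        _ = n⁻¹ * (y * (n * (x₁ : G) * n⁻¹)) * n := by rw [h3]
        _ = _ := by group
    have hScyc : IsCyclic S' := by
      have := hcyc S
      exact isCyclic_of_surjective ((S : Subgroup M).equivMapOfInjective M.subtype
        M.subtype_injective).toMonoidHom (MulEquiv.surjective _)
    have hScomm : ∀ a ∈ S', ∀ b ∈ S', a * b = b * a := by
      intro a ha b hb
      have := hScyc
      have h3 : IsMulCommutative S' := IsCyclic.isMulCommutative
      exact congrArg Subtype.val (h3.is_comm.comm ⟨a, ha⟩ ⟨b, hb⟩)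
    set Ω := Subgroup.closure {x : G | x ∈ S' ∧ x ^ p = 1} with hΩ
    have hΩS : Ω ≤ S' := (Subgroup.closure_le _).2 fun _ hx => hx.1
    have hΩp : ∀ a ∈ Ω, a ^ p = 1 := by
      intro a ha
      induction ha using Subgroup.closure_induction with
      | mem x hx => exact hx.2
      | one => simp
      | mul x y hx hy ihx ihy =>
        have hc : Commute x y := hScomm x (hΩS hx) y (hΩS hy)
        rw [hc.mul_pow, ihx, ihy, one_mul]
      | inv x _ ih => rw [inv_pow, ih, inv_one]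
    have hΩc : IsMulCommutative Ω :=
      ⟨⟨fun a b => Subtype.ext (hScomm a (hΩS a.2) b (hΩS b.2))⟩⟩
    obtain ⟨z, hzS, -, hz1, hzp⟩ := exists_central_order_p hS.2.1 (sylow_ne_bot_of_dvd hS hpM)
    have hzΩ : z ∈ Ω := Subgroup.subset_closure ⟨hzS, hzp⟩
    refine ⟨?_, ?_, ?_⟩
    · exact ((pRankLE_iff M).1 hr1 Ω (hΩS.trans hS.1) hΩc hΩp).trans
        (Nat.pow_le_pow_right hpp.pos (by norm_num))
    · rw [eq_bot_iff]
      rintro y ⟨hy, hyc⟩
      rw [Subgroup.mem_bot]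
      exact hfreeS z hzS hz1 y hy ((Subgroup.mem_centralizer_iff.1 hyc) z hzΩ)
    · apply nilpotent_of_fpf_elem hpp (sc_norm M (hS.1 hzS)) hzp
      rw [eq_bot_iff]
      rintro y ⟨hy, hyc⟩
      rw [Subgroup.mem_bot]
      exact hfreeS z hzS hz1 y hy (Subgroup.mem_centralizer_singleton_iff.1 hyc).symm
  · have hτ : p ∈ Cfsg.tau2 M := ⟨hpp, hpσ, hr2, hr1⟩
    obtain ⟨A₁, hA₁M, hA₁e, hA₁c⟩ := exists_elemAb_sq hr2 hr1
    obtain ⟨n, hn, hle⟩ := hS.exists_conj_le hA₁M (isPGroup_of_exponent hA₁e.2)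
    have hA : cj n A₁ ≤ M ∧ Cfsg.IsElementaryAbelian p (cj n A₁) ∧ Nat.card (cj n A₁) = p ^ 2 := by
      refine ⟨hle.trans hS.1, ⟨?_, ?_⟩, by rw [card_map_conj]; exact hA₁c⟩
      · have := hA₁e.1
        exact Subgroup.map_isMulCommutative A₁ _
      · rintro _ ⟨a, ha, rfl⟩
        rw [← map_pow, hA₁e.2 a ha, map_one]
    obtain ⟨h1, h2, -, h4, -, -⟩ := Cfsg.Agent.S1417.result hG M hM p hτ (cj n A₁) hA
    have h7 := ((h2 S).2 hle).1
    have hset : {x : G | x ∈ S' ∧ x ^ p = 1} = ((cj n A₁ : Subgroup G) : Set G) := by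
      ext x
      constructor
      · rintro ⟨hx, hxp⟩
        exact (h7 x hx).1 hxp
      · intro hx
        exact ⟨hle hx, (h7 x (hle hx)).2 hx⟩
    rw [hset, Subgroup.closure_eq]
    exact ⟨hA.2.2.le, h4, h1⟩

end Cfsg.Agent.S1429
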