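import Cfsg.Statements.S1377
import Cfsg.Agent.S1378
import Cfsg.Agent.Lib.Helper20.BG144g
import Cfsg.Agent.Lib.Helper21.BG14Count

set_option autoImplicit false
open Cfsg

namespace Cfsg.Agent.S1377

/-- Let G be a minimal simple group of odd order and M a maximal subgroup. For x ≠ 1 in M_σ let R(x) = 1 if C_G(x) ≤ M and otherwise R(x) = C_{N_F}(x) for the unique maximal subgroup N containing C_G(x). Then the union over G-conjugates of the cosets x R(x) has cardinality (#M_σ − 1) times the index of M. -/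
theorem result {G : Type*} [Group G] [Finite G] (hG : Cfsg.IsMinSimpleOddOrder G)
    (M : Subgroup G) (hM : IsCoatom M) :
    Set.ncard (Cfsg.tildeOf M ((Cfsg.sigmaCore M : Set G) \ {1})) = (Nat.card (Cfsg.sigmaCore M) - 1) * M.index := by
  have h78 : Cfsg.Agent.Lib.Helper20.BG14.H1378 G := (Cfsg.Agent.S1378.result hG).2
  have hco : ∀ g : G, IsCoatom (M.map (MulAut.conj g).toMonoidHom) :=
    fun g => Cfsg.Agent.Lib.Helper24.isCoatom_cj hM g
  have key := Cfsg.Agent.Lib.Helper21.BG14Count.count_abstract M Cfsg.sigmaCore Cfsg.supportR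
    (fun g h => Cfsg.Agent.Lib.Helper24.MS_mem_of_cj_eq hG hM h)
    (Cfsg.Agent.Lib.Helper31.BG11.sc_le M)
    (fun g => Cfsg.Agent.Lib.Helper31.BG11.sc_cj M g)
    (fun g a ha ha1 => Cfsg.Agent.Lib.Helper20.BG14.supportR_cj hG h78 hM ha ha1 g)
    (fun g h x hxg hxh hx1 => by
      have h1 : M.map (MulAut.conj h).toMonoidHom
          = (M.map (MulAut.conj g).toMonoidHom).map (MulAut.conj (h * g⁻¹)).toMonoidHom := by
        rw [Cfsg.Agent.Lib.Helper34.map_conj_map_conj]
        congr 3
        group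
      rw [h1] at hxh ⊢
      exact Cfsg.Agent.Lib.Helper20.BG14.supportR_indep hG h78 (hco g) hxg hx1 hxh)
    (fun g h x hxg hx1 hxh => by
      have h1 : M.map (MulAut.conj h).toMonoidHom
          = (M.map (MulAut.conj g).toMonoidHom).map (MulAut.conj (h * g⁻¹)).toMonoidHom := by
        rw [Cfsg.Agent.Lib.Helper34.map_conj_map_conj]
        congr 3
        group
      rw [h1] at hxh ⊢
      exact Cfsg.Agent.Lib.Helper20.BG14.regular hG h78 (hco g) hxg hx1 hxh)
    (fun g x r hr => Cfsg.Agent.Lib.Helper20.BG14.mem_centralizer_singleton.mp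
      (Cfsg.Agent.Lib.Helper20.BG14.supportR_le_centralizer _ _ hr))
    (fun g h x y hx hy hx1 hy1 hxy =>
      Cfsg.Agent.Lib.Helper20.BG14.s1433 hG h78 _ _ (hco g) (hco h) x y hx hy hx1 hy1 hxy)
  exact key

end Cfsg.Agent.S1377
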