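import Cfsg.Statements.S1353
import Cfsg.Agent.S1430
import Cfsg.Agent.Lib.Helper49.BG14a

set_option autoImplicit false
open Cfsg

namespace Cfsg.Agent.S1353

/-- Let G be a minimal simple group of odd order, M a maximal subgroup with standard factorisation M = K U M_σ. Then C_U(k) = 1 for every non-identity element k of K. -/
theorem result {G : Type*} [Group G] [Finite G] (hG : Cfsg.IsMinSimpleOddOrder G)
    (M : Subgroup G) (hM : IsCoatom M) (K U : Subgroup G) (hKU : Cfsg.IsSigmaDecomposition M K U) :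
    ∀ k ∈ K, k ≠ 1 → U ⊓ Subgroup.centralizer ({k} : Set G) = ⊥ := by
  intro k hk hk1
  have hK1 : K ≠ ⊥ := by
    intro h
    rw [h, Subgroup.mem_bot] at hk
    exact hk1 hk
  obtain ⟨-, -, h3⟩ := Cfsg.Agent.S1430.result hG M hM K hKU.hall hK1
  obtain ⟨X, hXk, hXp⟩ := Cfsg.Agent.Lib.Helper49.BG14a.exists_prime_le_zpowers hk1
  have hXK : X ≤ K := hXk.trans (by rwa [Subgroup.zpowers_le])
  obtain ⟨hN, -, -⟩ := h3 X hXK hXp
  rw [eq_bot_iff]
  intro u hu
  obtain ⟨huU, huC⟩ := Subgroup.mem_inf.mp hu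
  have huN : u ∈ M ⊓ Subgroup.normalizer (X : Set G) :=
    ⟨hKU.compl.1 huU, Cfsg.Agent.Lib.Helper49.BG14a.mem_normalizer_of_centralizes hXk huC⟩
  rw [hN] at huN
  have h2 : u ∈ K ⊔ Cfsg.sigmaCore M := (sup_le_sup_left inf_le_left K) huN
  have h4 : u ∈ U ⊓ (K ⊔ Cfsg.sigmaCore M) := ⟨huU, h2⟩
  rw [hKU.compl.2.2.1] at h4
  exact h4

end Cfsg.Agent.S1353
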