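import Mathlib
import Cfsg.Statements.S0807
import Cfsg.Agent.Lib.Helper14.PSL2Invol
import Cfsg.Agent.Lib.Helper14.KleinCount

set_option autoImplicit false
open Cfsg

namespace Cfsg.Agent.S0807

open Cfsg.Agent.Lib.Helper14

/-- For q odd, twelve times the number of Klein four-subgroups of PSL_2(q) equals the order of PSL_2(q). -/
theorem result {F : Type*} [Field F] [Fintype F] {q : ℕ} (hF : Fintype.card F = q) (hodd : Odd q) : 12 * Nat.card {V : Subgroup (Matrix.ProjectiveSpecialLinearGroup (Fin 2) F) // IsKleinFour V} = Nat.card (Matrix.ProjectiveSpecialLinearGroup (Fin 2) F) := by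
  have hodd' : Fintype.card F % 2 = 1 := by rw [hF]; exact Nat.odd_iff.mp hodd
  have h2 : (2 : F) ≠ 0 := Cfsg.Agent.Lib.Helper41.two_ne_zero_of_odd_card hodd'
  apply twelve_mul_card_klein
  · intro a b ha hb
    obtain ⟨X, rfl⟩ := QuotientGroup.mk_surjective a
    obtain ⟨Y, rfl⟩ := QuotientGroup.mk_surjective b
    obtain ⟨P, hP⟩ := sl2_conj_of_sq hodd' X Y ((psl2_orderOf_two_iff h2 X).mp ha)
      ((psl2_orderOf_two_iff h2 Y).mp hb)
    rw [isConj_iff]
    refine ⟨QuotientGroup.mk P, ?_⟩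
    rw [hP]
    rfl
  · let X : Matrix.SpecialLinearGroup (Fin 2) F := ⟨!![0, 1; -1, 0], by
      rw [Matrix.det_fin_two_of]; ring⟩
    refine ⟨QuotientGroup.mk X, (psl2_orderOf_two_iff h2 X).mpr ?_⟩
    apply Subtype.ext
    rw [Matrix.SpecialLinearGroup.coe_mul]
    ext a b
    fin_cases a <;> fin_cases b <;> simp [X, Matrix.mul_apply, Fin.sum_univ_two]
  · intro t ht
    exact psl2_centralizer_invol hodd' t ht

end Cfsg.Agent.S0807
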