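import Cfsg.Statements.S4604
import Cfsg.Agent.Lib.Helper76.Eigen
import Cfsg.Agent.Lib.Helper76.SylowAux
import Cfsg.Agent.Lib.Helper78.DefectCard
import Cfsg.Agent.Lib.Helper3.Table
import Cfsg.Agent.Lib.Helper32.Basic

set_option autoImplicit false
open Cfsg

namespace Cfsg.Agent.S4604

open scoped ComplexConjugate
open Cfsg.Agent.Lib.Helper76 Cfsg.Agent.Lib.Helper3 Cfsg.Agent.Lib.Helper78 Cfsg.Agent.Lib.Helper32

/-- Divisibility by `p` in the ring of algebraic integers. -/
def PDvd (p : ℕ) (z : ℂ) : Prop := ∃ γ : AlgInt, z = (p : ℂ) * (γ : ℂ)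

theorem PDvd.add {p : ℕ} {z w : ℂ} (h1 : PDvd p z) (h2 : PDvd p w) : PDvd p (z + w) := by
  obtain ⟨a, rfl⟩ := h1
  obtain ⟨b, rfl⟩ := h2
  exact ⟨a + b, by push_cast; ring⟩

theorem PDvd.neg {p : ℕ} {z : ℂ} (h1 : PDvd p z) : PDvd p (-z) := by
  obtain ⟨a, rfl⟩ := h1
  exact ⟨-a, by push_cast; ring⟩

theorem PDvd.sub {p : ℕ} {z w : ℂ} (h1 : PDvd p z) (h2 : PDvd p w) : PDvd p (z - w) := by
  rw [sub_eq_add_neg]
  exact h1.add h2.neg

theorem PDvd.mul_left {p : ℕ} {z c : ℂ} (h1 : PDvd p z) (hc : IsIntegral ℤ c) : PDvd p (c * z) := by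
  obtain ⟨a, rfl⟩ := h1
  exact ⟨⟨c, hc⟩ * a, by push_cast; ring⟩

theorem pdvd_zero (p : ℕ) : PDvd p 0 := ⟨0, by simp⟩

theorem PDvd.sum {p : ℕ} {ι : Type*} (s : Finset ι) (f : ι → ℂ) (h : ∀ i ∈ s, PDvd p (f i)) :
    PDvd p (∑ i ∈ s, f i) := by
  classical
  induction s using Finset.induction_on with
  | empty => simpa using pdvd_zero p
  | insert a s ha ih =>
    rw [Finset.sum_insert ha]
    exact (h a (Finset.mem_insert_self a s)).add
      (ih (fun i hi => h i (Finset.mem_insert_of_mem hi)))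

/-- A natural number divisible by `p` in the algebraic integers is divisible by `p`. -/
theorem dvd_of_pdvd {p : ℕ} (hp : 0 < p) {m : ℕ} (h : PDvd p (m : ℂ)) : p ∣ m := by
  obtain ⟨γ, hγ⟩ := h
  have hp' : (p : ℂ) ≠ 0 := by exact_mod_cast hp.ne'
  have h1 : (γ : ℂ) = ((m / p : ℚ) : ℂ) := by
    push_cast
    field_simp
    rw [hγ]; ring
  have h2 : IsIntegral ℤ ((m / p : ℚ) : ℂ) := h1 ▸ γ.2
  have h3 : IsIntegral ℤ (m / p : ℚ) :=
    (isIntegral_algebraMap_iff (algebraMap ℚ ℂ).injective).mp h2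
  obtain ⟨y, hy⟩ := IsIntegrallyClosed.isIntegral_iff.mp h3
  have hp'' : (p : ℚ) ≠ 0 := by exact_mod_cast hp.ne'
  have h4 : (m : ℚ) = (p : ℚ) * (y : ℚ) := by
    have : (y : ℚ) = m / p := hy
    rw [this]; field_simp
  have h5 : (m : ℤ) = (p : ℤ) * y := by exact_mod_cast h4
  exact Int.natCast_dvd_natCast.mp ⟨y, h5⟩

theorem exists_sum_pow_prime_pow_eq {R : Type*} [CommRing R] {p : ℕ} (hp : p.Prime) (e : ℕ)
    {ι : Type*} (s : Finset ι) (f : ι → R) :
    ∃ r : R, (∑ i ∈ s, f i) ^ (p ^ e) = ∑ i ∈ s, f i ^ (p ^ e) + p * r := by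
  classical
  induction s using Finset.induction_on with
  | empty => exact ⟨0, by simp [hp.pos.ne']⟩
  | insert a s ha ih =>
    obtain ⟨r, hr⟩ := ih
    obtain ⟨r', hr'⟩ := exists_add_pow_prime_pow_eq hp (f a) (∑ i ∈ s, f i) e
    refine ⟨r + f a * (∑ i ∈ s, f i) * r', ?_⟩
    rw [Finset.sum_insert ha, Finset.sum_insert ha, hr', hr]
    ring

variable {G : Type*} [Group G] [Finite G]

theorem char_pow_congr {χ : G → ℂ} (hχ : IsCharacter G χ) {p : ℕ} (hp : p.Prime) (e : ℕ) (g : G) :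
    PDvd p (χ g ^ (p ^ e) - χ (g ^ (p ^ e))) := by
  obtain ⟨n, ρ, rfl⟩ := hχ
  obtain ⟨μ, h1, h2⟩ := exists_char_eigenvalues ρ g (Nat.card G) Nat.card_pos (pow_card_eq_one')
  have hint : ∀ i, IsIntegral ℤ (μ i) := fun i =>
    IsIntegral.of_pow Nat.card_pos (by rw [h1 i]; exact isIntegral_one)
  obtain ⟨r, hr⟩ := exists_sum_pow_prime_pow_eq (R := AlgInt) hp e Finset.univ
    (fun i => ⟨μ i, hint i⟩)
  have h3 := h2 1
  rw [pow_one] at h3
  simp only [pow_one] at h3
  refine ⟨r, ?_⟩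
  have h4 := congrArg (Subtype.val : AlgInt → ℂ) hr
  push_cast at h4
  rw [h3, h2 (p ^ e), h4]
  ring

/-- `p`-regular elements whose character values are congruent modulo `p` are conjugate. -/
theorem isConj_of_congr (p : ℕ) [Fact p.Prime] (a b : G) (ha : ¬ p ∣ orderOf a)
    (hb : ¬ p ∣ orderOf b)
    (h : ∀ χ : IrrCharacter G, PDvd p ((χ : G → ℂ) a - (χ : G → ℂ) b)) : IsConj a b := by
  classical
  by_contra hab
  let _ : Fintype G := Fintype.ofFinite G
  let _ : Fintype (IrrCharacter G) := Fintype.ofFinite _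
  let S : Sylow p (Subgroup.centralizer ({a} : Set G)) := default
  set P : Subgroup G := (S : Subgroup (Subgroup.centralizer ({a} : Set G))).map (Subgroup.centralizer ({a} : Set G)).subtype with hP
  have hPp : IsPGroup p P := S.2.map _
  have hPa : ∀ u ∈ P, u * a = a * u := by
    rintro _ ⟨u, -, rfl⟩
    exact Subgroup.mem_centralizer_singleton_iff.mp u.2
  have hPcard : Nat.card P * (S : Subgroup (Subgroup.centralizer ({a} : Set G))).index = Nat.card (Subgroup.centralizer ({a} : Set G)) := by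
    rw [hP, Nat.card_congr ((S : Subgroup (Subgroup.centralizer ({a} : Set G))).equivMapOfInjective _
      (Subgroup.subtype_injective _)).toEquiv.symm]
    exact Subgroup.card_mul_index _
  have hPne : (Nat.card P : ℂ) ≠ 0 := by exact_mod_cast Nat.card_pos.ne'
  set c : IrrCharacter G → ℂ := fun χ =>
    (Nat.card P : ℂ)⁻¹ * ∑ u : G, if u ∈ P then conj ((χ : G → ℂ) (a * u)) else 0 with hc
  have hcint : ∀ χ, IsIntegral ℤ (c χ) := fun χ =>
    isIntegral_avg_char (IsCharacter.conj (IsIrrCharacter.isCharacter χ.2)) P a hPa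
  have hkey : ∀ g : G, ¬ p ∣ orderOf g → ∑ χ : IrrCharacter G, c χ * (χ : G → ℂ) g =
      (Nat.card P : ℂ)⁻¹ *
        (if IsConj g a then (Nat.card (Subgroup.centralizer ({g} : Set G)) : ℂ) else 0) := by
    intro g hg
    have h1 : ∀ χ : IrrCharacter G, c χ * (χ : G → ℂ) g = (Nat.card P : ℂ)⁻¹ *
        ∑ u : G, if u ∈ P then (χ : G → ℂ) g * conj ((χ : G → ℂ) (a * u)) else 0 := by
      intro χ
      rw [hc]
      simp only
      rw [mul_assoc, Finset.sum_mul]
      congr 1
      apply Finset.sum_congr rfl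
      intro u _
      split_ifs
      · ring
      · ring
    rw [Finset.sum_congr rfl (fun χ _ => h1 χ), ← Finset.mul_sum, Finset.sum_comm]
    congr 1
    have h2 : ∀ u : G, ∑ χ : IrrCharacter G,
        (if u ∈ P then (χ : G → ℂ) g * conj ((χ : G → ℂ) (a * u)) else 0) =
        if u = 1 then (if IsConj g a then (Nat.card (Subgroup.centralizer ({g} : Set G)) : ℂ) else 0)
          else 0 := by
      intro u
      by_cases hu : u ∈ P
      · simp only [if_pos hu]
        rw [column_orthogonality]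
        by_cases hu1 : u = 1
        · rw [if_pos hu1, hu1, mul_one]
        · rw [if_neg hu1, if_neg]
          intro hconj
          apply hg
          have h3 : orderOf g = orderOf (a * u) := by
            obtain ⟨t, ht⟩ := isConj_iff.mp hconj
            rw [← ht]
            exact (orderOf_injective (MulAut.conj t).toMonoidHom (MulAut.conj t).injective g).symm
          rw [h3]
          exact dvd_orderOf_mul_of_regular Fact.out ha (exists_orderOf_eq_of_mem hPp hu) hu1 (hPa u hu)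
      · simp only [if_neg hu, Finset.sum_const_zero]
        rw [if_neg]
        rintro rfl
        exact hu (Subgroup.one_mem _)
    rw [Finset.sum_congr rfl (fun u _ => h2 u), Finset.sum_ite_eq' Finset.univ (1 : G)]
    simp
  have h1 := hkey a ha
  have h2 := hkey b hb
  rw [if_pos (IsConj.refl a)] at h1
  rw [if_neg (fun h => hab h.symm), mul_zero] at h2
  have h3 : ((S : Subgroup (Subgroup.centralizer ({a} : Set G))).index : ℂ) =
      ∑ χ : IrrCharacter G, c χ * ((χ : G → ℂ) a - (χ : G → ℂ) b) := by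
    simp only [mul_sub]
    rw [Finset.sum_sub_distrib, h1, h2, sub_zero, ← hPcard]
    push_cast
    field_simp
  have h4 : PDvd p ((S : Subgroup (Subgroup.centralizer ({a} : Set G))).index : ℂ) := by
    rw [h3]
    exact PDvd.sum _ _ (fun χ _ => (h χ).mul_left (hcint χ))
  exact S.not_dvd_index (dvd_of_pdvd (Nat.Prime.pos Fact.out) h4)

omit [Finite G] in
/-- The `q`-th power map is injective on elements of order prime to `q`. -/
theorem eq_of_pow_eq_of_coprime {q : ℕ} {z w : G} (hz : q.Coprime (orderOf z))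
    (hw : q.Coprime (orderOf w)) (h : z ^ q = w ^ q) : z = w := by
  obtain ⟨m, hm⟩ := exists_pow_eq_self_of_coprime hz
  have h1 : z = w ^ (q * m) := by rw [pow_mul, ← h, hm]
  have hcomm : Commute z w := by
    rw [h1]
    exact (Commute.refl w).pow_left _
  have h2 : (z * w⁻¹) ^ q = 1 := by
    rw [(hcomm.inv_right).mul_pow, h, inv_pow, mul_inv_cancel]
  have h3 : (z * w⁻¹) ^ (orderOf w) = 1 := by
    rw [(hcomm.inv_right).mul_pow, inv_pow, pow_orderOf_eq_one, inv_one, mul_one, h1, ← pow_mul,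
      mul_comm, pow_mul, pow_orderOf_eq_one, one_pow]
  have h4 := eq_one_of_pow_eq_one_coprime hw h2 h3
  exact mul_inv_eq_one.mp h4

/-- The `|G|_p`-th power kills the `p`-part. -/
theorem pow_eq_of_pPart (p : ℕ) [Fact p.Prime] (x x' : G)
    (hx : (∃ k : ℕ, orderOf (x * x'⁻¹) = p ^ k) ∧ Commute (x * x'⁻¹) x' ∧ ¬ p ∣ orderOf x') :
    x ^ (p ^ (Nat.card G).factorization p) = x' ^ (p ^ (Nat.card G).factorization p) := by
  obtain ⟨⟨k, hk⟩, hc, -⟩ := hx
  have h1 : p ^ k ∣ Nat.card G := hk ▸ orderOf_dvd_natCard _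
  have h2 : k ≤ (Nat.card G).factorization p :=
    (Nat.Prime.pow_dvd_iff_le_factorization Fact.out Nat.card_pos.ne').mp h1
  have h3 : (x * x'⁻¹) ^ (p ^ (Nat.card G).factorization p) = 1 := by
    rw [← orderOf_dvd_iff_pow_eq_one, hk]
    exact pow_dvd_pow p h2
  have h4 : x = (x * x'⁻¹) * x' := by group
  conv_lhs => rw [h4]
  rw [hc.mul_pow, h3, one_mul]

/-- Let G be a finite group, p a prime and p^a the p-part of the order of G. Let x, y ∈ G and let x′, y′ be their p-regular parts: x′ has order prime to p, commutes with x·x′⁻¹, and x·x′⁻¹ has p-power order (likewise for y). Then x′ and y′ are conjugate in G if and only if for every irreducible character χ of G the algebraic integer χ(x)^(p^a) − χ(y)^(p^a) is p times an algebraic integer. -/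
theorem result {G : Type*} [Group G] [Finite G] (p : ℕ) [Fact p.Prime] (x y x' y' : G)
    (hx : (∃ k : ℕ, orderOf (x * x'⁻¹) = p ^ k) ∧ Commute (x * x'⁻¹) x' ∧ ¬ p ∣ orderOf x')
    (hy : (∃ k : ℕ, orderOf (y * y'⁻¹) = p ^ k) ∧ Commute (y * y'⁻¹) y' ∧ ¬ p ∣ orderOf y') :
    IsConj x' y' ↔ ∀ χ : Cfsg.IrrCharacter G, ∃ γ : Cfsg.AlgInt,
      (χ : G → ℂ) x ^ (p ^ (Nat.card G).factorization p) - (χ : G → ℂ) y ^ (p ^ (Nat.card G).factorization p) = (p : ℂ) * (γ : ℂ) := by
  have hp : p.Prime := Fact.out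
  set q := p ^ (Nat.card G).factorization p with hq
  have hxq := pow_eq_of_pPart p x x' hx
  have hyq := pow_eq_of_pPart p y y' hy
  have hcx : q.Coprime (orderOf x') :=
    Nat.Coprime.pow_left _ ((Nat.Prime.coprime_iff_not_dvd hp).mpr hx.2.2)
  have hcy : q.Coprime (orderOf y') :=
    Nat.Coprime.pow_left _ ((Nat.Prime.coprime_iff_not_dvd hp).mpr hy.2.2)
  constructor
  · intro hconj χ
    have h1 := char_pow_congr (IsIrrCharacter.isCharacter χ.2) hp ((Nat.card G).factorization p) x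
    have h2 := char_pow_congr (IsIrrCharacter.isCharacter χ.2) hp ((Nat.card G).factorization p) y
    rw [hxq] at h1
    rw [hyq] at h2
    have h3 : (χ : G → ℂ) (x' ^ q) = (χ : G → ℂ) (y' ^ q) := by
      obtain ⟨t, ht⟩ := isConj_iff.mp hconj
      rw [← ht, conj_pow]
      exact ((IsIrrCharacter.isClassFunction χ.2) _ t).symm
    have h4 := h1.sub h2
    rw [h3] at h4
    have h5 : (χ : G → ℂ) x ^ q - (χ : G → ℂ) (y' ^ q) - ((χ : G → ℂ) y ^ q - (χ : G → ℂ) (y' ^ q)) =
        (χ : G → ℂ) x ^ q - (χ : G → ℂ) y ^ q := by ring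
    rw [h5] at h4
    exact h4
  · intro h
    have hreg : ∀ z : G, ¬ p ∣ orderOf z → ¬ p ∣ orderOf (z ^ q) :=
      fun z hz hd => hz (hd.trans (orderOf_pow_dvd q))
    have h1 : IsConj (x' ^ q) (y' ^ q) := by
      apply isConj_of_congr p _ _ (hreg _ hx.2.2) (hreg _ hy.2.2)
      intro χ
      have h1 := char_pow_congr (IsIrrCharacter.isCharacter χ.2) hp ((Nat.card G).factorization p) x
      have h2 := char_pow_congr (IsIrrCharacter.isCharacter χ.2) hp ((Nat.card G).factorization p) y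
      rw [hxq] at h1
      rw [hyq] at h2
      have h3 : PDvd p ((χ : G → ℂ) x ^ q - (χ : G → ℂ) y ^ q) := h χ
      have h4 := (h3.sub h1).add h2
      have h5 : (χ : G → ℂ) x ^ q - (χ : G → ℂ) y ^ q - ((χ : G → ℂ) x ^ q - (χ : G → ℂ) (x' ^ q)) +
          ((χ : G → ℂ) y ^ q - (χ : G → ℂ) (y' ^ q)) =
          (χ : G → ℂ) (x' ^ q) - (χ : G → ℂ) (y' ^ q) := by ring
      rw [h5] at h4
      exact h4
    obtain ⟨t, ht⟩ := isConj_iff.mp h1
    rw [← conj_pow] at ht
    have h2 : orderOf (t * x' * t⁻¹) = orderOf x' :=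
      orderOf_injective (MulAut.conj t).toMonoidHom (MulAut.conj t).injective x'
    exact isConj_iff.mpr ⟨t, eq_of_pow_eq_of_coprime (h2 ▸ hcx) hcy ht⟩

end Cfsg.Agent.S4604
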