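import Cfsg.Statements.S0514
import Cfsg.Agent.Lib.Helper2.Frobenius
import Cfsg.Agent.Lib.Lead.Residual
import Cfsg.Agent.Lib.Lead.Cores
import Cfsg.Agent.Lib.Helper72.DihedralAut

set_option autoImplicit false
open Cfsg
open scoped Pointwise

namespace Cfsg.Agent.S0514

open Cfsg.Agent.Lib.Helper72

/-- An odd-order element `g` centralizing an involution `t` of a four-group `V` which it
normalizes centralizes `V`. -/
theorem centralizes_kleinFour {X : Type*} [Group X] [Finite X] (V : Subgroup X)
    (hV : IsKleinFour V) (t : X) (htV : t ∈ V) (ht1 : t ≠ 1) (g : X) (hgt : g * t * g⁻¹ = t)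
    (hg : g ∈ Subgroup.normalizer (V : Set X)) (hodd : (orderOf g).Coprime 2) :
    g ∈ Subgroup.centralizer (V : Set X) := by
  apply mem_centralizer_of_forall_conj
  intro u hu
  have hw : g * u * g⁻¹ ∈ V := (Subgroup.mem_normalizer_iff.1 hg u).1 hu
  have hsq : ∀ v ∈ V, v * v = 1 := by
    intro v hv
    have := IsKleinFour.mul_self (⟨v, hv⟩ : V)
    simpa using congrArg Subtype.val this
  by_cases hu1 : u = 1
  · rw [hu1]; simp
  by_cases hut : u = t
  · rw [hut]; exact hgt
  by_cases hwu : g * u * g⁻¹ = u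
  · exact hwu
  have hw1 : g * u * g⁻¹ ≠ 1 := by
    intro h
    apply hu1
    have := congrArg (fun z => g⁻¹ * z * g) h
    simpa [mul_assoc] using this
  have hwt : g * u * g⁻¹ ≠ t := by
    intro h
    apply hut
    rw [← hgt] at h
    have := congrArg (fun z => g⁻¹ * z * g) h
    simpa [mul_assoc] using this
  have h1 : (⟨g * u * g⁻¹, hw⟩ : V) = ⟨t, htV⟩ * ⟨u, hu⟩ := by
    apply IsKleinFour.eq_mul_of_ne_all
    · intro h; exact ht1 (congrArg Subtype.val h)
    · intro h; exact hu1 (congrArg Subtype.val h)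
    · intro h; exact hut (congrArg Subtype.val h).symm
    · intro h; exact hw1 (congrArg Subtype.val h)
    · intro h; exact hwt (congrArg Subtype.val h)
    · intro h; exact hwu (congrArg Subtype.val h)
  have h2 : g * u * g⁻¹ = t * u := congrArg Subtype.val h1
  have hcomm : u * t = t * u := by
    have := (IsKleinFour.isMulCommutative (G := V)).is_comm.comm ⟨u, hu⟩ ⟨t, htV⟩
    exact congrArg Subtype.val this
  have h3 : u⁻¹ * (g * u * g⁻¹) = t := by
    rw [h2, ← hcomm]; group
  apply conj_eq_self_of_commute (N := 2)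
  · rw [h3]; exact hgt
  · rw [h3, pow_two]; exact hsq t htV
  · exact hodd

/-- In a finite group whose Sylow 2-subgroups are dihedral of order at least 4, the centralizer of any involution has a
normal subgroup of odd order whose index in the centralizer is a power of 2. -/
theorem result {X : Type*} [Group X] [Finite X]
    (S : Sylow 2 X) (n : ℕ) (hn : 2 ≤ n) (hS : Nonempty ((S : Subgroup X) ≃* DihedralGroup n)) (t : X)
    (ht : orderOf t = 2) :
    ∃ N : Subgroup (Subgroup.centralizer ({t} : Set X)), N.Normal ∧ Odd (Nat.card N) ∧ ∃ k : ℕ, N.index = 2 ^ k := by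
  obtain ⟨e⟩ := hS
  have ht1 : t ≠ 1 := by
    intro h
    rw [h, orderOf_one] at ht
    omega
  have hcomm : ∀ c ∈ Subgroup.centralizer ({t} : Set X), c * t * c⁻¹ = t := by
    intro c hc
    have := Subgroup.mem_centralizer_iff.1 hc t rfl
    rw [← this, mul_inv_cancel_right]
  have htC : t ∈ Subgroup.centralizer ({t} : Set X) := by
    rw [Subgroup.mem_centralizer_iff]
    intro h hh
    rw [Set.mem_singleton_iff.1 hh]
  have hfrob : Cfsg.Agent.Lib.Helper2.FrobCond 2 (Subgroup.centralizer ({t} : Set X)) := by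
    intro Q hQ g hg hgo
    obtain ⟨t', ht'⟩ : ∃ t' : Subgroup.centralizer ({t} : Set X), t' = ⟨t, htC⟩ := ⟨_, rfl⟩
    have hcen : ∀ c : Subgroup.centralizer ({t} : Set X), c * t' * c⁻¹ = t' := by
      intro c
      apply Subtype.ext
      rw [ht']
      exact hcomm c c.2
    have hZn : (Subgroup.zpowers t').Normal := by
      constructor
      intro z hz c
      obtain ⟨i, rfl⟩ := Subgroup.mem_zpowers_iff.1 hz
      rw [← conj_zpow, hcen c]
      exact Subgroup.zpow_mem _ (Subgroup.mem_zpowers t') i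
    have hZcard : Nat.card (Subgroup.zpowers t') = 2 := by
      rw [Nat.card_zpowers, ht', Subgroup.orderOf_mk, ht]
    have hQ2 : IsPGroup 2 (Q ⊔ Subgroup.zpowers t' : Subgroup _) := by
      obtain ⟨a, ha⟩ := IsPGroup.iff_card.1 hQ
      have h1 := Cfsg.Agent.Lib.Lead.card_sup_dvd Q (Subgroup.zpowers t')
      rw [ha, hZcard, ← pow_succ] at h1
      obtain ⟨b, _, hb⟩ := (Nat.dvd_prime_pow Nat.prime_two).1 h1
      exact IsPGroup.of_card hb
    have hg2 : g ∈ Subgroup.normalizer ((Q ⊔ Subgroup.zpowers t' : Subgroup _) : Set _) := by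
      rw [mem_normalizer_iff_conj_smul_eq, Subgroup.smul_sup,
        (mem_normalizer_iff_conj_smul_eq _ _).1 hg]
      congr 1
      exact (mem_normalizer_iff_conj_smul_eq _ _).1 (by
        rw [Subgroup.normalizer_eq_top]; trivial)
    obtain ⟨V, hVdef⟩ : ∃ V : Subgroup X, V = (Q ⊔ Subgroup.zpowers t' : Subgroup _).map
      (Subgroup.centralizer ({t} : Set X)).subtype := ⟨_, rfl⟩
    have hVp : IsPGroup 2 V := hVdef ▸ hQ2.map _
    have hgV : (g : X) ∈ Subgroup.normalizer (V : Set X) := by
      rw [hVdef]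
      exact Subgroup.le_normalizer_map _ ⟨g, hg2, rfl⟩
    have htV : t ∈ V := by
      rw [hVdef]
      exact ⟨t', (le_sup_right : Subgroup.zpowers t' ≤ _) (Subgroup.mem_zpowers t'), by rw [ht']; rfl⟩
    have hgo' : (orderOf (g : X)).Coprime 2 := by rwa [Subgroup.orderOf_coe]
    obtain ⟨P, hVP⟩ := hVp.exists_le_sylow
    obtain ⟨x, hx⟩ := MulAction.exists_smul_eq X S P
    have hPx : (P : Subgroup X) = MulAut.conj x • (S : Subgroup X) := by
      rw [← hx]; rfl
    have eP : (P : Subgroup X) ≃* DihedralGroup n :=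
      (MulEquiv.subgroupCongr hPx).trans
        ((Subgroup.equivSMul (MulAut.conj x) (S : Subgroup X)).symm.trans e)
    have hcV : (g : X) ∈ Subgroup.centralizer (V : Set X) := by
      rcases centralizes_or_kleinFour_of_dihedral (P : Subgroup X) n eP V hVP hVp g hgV hgo'
        with h1 | h1
      · exact h1
      · exact centralizes_kleinFour V h1 t htV ht1 g (hcomm g g.2) hgV hgo'
    rw [Subgroup.mem_centralizer_iff] at hcV ⊢
    intro y hy
    apply Subtype.ext
    apply hcV (y : X)
    rw [hVdef]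
    exact ⟨y, (le_sup_left : Q ≤ _) hy, rfl⟩
  have hnpc := Cfsg.Agent.Lib.Helper2.hasNormalPComplement_iff_frobCond.2 hfrob
  obtain ⟨N, hN, hc, k, hk⟩ := Cfsg.Agent.Lib.Lead.hasNormalPComplement_iff.1 hnpc
  exact ⟨N, hN, Nat.coprime_two_right.1 hc, k, hk⟩

end Cfsg.Agent.S0514
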