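import Cfsg.Statements.S1124
-- (no helper imports)

set_option autoImplicit false
open scoped Pointwise
open Cfsg

namespace Cfsg.Agent.S1124

theorem aux_pow_card {M : Type*} [Group M] (X : Subgroup M) {w : M} (hw : w ∈ X) :
    w ^ Nat.card X = 1 := by
  have := pow_card_eq_one' (G := X) (x := ⟨w, hw⟩)
  exact congrArg Subtype.val this

/-- Let `t` be an element of order 2 of a finite group normalising a subgroup `X` of odd order, `Y = C_X(t)` and `Z` the set of elements of `X` inverted by `t`. Then `(y, z) ↦ y z` is a bijection `Y × Z → X`, so `|X| = |Y| |Z|`, and the subgroup generated by `Z` is normal in `X`. -/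
theorem result {M : Type*} [Group M] [Finite M]
    (t : M) (ht : orderOf t = 2) (X : Subgroup M) (hodd : Odd (Nat.card X))
    (hnorm : ∀ x ∈ X, t * x * t⁻¹ ∈ X) :
    (∀ x ∈ X, ∃! p : M × M, p.1 ∈ X ⊓ Subgroup.centralizer {t} ∧ p.2 ∈ Cfsg.invertedBy X t ∧ x = p.1 * p.2) ∧
      Nat.card X = Nat.card ↥(X ⊓ Subgroup.centralizer {t}) * Nat.card (Cfsg.invertedBy X t) ∧
      ∀ x ∈ X, MulAut.conj x • Subgroup.closure (Cfsg.invertedBy X t) = Subgroup.closure (Cfsg.invertedBy X t) := by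
  have ht2 : t * t = 1 := by
    have := pow_orderOf_eq_one t
    rwa [ht, pow_two] at this
  have htinv : t⁻¹ = t := inv_eq_of_mul_eq_one_left ht2
  obtain ⟨k, hk⟩ := hodd
  -- square roots
  have hsqrt : ∀ w ∈ X, w ^ (k + 1) * w ^ (k + 1) = w := by
    intro w hw
    have h1 := aux_pow_card X hw
    rw [← pow_add, show k + 1 + (k + 1) = (2 * k + 1) + 1 by ring, ← hk, pow_succ, h1, one_mul]
  have hsq_inj : ∀ z ∈ X, ∀ z' ∈ X, z * z = z' * z' → z = z' := by
    intro z hz z' hz' h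
    have h1 := hsqrt z hz
    have h2 := hsqrt z' hz'
    rw [← pow_add, ← two_mul, pow_mul, pow_two] at h1 h2
    rw [← h1, ← h2, h]
  have hcent : ∀ y : M, y ∈ Subgroup.centralizer {t} ↔ t * y * t = y := by
    intro y
    rw [Subgroup.mem_centralizer_iff]
    constructor
    · intro h
      rw [h t rfl, mul_assoc, ht2, mul_one]
    · intro h u hu
      rw [Set.mem_singleton_iff.mp hu]
      calc t * y = t * y * (t * t) := by rw [ht2, mul_one]
        _ = (t * y * t) * t := by simp only [mul_assoc]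
        _ = y * t := by rw [h]
  have hinv : ∀ z : M, z ∈ Cfsg.invertedBy X t ↔ z ∈ X ∧ t * z * t = z⁻¹ := by
    intro z
    unfold Cfsg.invertedBy
    rw [Set.mem_ofPred_eq, htinv]
  have hex : ∀ x ∈ X, ∃! p : M × M, p.1 ∈ X ⊓ Subgroup.centralizer {t} ∧ p.2 ∈ Cfsg.invertedBy X t ∧
      x = p.1 * p.2 := by
    intro x hx
    have hxt : t * x * t ∈ X := by have := hnorm x hx; rwa [htinv] at this
    have hw : x⁻¹ * (t * x * t) ∈ X := mul_mem (inv_mem hx) hxt
    have hwt : t * (x⁻¹ * (t * x * t)) * t⁻¹ = (x⁻¹ * (t * x * t))⁻¹ := by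
      rw [htinv]
      calc t * (x⁻¹ * (t * x * t)) * t = t * x⁻¹ * (t * (x * (t * t))) := by simp only [mul_assoc]
        _ = t * x⁻¹ * t * x := by rw [ht2, mul_one]; simp only [mul_assoc]
        _ = (x⁻¹ * (t * x * t))⁻¹ := by simp only [mul_inv_rev, htinv, inv_inv, mul_assoc]
    obtain ⟨r, hr, hrX, hrt⟩ : ∃ r : M, r * r = x⁻¹ * (t * x * t) ∧ r ∈ X ∧ t * r * t = r⁻¹ := by
      refine ⟨(x⁻¹ * (t * x * t)) ^ (k + 1), hsqrt _ hw, pow_mem hw _, ?_⟩
      have := conj_pow (a := t) (b := x⁻¹ * (t * x * t)) (i := k + 1)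
      rw [hwt, htinv] at this
      rw [← this, inv_pow]
    have hxr : t * x * t = x * (r * r) := by rw [hr]; group
    refine ⟨(x * r, r⁻¹), ⟨?_, ?_, ?_⟩, ?_⟩
    · refine Subgroup.mem_inf.mpr ⟨mul_mem hx hrX, (hcent _).mpr ?_⟩
      calc t * (x * r) * t = t * x * (t * t) * r * t := by rw [ht2, mul_one]; simp only [mul_assoc]
        _ = (t * x * t) * (t * r * t) := by simp only [mul_assoc]
        _ = x * r := by rw [hxr, hrt]; group
    · refine (hinv _).mpr ⟨inv_mem hrX, ?_⟩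
      have : (t * r * t)⁻¹ = r⁻¹⁻¹ := by rw [hrt]
      rw [← this]
      simp only [mul_inv_rev, htinv, mul_assoc]
    · simp
    · rintro ⟨y, z⟩ ⟨hy, hz, hxyz⟩
      simp only at hy hz hxyz
      obtain ⟨hyX, hyt⟩ := Subgroup.mem_inf.mp hy
      rw [hcent] at hyt
      obtain ⟨hzX, hzt⟩ := (hinv z).mp hz
      -- t x t = y z⁻¹
      have h1 : t * x * t = y * z⁻¹ := by
        rw [hxyz]
        calc t * (y * z) * t = t * y * (t * t) * z * t := by rw [ht2, mul_one]; simp only [mul_assoc]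
          _ = (t * y * t) * (t * z * t) := by simp only [mul_assoc]
          _ = y * z⁻¹ := by rw [hyt, hzt]
      have h2 : r * r = z⁻¹ * z⁻¹ := by
        rw [hr, h1, hxyz]; group
      have h3 : r = z⁻¹ := hsq_inj r hrX z⁻¹ (inv_mem hzX) h2
      have h4 : z = r⁻¹ := by rw [h3, inv_inv]
      subst h4
      have h5 : y = x * r := by rw [hxyz]; group
      rw [h5]
  refine ⟨hex, ?_, ?_⟩
  · let f : ↥(X ⊓ Subgroup.centralizer {t}) × (Cfsg.invertedBy X t) → X :=
      fun p => ⟨(p.1 : M) * (p.2 : M), mul_mem (Subgroup.mem_inf.mp p.1.2).1 ((hinv _).mp p.2.2).1⟩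
    have hf : Function.Bijective f := by
      constructor
      · rintro ⟨⟨y, hy⟩, ⟨z, hz⟩⟩ ⟨⟨y', hy'⟩, ⟨z', hz'⟩⟩ h
        have h1 : y * z = y' * z' := congrArg Subtype.val h
        have hX : y * z ∈ X := mul_mem (Subgroup.mem_inf.mp hy).1 ((hinv _).mp hz).1
        have h2 := (hex (y * z) hX).unique (y₁ := (y, z)) (y₂ := (y', z')) ⟨hy, hz, rfl⟩ ⟨hy', hz', h1⟩
        simp only [Prod.mk.injEq] at h2
        obtain ⟨rfl, rfl⟩ := h2
        rfl
      · rintro ⟨x, hx⟩
        obtain ⟨⟨y, z⟩, ⟨hy, hz, hxyz⟩, -⟩ := hex x hx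
        exact ⟨(⟨y, hy⟩, ⟨z, hz⟩), Subtype.ext hxyz.symm⟩
    rw [← Nat.card_congr (Equiv.ofBijective f hf), Nat.card_prod]
  · -- normality of the closure
    have hconj : ∀ x ∈ X, ∀ n ∈ Subgroup.closure (Cfsg.invertedBy X t),
        x * n * x⁻¹ ∈ Subgroup.closure (Cfsg.invertedBy X t) := by
      intro x hx n hn
      obtain ⟨⟨y, z⟩, ⟨hy, hz, hxyz⟩, -⟩ := hex x hx
      simp only at hy hz hxyz
      obtain ⟨hyX, hyt⟩ := Subgroup.mem_inf.mp hy
      rw [hcent] at hyt
      have hyconj : Subgroup.closure (Cfsg.invertedBy X t) ≤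
          (Subgroup.closure (Cfsg.invertedBy X t)).comap (MulAut.conj y).toMonoidHom := by
        rw [Subgroup.closure_le]
        intro z' hz'
        obtain ⟨hz'X, hz't⟩ := (hinv z').mp hz'
        apply Subgroup.subset_closure
        refine (hinv _).mpr ⟨?_, ?_⟩
        · exact mul_mem (mul_mem hyX hz'X) (inv_mem hyX)
        · have hyt' : t * y⁻¹ * t = y⁻¹ := by
            calc t * y⁻¹ * t = (t * y * t)⁻¹ := by simp only [mul_inv_rev, htinv, mul_assoc]
              _ = y⁻¹ := by rw [hyt]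
          change t * (y * z' * y⁻¹) * t = (y * z' * y⁻¹)⁻¹
          calc t * (y * z' * y⁻¹) * t
              = t * y * (t * t) * z' * (t * t) * y⁻¹ * t := by rw [ht2]; simp only [mul_assoc, mul_one]
            _ = (t * y * t) * (t * z' * t) * (t * y⁻¹ * t) := by simp only [mul_assoc]
            _ = (y * z' * y⁻¹)⁻¹ := by rw [hyt, hz't, hyt']; group
      have hzN : z ∈ Subgroup.closure (Cfsg.invertedBy X t) := Subgroup.subset_closure hz
      have h1 : z * n * z⁻¹ ∈ Subgroup.closure (Cfsg.invertedBy X t) :=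
        mul_mem (mul_mem hzN hn) (inv_mem hzN)
      have h2 := hyconj h1
      have h3 : y * (z * n * z⁻¹) * y⁻¹ ∈ Subgroup.closure (Cfsg.invertedBy X t) := h2
      rw [hxyz]
      have h4 : y * z * n * (y * z)⁻¹ = y * (z * n * z⁻¹) * y⁻¹ := by group
      rw [h4]; exact h3
    intro x hx
    ext g
    rw [Subgroup.mem_pointwise_smul_iff_inv_smul_mem]
    constructor
    · intro h
      have h1 := hconj x hx _ h
      simpa [MulAut.smul_def, mul_assoc] using h1
    · intro h
      have h1 := hconj x⁻¹ (inv_mem hx) _ h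
      simpa [MulAut.smul_def, mul_assoc] using h1

end Cfsg.Agent.S1124
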