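import Cfsg.Statements.S1229
import Cfsg.Agent.Lib.Helper19.BSW3

set_option autoImplicit false
open Cfsg

namespace Cfsg.Agent.S1229

/-- Let G be a finite group with a Sylow 2-subgroup T that is neither cyclic nor normal, such that the centralizer of every involution is an elementary abelian 2-group; put H = N_G(T) and X = G/H. Then G is triply transitive on X, an element fixing three distinct points of X is the identity, and T acts regularly on X minus the point H. -/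
theorem result {G : Type*} [Group G] [Finite G] (T : Sylow 2 G) (hnc : ¬ IsCyclic (T : Subgroup G)) (hnn : ¬ (T : Subgroup G).Normal) (hC : ∀ t : G, orderOf t = 2 → IsMulCommutative (Subgroup.centralizer ({t} : Set G)) ∧ ∀ c ∈ Subgroup.centralizer ({t} : Set G), c ^ 2 = 1) : (∀ x₁ x₂ x₃ y₁ y₂ y₃ : G ⧸ Subgroup.normalizer ((T : Subgroup G) : Set G), x₁ ≠ x₂ → x₁ ≠ x₃ → x₂ ≠ x₃ → y₁ ≠ y₂ → y₁ ≠ y₃ → y₂ ≠ y₃ → ∃ g : G, g • x₁ = y₁ ∧ g • x₂ = y₂ ∧ g • x₃ = y₃) ∧ (∀ g : G, ∀ x₁ x₂ x₃ : G ⧸ Subgroup.normalizer ((T : Subgroup G) : Set G), x₁ ≠ x₂ → x₁ ≠ x₃ → x₂ ≠ x₃ → g • x₁ = x₁ → g • x₂ = x₂ → g • x₃ = x₃ → g = 1) ∧ (∀ x y : G ⧸ Subgroup.normalizer ((T : Subgroup G) : Set G), x ≠ QuotientGroup.mk 1 → y ≠ QuotientGroup.mk 1 → ∃! t : G, t ∈ T ∧ t • x = y) := by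
  open Cfsg.Agent.Lib.Helper19 in
  have h : BSW T := ⟨hnc, hnn, hC⟩
  obtain ⟨u, hu1, hu2, huH⟩ := h.exists_invol_not_mem
  obtain ⟨s, hs, hs1, -, -⟩ := h.exists_central
  have smk : ∀ a g : G, a • (QuotientGroup.mk g : G ⧸ Hn T) = QuotientGroup.mk (a * g) := by
    intro a g
    rw [MulAction.Quotient.smul_mk, smul_eq_mul]
  have fixiff : ∀ d g : G, d • (QuotientGroup.mk g : G ⧸ Hn T) = QuotientGroup.mk g ↔ g⁻¹ * d * g ∈ Hn T := by
    intro d g
    rw [smk, QuotientGroup.eq]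
    have e : (d * g)⁻¹ * g = (g⁻¹ * d * g)⁻¹ := by group
    rw [e, inv_mem_iff]
  have k1 : ∀ g : G, (QuotientGroup.mk g : G ⧸ Hn T) = QuotientGroup.mk 1 ↔ g ∈ Hn T := by
    intro g
    rw [QuotientGroup.eq, mul_one, inv_mem_iff]
  set p0 : G ⧸ Hn T := QuotientGroup.mk 1 with hp0
  set p1 : G ⧸ Hn T := QuotientGroup.mk u with hp1
  have hp10 : p1 ≠ p0 := fun hh => huH ((k1 u).mp hh)
  have fa : ∀ x : G ⧸ Hn T, ∃ a : G, a • x = p0 := by
    intro x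
    induction x using QuotientGroup.induction_on with
    | H g => exact ⟨g⁻¹, by rw [smk, inv_mul_cancel]⟩
  have fb : ∀ x : G ⧸ Hn T, x ≠ p0 → ∃ t ∈ (T : Subgroup G), t • p1 = x := by
    intro x
    induction x using QuotientGroup.induction_on with
    | H g =>
      intro hx
      have hg : g ∉ Hn T := fun hh => hx ((k1 g).mpr hh)
      obtain ⟨t, ht, htu⟩ := h.T_trans hu1 hu2 huH hg
      exact ⟨t, ht, by rw [hp1, smk]; exact (QuotientGroup.eq.mpr htu).symm⟩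
  have fc : ∀ n : G, n • p0 = p0 ↔ n ∈ Hn T := by
    intro n
    rw [hp0, smk, mul_one, k1]
  have fd : ∀ d : G, (d • p0 = p0 ∧ d • p1 = p1) ↔ d ∈ Dn T u := by
    intro d
    rw [fc, hp1, fixiff, mem_Dn_iff]
  have fg : ∀ d ∈ Dn T u, d ≠ 1 → ∀ x : G ⧸ Hn T, d • x = x → x = p0 ∨ x = p1 := by
    intro d hd hd1 x
    induction x using QuotientGroup.induction_on with
    | H g =>
      intro hx
      by_cases hg : g ∈ Hn T
      · exact Or.inl ((k1 g).mpr hg)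
      · right
        rw [fixiff] at hx
        exact QuotientGroup.eq.mpr (h.fix_elt hu1 hu2 huH hg hd hd1 hx)
  have fh : ∀ t ∈ (T : Subgroup G), ∀ x : G ⧸ Hn T, x ≠ p0 → t • x = x → t = 1 := by
    intro t ht x
    induction x using QuotientGroup.induction_on with
    | H g =>
      intro hx hfix
      have hg : g ∉ Hn T := fun hh => hx ((k1 g).mpr hh)
      rw [fixiff] at hfix
      exact h.D_inf_T hg (mem_Dn_iff.mpr ⟨BSW.T_le_normalizer ht, hfix⟩) ht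
  have hTfix : ∀ t ∈ (T : Subgroup G), t • p0 = p0 := fun t ht => (fc t).mpr (BSW.T_le_normalizer ht)
  have norm3 : ∀ x₁ x₂ x₃ : G ⧸ Hn T, x₁ ≠ x₂ → x₁ ≠ x₃ → x₂ ≠ x₃ →
      ∃ c : G, c • x₁ = p0 ∧ c • x₂ = p1 ∧ c • x₃ = s • p1 := by
    intro x₁ x₂ x₃ h12 h13 h23
    obtain ⟨a, ha⟩ := fa x₁
    have h2 : a • x₂ ≠ p0 := by
      rw [← ha]; exact fun hh => h12 (smul_left_cancel a hh).symm
    obtain ⟨t, ht, ht2⟩ := fb _ h2
    have e1 : (t⁻¹ * a) • x₁ = p0 := by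
      rw [mul_smul, ha]; exact hTfix _ (inv_mem ht)
    have e2 : (t⁻¹ * a) • x₂ = p1 := by
      rw [mul_smul, ← ht2, inv_smul_smul]
    have h3 : (t⁻¹ * a) • x₃ ≠ p0 := by
      rw [← e1]; exact fun hh => h13 (smul_left_cancel _ hh).symm
    have h3' : (t⁻¹ * a) • x₃ ≠ p1 := by
      rw [← e2]; exact fun hh => h23 (smul_left_cancel _ hh).symm
    obtain ⟨r, hr, hr3⟩ := fb _ h3
    have hr1 : r ≠ 1 := by
      rintro rfl
      rw [one_smul] at hr3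
      exact h3' hr3.symm
    obtain ⟨d, hd, hds⟩ := h.D_trans hu2 huH hr hr1 hs hs1
    obtain ⟨hd0, hd1⟩ := (fd d).mpr hd
    refine ⟨d * (t⁻¹ * a), ?_, ?_, ?_⟩
    · rw [mul_smul, e1, hd0]
    · rw [mul_smul, e2, hd1]
    · rw [mul_smul, ← hr3, ← hds]
      nth_rewrite 2 [← hd1]
      simp only [← mul_smul]
      congr 1
      group
  refine ⟨?_, ?_, ?_⟩
  · intro x₁ x₂ x₃ y₁ y₂ y₃ h12 h13 h23 k12 k13 k23
    obtain ⟨c, c1, c2, c3⟩ := norm3 x₁ x₂ x₃ h12 h13 h23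
    obtain ⟨e, e1, e2, e3⟩ := norm3 y₁ y₂ y₃ k12 k13 k23
    refine ⟨e⁻¹ * c, ?_, ?_, ?_⟩
    · rw [mul_smul, c1, inv_smul_eq_iff, e1]
    · rw [mul_smul, c2, inv_smul_eq_iff, e2]
    · rw [mul_smul, c3, inv_smul_eq_iff, e3]
  · intro g x₁ x₂ x₃ h12 h13 h23 g1 g2 g3
    obtain ⟨c, c1, c2, c3⟩ := norm3 x₁ x₂ x₃ h12 h13 h23
    have f1 : (c * g * c⁻¹) • p0 = p0 := by
      rw [← c1, ← mul_smul, inv_mul_cancel_right, mul_smul, g1]
    have f2 : (c * g * c⁻¹) • p1 = p1 := by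
      rw [← c2, ← mul_smul, inv_mul_cancel_right, mul_smul, g2]
    have f3 : (c * g * c⁻¹) • (s • p1) = s • p1 := by
      rw [← c3, ← mul_smul, inv_mul_cancel_right, mul_smul, g3]
    have hD := (fd _).mp ⟨f1, f2⟩
    by_contra hg1
    have hne : c * g * c⁻¹ ≠ 1 := by
      intro hh
      apply hg1
      have : g = c⁻¹ * (c * g * c⁻¹) * c := by group
      rw [this, hh]; group
    rcases fg _ hD hne _ f3 with hh | hh
    · apply hp10
      rw [← hTfix s hs] at hh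
      exact smul_left_cancel s hh
    · exact hs1 (fh s hs p1 hp10 hh)
  · intro x y hx hy
    obtain ⟨a, ha, hax⟩ := fb x hx
    obtain ⟨b, hb, hby⟩ := fb y hy
    refine ⟨b * a⁻¹, ⟨mul_mem hb (inv_mem ha), ?_⟩, ?_⟩
    · rw [mul_smul, ← hax, inv_smul_smul, hby]
    · rintro t ⟨ht, htx⟩
      have h1 : ((b * a⁻¹)⁻¹ * t) • x = x := by
        rw [mul_smul, htx, inv_smul_eq_iff, mul_smul, ← hax, inv_smul_smul, hby]
      have h2 := fh _ (mul_mem (inv_mem (mul_mem hb (inv_mem ha))) ht) x hx h1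
      exact (inv_mul_eq_one.mp h2).symm

end Cfsg.Agent.S1229
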