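import Cfsg.Statements.S3277
import Cfsg.Agent.Lib.Helper21.TwoGroupCount
import Cfsg.Agent.Lib.Helper21.Fusion
import Cfsg.Agent.Lib.Helper21.SylowLemmas
import Cfsg.Agent.Lib.Helper21.ElemCentralizers
import Cfsg.Agent.Lib.Helper19.Dihedral
import Cfsg.Agent.S1227
import Cfsg.Agent.S1229

set_option autoImplicit false
open Cfsg

namespace Cfsg.Agent.S3277

open Subgroup in
theorem aux_A5 {G : Type*} [Group G] [Finite G] (T : Sylow 2 G) (hT4 : Nat.card T = 4)
    (hT2 : ∀ t ∈ T, t ^ 2 = 1)
    (hnc : ¬ IsCyclic (T : Subgroup G)) (hnn : ¬ (T : Subgroup G).Normal)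
    (hC : ∀ t : G, orderOf t = 2 → IsMulCommutative (Subgroup.centralizer ({t} : Set G)) ∧
      ∀ c ∈ Subgroup.centralizer ({t} : Set G), c ^ 2 = 1) :
    Nonempty (G ≃* ↥(alternatingGroup (Fin 5))) := by
  classical
  obtain ⟨-, hsharp, hreg⟩ := Cfsg.Agent.S1229.result T hnc hnn hC
  have hu : ∃ u : G, orderOf u = 2 ∧ u ∉ normalizer ((T : Subgroup G) : Set G) := by
    by_contra hcon
    push Not at hcon
    apply hnn
    constructor
    intro t ht g
    by_cases ht1 : t = 1
    · simp [ht1, one_mem]
    · have h2 : orderOf t = 2 := orderOf_eq_prime (hT2 t ht) ht1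
      have h3 : orderOf (g * t * g⁻¹) = 2 := by
        rw [← h2]; exact MulEquiv.orderOf_eq (MulAut.conj g) t
      exact Cfsg.Agent.Lib.Helper21.ElemCent.mem_sylow_of_mem_normalizer T h3 (hcon _ h3)
  obtain ⟨u, hu2, huH⟩ := hu
  have hHcard := (Cfsg.Agent.S1227.result T hnc hnn hC u hu2 huH).2.1
  rw [hT4] at hHcard
  set H := normalizer ((T : Subgroup G) : Set G) with hH
  have hTH : (T : Subgroup G) ≤ H := Subgroup.le_normalizer
  have hx0 : (QuotientGroup.mk u : G ⧸ H) ≠ QuotientGroup.mk 1 := by
    intro h
    rw [QuotientGroup.eq] at h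
    apply huH
    have := H.inv_mem h
    simpa using this
  have hTfix : ∀ t ∈ T, t • (QuotientGroup.mk 1 : G ⧸ H) = QuotientGroup.mk 1 := by
    intro t ht
    rw [MulAction.Quotient.smul_mk, QuotientGroup.eq]
    simpa using H.inv_mem (hTH ht)
  have hne1 : ∀ t ∈ T, t • (QuotientGroup.mk u : G ⧸ H) ≠ QuotientGroup.mk 1 := by
    intro t ht h
    apply hx0
    have h1 := hTfix t⁻¹ (inv_mem ht)
    rw [← h, smul_smul, inv_mul_cancel, one_smul] at h1
    rw [h1, h]
  have hX4 : Nat.card {y : G ⧸ H // y ≠ QuotientGroup.mk 1} = 4 := by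
    rw [← hT4]
    symm
    apply Nat.card_congr
    refine Equiv.ofBijective (fun t : T => ⟨t.1 • (QuotientGroup.mk u : G ⧸ H), hne1 t.1 t.2⟩) ⟨?_, ?_⟩
    · intro t t' htt
      have h1 : t.1 • (QuotientGroup.mk u : G ⧸ H) = t'.1 • (QuotientGroup.mk u : G ⧸ H) :=
        congrArg Subtype.val htt
      obtain ⟨w, -, hw⟩ := hreg _ _ hx0 (hne1 t'.1 t'.2)
      exact Subtype.ext ((hw t.1 ⟨t.2, h1⟩).trans (hw t'.1 ⟨t'.2, rfl⟩).symm)
    · rintro ⟨y, hy⟩
      obtain ⟨w, ⟨hw1, hw2⟩, -⟩ := hreg _ y hx0 hy
      exact ⟨⟨w, hw1⟩, Subtype.ext hw2⟩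
  have hX5 : Nat.card (G ⧸ H) = 5 := by
    rw [← Nat.card_congr (Equiv.optionSubtypeNe (QuotientGroup.mk 1 : G ⧸ H)), Finite.card_option, hX4]
  have hG60 : Nat.card G = 60 := by
    rw [← Subgroup.card_mul_index H, hHcard, Subgroup.index, hX5]
  -- a third point
  have hTnt : ∃ t ∈ T, t ≠ 1 := by
    by_contra hcon
    push Not at hcon
    have : (T : Subgroup G) = ⊥ := by
      rw [eq_bot_iff]; intro t ht; rw [Subgroup.mem_bot]; exact hcon t ht
    have h4 : Nat.card (T : Subgroup G) = 1 := by rw [this]; simp
    have h5 : Nat.card (T : Subgroup G) = 4 := hT4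
    omega
  obtain ⟨t, htT, ht1⟩ := hTnt
  have hx3 : t • (QuotientGroup.mk u : G ⧸ H) ≠ QuotientGroup.mk u := by
    intro h
    obtain ⟨w, -, hw⟩ := hreg _ _ hx0 hx0
    exact ht1 ((hw t ⟨htT, h⟩).trans (hw 1 ⟨one_mem _, one_smul _ _⟩).symm)
  have hinj : Function.Injective (MulAction.toPermHom G (G ⧸ H)) := by
    rw [injective_iff_map_eq_one]
    intro g hg
    have hg' : ∀ y : G ⧸ H, g • y = y := by
      intro y
      have := congrArg (fun σ : Equiv.Perm (G ⧸ H) => σ y) hg
      simpa using this
    exact hsharp g _ _ _ hx0.symm (hne1 t htT).symm hx3.symm (hg' _) (hg' _) (hg' _)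
  let e : (G ⧸ H) ≃ Fin 5 := Finite.equivFinOfCardEq hX5
  let ψ : G →* Equiv.Perm (Fin 5) := (e.permCongrHom).toMonoidHom.comp (MulAction.toPermHom G (G ⧸ H))
  have hψ : Function.Injective ψ := (e.permCongrHom).injective.comp hinj
  have hrc : Nat.card ψ.range = 60 := by
    rw [← hG60]
    exact (Nat.card_congr (MonoidHom.ofInjective hψ).toEquiv).symm
  have hidx : ψ.range.index = 2 := by
    have h1 := Subgroup.card_mul_index ψ.range
    rw [hrc, Nat.card_perm] at h1
    have : (Nat.card (Fin 5)).factorial = 120 := by simp [Nat.factorial]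
    omega
  have hr := Equiv.Perm.eq_alternatingGroup_of_index_eq_two hidx
  exact ⟨(MonoidHom.ofInjective hψ).trans (MulEquiv.subgroupCongr hr)⟩

/-- Let G be a finite group containing an involution whose centralizer is elementary abelian of order 4. If G has no normal 2-complement and no normal elementary abelian 2-subgroup of order 2 or 4, then G is isomorphic to the alternating group of degree 5 (that is, to PSL(2, 5)). -/
theorem result {G : Type*} [Group G] [Finite G] (x : G) (hx : orderOf x = 2)
    (hC4 : Nat.card ↥(Subgroup.centralizer ({x} : Set G)) = 4) (hCe : ∀ c ∈ Subgroup.centralizer ({x} : Set G), c ^ 2 = 1)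
    (hnc : ¬ Cfsg.HasNormalPComplement 2 G)
    (hne : ∀ E : Subgroup G, E.Normal → Cfsg.IsElementaryAbelian 2 E → Nat.card ↥E ≠ 2 ∧ Nat.card ↥E ≠ 4) :
    Nonempty (G ≃* ↥(alternatingGroup (Fin 5))) := by
  classical
  have hfact : Fact (Nat.Prime 2) := ⟨Nat.prime_two⟩
  set V := Subgroup.centralizer ({x} : Set G) with hV
  have hxx : x * x = 1 := by rw [← pow_two, ← hx]; exact pow_orderOf_eq_one x
  have hx1 : x ≠ 1 := by rintro rfl; simp at hx
  have hxV : x ∈ V := Subgroup.mem_centralizer_singleton_iff.mpr rfl
  have hVinv : ∀ a ∈ V, a⁻¹ = a := by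
    intro a ha
    have := hCe a ha
    rw [pow_two] at this
    exact inv_eq_of_mul_eq_one_left this
  have hVcomm : ∀ a ∈ V, ∀ b ∈ V, a * b = b * a := by
    intro a ha b hb
    have h1 := hVinv _ (V.mul_mem ha hb)
    rw [mul_inv_rev, hVinv a ha, hVinv b hb] at h1
    exact h1.symm
  have hVp : IsPGroup 2 V := Cfsg.Agent.Lib.Helper21.isPGroup_two_of_exp_two V hCe
  have hconjC : ∀ g : G, Subgroup.centralizer ({g * x * g⁻¹} : Set G) =
      V.map (MulAut.conj g).toMonoidHom := by
    intro g; ext c
    rw [Cfsg.Agent.Lib.Helper21.mem_map_conj_iff, hV, Subgroup.mem_centralizer_singleton_iff,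
      Subgroup.mem_centralizer_singleton_iff]
    constructor
    · intro h
      calc g⁻¹ * c * g * x = g⁻¹ * (c * (g * x * g⁻¹)) * g := by group
        _ = g⁻¹ * ((g * x * g⁻¹) * c) * g := by rw [h]
        _ = x * (g⁻¹ * c * g) := by group
    · intro h
      calc c * (g * x * g⁻¹) = g * ((g⁻¹ * c * g) * x) * g⁻¹ := by group
        _ = g * (x * (g⁻¹ * c * g)) * g⁻¹ := by rw [h]
        _ = g * x * g⁻¹ * c := by group
  have hP1 : ∀ t : G, (∃ g, g * x * g⁻¹ = t) → Nat.card (Subgroup.centralizer ({t} : Set G)) = 4 ∧
      ∀ c ∈ Subgroup.centralizer ({t} : Set G), c ^ 2 = 1 := by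
    rintro _ ⟨g, rfl⟩
    rw [hconjC g]
    refine ⟨by rw [Subgroup.card_map_of_injective (MulAut.conj g).injective, hC4], ?_⟩
    rintro _ ⟨c, hc, rfl⟩
    rw [← map_pow, hCe c hc, map_one]
  have hP2 : ∀ t ∈ V, (∃ g, g * x * g⁻¹ = t) → Subgroup.centralizer ({t} : Set G) = V := by
    intro t ht hc
    symm
    apply Subgroup.eq_of_le_of_card_ge
    · intro c hc'
      rw [Subgroup.mem_centralizer_singleton_iff]; exact hVcomm c hc' t ht
    · rw [(hP1 t hc).1, hC4]
  have hcommOf : ∀ W : Subgroup G, (∀ c ∈ W, c ^ 2 = 1) → IsMulCommutative W := by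
    intro W hW
    refine ⟨⟨fun a b => Subtype.ext ?_⟩⟩
    have hinv : ∀ a ∈ W, a⁻¹ = a := by
      intro a ha
      have := hW a ha
      rw [pow_two] at this
      exact inv_eq_of_mul_eq_one_left this
    have h1 := hinv _ (W.mul_mem a.2 b.2)
    rw [mul_inv_rev, hinv a.1 a.2, hinv b.1 b.2] at h1
    exact h1.symm
  obtain ⟨T, hVT⟩ := hVp.exists_le_sylow
  by_cases hall : ∀ t ∈ V, t ≠ 1 → ∃ g, g * x * g⁻¹ = t
  · have hTV : (T : Subgroup G) = V := by
      have hTp : IsPGroup 2 (T : Subgroup G) := T.isPGroup'
      have hTnt : Nontrivial (T : Subgroup G) :=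
        ⟨⟨⟨x, hVT hxV⟩, 1, fun h => hx1 (congrArg Subtype.val h)⟩⟩
      have hcen := hTp.center_nontrivial
      have h2dvd : 2 ∣ Nat.card (Subgroup.center (T : Subgroup G)) := by
        rcases (hTp.to_subgroup (Subgroup.center (T : Subgroup G))).card_eq_or_dvd with h | h
        · have := Finite.one_lt_card_iff_nontrivial.mpr hcen
          omega
        · exact h
      obtain ⟨z0, hz0⟩ := exists_prime_orderOf_dvd_card' 2 h2dvd
      have hz : orderOf (z0.1.1 : G) = 2 := by
        rw [Subgroup.orderOf_coe, Subgroup.orderOf_coe]; exact hz0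
      have hzc : ∀ g ∈ (T : Subgroup G), g * z0.1.1 = z0.1.1 * g := by
        intro g hg
        exact congrArg Subtype.val (Subgroup.mem_center_iff.mp z0.2 ⟨g, hg⟩)
      have hzV : z0.1.1 ∈ V := Subgroup.mem_centralizer_singleton_iff.mpr (hzc x (hVT hxV)).symm
      have hz1 : z0.1.1 ≠ 1 := by
        intro h; rw [h] at hz; simp at hz
      have h4 := (hP1 _ (hall _ hzV hz1)).1
      have hle : (T : Subgroup G) ≤ Subgroup.centralizer {z0.1.1} :=
        fun g hg => Subgroup.mem_centralizer_singleton_iff.mpr (hzc g hg)
      symm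
      apply Subgroup.eq_of_le_of_card_ge hVT
      calc Nat.card (T : Subgroup G) ≤ Nat.card (Subgroup.centralizer ({z0.1.1} : Set G)) :=
            Subgroup.card_le_of_le hle
        _ = 4 := h4
        _ = Nat.card V := hC4.symm
    have hinv : ∀ t, orderOf t = 2 → ∃ g, g * x * g⁻¹ = t := by
      intro t ht
      have htp : IsPGroup 2 (Subgroup.zpowers t) := by
        apply IsPGroup.of_card (n := 1)
        rw [Nat.card_zpowers, ht, pow_one]
      obtain ⟨Q, hQ⟩ := htp.exists_le_sylow
      obtain ⟨g, hg⟩ := MulAction.exists_smul_eq G Q T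
      have h1 : g * t * g⁻¹ ∈ (T : Subgroup G) := by
        rw [← hg, Cfsg.Agent.Lib.Helper21.mem_sylow_smul_iff]
        have : g⁻¹ * (g * t * g⁻¹) * g = t := by group
        rw [this]; exact hQ (Subgroup.mem_zpowers t)
      rw [hTV] at h1
      have h2 : g * t * g⁻¹ ≠ 1 := by
        intro h
        have : t = 1 := by
          calc t = g⁻¹ * (g * t * g⁻¹) * g := by group
            _ = 1 := by rw [h]; group
        rw [this] at ht; simp at ht
      obtain ⟨k, hk⟩ := hall _ h1 h2
      exact ⟨g⁻¹ * k, by
        calc g⁻¹ * k * x * (g⁻¹ * k)⁻¹ = g⁻¹ * (k * x * k⁻¹) * g := by group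
          _ = t := by rw [hk]; group⟩
    have hT4 : Nat.card T = 4 := by
      have : Nat.card (T : Subgroup G) = 4 := by rw [hTV]; exact hC4
      exact this
    have hT2 : ∀ t ∈ T, t ^ 2 = 1 := by
      intro t ht
      have : t ∈ (T : Subgroup G) := ht
      rw [hTV] at this
      exact hCe t this
    apply aux_A5 T hT4 hT2
    · intro hcyc
      obtain ⟨g, hg⟩ := IsCyclic.exists_generator (α := (T : Subgroup G))
      have h1 := orderOf_eq_card_of_forall_mem_zpowers hg
      have h2 : g ^ 2 = 1 := Subtype.ext (by simpa using hT2 g.1 g.2)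
      have h3 := orderOf_dvd_of_pow_eq_one h2
      have h4 : Nat.card (T : Subgroup G) = 4 := hT4
      rw [h1, h4] at h3
      omega
    · intro hn
      exact (hne T hn ⟨hcommOf _ hT2, hT2⟩).2 hT4
    · intro t ht
      have := hP1 t (hinv t ht)
      exact ⟨hcommOf _ this.2, this.2⟩
  · exfalso
    push Not at hall
    obtain ⟨z, hzV, hz1, hzx⟩ := hall
    have hzz : z * z = 1 := by rw [← pow_two]; exact hCe z hzV
    have hzne : z ≠ x := by rintro rfl; exact hzx 1 (by simp)
    have henum : ∀ c ∈ V, c = 1 ∨ c = x ∨ c = z ∨ c = x * z := by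
      have hF : (({1, x, z, x * z} : Finset G) : Set G) = (V : Set G) := by
        apply Set.eq_of_subset_of_ncard_le
        · intro c hc
          simp only [Finset.coe_insert, Finset.coe_singleton, Set.mem_insert_iff,
            Set.mem_singleton_iff] at hc
          rcases hc with rfl | rfl | rfl | rfl
          · exact V.one_mem
          · exact hxV
          · exact hzV
          · exact V.mul_mem hxV hzV
        · rw [Set.ncard_coe_finset, ← Nat.card_coe_set_eq]
          have h4 : Nat.card (V : Set G) = 4 := hC4
          rw [h4, Finset.card_insert_of_notMem, Finset.card_insert_of_notMem,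
            Finset.card_insert_of_notMem, Finset.card_singleton]
          · simp only [Finset.mem_singleton]
            intro h
            apply hx1
            have : 1 * z = x * z := by rw [one_mul]; exact h
            exact (mul_right_cancel this).symm
          · simp only [Finset.mem_insert, Finset.mem_singleton, not_or]
            refine ⟨fun h => hzne h.symm, fun h => hz1 ?_⟩
            have : x * 1 = x * z := by rw [mul_one]; exact h
            exact (mul_left_cancel this).symm
          · simp only [Finset.mem_insert, Finset.mem_singleton, not_or]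
            refine ⟨fun h => hx1 h.symm, fun h => hz1 h.symm, fun h => hzne ?_⟩
            have : x * x = x * z := by rw [hxx]; exact h
            exact (mul_left_cancel this).symm
        · exact Set.toFinite _
      intro c hc
      have : c ∈ (({1, x, z, x * z} : Finset G) : Set G) := by rw [hF]; exact hc
      simpa using this
    by_cases hxzc : ∃ g, g * x * g⁻¹ = x * z
    · obtain ⟨g0, hg0⟩ := hxzc
      have hcl1 : ∀ u : G, u * u = 1 → u ≠ 1 → (∀ g, g * x * g⁻¹ ≠ u) → u * z = z * u := by
        intro u huu hu1 hux
        by_cases hxu : u * x = x * u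
        · have huV : u ∈ V := Subgroup.mem_centralizer_singleton_iff.mpr hxu
          rcases henum u huV with h | h | h | h
          · exact absurd h hu1
          · exact absurd (by simp [h]) (hux 1)
          · rw [h]
          · exact absurd (hg0.trans h.symm) (hux g0)
        · rcases Nat.even_or_odd (orderOf (x * u)) with he | ho
          · obtain ⟨c, hc1, hcc, hcx, hcu⟩ :=
              Cfsg.Agent.Lib.Helper19.exists_central_invol_of_even hxx huu he
            have hcV : c ∈ V := Subgroup.mem_centralizer_singleton_iff.mpr hcx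
            rcases henum c hcV with h | h | h | h
            · exact absurd h hc1
            · exfalso; apply hxu; rw [h] at hcu; exact hcu.symm
            · rw [h] at hcu; exact hcu.symm
            · exfalso; apply hxu
              have h5 := hP2 (x * z) (V.mul_mem hxV hzV) ⟨g0, hg0⟩
              have h6 : u ∈ Subgroup.centralizer ({x * z} : Set G) :=
                Subgroup.mem_centralizer_singleton_iff.mpr (by rw [← h]; exact hcu.symm)
              rw [h5] at h6
              exact Subgroup.mem_centralizer_singleton_iff.mp h6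
          · obtain ⟨w, hww, hw1, -, -⟩ :=
              Cfsg.Agent.Lib.Helper19.exists_invol_swap_of_odd hxx huu ho
            exfalso; apply hux w; rw [Cfsg.Agent.Lib.Helper19.invol_inv hww]; exact hw1
      have hcl2 : ∀ (g u : G), u * u = 1 → u ≠ 1 → (∀ k, k * x * k⁻¹ ≠ u) →
          u * (g * z * g⁻¹) = (g * z * g⁻¹) * u := by
        intro g u huu hu1 hux
        have h1 := hcl1 (g⁻¹ * u * g)
          (by
            calc g⁻¹ * u * g * (g⁻¹ * u * g) = g⁻¹ * (u * u) * g := by group
              _ = 1 := by rw [huu]; group)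
          (by
            intro h
            apply hu1
            calc u = g * (g⁻¹ * u * g) * g⁻¹ := by group
              _ = 1 := by rw [h]; group)
          (by
            intro k hk
            apply hux (g * k)
            calc g * k * x * (g * k)⁻¹ = g * (k * x * k⁻¹) * g⁻¹ := by group
              _ = u := by rw [hk]; group)
        calc u * (g * z * g⁻¹) = g * ((g⁻¹ * u * g) * z) * g⁻¹ := by group
          _ = g * (z * (g⁻¹ * u * g)) * g⁻¹ := by rw [h1]
          _ = g * z * g⁻¹ * u := by group
      have hzconj : ∀ h : G, (h * z * h⁻¹) * (h * z * h⁻¹) = 1 ∧ h * z * h⁻¹ ≠ 1 ∧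
          ∀ k, k * x * k⁻¹ ≠ h * z * h⁻¹ := by
        intro h
        refine ⟨?_, ?_, ?_⟩
        · calc h * z * h⁻¹ * (h * z * h⁻¹) = h * (z * z) * h⁻¹ := by group
            _ = 1 := by rw [hzz]; group
        · intro h1
          apply hz1
          calc z = h⁻¹ * (h * z * h⁻¹) * h := by group
            _ = 1 := by rw [h1]; group
        · intro k hk
          apply hzx (h⁻¹ * k)
          calc h⁻¹ * k * x * (h⁻¹ * k)⁻¹ = h⁻¹ * (k * x * k⁻¹) * h := by group
            _ = z := by rw [hk]; group
      have hS : ∀ t ∈ Group.conjugatesOfSet ({z} : Set G), ∃ g, t = g * z * g⁻¹ := by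
        intro t ht
        rw [Group.mem_conjugatesOfSet_iff] at ht
        obtain ⟨a, ha, hc⟩ := ht
        rw [Set.mem_singleton_iff] at ha
        subst ha
        obtain ⟨c, hc⟩ := isConj_iff.mp hc
        exact ⟨c, hc.symm⟩
      set E := Subgroup.normalClosure ({z} : Set G) with hE
      have hEn : E.Normal := Subgroup.normalClosure_normal
      have hzE : z ∈ E := Subgroup.subset_normalClosure (Set.mem_singleton z)
      have hE1 : E ≤ Subgroup.centralizer (Group.conjugatesOfSet ({z} : Set G)) := by
        rw [hE, Subgroup.normalClosure, Subgroup.closure_le]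
        intro t ht
        rw [SetLike.mem_coe, Subgroup.mem_centralizer_iff]
        intro t' ht'
        obtain ⟨g, rfl⟩ := hS t ht
        obtain ⟨g', rfl⟩ := hS t' ht'
        obtain ⟨a1, a2, a3⟩ := hzconj g'
        exact hcl2 g _ a1 a2 a3
      have hEcomm : ∀ a ∈ E, ∀ b ∈ E, a * b = b * a := by
        have h2 : E ≤ Subgroup.centralizer (E : Set G) := by
          conv_lhs => rw [hE, Subgroup.normalClosure]
          rw [Subgroup.closure_le]
          intro t ht
          rw [SetLike.mem_coe, Subgroup.mem_centralizer_iff]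
          intro e he
          exact (Subgroup.mem_centralizer_iff.mp (hE1 he) t ht).symm
        intro a ha b hb
        exact Subgroup.mem_centralizer_iff.mp (h2 hb) a ha
      have hE2 : ∀ e ∈ E, e ^ 2 = 1 := by
        intro e he
        have he' : e ∈ Subgroup.closure (Group.conjugatesOfSet ({z} : Set G)) := he
        induction he' using Subgroup.closure_induction with
        | mem t ht =>
          obtain ⟨g, rfl⟩ := hS t ht
          rw [pow_two]; exact (hzconj g).1
        | one => simp
        | mul a b ha hb iha ihb =>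
          have h1 := hEcomm a ha b hb
          have ha2 := iha ha
          have hb2 := ihb hb
          rw [pow_two] at ha2 hb2 ⊢
          calc a * b * (a * b) = a * (b * a) * b := by group
            _ = (a * a) * (b * b) := by rw [← h1]; group
            _ = 1 := by rw [ha2, hb2, one_mul]
        | inv a ha iha =>
          rw [inv_pow, iha ha, inv_one]
      have hEinv : ∀ a ∈ E, a⁻¹ = a := by
        intro a ha
        have := hE2 a ha
        rw [pow_two] at this
        exact inv_eq_of_mul_eq_one_left this
      have hE4 : Nat.card E ≤ 4 := by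
        by_cases hxE : x ∈ E
        · rw [← hC4]
          apply Subgroup.card_le_of_le
          intro e he
          exact Subgroup.mem_centralizer_singleton_iff.mpr (hEcomm e he x hxE)
        · have h1 := Cfsg.Agent.Lib.Helper21.card_conjOrbit_mul E x
          have h2 : (Cfsg.Agent.Lib.Helper21.conjOrbit E x).card ≤ 2 := by
            have hsub : Cfsg.Agent.Lib.Helper21.conjOrbit E x ⊆ {x, x * z} := by
              intro t ht
              obtain ⟨e, he, rfl⟩ := (Cfsg.Agent.Lib.Helper21.mem_conjOrbit E x t).mp ht
              have he' : x * e * x⁻¹ ∈ E := hEn.conj_mem e he x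
              have hxinv : x⁻¹ = x := inv_eq_of_mul_eq_one_left hxx
              have htV : e * x * e⁻¹ ∈ V := by
                rw [hV, Subgroup.mem_centralizer_singleton_iff, hEinv e he]
                have h3 := hEcomm e he _ he'
                rw [hxinv] at h3
                calc e * x * e * x = e * (x * e * x) := by group
                  _ = x * e * x * e := h3
                  _ = x * (e * x * e) := by group
              simp only [Finset.mem_insert, Finset.mem_singleton]
              rcases henum _ htV with h | h | h | h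
              · exfalso
                apply hx1
                calc x = e⁻¹ * (e * x * e⁻¹) * e := by group
                  _ = 1 := by rw [h]; group
              · exact Or.inl h
              · exact absurd h (hzx e)
              · exact Or.inr h
            exact le_trans (Finset.card_le_card hsub) Finset.card_le_two
          have h3 : Nat.card ↥(E ⊓ Subgroup.centralizer {x}) ≤ 2 := by
            have h4 : Nat.card ↥(E ⊓ Subgroup.centralizer {x}) ∣ 4 := by
              rw [← hC4]; exact Subgroup.card_dvd_of_le inf_le_right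
            have h5 : Nat.card ↥(E ⊓ Subgroup.centralizer {x}) ≠ 4 := by
              intro h6
              apply hxE
              have : E ⊓ Subgroup.centralizer {x} = V :=
                Subgroup.eq_of_le_of_card_ge inf_le_right (by rw [h6, hC4])
              have h7 : x ∈ E ⊓ Subgroup.centralizer {x} := by rw [this]; exact hxV
              exact h7.1
            have h6 := Nat.le_of_dvd (by norm_num) h4
            generalize Nat.card ↥(E ⊓ Subgroup.centralizer {x}) = k at h4 h5 h6
            interval_cases k <;> omega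
          rw [← h1]
          calc _ ≤ 2 * 2 := Nat.mul_le_mul h2 h3
            _ = 4 := by norm_num
      have hEp : IsPGroup 2 E := Cfsg.Agent.Lib.Helper21.isPGroup_two_of_exp_two E hE2
      obtain ⟨k, hk⟩ := (IsPGroup.iff_card).mp hEp
      have hEne := hne E hEn ⟨hcommOf E hE2, hE2⟩
      have hE1' : Nat.card E ≠ 1 := by
        intro h
        rw [Subgroup.card_eq_one] at h
        apply hz1
        rw [h, Subgroup.mem_bot] at hzE
        exact hzE
      rw [hk] at hE4 hEne hE1'
      have hk2 : k ≤ 2 := by
        by_contra h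
        push Not at h
        have : 2 ^ 3 ≤ 2 ^ k := Nat.pow_le_pow_right (by norm_num) h
        omega
      interval_cases k <;> simp at hEne hE1'
    · have hNV : Subgroup.normalizer (V : Set G) ≤ V := by
        intro g hg
        have h1 : g * x * g⁻¹ ∈ V := (Subgroup.mem_normalizer_iff.mp hg x).mp hxV
        rcases henum _ h1 with h | h | h | h
        · exfalso
          apply hx1
          calc x = g⁻¹ * (g * x * g⁻¹) * g := by group
            _ = 1 := by rw [h]; group
        · rw [hV, Subgroup.mem_centralizer_singleton_iff]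
          calc g * x = (g * x * g⁻¹) * g := by group
            _ = x * g := by rw [h]
        · exact absurd h (hzx g)
        · exact absurd ⟨g, h⟩ hxzc
      have hTV : (T : Subgroup G) = V := by
        by_contra hne'
        have hlt : V < T := lt_of_le_of_ne hVT (Ne.symm hne')
        have := Cfsg.Agent.Lib.Helper21.lt_inf_normalizer_of_isPGroup T.isPGroup' hlt
        exact absurd (le_trans inf_le_right hNV) (not_le_of_gt this)
      apply hnc
      have hP : Subgroup.normalizer ((T : Subgroup G) : Set G) ≤
          Subgroup.centralizer ((T : Subgroup G) : Set G) := by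
        rw [hTV]
        intro g hg
        have := hNV hg
        rw [Subgroup.mem_centralizer_iff]
        intro h hh
        exact hVcomm h hh g this
      exact ⟨T, (MonoidHom.transferSylow T hP).ker, inferInstance,
        MonoidHom.ker_transferSylow_isComplement' T hP⟩

end Cfsg.Agent.S3277
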