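import Cfsg.Statements.S0862
import Cfsg.Agent.Lib.Helper81.Det
import Cfsg.Agent.Lib.Helper15.Gallagher

set_option autoImplicit false
open Cfsg

namespace Cfsg.Agent.S0862

open Cfsg.Agent.Lib.Helper81 Cfsg.Agent.Lib.Helper15

/-- a homomorphism to `ℂˣ` trivial on `N` has order dividing the index -/
theorem hom_pow_index {G : Type*} [Group G] [Finite G] (N : Subgroup G) [N.Normal]
    (γ : G →* ℂˣ) (hγ : ∀ n : N, γ n = 1) (g : G) : γ g ^ N.index = 1 := by
  have h1 : g ^ N.index ∈ N := Subgroup.pow_index_mem N g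
  have h2 := hγ ⟨_, h1⟩
  simpa only [map_pow] using h2

theorem hom_eq_one {G : Type*} [Group G] [Finite G] (N : Subgroup G) [N.Normal]
    (γ : G →* ℂˣ) (hγ : ∀ n : N, γ n = 1) (d : ℕ) (hcop : Nat.Coprime N.index d)
    (hd : ∀ g, γ g ^ d = 1) (g : G) : γ g = 1 := by
  have h1 := orderOf_dvd_of_pow_eq_one (hom_pow_index N γ hγ g)
  have h2 := orderOf_dvd_of_pow_eq_one (hd g)
  have h3 := Nat.dvd_gcd h1 h2
  rw [hcop] at h3
  exact orderOf_eq_one_iff.1 (Nat.dvd_one.1 h3)

theorem exists_root {G : Type*} [Group G] [Finite G] (N : Subgroup G) [N.Normal]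
    (δ : G →* ℂˣ) (hδ : ∀ n : N, δ n = 1) (d : ℕ) (hcop : Nat.Coprime N.index d) :
    ∃ β : G →* ℂˣ, (∀ n : N, β n = 1) ∧ ∀ g, β g ^ d = δ g := by
  refine ⟨(zpowGroupHom (Nat.gcdB N.index d)).comp δ, fun n => ?_, fun g => ?_⟩
  · simp [hδ n]
  · have h1 := Nat.gcd_eq_gcd_ab N.index d
    rw [hcop] at h1
    have h2 : δ g ^ ((N.index : ℤ) * Nat.gcdA N.index d) = 1 := by
      rw [zpow_mul, zpow_natCast, hom_pow_index N δ hδ, one_zpow]
    simp only [MonoidHom.comp_apply, zpowGroupHom_apply]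
    calc (δ g ^ (Nat.gcdB N.index d)) ^ d = δ g ^ ((d : ℤ) * Nat.gcdB N.index d) := by
          rw [mul_comm, zpow_mul, zpow_natCast]
      _ = δ g ^ ((N.index : ℤ) * Nat.gcdA N.index d) * δ g ^ ((d : ℤ) * Nat.gcdB N.index d) := by
          rw [h2, one_mul]
      _ = δ g ^ (1 : ℤ) := by rw [← zpow_add, ← h1]; norm_num
      _ = δ g := zpow_one _

/-- Let N be a normal subgroup of the finite group G and ϑ an irreducible character of N of degree d coprime to the index of N, which is the restriction of some irreducible character of G. Let μ be a character of G of degree 1 whose restriction to N is the determinantal character of ϑ. Then there is exactly one irreducible character χ of G restricting to ϑ whose determinantal character is μ. -/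
theorem result {G : Type*} [Group G] [Finite G] (N : Subgroup G) [N.Normal] (ϑ : N → ℂ) (hϑ : Cfsg.IsIrrCharacter N ϑ) (d : ℕ) (hd : ϑ 1 = d) (hcop : Nat.Coprime N.index d) (hext : ∃ η : G → ℂ, Cfsg.IsIrrCharacter G η ∧ (∀ n : N, η n = ϑ n)) (μ : G → ℂ) (hμ : Cfsg.IsCharacter G μ ∧ μ 1 = 1) (hμN : ∀ n : N, μ n = Cfsg.detChar ϑ n) : ∃! χ : G → ℂ, Cfsg.IsIrrCharacter G χ ∧ (∀ n : N, χ n = ϑ n) ∧ Cfsg.detChar χ = μ := by
  classical
  have := Fintype.ofFinite G
  obtain ⟨η, hη, hηN⟩ := hext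
  have hηres : (fun n : N => η n) = ϑ := funext hηN
  have hη1 : η 1 = d := by rw [← hd, ← hηN 1]; rfl
  obtain ⟨f, rfl⟩ := exists_toFn hμ.1 hμ.2
  obtain ⟨e₀, he₀⟩ := exists_detHom (irr_char hη)
  have hfe : ∀ n : N, f n = e₀ n := by
    intro n
    apply Units.ext
    have h1 := hμN n
    rw [← hηres, detChar_restrict N (irr_char hη), he₀] at h1
    exact h1
  -- general description of the extensions
  have hdet : ∀ (b : G →* ℂˣ) (g : G), detChar (toFn b * η) g = ((b g ^ d * e₀ g : ℂˣ) : ℂ) := by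
    intro b g
    rw [detChar_mul_linear b (irr_char hη) d hη1, he₀]
    simp [toFn_apply]
  obtain ⟨β, hβN, hβd⟩ := exists_root N (f * e₀⁻¹) (fun n => by simp [hfe n]) d hcop
  refine ⟨toFn β * η, ⟨irr_linear_mul (char_toFn β) (toFn_one' β) hη, fun n => ?_, ?_⟩, ?_⟩
  · rw [Pi.mul_apply, toFn_apply, hβN n, hηN]; simp
  · funext g
    rw [hdet, hβd]; simp [toFn_apply]
  · rintro χ' ⟨hχ', hχ'N, hχ'det⟩
    have hηNirr : IsIrrCharacter N (fun n : N => η n) := by rw [hηres]; exact hϑ
    have hgal := gallagher N hη hηNirr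
    have hmem : χ' ∈ {ψ | IsIrrCharacter G ψ ∧
        classInner (fun n : N => ψ n) (fun n : N => η n) ≠ 0} := by
      refine ⟨hχ', ?_⟩
      have : (fun n : N => χ' n) = fun n : N => η n := by rw [hηres]; exact funext hχ'N
      rw [this, irr_inner_self hηNirr]
      exact one_ne_zero
    obtain ⟨b', ⟨hb'irr, hb'N⟩, hb'⟩ := hgal.surjOn hmem
    simp only at hb'
    have hd0 : (d : ℂ) ≠ 0 := by rw [← hd]; exact irr_one_ne_zero hϑ
    have hb'1 : b' 1 = 1 := by
      have h1 := congrFun hb' 1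
      rw [Pi.mul_apply, hη1] at h1
      have h2 : χ' 1 = d := by rw [← hd, ← hχ'N 1]; rfl
      rw [h2] at h1
      exact mul_right_cancel₀ hd0 (by rw [h1, one_mul])
    obtain ⟨b, rfl⟩ := exists_toFn (irr_char hb'irr) hb'1
    have hbN : ∀ n : N, b n = 1 := by
      intro n
      apply Units.ext
      have := (restrict_eq_of_inner_one_ne_zero N hb'irr hb'N).2 n
      rw [hb'1] at this
      exact this
    have h3 : ∀ g, b g ^ d * e₀ g = f g := by
      intro g
      apply Units.ext
      rw [← hdet, hb', hχ'det]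
      rfl
    have h5 := hom_eq_one N (b * β⁻¹) (fun n => by simp [hbN n, hβN n]) d hcop (fun g => by
      simp only [MonoidHom.mul_apply, MonoidHom.inv_apply, mul_pow, inv_pow, hβd, ← h3]
      simp)
    have h6 : b = β := by
      ext g
      have := h5 g
      simp only [MonoidHom.mul_apply, MonoidHom.inv_apply] at this
      rw [mul_inv_eq_one.1 this]
    rw [← hb', h6]

end Cfsg.Agent.S0862
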