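import Cfsg.Statements.S0865
import Cfsg.Agent.Lib.Helper15.LinearHom

set_option autoImplicit false
open Cfsg

namespace Cfsg.Agent.S0865

open Cfsg.Agent.Lib Cfsg.Agent.Lib.Helper15

theorem pow_index_eq_one {G : Type*} [Group G] (N : Subgroup G) [hN : N.Normal]
    (δ : G →* ℂˣ) (h : ∀ n : N, δ n = 1) : δ ^ N.index = 1 := by
  ext g
  rw [MonoidHom.pow_apply, ← map_pow]
  have := h ⟨g ^ N.index, N.pow_index_mem g⟩
  simp only at this
  rw [this]
  simp

theorem aux1 {A : Type*} [CommGroup A] (τ : A) (b m k : ℕ) (h : (τ ^ k) ^ m = 1) :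
    ((τ ^ b) ^ (m * b)) ^ k = 1 := by
  have : ((τ ^ b) ^ (m * b)) ^ k = ((τ ^ k) ^ m) ^ (b * b) := by
    rw [← pow_mul, ← pow_mul, ← pow_mul, ← pow_mul]
    congr 1
    ring
  rw [this, h, one_pow]

theorem aux2 {A : Type*} [CommGroup A] (a c : A) (k : ℕ) (h : c ^ k = 1) :
    (a * c⁻¹) ^ (orderOf a * k) = 1 := by
  rw [mul_pow, pow_mul, pow_orderOf_eq_one, one_pow, one_mul, inv_pow, mul_comm, pow_mul, h,
    one_pow, inv_one]

/-- Let N be a normal subgroup of the finite group G and λ a character of N of degree 1, invariant under conjugation by G, whose order (under pointwise multiplication) is coprime to the index of N. Then there is a character μ of G of degree 1 restricting to λ with the same order as λ, and μ is the only degree-1 character of G restricting to λ whose order is coprime to the index of N. -/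
theorem result {G : Type*} [Group G] [Finite G] (N : Subgroup G) [hN : N.Normal] (lam : N → ℂ) (hlam : Cfsg.IsCharacter N lam ∧ lam 1 = 1) (hinv : ∀ (g : G) (n : N), lam ⟨g * n * g⁻¹, hN.conj_mem (n : G) n.2 g⟩ = lam n) (hcop : Nat.Coprime N.index (orderOf lam)) : ∃ μ : G → ℂ, (Cfsg.IsCharacter G μ ∧ μ 1 = 1 ∧ (∀ n : N, μ n = lam n) ∧ orderOf μ = orderOf lam) ∧ ∀ μ' : G → ℂ, Cfsg.IsCharacter G μ' ∧ μ' 1 = 1 → (∀ n : N, μ' n = lam n) → Nat.Coprime N.index (orderOf μ') → μ' = μ := by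
  obtain ⟨f, rfl⟩ := exists_toFn hlam.1 hlam.2
  have hinv' : ∀ (g : G) (n : N), f ⟨g * n * g⁻¹, hN.conj_mem (n : G) n.2 g⟩ = f n := by
    intro g n
    exact Units.ext (hinv g n)
  rw [orderOf_toFn] at hcop
  obtain ⟨b, hb⟩ := exists_pow_eq_self_of_coprime hcop
  set m := N.index with hm
  set k := orderOf f with hk
  let τ : G →* ℂˣ := MonoidHom.transfer f
  have hτ : ∀ n : N, τ n = f n ^ m :=
    fun n => transfer_restrict N le_rfl f f (fun n => rfl) hinv' n
  have hτk : (τ ^ k) ^ m = 1 := by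
    apply pow_index_eq_one
    intro n
    rw [MonoidHom.pow_apply, hτ, ← pow_mul, mul_comm, pow_mul, ← MonoidHom.pow_apply,
      pow_orderOf_eq_one]
    simp
  let μ : G →* ℂˣ := (τ ^ b) ^ (m * b)
  have hμ : ∀ n : N, μ n = f n := by
    intro n
    have e1 : ∀ n : N, (τ ^ b) n = f n := by
      intro n
      rw [MonoidHom.pow_apply, hτ, ← MonoidHom.pow_apply, ← MonoidHom.pow_apply, hb]
    change ((τ ^ b) ^ (m * b)) n = f n
    rw [MonoidHom.pow_apply, e1, pow_mul, ← MonoidHom.pow_apply, ← MonoidHom.pow_apply, hb]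
  have hμk : μ ^ k = 1 := aux1 τ b m k hτk
  have hord : orderOf μ = k := by
    apply Nat.dvd_antisymm (orderOf_dvd_of_pow_eq_one hμk)
    apply orderOf_dvd_of_pow_eq_one
    ext n
    rw [MonoidHom.pow_apply, ← hμ, ← MonoidHom.pow_apply, pow_orderOf_eq_one]
    simp
  refine ⟨toFn μ, ⟨char_toFn μ, toFn_one' μ, fun n => ?_, ?_⟩, ?_⟩
  · rw [toFn_apply, toFn_apply, hμ]
  · rw [orderOf_toFn, orderOf_toFn, hord]
  · intro μ' hμ' hres hc
    obtain ⟨μ'', rfl⟩ := exists_toFn hμ'.1 hμ'.2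
    rw [orderOf_toFn] at hc
    congr 1
    have hδ : (μ'' * μ⁻¹) ^ m = 1 := by
      apply pow_index_eq_one
      intro n
      rw [MonoidHom.mul_apply, MonoidHom.inv_apply, hμ]
      have : μ'' n = f n := Units.ext (hres n)
      rw [this, mul_inv_cancel]
    have hδ2 : (μ'' * μ⁻¹) ^ (orderOf μ'' * k) = 1 := aux2 μ'' μ k hμk
    have hc2 : Nat.Coprime m (orderOf μ'' * k) := Nat.Coprime.mul_right hc hcop
    have h1 : orderOf (μ'' * μ⁻¹) ∣ 1 := by
      rw [← hc2]
      exact Nat.dvd_gcd (orderOf_dvd_of_pow_eq_one hδ) (orderOf_dvd_of_pow_eq_one hδ2)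
    have h2 : μ'' * μ⁻¹ = 1 := orderOf_eq_one_iff.1 (Nat.dvd_one.1 h1)
    exact mul_inv_eq_one.1 h2

end Cfsg.Agent.S0865
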