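import Cfsg.Statements.S0866
import Cfsg.Agent.Lib.Helper81.CoverChar
import Cfsg.Agent.S0865

set_option autoImplicit false
open Cfsg

namespace Cfsg.Agent.S0866

open Cfsg.Agent.Lib.Helper81 Cfsg.Agent.Lib.Helper15

/-- Let N be a normal subgroup of the finite group G and ϑ an irreducible character of N, invariant under conjugation by G, of degree d coprime to the index of N. Then ϑ is the restriction of an irreducible character of G if and only if the determinantal character of ϑ is the restriction of a character of G of degree 1. -/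
theorem result {G : Type*} [Group G] [Finite G] (N : Subgroup G) [hN : N.Normal] (ϑ : N → ℂ) (hϑ : Cfsg.IsIrrCharacter N ϑ) (hinv : ∀ (g : G) (n : N), ϑ ⟨g * n * g⁻¹, hN.conj_mem (n : G) n.2 g⟩ = ϑ n) (d : ℕ) (hd : ϑ 1 = d) (hcop : Nat.Coprime N.index d) : (∃ χ : G → ℂ, Cfsg.IsIrrCharacter G χ ∧ (∀ n : N, χ n = ϑ n)) ↔ ∃ μ : G → ℂ, Cfsg.IsCharacter G μ ∧ μ 1 = 1 ∧ ∀ n : N, μ n = Cfsg.detChar ϑ n := by
  constructor
  · rintro ⟨χ, hχ, hχN⟩
    obtain ⟨h1, h2⟩ := detChar_isCharacter (irr_char hχ)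
    refine ⟨detChar χ, h1, h2, fun n => ?_⟩
    rw [← detChar_restrict N (irr_char hχ)]
    congr 1
    exact funext hχN
  · rintro ⟨μ, hμ, hμ1, hμN⟩
    obtain ⟨f, rfl⟩ := exists_toFn hμ hμ1
    obtain ⟨Γ, _, _, π, κ, hsurj, hκinv, hκpow, hext, -⟩ := cover_criterion N ϑ hϑ hinv 1 one_pos f
      (fun n => by rw [pow_one, ← hμN n]; rfl) d hd
    apply hext
    have hord : orderOf (toFn κ) ∣ d := by
      apply orderOf_dvd_of_pow_eq_one
      funext x
      have := hκpow x
      rw [mul_one] at this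
      simp only [Pi.pow_apply, toFn_apply, Pi.one_apply]
      rw [← Units.val_pow_eq_pow_val, this, Units.val_one]
    obtain ⟨μ', ⟨hμ'1, hμ'2, hμ'3, -⟩, -⟩ := Cfsg.Agent.S0865.result (N.comap π) (toFn κ)
      ⟨char_toFn κ, toFn_one' κ⟩ (fun g n => by
        rw [toFn_apply, toFn_apply, hκinv g n _ rfl]) (by
        rw [Subgroup.index_comap_of_surjective N hsurj]
        exact Nat.Coprime.coprime_dvd_right hord hcop)
    obtain ⟨l, rfl⟩ := exists_toFn hμ'1 hμ'2
    exact ⟨l, fun x => Units.ext (hμ'3 x)⟩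

end Cfsg.Agent.S0866
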