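import Cfsg.Statements.S0188
import Cfsg.Agent.Lib.Helper81.Count
import Cfsg.Agent.Lib.Helper3.Table

set_option autoImplicit false
open Cfsg

namespace Cfsg.Agent.S0188

open Cfsg.Agent.Lib.Helper74 Cfsg.Agent.Lib.Helper81
open scoped ComplexConjugate

variable {G : Type*} [Group G] {H : Type*} [Group H]

theorem classInner_prod [Fintype G] [Fintype H] (f₁ g₁ : G → ℂ) (f₂ g₂ : H → ℂ) :
    Cfsg.classInner (fun x : G × H => f₁ x.1 * f₂ x.2) (fun x : G × H => g₁ x.1 * g₂ x.2) =
      Cfsg.classInner f₁ g₁ * Cfsg.classInner f₂ g₂ := by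
  unfold Cfsg.classInner
  rw [Fintype.sum_prod_type, Nat.card_prod]
  have : ∀ x : G, ∑ y : H, f₁ x * f₂ y * conj (g₁ x * g₂ y)
      = (f₁ x * conj (g₁ x)) * ∑ y : H, f₂ y * conj (g₂ y) := by
    intro x
    rw [Finset.mul_sum]
    refine Finset.sum_congr rfl fun y _ => ?_
    rw [map_mul]; ring
  simp only [this]
  rw [← Finset.sum_mul]
  push_cast
  rw [mul_inv]
  ring

theorem irr_prod [Finite G] [Finite H] {φ : G → ℂ} {ψ : H → ℂ} (hφ : Cfsg.IsIrrCharacter G φ)
    (hψ : Cfsg.IsIrrCharacter H ψ) : Cfsg.IsIrrCharacter (G × H) (fun x => φ x.1 * ψ x.2) := by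
  have := Fintype.ofFinite G
  have := Fintype.ofFinite H
  rw [Cfsg.Agent.Lib.Helper3.isIrrCharacter_iff]
  refine ⟨IsCharacter.mul (IsCharacter.comp (IsIrrCharacter.isCharacter hφ) (MonoidHom.fst G H))
    (IsCharacter.comp (IsIrrCharacter.isCharacter hψ) (MonoidHom.snd G H)), ?_⟩
  rw [classInner_prod, classInner_irr_self ⟨φ, hφ⟩, classInner_irr_self ⟨ψ, hψ⟩, one_mul]

/-- The irreducible complex characters of G × H are precisely the functions (g, h) ↦ φ g * ψ h with φ, ψ irreducible characters of G and H. -/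
theorem result {G : Type*} [Group G] [Finite G] {H : Type*} [Group H] [Finite H] (θ : G × H → ℂ) : Cfsg.IsIrrCharacter (G × H) θ ↔ ∃ (φ : G → ℂ) (ψ : H → ℂ), Cfsg.IsIrrCharacter G φ ∧ Cfsg.IsIrrCharacter H ψ ∧ θ = fun x => φ x.1 * ψ x.2 := by
  have := Fintype.ofFinite G
  have := Fintype.ofFinite H
  constructor
  · intro hθ
    by_contra hcon
    push Not at hcon
    have hcf := IsCharacter.isClassFunction (IsIrrCharacter.isCharacter hθ)
    have horth : ∀ (φ : Cfsg.IrrCharacter G) (ψ : Cfsg.IrrCharacter H),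
        Cfsg.classInner θ (fun x : G × H => (φ : G → ℂ) x.1 * (ψ : H → ℂ) x.2) = 0 := by
      intro φ ψ
      exact classInner_irr_ne (χ := ⟨θ, hθ⟩) (ψ := ⟨_, irr_prod φ.2 ψ.2⟩)
        (fun h => hcon φ ψ φ.2 ψ.2 (congrArg Subtype.val h))
    apply IsIrrCharacter.one_ne_zero hθ
    -- expansion in the first variable
    have hcf1 : ∀ h : H, Cfsg.IsClassFunction G (fun g => θ (g, h)) := by
      intro h g x
      have := hcf (g, h) (x, 1)
      simpa using this
    have hc : ∀ (φ : Cfsg.IrrCharacter G) (h : H),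
        Cfsg.classInner (fun g => θ (g, h)) (φ : G → ℂ) = 0 := by
      intro φ h
      have hcf2 : Cfsg.IsClassFunction H
          (fun h => Cfsg.classInner (fun g => θ (g, h)) (φ : G → ℂ)) := by
        intro h y
        simp only [Cfsg.classInner]
        congr 1
        refine Finset.sum_congr rfl fun g _ => ?_
        have := hcf (g, h) (1, y)
        simp only [Prod.mk_mul_mk, one_mul, Prod.inv_mk, inv_one, mul_one] at this
        rw [this]
      rw [class_expansion_apply _ hcf2 h]
      refine Finset.sum_eq_zero fun ψ _ => ?_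
      have h0 := horth φ ψ
      have : Cfsg.classInner (fun h => Cfsg.classInner (fun g => θ (g, h)) (φ : G → ℂ))
          (ψ : H → ℂ) = Cfsg.classInner θ (fun x : G × H => (φ : G → ℂ) x.1 * (ψ : H → ℂ) x.2) := by
        unfold Cfsg.classInner
        rw [Fintype.sum_prod_type, Nat.card_prod, Finset.sum_comm]
        simp only [Finset.mul_sum, Finset.sum_mul]
        refine Finset.sum_congr rfl fun h _ => ?_
        refine Finset.sum_congr rfl fun g _ => ?_
        rw [map_mul]
        push_cast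
        rw [mul_inv]
        ring
      rw [this, h0, zero_mul]
    have := class_expansion_apply _ (hcf1 1) 1
    simp only [hc, zero_mul, Finset.sum_const_zero] at this
    exact this
  · rintro ⟨φ, ψ, hφ, hψ, rfl⟩
    exact irr_prod hφ hψ

end Cfsg.Agent.S0188
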