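import Cfsg.Statements.S0868
import Cfsg.Agent.Lib.Helper15.Gallagher

set_option autoImplicit false
open scoped ComplexConjugate
open Cfsg Cfsg.Agent.Lib.Helper15

namespace Cfsg.Agent.S0868

variable {G : Type*} [Group G] [Fintype G] (N : Subgroup G) [N.Normal] [Fintype N]

theorem eta_expansion [Fintype (IrrCharacter G)] (χ : G → ℂ) (hχ : IsIrrCharacter G χ)
    (ψ : G → ℂ) (hψ : IsIrrCharacter G ψ) :
    (fun g => (Nat.card N : ℂ)⁻¹ * ∑ n : N, ψ ((n : G) * g) * conj (χ ((n : G) * g)))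
      = ∑ β : IrrCharacter G, (classInner ψ ((β : G → ℂ) * χ) *
          (if classInner (fun n : N => (β : G → ℂ) n) (fun _ => 1) = 0 then 0 else 1)) •
            (β : G → ℂ) := by
  have hF : IsCharacter G (ψ * fun g => conj (χ g)) :=
    Cfsg.Agent.Lib.Helper3.IsCharacter.mul (irr_char hψ)
      (Cfsg.Agent.Lib.Helper3.IsCharacter.conj (irr_char hχ))
  have hexp := cf_expansion (char_cf hF)
  have hcoef : ∀ β : G → ℂ, classInner (ψ * fun g => conj (χ g)) β = classInner ψ (β * χ) := by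
    intro β
    unfold classInner
    congr 1
    apply Finset.sum_congr rfl
    intro g _
    simp only [Pi.mul_apply, map_mul]
    ring
  funext g
  have h1 : ∀ n : N, ψ ((n : G) * g) * conj (χ ((n : G) * g))
      = ∑ β : IrrCharacter G, classInner ψ ((β : G → ℂ) * χ) * (β : G → ℂ) ((n : G) * g) := by
    intro n
    have := congrFun hexp ((n : G) * g)
    simp only [Pi.mul_apply, Finset.sum_apply, Pi.smul_apply, smul_eq_mul, hcoef] at this
    exact this
  simp_rw [h1]
  rw [Finset.sum_comm, Finset.mul_sum, Finset.sum_apply]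
  apply Finset.sum_congr rfl
  intro β _
  rw [← Finset.mul_sum, mul_left_comm, avg_irr N β.2 g]
  simp only [Pi.smul_apply, smul_eq_mul]
  split_ifs <;> ring

theorem eta_eq (χ : G → ℂ) (hχ : IsIrrCharacter G χ)
    (hχN : IsIrrCharacter N (fun n : N => χ n)) (β₀ : G → ℂ) (hβ₀ : IsIrrCharacter G β₀)
    (h0 : classInner (fun n : N => β₀ n) (fun _ => 1) ≠ 0) :
    (fun g => (Nat.card N : ℂ)⁻¹ * ∑ n : N, (β₀ * χ) ((n : G) * g) * conj (χ ((n : G) * g)))
      = β₀ := by
  classical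
  have := Fintype.ofFinite (IrrCharacter G)
  have hgal := gallagher N hχ hχN
  have hψ : IsIrrCharacter G (β₀ * χ) := (hgal.1 ⟨hβ₀, h0⟩).1
  rw [eta_expansion N χ hχ _ hψ, Finset.sum_eq_single (⟨β₀, hβ₀⟩ : IrrCharacter G)]
  · simp only [if_neg h0, mul_one]
    rw [irr_inner_self hψ, one_smul]
  · intro β _ hne
    split_ifs with h
    · simp
    · have hβ : IsIrrCharacter G ((β : G → ℂ) * χ) := (hgal.1 ⟨β.2, h⟩).1
      have hne' : β₀ * χ ≠ (β : G → ℂ) * χ := by
        intro heq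
        apply hne
        apply Subtype.ext
        exact (hgal.2.1 ⟨hβ₀, h0⟩ ⟨β.2, h⟩ heq).symm
      rw [irr_inner_ne hψ hβ hne']
      simp
  · intro h; exact absurd (Finset.mem_univ _) h

theorem result {G : Type*} [Group G] [Fintype G] (N : Subgroup G) [N.Normal] [Fintype N] (χ : G → ℂ) (hχ : Cfsg.IsIrrCharacter G χ) (hχN : Cfsg.IsIrrCharacter N (fun n : N => χ n)) (ψ : G → ℂ) (hψ : Cfsg.IsIrrCharacter G ψ) (η : G → ℂ) (hη : η = fun g => (Nat.card N : ℂ)⁻¹ * ∑ n : N, ψ ((n : G) * g) * conj (χ ((n : G) * g))) : (Cfsg.classInner (fun n : N => ψ n) (fun n : N => χ n) ≠ 0 → Cfsg.IsIrrCharacter G η) ∧ (Cfsg.classInner (fun n : N => ψ n) (fun n : N => χ n) = 0 → η = 0) ∧ (ψ = χ → η = fun _ => 1) := by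
  classical
  have := Fintype.ofFinite (IrrCharacter G)
  have hgal := gallagher N hχ hχN
  refine ⟨?_, ?_, ?_⟩
  · intro h
    obtain ⟨β₀, ⟨hβ₀, h0⟩, rfl⟩ := hgal.2.2 ⟨hψ, h⟩
    rw [hη]
    simp only []
    rw [eta_eq N χ hχ hχN β₀ hβ₀ h0]
    exact hβ₀
  · intro h
    rw [hη, eta_expansion N χ hχ ψ hψ]
    apply Finset.sum_eq_zero
    intro β _
    split_ifs with h1
    · simp
    · have hβ := hgal.1 ⟨β.2, h1⟩
      have hne : ψ ≠ (β : G → ℂ) * χ := by
        intro heq
        apply hβ.2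
        simp only []
        rw [← heq]
        exact h
      rw [irr_inner_ne hψ hβ.1 hne]
      simp
  · intro h
    have h1 : classInner (fun _ : N => (1 : ℂ)) (fun _ => 1) ≠ 0 := by
      rw [irr_inner_self irr_one]; exact one_ne_zero
    have := eta_eq N χ hχ hχN (fun _ => 1) irr_one h1
    rw [hη, h, ← this]
    funext g
    simp

end Cfsg.Agent.S0868
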