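import Cfsg.Statements.S0886
import Cfsg.Agent.S0153
import Cfsg.Agent.Lib.Helper74.CharMore
import Cfsg.Agent.Lib.Helper74.Extend
import Cfsg.Agent.Lib.Helper81.Schur

set_option autoImplicit false
open Cfsg

namespace Cfsg.Agent.S0886

open Cfsg.Agent.Lib.Helper74 Cfsg.Agent.Lib.Helper81 Representation

/-- Let N be a normal subgroup of the finite group G with G / N cyclic, and ϑ an irreducible character of N invariant under conjugation by G. Then ϑ is the restriction of some irreducible character of G. -/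
theorem result {G : Type*} [Group G] [Finite G] (N : Subgroup G) [hN : N.Normal] (hcyc : IsCyclic (G ⧸ N)) (ϑ : N → ℂ) (hϑ : Cfsg.IsIrrCharacter N ϑ) (hinv : ∀ (g : G) (n : N), ϑ ⟨g * n * g⁻¹, hN.conj_mem (n : G) n.2 g⟩ = ϑ n) : ∃ χ : G → ℂ, Cfsg.IsIrrCharacter G χ ∧ ∀ n : N, χ n = ϑ n := by
  obtain ⟨d, ρ, hirr, hchar⟩ := hϑ
  haveI := hirr
  obtain ⟨q, hq⟩ := hcyc.exists_generator
  obtain ⟨g₀, rfl⟩ := QuotientGroup.mk_surjective q
  obtain ⟨P, hP⟩ := exists_rep_extension N g₀ hq ρ (by
    intro n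
    rw [hchar]
    exact hinv g₀ n)
  refine ⟨P.character, isIrrCharacter_of_rep P (isIrreducible_of_comp P N.subtype ?_), ?_⟩
  · have : P.comp N.subtype = ρ := by
      ext1 n
      exact hP n
    rw [this]
    exact hirr
  · intro n
    rw [← hchar]
    simp only [character]
    rw [hP n]

end Cfsg.Agent.S0886
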