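import Cfsg.Statements.S0059
import Mathlib
import Cfsg.Agent.Lib.Helper1.Coprime2

set_option autoImplicit false
open Cfsg

namespace Cfsg.Agent.S0059


/-- Let a finite group act on a set on which a normal subgroup K of coprime order and index is transitive, with K or the quotient solvable. Then any complement H of K has a fixed point, and any two H-fixed points are interchanged by an element of K centralising H. -/
theorem result {G : Type*} [Group G] [Finite G] {X : Type*} [Nonempty X] [MulAction G X]
    (K H : Subgroup G) [K.Normal] (hc : Subgroup.IsComplement' K H) (hcop : (Nat.card K).Coprime K.index)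
    (hsolv : Group.IsSolvable K ∨ Group.IsSolvable (G ⧸ K)) (htrans : MulAction.IsPretransitive K X) :
    (∃ x : X, ∀ h ∈ H, h • x = x) ∧
    ∀ x y : X, (∀ h ∈ H, h • x = x) → (∀ h ∈ H, h • y = y) → ∃ k ∈ K ⊓ Subgroup.centralizer (H : Set G), k • x = y := by
  have hHK : H ≤ Subgroup.normalizer (K : Set G) := Subgroup.le_normalizer_of_normal
  have hHcard : Nat.card H = K.index := Cfsg.Agent.Lib.Helper1.card_eq_index_of_isComplement' hc
  have hcop' : (Nat.card H).Coprime (Nat.card K) := by rw [hHcard]; exact hcop.symm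
  have hsolv' : Group.IsSolvable H ∨ Group.IsSolvable K := by
    rcases hsolv with hs | hs
    · exact Or.inr hs
    · exact Or.inl (Group.isSolvable_of_surjective
        (f := (hc.symm.QuotientMulEquiv).toMonoidHom) (hc.symm.QuotientMulEquiv).surjective)
  have htop : H ⊔ K = ⊤ := by rw [sup_comm]; exact hc.sup_eq_top
  constructor
  · obtain ⟨x₀⟩ := ‹Nonempty X›
    have hR : MulAction.stabilizer G x₀ ⊔ K = H ⊔ K := by
      rw [htop, eq_top_iff]
      intro g _
      obtain ⟨k, hk⟩ := MulAction.exists_smul_eq K x₀ (g • x₀)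
      have h1 : (k : G)⁻¹ * g ∈ MulAction.stabilizer G x₀ := by
        rw [MulAction.mem_stabilizer_iff, mul_smul, ← hk, Subgroup.smul_def, inv_smul_smul]
      have h2 : g = (k : G) * ((k : G)⁻¹ * g) := by group
      rw [h2]
      exact Subgroup.mul_mem _ (Subgroup.mem_sup_right k.2) (Subgroup.mem_sup_left h1)
    obtain ⟨k, -, hk⟩ := Cfsg.Agent.Lib.Helper1.exists_conj_le_of_sup_eq H K _ hHK hcop' hsolv' hR
    refine ⟨k⁻¹ • x₀, fun h hh => ?_⟩
    have h1 := hk (Cfsg.Agent.Lib.Helper1.conj_mem_conj_smul k hh)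
    rw [MulAction.mem_stabilizer_iff, mul_smul, mul_smul] at h1
    exact eq_inv_smul_iff.2 h1
  · intro x y hx hy
    obtain ⟨k, hk⟩ := MulAction.exists_smul_eq K x y
    rw [Subgroup.smul_def] at hk
    obtain ⟨c, hc', z, hz, hkz⟩ := Cfsg.Agent.Lib.Helper1.exists_mul_of_conj_le H K
      (MulAction.stabilizer G x) hHK hcop' hsolv' (fun h hh => hx h hh) (k : G)⁻¹ (K.inv_mem k.2) (by
        intro g hg
        rw [Cfsg.Agent.Lib.Helper1.mem_conj_smul_iff, inv_inv] at hg
        have h1 := hy _ hg
        rw [← hk, mul_smul, mul_smul, inv_smul_smul] at h1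
        exact smul_left_cancel _ h1)
    refine ⟨z⁻¹, Subgroup.inv_mem _ hz, ?_⟩
    have h1 : (k : G) = z⁻¹ * c⁻¹ := by
      rw [← inv_inv (k : G), hkz]; group
    rw [← hk, h1, mul_smul]
    congr 1
    have h2 : c • x = x := hc'.1
    rw [eq_inv_smul_iff, h2]

end Cfsg.Agent.S0059
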