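import Cfsg.Statements.S0160
import Cfsg.Agent.Lib.Helper81.BrauerPerm

set_option autoImplicit false
open Cfsg

namespace Cfsg.Agent.S0160

theorem result {G : Type*} [Group G] [Finite G] : Nat.card {χ : Cfsg.IrrCharacter G // ∀ g : G, ((χ : G → ℂ) g).im = 0} = Nat.card {C : ConjClasses G // ∀ g : G, ConjClasses.mk g = C → IsConj g g⁻¹} := by
  have h := Cfsg.Agent.Lib.Helper81.brauer_perm (G := G) (fun g => g⁻¹)
    (fun χ => ⟨fun g => (starRingEnd ℂ) ((χ : G → ℂ) g),
      Cfsg.Agent.Lib.Helper81.IsIrrCharacter.star χ.2⟩)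
    (fun χ g => (Cfsg.Agent.Lib.Helper74.IsCharacter.inv
      (Cfsg.Agent.Lib.Helper74.IrrCharacter.isCharacter χ) g).symm)
    (Quotient.map (fun g => g⁻¹) (fun a b hab => by
      obtain ⟨c, hc⟩ := isConj_iff.1 hab
      exact isConj_iff.2 ⟨c, by rw [← hc]; group⟩))
    (fun g => rfl)
  have e1 : Nat.card {χ : Cfsg.IrrCharacter G // ∀ g : G, ((χ : G → ℂ) g).im = 0}
      = Nat.card {χ : Cfsg.IrrCharacter G // (⟨fun g => (starRingEnd ℂ) ((χ : G → ℂ) g),
      Cfsg.Agent.Lib.Helper81.IsIrrCharacter.star χ.2⟩ : Cfsg.IrrCharacter G) = χ} := by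
    refine Nat.card_congr (Equiv.subtypeEquivRight fun χ => ?_)
    constructor
    · intro h1
      apply Subtype.ext
      funext g
      exact Complex.conj_eq_iff_im.2 (h1 g)
    · intro h1 g
      exact Complex.conj_eq_iff_im.1 (congrFun (congrArg Subtype.val h1) g)
  rw [e1, h]
  refine Nat.card_congr (Equiv.subtypeEquivRight fun c => ?_)
  constructor
  · rintro h1 g rfl
    exact (ConjClasses.mk_eq_mk_iff_isConj.1 h1).symm
  · intro h1
    obtain ⟨g, rfl⟩ := ConjClasses.exists_rep c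
    exact ConjClasses.mk_eq_mk_iff_isConj.2 (h1 g rfl).symm

end Cfsg.Agent.S0160
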