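import Cfsg.Statements.S0193
import Cfsg.Agent.Lib.Helper15.Clifford

set_option autoImplicit false
open Cfsg Cfsg.Agent.Lib.Helper15

namespace Cfsg.Agent.S0193

theorem result {G : Type*} [Group G] [Fintype G] (H : Subgroup G) [hN : H.Normal] (θ : H → ℂ) (hθ : Cfsg.IsIrrCharacter H θ) : (Nat.card H : ℂ) * Cfsg.classInner (Cfsg.indFun H θ) (Cfsg.indFun H θ) = (Nat.card {g : G // ∀ h : H, θ ⟨g * h * g⁻¹, hN.conj_mem h h.2 g⟩ = θ h} : ℂ) := by
  rw [norm_indFun_normal H hθ]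
  have : (Nat.card H : ℂ) ≠ 0 := card_ne_zero H
  rw [mul_inv_cancel_left₀ this]
  congr 1
  apply Nat.card_congr
  exact Equiv.subtypeEquivRight (fun g => cj_eq_iff H g θ)

end Cfsg.Agent.S0193
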