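import Mathlib
import Cfsg.Statements.S0901

set_option autoImplicit false
open Cfsg

namespace Cfsg.Agent.S0901

/-- Let M be a maximal ideal of the ring of algebraic integers containing the prime p, and let U be the set of complex roots of unity of order prime to p. Then reduction modulo M is injective on U, and every algebraic integer not in M is congruent modulo M to an element of U (so U maps bijectively onto the nonzero residues). -/
theorem result (p : ℕ) [Fact p.Prime] (M : Ideal Cfsg.AlgInt) (hM : Cfsg.IsPModular p M) : (∀ ε₁ ε₂ : Cfsg.AlgInt, (∃ m : ℕ, ¬ p ∣ m ∧ (ε₁ : ℂ) ^ m = 1) → (∃ m : ℕ, ¬ p ∣ m ∧ (ε₂ : ℂ) ^ m = 1) → ε₁ - ε₂ ∈ M → ε₁ = ε₂) ∧ (∀ a : Cfsg.AlgInt, a ∉ M → ∃ ε : Cfsg.AlgInt, (∃ m : ℕ, ¬ p ∣ m ∧ (ε : ℂ) ^ m = 1) ∧ a - ε ∈ M) := by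
  classical
  have hp : p.Prime := Fact.out
  have : M.IsMaximal := hM.2.1
  let : Field (Cfsg.AlgInt ⧸ M) := Ideal.Quotient.field M
  have hp0 : ((p : ℕ) : Cfsg.AlgInt ⧸ M) = 0 := by
    have := Ideal.Quotient.eq_zero_iff_mem.mpr hM.2.2
    simpa using this
  have : CharP (Cfsg.AlgInt ⧸ M) p := (CharP.charP_iff_prime_eq_zero hp).mpr hp0
  have hinj : ∀ ε₁ ε₂ : Cfsg.AlgInt, (∃ m : ℕ, ¬ p ∣ m ∧ (ε₁ : ℂ) ^ m = 1) →
      (∃ m : ℕ, ¬ p ∣ m ∧ (ε₂ : ℂ) ^ m = 1) → ε₁ - ε₂ ∈ M → ε₁ = ε₂ := by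
    rintro ε₁ ε₂ ⟨m₁, hm₁, h₁⟩ ⟨m₂, hm₂, h₂⟩ hmem
    by_contra hne
    have h₁' : ε₁ ^ m₁ = 1 := Subtype.ext (by simpa using h₁)
    have h₂' : ε₂ ^ m₂ = 1 := Subtype.ext (by simpa using h₂)
    set m := m₁ * m₂ with hm
    have hpm : ¬ p ∣ m := fun h => (hp.dvd_mul.mp h).elim hm₁ hm₂
    have hm0 : m ≠ 0 := fun h => hpm (h ▸ dvd_zero p)
    have e₁ : ε₁ ^ m = 1 := by rw [hm, pow_mul, h₁', one_pow]
    have e₂ : ε₂ ^ m = 1 := by rw [hm, mul_comm, pow_mul, h₂', one_pow]
    -- geometric sum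
    have hgeom : (ε₁ - ε₂) * ∑ i ∈ Finset.range m, ε₁ ^ i * ε₂ ^ (m - 1 - i) = 0 := by
      rw [mul_comm, (Commute.all ε₁ ε₂).geom_sum₂_mul, e₁, e₂, sub_self]
    have hsum : ∑ i ∈ Finset.range m, ε₁ ^ i * ε₂ ^ (m - 1 - i) = 0 := by
      rcases mul_eq_zero.mp hgeom with h | h
      · exact absurd (sub_eq_zero.mp h) hne
      · exact h
    have hq : Ideal.Quotient.mk M ε₁ = Ideal.Quotient.mk M ε₂ := Ideal.Quotient.eq.mpr hmem
    have h3 := congrArg (Ideal.Quotient.mk M) hsum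
    rw [map_sum, map_zero] at h3
    have h4 : ∀ i ∈ Finset.range m, Ideal.Quotient.mk M (ε₁ ^ i * ε₂ ^ (m - 1 - i)) =
        (Ideal.Quotient.mk M ε₂) ^ (m - 1) := by
      intro i hi
      rw [map_mul, map_pow, map_pow, hq, ← pow_add]
      congr 1
      have := Finset.mem_range.mp hi
      omega
    rw [Finset.sum_congr rfl h4, Finset.sum_const, Finset.card_range, nsmul_eq_mul] at h3
    have h5 : (Ideal.Quotient.mk M ε₂) ^ (m - 1) ≠ 0 := by
      apply pow_ne_zero
      intro h0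
      have := congrArg (Ideal.Quotient.mk M) e₂
      rw [map_pow, h0, zero_pow hm0, map_one] at this
      exact zero_ne_one this
    rcases mul_eq_zero.mp h3 with h | h
    · exact hpm ((CharP.cast_eq_zero_iff _ p m).mp h)
    · exact h5 h
  refine ⟨hinj, ?_⟩
  intro a ha
  set x := Ideal.Quotient.mk M a with hx
  have hx0 : x ≠ 0 := fun h => ha (Ideal.Quotient.eq_zero_iff_mem.mp h)
  let : Algebra (ZMod p) (Cfsg.AlgInt ⧸ M) := ZMod.algebra _ p
  have hint : IsIntegral ℤ a := IsIntegralClosure.isIntegral ℤ ℂ a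
  have hintx : IsIntegral ℤ x := hint.map (Ideal.Quotient.mkₐ ℤ M)
  have hintx' : IsIntegral (ZMod p) x := hintx.tower_top
  have : FiniteDimensional (ZMod p) (IntermediateField.adjoin (ZMod p) {x}) :=
    IntermediateField.adjoin.finiteDimensional hintx'
  have : Finite (IntermediateField.adjoin (ZMod p) {x}) := Module.finite_of_finite (ZMod p)
  let := Fintype.ofFinite (IntermediateField.adjoin (ZMod p) {x})
  let y : IntermediateField.adjoin (ZMod p) {x} := ⟨x, IntermediateField.mem_adjoin_simple_self _ x⟩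
  have hy0 : y ≠ 0 := fun h => hx0 (congrArg Subtype.val h)
  have hy := FiniteField.pow_card_sub_one_eq_one y hy0
  set q := Fintype.card (IntermediateField.adjoin (ZMod p) {x}) with hq
  have hq2 : 1 < q := Fintype.one_lt_card
  have hpq : p ∣ q := by
    have h1 : ((q : ℕ) : IntermediateField.adjoin (ZMod p) {x}) = 0 := FiniteField.cast_card_eq_zero _
    have : CharP (IntermediateField.adjoin (ZMod p) {x}) p :=
      charP_of_injective_algebraMap (algebraMap (ZMod p) _).injective p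
    exact (CharP.cast_eq_zero_iff _ p q).mp h1
  set n := q - 1 with hn
  have hn0 : n ≠ 0 := by omega
  have hpn : ¬ p ∣ n := by
    intro h
    have : p ∣ 1 := by
      have h2 : q = n + 1 := by omega
      rw [h2] at hpq
      exact (Nat.dvd_add_right h).mp hpq
    exact hp.one_lt.ne' (Nat.dvd_one.mp this)
  have hxn : x ^ n = 1 := by
    have := congrArg Subtype.val hy
    simpa using this
  -- a primitive root of unity in the algebraic integers
  have hζc := Complex.isPrimitiveRoot_exp n hn0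
  set ζc := Complex.exp (2 * Real.pi * Complex.I / n) with hζcdef
  have hζint : IsIntegral ℤ ζc :=
    IsIntegral.of_pow (Nat.pos_of_ne_zero hn0) (by rw [hζc.pow_eq_one]; exact isIntegral_one)
  let ζ : Cfsg.AlgInt := ⟨ζc, hζint⟩
  have hζ : IsPrimitiveRoot ζ n :=
    IsPrimitiveRoot.of_map_of_injective (f := Cfsg.AlgInt.val) hζc Subtype.val_injective
  have hprod := Polynomial.X_pow_sub_one_eq_prod (Nat.pos_of_ne_zero hn0) hζ
  have heval := congrArg (Polynomial.eval a) hprod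
  rw [Polynomial.eval_prod] at heval
  simp only [Polynomial.eval_sub, Polynomial.eval_pow, Polynomial.eval_X, Polynomial.eval_one,
    Polynomial.eval_C] at heval
  have hmem : a ^ n - 1 ∈ M := by
    rw [← Ideal.Quotient.eq_zero_iff_mem, map_sub, map_pow, map_one, ← hx, hxn, sub_self]
  rw [heval, Ideal.IsPrime.prod_mem_iff] at hmem
  obtain ⟨ε, hε, hεM⟩ := hmem
  refine ⟨ε, ⟨n, hpn, ?_⟩, hεM⟩
  have := (Polynomial.mem_nthRootsFinset (Nat.pos_of_ne_zero hn0) 1).mp hε
  have h2 := congrArg Subtype.val this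
  simpa using h2

end Cfsg.Agent.S0901
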