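import Cfsg.Statements.S0912
import Cfsg.Agent.Lib.Helper16.BlockBasic

set_option autoImplicit false
open Cfsg

namespace Cfsg.Agent.S0912

open Cfsg.Agent.Lib.Helper16 in
/-- Let B be a block of the finite group G relative to a maximal ideal M of the algebraic integers containing the prime p. Every defect group of B contains the largest normal p-subgroup O_p(G). -/
theorem result {G : Type*} [Group G] [Finite G] (p : ℕ) [Fact p.Prime] (M : Ideal Cfsg.AlgInt) (hM : Cfsg.IsPModular p M) (B : Set (Cfsg.IrrCharacter G)) (hB : Cfsg.IsPBlock M B) (D : Subgroup G) (hD : Cfsg.IsDefectGroup p M B D) : Cfsg.pCore p G ≤ D := by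
  classical
  cases nonempty_fintype G
  haveI : M.IsMaximal := hM.2.1
  haveI : CharP (FM M) p := charP_FM hM
  obtain ⟨g, ⟨_, _, hg⟩, P, rfl⟩ := hD
  obtain ⟨χ, hχ⟩ := block_nonempty M hB
  have h1 : lam M χ (classSumZ (FM M) g) ≠ 0 := by
    rw [Ne, lam_classSumZ_eq_zero_iff]; exact hg χ hχ
  haveI := Cfsg.Agent.Lib.Lead.pCore_normal' p G
  have h2 := mem_centralizer_of_lam_classSumZ_ne_zero M p (pCore p G)
    (Cfsg.Agent.Lib.Lead.pCore_isPGroup p G) χ g h1
  have h3 : pCore p G ≤ Subgroup.centralizer ({g} : Set G) :=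
    (le_centralizer_singleton_iff _ _).2 h2
  have h4 : (pCore p G).subgroupOf (Subgroup.centralizer ({g} : Set G)) ≤ P := by
    refine le_trans ?_ (Cfsg.Agent.Lib.Lead.pCore_le_sylow P)
    apply Cfsg.Agent.Lib.Lead.le_pCore inferInstance
    exact (Cfsg.Agent.Lib.Lead.pCore_isPGroup p G).comap_subtype
  intro x hx
  exact ⟨⟨x, h3 hx⟩, h4 hx, rfl⟩

end Cfsg.Agent.S0912
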