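import Cfsg.Statements.S0917
import Cfsg.Agent.Lib.Helper16.BlockIdem

set_option autoImplicit false
open Cfsg

namespace Cfsg.Agent.S0917

open Cfsg.Agent.Lib.Helper16 Cfsg.Agent.Lib.Helper78 in
/-- Let H be a subgroup of the finite group G, p a prime and M a maximal ideal of the algebraic integers containing p. If the block b of H induces the block B of G relative to M, then every defect group of b (a subgroup of H, viewed in G) is contained in some defect group of B. -/
theorem result {G : Type*} [Group G] [Finite G] (p : ℕ) [Fact p.Prime] (M : Ideal Cfsg.AlgInt) (hM : Cfsg.IsPModular p M) (H : Subgroup G) (b : Set (Cfsg.IrrCharacter H)) (hb : Cfsg.IsPBlock M b) (B : Set (Cfsg.IrrCharacter G)) (hB : Cfsg.IsPBlock M B) (hind : Cfsg.IsInducedBlock M H b B) (D : Subgroup H) (hD : Cfsg.IsDefectGroup p M b D) : ∃ E : Subgroup G, Cfsg.IsDefectGroup p M B E ∧ D.map H.subtype ≤ E := by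
  classical
  cases nonempty_fintype G
  haveI : M.IsMaximal := hM.2.1
  obtain ⟨ξ, hξ⟩ := block_nonempty M hb
  obtain ⟨χ, hχ⟩ := block_nonempty M hB
  have h1 := (isInducedBlock_iff M H hb hB hξ hχ).1 hind (eB M B)
  rw [lam_eB M hB, if_pos hχ] at h1
  obtain ⟨h, hh1, hh2⟩ := exists_coeff_ne_zero_of_lam_ne_zero M ξ (resZ H (eB M B))
    (by rw [h1]; exact one_ne_zero)
  have hh1' : ¬ MemLocalIdeal M (blockCoeff B (h : G)) := (eB_coeff_ne_zero_iff M hB _).1 hh1
  rw [lam_classSumZ_ne_zero_iff] at hh2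
  obtain ⟨x, hx⟩ := minmax_b hM hb hD hξ hh2
  obtain ⟨E', hE'⟩ := exists_isDefectGroup hM hB
  have h2 : cj (x : G) (D.map H.subtype) ≤ Subgroup.centralizer ({(h : G)} : Set G) := by
    rintro _ ⟨_, ⟨d, hd, rfl⟩, rfl⟩
    have h3 := hx (conj_mem_cj (x := x) hd)
    rw [Subgroup.mem_centralizer_singleton_iff] at h3 ⊢
    exact congrArg Subtype.val h3
  obtain ⟨y, hy⟩ := minmax_a hM hB hE' hh1' _
    (isPGroup_cj ((IsDefectGroup.isPGroup hD).map _) _) h2
  refine ⟨cj ((x : G)⁻¹ * y) E', IsDefectGroup.conj hE' _, ?_⟩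
  rw [← cj_cj, le_cj_iff, inv_inv]
  exact hy

end Cfsg.Agent.S0917
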