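import Cfsg.Statements.S0864
import Cfsg.Agent.Lib.Helper15.LinearHom

set_option autoImplicit false
open Cfsg

namespace Cfsg.Agent.S0864

open Cfsg.Agent.Lib Cfsg.Agent.Lib.Helper15

/-- Let N be a normal subgroup of the finite group G and λ a character of N of degree 1 invariant under conjugation by G. Suppose that for every prime p dividing the order of λ (in the group of functions under pointwise multiplication) there is a subgroup H containing N, of index prime to p and with the index of N in H a power of p, together with a character of H of degree 1 restricting to λ. Then λ is the restriction of a character of G of degree 1. -/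
theorem result {G : Type*} [Group G] [Finite G] (N : Subgroup G) [hN : N.Normal] (lam : N → ℂ) (hlam : Cfsg.IsCharacter N lam ∧ lam 1 = 1) (hinv : ∀ (g : G) (n : N), lam ⟨g * n * g⁻¹, hN.conj_mem (n : G) n.2 g⟩ = lam n) (hsyl : ∀ p : ℕ, p.Prime → p ∣ orderOf lam → ∃ (H : Subgroup G) (hNH : N ≤ H) (ν : H → ℂ), Nat.Coprime H.index p ∧ (∃ k : ℕ, N.relIndex H = p ^ k) ∧ Cfsg.IsCharacter H ν ∧ ν 1 = 1 ∧ ∀ n : N, ν ⟨(n : G), hNH n.2⟩ = lam n) : ∃ μ : G → ℂ, Cfsg.IsCharacter G μ ∧ μ 1 = 1 ∧ ∀ n : N, μ n = lam n := by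
  obtain ⟨f, rfl⟩ := exists_toFn hlam.1 hlam.2
  have hinv' : ∀ (g : G) (n : N), f ⟨g * n * g⁻¹, hN.conj_mem (n : G) n.2 g⟩ = f n := by
    intro g n
    exact Units.ext (hinv g n)
  let S : AddSubgroup ℤ :=
    { carrier := {k | ∃ μ : G →* ℂˣ, ∀ n : N, μ n = f n ^ k}
      zero_mem' := ⟨1, fun n => by simp⟩
      add_mem' := by
        rintro a b ⟨μ, hμ⟩ ⟨μ', hμ'⟩
        exact ⟨μ * μ', fun n => by rw [MonoidHom.mul_apply, hμ, hμ', zpow_add]⟩
      neg_mem' := by
        rintro a ⟨μ, hμ⟩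
        exact ⟨μ⁻¹, fun n => by rw [MonoidHom.inv_apply, hμ, zpow_neg]⟩ }
  have h1 : (1 : ℤ) ∈ S := by
    apply one_mem_of_forall_prime
    intro q hq
    by_cases hdvd : q ∣ orderOf (toFn f)
    · obtain ⟨H, hNH, ν, hcop, -, hν, hν1, hres⟩ := hsyl q hq hdvd
      obtain ⟨ν', rfl⟩ := exists_toFn hν hν1
      refine ⟨(H.index : ℤ), ⟨MonoidHom.transfer ν', fun n => ?_⟩, ?_⟩
      · rw [transfer_restrict N hNH f ν' (fun n => Units.ext (hres n)) hinv' n, zpow_natCast]
      · intro hd
        have hd' : q ∣ H.index := Int.natCast_dvd_natCast.1 hd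
        have := Nat.Coprime.eq_one_of_dvd hcop.symm hd'
        exact hq.one_lt.ne' this
    · refine ⟨(orderOf f : ℤ), ⟨1, fun n => ?_⟩, ?_⟩
      · rw [zpow_natCast, ← MonoidHom.pow_apply, pow_orderOf_eq_one]; simp
      · intro hd
        apply hdvd
        rw [orderOf_toFn]
        exact Int.natCast_dvd_natCast.1 hd
  obtain ⟨μ, hμ⟩ := h1
  refine ⟨toFn μ, char_toFn μ, toFn_one' μ, fun n => ?_⟩
  rw [toFn_apply, toFn_apply, hμ, zpow_one]

end Cfsg.Agent.S0864
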