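import Cfsg.Statements.S0888
import Cfsg.Agent.Lib.Helper81.CoverChar
import Cfsg.Agent.S0864

set_option autoImplicit false
open Cfsg

namespace Cfsg.Agent.S0888

open Cfsg.Agent.Lib.Helper81 Cfsg.Agent.Lib.Helper15

/-- Let N be a normal subgroup of the finite group G and ϑ an irreducible character of N invariant under conjugation by G. Suppose that for every prime p there are a subgroup P containing N, of index prime to p and with the index of N in P a power of p, and an irreducible character of P restricting to ϑ. Then ϑ is the restriction of an irreducible character of G. -/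
theorem result {G : Type*} [Group G] [Finite G] (N : Subgroup G) [hN : N.Normal] (ϑ : N → ℂ) (hϑ : Cfsg.IsIrrCharacter N ϑ) (hinv : ∀ (g : G) (n : N), ϑ ⟨g * n * g⁻¹, hN.conj_mem (n : G) n.2 g⟩ = ϑ n) (hsyl : ∀ p : ℕ, p.Prime → ∃ (P : Subgroup G) (hNP : N ≤ P) (η : P → ℂ), Nat.Coprime P.index p ∧ (∃ k : ℕ, N.relIndex P = p ^ k) ∧ Cfsg.IsIrrCharacter P η ∧ ∀ n : N, η ⟨(n : G), hNP n.2⟩ = ϑ n) : ∃ χ : G → ℂ, Cfsg.IsIrrCharacter G χ ∧ ∀ n : N, χ n = ϑ n := by
  obtain ⟨d, hd⟩ := char_one_nat (irr_char hϑ)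
  obtain ⟨e, he⟩ := exists_detHom (irr_char hϑ)
  obtain ⟨Γ, _, _, π, κ, hsurj, hκinv, -, hext, hP⟩ := cover_criterion N ϑ hϑ hinv (Nat.card N)
    Nat.card_pos 1 (fun n => by
      rw [he, toFn_apply, ← Units.val_pow_eq_pow_val, ← map_pow, pow_card_eq_one', map_one]
      rfl) d hd
  apply hext
  obtain ⟨μ', hμ'1, hμ'2, hμ'3⟩ := Cfsg.Agent.S0864.result (N.comap π) (toFn κ)
    ⟨char_toFn κ, toFn_one' κ⟩ (fun g n => by
      rw [toFn_apply, toFn_apply, hκinv g n _ rfl]) (by
      intro p hp _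
      obtain ⟨P, hNP, η, hcop, ⟨k, hk⟩, hη, hηN⟩ := hsyl p hp
      obtain ⟨l, hl⟩ := hP P hNP η (irr_char hη) hηN
      refine ⟨P.comap π, Subgroup.comap_mono hNP, toFn l, ?_, ⟨k, ?_⟩, char_toFn l, toFn_one' l,
        fun x => ?_⟩
      · rw [Subgroup.index_comap_of_surjective P hsurj]
        exact hcop
      · rw [Subgroup.relIndex_comap, Subgroup.map_comap_eq_self_of_surjective hsurj]
        exact hk
      · rw [toFn_apply, toFn_apply, ← hl x])
  obtain ⟨l, rfl⟩ := exists_toFn hμ'1 hμ'2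
  exact ⟨l, fun x => Units.ext (hμ'3 x)⟩

end Cfsg.Agent.S0888
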