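import Cfsg.Statements.S4989
import Cfsg.Agent.Lib.Helper80.GaloisSum
import Cfsg.Agent.Lib.Helper74.CharBasic

set_option autoImplicit false
open Cfsg

namespace Cfsg.Agent.S4989

open Cfsg.Agent.Lib.Helper74 Cfsg.Agent.Lib.Helper80

/-- First orthogonality, in norm form. -/
theorem sum_norm_sq_irr {G : Type*} [Group G] [Fintype G] (χ : IrrCharacter G) :
    ∑ g : G, ‖(χ : G → ℂ) g‖ ^ 2 = (Fintype.card G : ℝ) := by
  have h := classInner_irr_self χ
  unfold Cfsg.classInner at h
  have hne : (Nat.card G : ℂ) ≠ 0 := by exact_mod_cast Nat.card_pos.ne'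
  rw [inv_mul_eq_one₀ hne] at h
  have h2 : ((∑ g : G, ‖(χ : G → ℂ) g‖ ^ 2 : ℝ) : ℂ) = (Fintype.card G : ℂ) := by
    rw [← Nat.card_eq_fintype_card, h]
    push_cast
    apply Finset.sum_congr rfl
    intro g _
    rw [Complex.mul_conj, Complex.normSq_eq_norm_sq]
    push_cast
    rfl
  exact_mod_cast h2

/-- The complement of a subgroup is closed under coprime powers. -/
theorem pow_not_mem {G : Type*} [Group G] [Fintype G] (H : Subgroup G) (g : G) (hg : g ∉ H) (k : ℕ)
    (hk : k.Coprime (Fintype.card G)) : g ^ k ∉ H := by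
  intro h
  apply hg
  have hc : (Nat.card G).Coprime k := by
    rw [Nat.card_eq_fintype_card]
    exact hk.symm
  have h1 : (powCoprime hc).symm (g ^ k) = g := by
    rw [Equiv.symm_apply_eq]
    rfl
  rw [← h1, powCoprime_symm_apply]
  exact H.zpow_mem h _

/-- Let H be a subgroup of the finite group G and χ an irreducible complex character of G. Then the inner product of the restriction of χ to H with itself, (1/#H)·Σ_{h ∈ H} |χ(h)|², is at most 1 + #(Z ∖ H)/#H, where Z is the set of zeros of χ in G. -/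
theorem result {G : Type*} [Group G] [Finite G] (H : Subgroup G) (χ : Cfsg.IrrCharacter G) : (Nat.card ↥H : ℝ)⁻¹ * ∑ᶠ h : ↥H, ‖(χ : G → ℂ) h‖ ^ 2 ≤ 1 + (Set.ncard ({x : G | (χ : G → ℂ) x = 0} \ (H : Set G)) : ℝ) / (Nat.card ↥H : ℝ) := by
  classical
  have := Fintype.ofFinite G
  have hH : (0 : ℝ) < Nat.card H := by exact_mod_cast Nat.card_pos
  rw [finsum_eq_sum_of_fintype]
  set S : Finset G := Finset.univ.filter (fun g => g ∉ H) with hS
  have h1 := card_filter_le_sum_norm_sq (isCharacter_of_irr χ.2) S (by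
    intro g hg k hk
    rw [hS, Finset.mem_filter] at hg ⊢
    exact ⟨Finset.mem_univ _, pow_not_mem H g hg.2 k hk⟩)
  have h2 := sum_norm_sq_irr χ
  have h3 : ∑ g : G, ‖(χ : G → ℂ) g‖ ^ 2 =
      ∑ h : H, ‖(χ : G → ℂ) h‖ ^ 2 + ∑ g ∈ S, ‖(χ : G → ℂ) g‖ ^ 2 := by
    rw [← Finset.sum_filter_add_sum_filter_not Finset.univ (fun g => g ∈ H)]
    congr 1
    rw [← Finset.sum_subtype (p := fun g => g ∈ H) (Finset.univ.filter (fun g => g ∈ H))
      (by simp) (fun g => ‖(χ : G → ℂ) g‖ ^ 2)]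
  have h4 : (S.filter (fun g => (χ : G → ℂ) g ≠ 0)).card +
      Set.ncard ({x : G | (χ : G → ℂ) x = 0} \ (H : Set G)) + Nat.card H = Fintype.card G := by
    have h5 : ({x : G | (χ : G → ℂ) x = 0} \ (H : Set G)) =
        ((S.filter (fun g => ¬ (χ : G → ℂ) g ≠ 0) : Finset G) : Set G) := by
      ext x
      simp [hS, and_comm]
    rw [h5, Set.ncard_coe_finset, Finset.card_filter_add_card_filter_not, hS,
      Nat.card_eq_fintype_card, Fintype.card_subtype, add_comm,
      Finset.card_filter_add_card_filter_not]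
    rfl
  have h4' : ((S.filter (fun g => (χ : G → ℂ) g ≠ 0)).card : ℝ) +
      (Set.ncard ({x : G | (χ : G → ℂ) x = 0} \ (H : Set G)) : ℝ) + (Nat.card H : ℝ) =
      (Fintype.card G : ℝ) := by exact_mod_cast h4
  rw [inv_mul_le_iff₀ hH, mul_add, mul_one, mul_div_cancel₀ _ hH.ne']
  linarith

end Cfsg.Agent.S4989
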