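import Cfsg.Statements.S4996
import Cfsg.Agent.Lib.Helper80.GaloisSum
import Cfsg.Agent.Lib.Helper80.Deflation
import Cfsg.Agent.Lib.Helper80.Linear
import Cfsg.Agent.Lib.Helper80.Constituent
import Cfsg.Agent.S4989

set_option autoImplicit false
open Cfsg

namespace Cfsg.Agent.S4996

open Cfsg.Agent.Lib.Helper74 Cfsg.Agent.Lib.Helper80
open scoped ComplexConjugate

section
variable {G : Type*} [Group G] [Fintype G] (N : Subgroup G) [N.Normal] (χ : IrrCharacter G)

/-- The character `x N ↦ |N|⁻¹ ∑_{n ∈ N} |χ(n x)|²` of `G ⧸ N`. -/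
noncomputable def cosetNorm : G ⧸ N → ℂ := defl N ((χ : G → ℂ) * fun g => conj ((χ : G → ℂ) g))

theorem isCharacter_cosetNorm : IsCharacter (G ⧸ N) (cosetNorm N χ) :=
  isCharacter_defl N (IsCharacter.mul (isCharacter_of_irr χ.2) (IsCharacter.star (isCharacter_of_irr χ.2)))

theorem cosetNorm_mk [Fintype N] (x : G) : cosetNorm N χ (x : G ⧸ N) =
    (((Nat.card N : ℝ)⁻¹ * ∑ n : N, ‖(χ : G → ℂ) ((n : G) * x)‖ ^ 2 : ℝ) : ℂ) := by
  unfold cosetNorm
  rw [defl_mk]
  push_cast
  congr 1
  apply Finset.sum_congr rfl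
  intro n _
  rw [Pi.mul_apply, Complex.mul_conj, Complex.normSq_eq_norm_sq]
  push_cast
  rfl

theorem cosetNorm_nonneg (q : G ⧸ N) : ∃ r : ℝ, 0 ≤ r ∧ cosetNorm N χ q = r := by
  have := Fintype.ofFinite N
  obtain ⟨x, rfl⟩ := QuotientGroup.mk_surjective q
  exact ⟨_, by positivity, cosetNorm_mk N χ x⟩

theorem cosetNorm_eq_zero_iff (x : G) :
    cosetNorm N χ (x : G ⧸ N) = 0 ↔ ∀ n : N, (χ : G → ℂ) ((n : G) * x) = 0 := by
  have := Fintype.ofFinite N
  have hN : (0 : ℝ) < Nat.card N := by exact_mod_cast Nat.card_pos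
  rw [cosetNorm_mk]
  norm_cast
  rw [mul_eq_zero, Finset.sum_eq_zero_iff_of_nonneg (fun n _ => by positivity)]
  constructor
  · rintro (h | h)
    · exact absurd h (inv_ne_zero hN.ne')
    · intro n
      simpa using h n (Finset.mem_univ _)
  · intro h
    right
    intro n _
    rw [h n]
    simp

theorem cosetNorm_one [Fintype N] : cosetNorm N χ 1 =
    classInner (fun n : N => (χ : G → ℂ) n) (fun n : N => (χ : G → ℂ) n) := by
  have h := defl_mk N ((χ : G → ℂ) * fun g => conj ((χ : G → ℂ) g)) 1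
  rw [QuotientGroup.mk_one] at h
  unfold cosetNorm classInner
  rw [h]
  simp

theorem sum_cosetNorm [Fintype (G ⧸ N)] : ∑ q : G ⧸ N, cosetNorm N χ q = (Nat.card (G ⧸ N) : ℂ) := by
  unfold cosetNorm
  rw [sum_defl]
  have h := classInner_irr_self χ
  unfold Cfsg.classInner at h
  have hne : (Nat.card G : ℂ) ≠ 0 := by exact_mod_cast Nat.card_pos.ne'
  have hN : (Nat.card N : ℂ) ≠ 0 := by exact_mod_cast Nat.card_pos.ne'
  rw [inv_mul_eq_one₀ hne] at h
  simp only [Pi.mul_apply]
  rw [← h, Subgroup.card_eq_card_quotient_mul_card_subgroup N]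
  push_cast
  field_simp

end

/-- Let N be a normal subgroup of the finite group G and χ an irreducible complex character of G. Then the restriction of χ to N is not irreducible if and only if χ vanishes on some whole coset Nx of N in G. -/
theorem result {G : Type*} [Group G] [Finite G] (N : Subgroup G) [N.Normal] (χ : Cfsg.IrrCharacter G) : ¬ Cfsg.IsIrrCharacter ↥N (fun n : ↥N => (χ : G → ℂ) n) ↔ ∃ x : G, ∀ n : ↥N, (χ : G → ℂ) ((n : G) * x) = 0 := by
  classical
  have := Fintype.ofFinite G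
  have := Fintype.ofFinite N
  have := Fintype.ofFinite (G ⧸ N)
  have hchar := isCharacter_cosetNorm N χ
  have hres : IsCharacter N (fun n : N => (χ : G → ℂ) n) :=
    IsCharacter.restrict (isCharacter_of_irr χ.2) N
  constructor
  · intro hirr
    by_contra hcon
    push Not at hcon
    apply hirr
    rw [Cfsg.Agent.Lib.Helper3.isIrrCharacter_iff]
    refine ⟨hres, ?_⟩
    have hnz : ∀ q : G ⧸ N, cosetNorm N χ q ≠ 0 := by
      intro q
      obtain ⟨x, rfl⟩ := QuotientGroup.mk_surjective q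
      rw [Ne, cosetNorm_eq_zero_iff]
      push Not
      exact hcon x
    have h1 := card_filter_le_sum_re hchar (cosetNorm_nonneg N χ) (Finset.univ.erase 1) (by
      intro q hq k hk
      rw [Finset.mem_erase] at hq ⊢
      refine ⟨?_, Finset.mem_univ _⟩
      intro h
      apply hq.1
      have h2 : orderOf q ∣ k := orderOf_dvd_of_pow_eq_one h
      have h3 : orderOf q ∣ Fintype.card (G ⧸ N) := orderOf_dvd_card
      have h4 : orderOf q = 1 := Nat.eq_one_of_dvd_coprimes hk h2 h3
      exact orderOf_eq_one_iff.1 h4)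
    rw [Finset.filter_true_of_mem (fun q _ => hnz q), Finset.card_erase_of_mem (Finset.mem_univ _),
      Finset.card_univ] at h1
    have h2 := congrArg Complex.re (sum_cosetNorm N χ)
    rw [Complex.re_sum, ← Finset.add_sum_erase _ _ (Finset.mem_univ (1 : G ⧸ N)),
      Complex.natCast_re, Nat.card_eq_fintype_card] at h2
    have hpos : 0 < Fintype.card (G ⧸ N) := Fintype.card_pos
    have h3 : ((Fintype.card (G ⧸ N) - 1 : ℕ) : ℝ) = (Fintype.card (G ⧸ N) : ℝ) - 1 := by
      rw [Nat.cast_sub hpos]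
      simp
    rw [h3] at h1
    have h4 : (cosetNorm N χ 1).re ≤ 1 := by linarith
    -- the norm of the restriction is a positive integer
    obtain ⟨m, hm, -, hdeg⟩ := exists_mult_spec hres
    have h5 : classInner (fun n : N => (χ : G → ℂ) n) (fun n : N => (χ : G → ℂ) n) =
        ((∑ θ : IrrCharacter N, m θ ^ 2 : ℕ) : ℂ) := by
      rw [Cfsg.Agent.Lib.Helper3.classInner_eq_sum_coeff (isClassFunction_of_char hres)]
      push_cast
      apply Finset.sum_congr rfl
      intro θ _
      rw [← classInner_conj_symm (fun n : N => (χ : G → ℂ) n), hm]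
      simp [sq]
    rw [cosetNorm_one, h5, Complex.natCast_re] at h4
    have h6 : ∑ θ : IrrCharacter N, m θ ^ 2 ≤ 1 := by exact_mod_cast h4
    have h7 : ∑ θ : IrrCharacter N, m θ ^ 2 ≠ 0 := by
      intro h0
      have h8 := hnz 1
      rw [cosetNorm_one, h5, h0] at h8
      simp at h8
    rw [h5]
    have : ∑ θ : IrrCharacter N, m θ ^ 2 = 1 := by omega
    rw [this]
    simp
  · rintro ⟨x, hx⟩ hirr
    have h1 : cosetNorm N χ 1 = 1 := by
      rw [cosetNorm_one]
      exact ((Cfsg.Agent.Lib.Helper3.isIrrCharacter_iff).1 hirr).2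
    obtain ⟨f, hf⟩ := exists_hom_of_degree_one hchar h1
    have h2 := (cosetNorm_eq_zero_iff N χ x).2 hx
    rw [hf] at h2
    exact (f (x : G ⧸ N)).ne_zero h2

end Cfsg.Agent.S4996
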