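import Cfsg.Statements.S4551
import Cfsg.Agent.Lib.Helper76.AlperinDade
import Cfsg.Agent.S4996

set_option autoImplicit false
open Cfsg Cfsg.Agent.Lib.Helper76 Cfsg.Agent.Lib.Helper78 Cfsg.Agent.Lib.Helper80 Cfsg.Agent.Lib.Helper74

namespace Cfsg.Agent.S4551

/-- Let N be a normal subgroup of the finite group G of index prime to p, P a Sylow p-subgroup of G with G = N·C_G(P), and M a maximal ideal of the algebraic integers containing p. Then restriction to N is a bijection from the principal p-block of G onto the principal p-block of N: every member of the principal block of G restricts to a member of the principal block of N, and every member of the principal block of N is the restriction of exactly one member of the principal block of G. -/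
theorem result {G : Type*} [Group G] [Finite G] (p : ℕ) [Fact p.Prime] (M : Ideal Cfsg.AlgInt) (hM : Cfsg.IsPModular p M) (N : Subgroup G) [N.Normal] (hidx : ¬ p ∣ N.index) (P : Sylow p G) (hsup : N ⊔ Subgroup.centralizer ((P : Subgroup G) : Set G) = ⊤) : (∀ χ ∈ Cfsg.principalBlock M G, ∃ θ ∈ Cfsg.principalBlock M ↥N, ∀ n : N, (χ : G → ℂ) n = (θ : N → ℂ) n) ∧ ∀ θ ∈ Cfsg.principalBlock M ↥N, ∃! χ : Cfsg.IrrCharacter G, χ ∈ Cfsg.principalBlock M G ∧ ∀ n : N, (χ : G → ℂ) n = (θ : N → ℂ) n := by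
  classical
  let _ : Fintype G := Fintype.ofFinite G
  let _ : Fintype N := Fintype.ofFinite N
  have hMp := pmod_isPrime hM
  -- every element is `c * n` with `c` centralizing `P`
  have hfac : ∀ g : G, ∃ c : G, ∃ n ∈ N, g = c * n ∧
      ¬ p ∣ (Subgroup.centralizer ({c} : Set G)).index := by
    intro g
    have hg : g ∈ Subgroup.centralizer ((P : Subgroup G) : Set G) ⊔ N := by
      rw [sup_comm, hsup]; trivial
    rw [Subgroup.mem_sup_of_normal_right] at hg
    obtain ⟨c, hc, n, hn, rfl⟩ := hg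
    refine ⟨c, n, hn, rfl, fun hd => P.not_dvd_index (hd.trans (Subgroup.index_dvd_of_le ?_))⟩
    intro x hx
    rw [Subgroup.mem_centralizer_singleton_iff]
    exact ((Subgroup.mem_centralizer_iff.mp hc) x hx)
  -- characters with `N` in the kernel
  have hkerval : ∀ (β : IrrCharacter G), (∀ n ∈ N, (β : G → ℂ) n = (β : G → ℂ) 1) →
      ∀ (c n : G), n ∈ N → (β : G → ℂ) (c * n) = (β : G → ℂ) c := fun β hβ c n hn =>
    char_mul_of_mem_ker (isCharacter_of_irr β.2) (hβ n hn) c
  have honly : ∀ β ∈ principalBlock M G, (∀ n ∈ N, (β : G → ℂ) n = (β : G → ℂ) 1) →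
      β = trivIrr G := by
    intro β hβ hker
    apply Subtype.ext
    funext g
    refine eq_one_of_ratio hM N hidx β hker (fun g => ?_) g
    obtain ⟨c, n, hn, rfl, hc⟩ := hfac g
    rw [hkerval β hker c n hn]
    exact ratio_sub_one_mem hM hβ hc
  -- restrictions are irreducible
  have hirr : ∀ χ ∈ principalBlock M G, IsIrrCharacter N (fun n : N => (χ : G → ℂ) n) := by
    intro χ hχ
    by_contra hcon
    obtain ⟨x, hx⟩ := (Cfsg.Agent.S4996.result N χ).mp hcon
    obtain ⟨c, n, hn, hxc, hc⟩ := hfac x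
    have hmem : c * n⁻¹ * c⁻¹ ∈ N := ‹N.Normal›.conj_mem _ (N.inv_mem hn) c
    have h0 := hx ⟨_, hmem⟩
    have e : c * n⁻¹ * c⁻¹ * x = c := by rw [hxc]; group
    simp only [e] at h0
    have h1 := ne_zero_of_ratio hM (ratio_sub_one_mem hM hχ hc)
    rw [h0, zero_div] at h1
    exact h1 rfl
  have hres : ∀ χ ∈ principalBlock M G, ∀ θ : IrrCharacter N,
      classInner (fun n : N => (χ : G → ℂ) n) (θ : N → ℂ) ≠ 0 →
      ∀ n : N, (χ : G → ℂ) n = (θ : N → ℂ) n := by
    intro χ hχ θ hθ n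
    have h1 := classInner_irr (⟨_, hirr χ hχ⟩ : IrrCharacter N) θ
    by_cases h : (⟨_, hirr χ hχ⟩ : IrrCharacter N) = θ
    · exact congrFun (congrArg Subtype.val h) n
    · rw [if_neg h] at h1
      exact absurd h1 hθ
  constructor
  · intro χ hχ
    refine ⟨⟨_, hirr χ hχ⟩, ?_, fun n => rfl⟩
    apply mem_principalBlock_of_constituent N hM hχ
    rw [classInner_irr_self (⟨_, hirr χ hχ⟩ : IrrCharacter N)]
    exact one_ne_zero
  · intro θ hθ
    obtain ⟨χ, hχ, hover⟩ := exists_mem_principalBlock_over N hM honly hθ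
    have hχθ := hres χ hχ θ hover
    refine ⟨χ, ⟨hχ, hχθ⟩, ?_⟩
    rintro χ' ⟨hχ', hχ'θ⟩
    -- Gallagher
    have hmem : (χ' : G → ℂ) ∈ {ψ : G → ℂ | IsIrrCharacter G ψ ∧
        classInner (fun n : N => ψ n) (fun n : N => (χ : G → ℂ) n) ≠ 0} := by
      refine ⟨χ'.2, ?_⟩
      rw [show (fun n : N => (χ' : G → ℂ) n) = (θ : N → ℂ) from funext hχ'θ,
        show (fun n : N => (χ : G → ℂ) n) = (θ : N → ℂ) from funext hχθ, classInner_irr_self]
      exact one_ne_zero
    obtain ⟨β, ⟨hβirr, hβ1⟩, hβ⟩ :=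
      (Cfsg.Agent.Lib.Helper15.gallagher N χ.2 (hirr χ hχ)).surjOn hmem
    have hβ' : ∀ g, β g * (χ : G → ℂ) g = (χ' : G → ℂ) g := fun g => congrFun hβ g
    have hχ1 : (χ : G → ℂ) 1 ≠ 0 := char_one_ne_zero_of_irr χ.2
    have h11 : (χ' : G → ℂ) 1 = (χ : G → ℂ) 1 := (hχ'θ 1).trans (hχθ 1).symm
    have hβone : β 1 = 1 := by
      have h1 := hβ' 1
      rw [h11] at h1
      exact mul_right_cancel₀ hχ1 (h1.trans (one_mul _).symm)
    have hβker : ∀ n ∈ N, β n = β 1 := fun n hn =>
      (Cfsg.Agent.Lib.Helper15.restrict_eq_of_inner_one_ne_zero N hβirr hβ1).2 ⟨n, hn⟩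
    have hβall := eq_one_of_ratio hM N hidx ⟨β, hβirr⟩ hβker (by
      intro g
      obtain ⟨c, n, hn, rfl, hc⟩ := hfac g
      show MemLocalIdeal M (β (c * n) / β 1 - 1)
      have hcn : β (c * n) = β c := hkerval ⟨β, hβirr⟩ hβker c n hn
      rw [hcn, hβone, div_one]
      have hu := ratio_sub_one_mem hM hχ hc
      have hu' := ratio_sub_one_mem hM hχ' hc
      have hprod : MemLocalIdeal M ((β c - 1) * ((χ : G → ℂ) c / (χ : G → ℂ) 1)) := by
        have e : (β c - 1) * ((χ : G → ℂ) c / (χ : G → ℂ) 1) =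
            ((χ' : G → ℂ) c / (χ' : G → ℂ) 1 - 1) - ((χ : G → ℂ) c / (χ : G → ℂ) 1 - 1) := by
          rw [h11, ← hβ' c]
          ring
        rw [e]
        exact MemLocalIdeal.sub hMp hu' hu
      have hloc1 : MemLocalRing M (β c - 1) :=
        MemLocalRing.sub hMp (memLocalRing_irr hMp ⟨β, hβirr⟩ c) (memLocalRing_one hMp)
      have hloc2 : MemLocalRing M ((χ : G → ℂ) c / (χ : G → ℂ) 1) := by
        have := MemLocalRing.add hMp (MemLocalIdeal.memLocalRing hu) (memLocalRing_one hMp)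
        simpa using this
      rcases (memLocalIdeal_mul_iff hMp hloc1 hloc2).mp hprod with h | h
      · exact h
      · exfalso
        apply not_memLocalIdeal_one hMp
        have := MemLocalIdeal.sub hMp h hu
        simpa using this)
    apply Subtype.ext
    funext g
    rw [← hβ' g]
    have : β g = 1 := hβall g
    rw [this, one_mul]

end Cfsg.Agent.S4551
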