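import Cfsg.Statements.S2429
import Cfsg.Agent.Lib.Helper41.SL2Eigen2
import Cfsg.Agent.S2475

set_option autoImplicit false
open Cfsg

namespace Cfsg.Agent.S2429

open Cfsg.Agent.Lib.Helper41

variable {F : Type*} [Field F]

/-- companion matrix of trace `t` -/
def cp (t : F) : Matrix.SpecialLinearGroup (Fin 2) F := ⟨!![0, -1; 1, t], by simp [Matrix.det_fin_two]⟩

theorem cp_coe (t : F) : (cp t : Matrix (Fin 2) (Fin 2) F) = !![0, -1; 1, t] := rfl

theorem cp_trace (t : F) : Matrix.trace (cp t : Matrix (Fin 2) (Fin 2) F) = t := by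
  rw [cp_coe, Matrix.trace_fin_two_of, zero_add]

theorem mem_centralizer_cp (t : F) (h : Matrix.SpecialLinearGroup (Fin 2) F) :
    h ∈ Subgroup.centralizer ({cp t} : Set (Matrix.SpecialLinearGroup (Fin 2) F)) ↔
      ((h : Matrix (Fin 2) (Fin 2) F) 0 1 = -(h : Matrix (Fin 2) (Fin 2) F) 1 0 ∧
       (h : Matrix (Fin 2) (Fin 2) F) 1 1 = (h : Matrix (Fin 2) (Fin 2) F) 0 0 + t * (h : Matrix (Fin 2) (Fin 2) F) 1 0) := by
  rw [Subgroup.mem_centralizer_singleton_iff, sl2_ext_iff, Matrix.SpecialLinearGroup.coe_mul,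
    Matrix.SpecialLinearGroup.coe_mul, cp_coe]
  obtain ⟨a, b, c, d, hM⟩ : ∃ a b c d : F, (h : Matrix (Fin 2) (Fin 2) F) = !![a, b; c, d] :=
    ⟨_, _, _, _, Matrix.eta_fin_two _⟩
  rw [hM]
  simp only [Matrix.mul_fin_two]
  constructor
  · intro e
    have e00 := congrFun (congrFun e 0) 0
    have e10 := congrFun (congrFun e 1) 0
    simp at e00 e10
    simp
    exact ⟨e00, e10⟩
  · rintro ⟨h1, h2⟩
    simp at h1 h2
    subst h1 h2
    ext i j
    fin_cases i <;> fin_cases j <;> simp <;> ring

theorem card_centralizer_le [Fintype F] (t : F) (l : AlgebraicClosure F) (hl0 : l ≠ 0)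
    (hl : l + l⁻¹ = algebraMap F (AlgebraicClosure F) t) (hfrob : l ^ Fintype.card F = l⁻¹) (hne : l ≠ l⁻¹) :
    Nat.card (Subgroup.centralizer ({cp t} : Set (Matrix.SpecialLinearGroup (Fin 2) F))) ≤ Fintype.card F + 1 := by
  classical
  have hmemroot : ∀ h : Subgroup.centralizer ({cp t} : Set (Matrix.SpecialLinearGroup (Fin 2) F)),
      algebraMap F (AlgebraicClosure F) ((h.1 : Matrix (Fin 2) (Fin 2) F) 0 0) +
        algebraMap F (AlgebraicClosure F) ((h.1 : Matrix (Fin 2) (Fin 2) F) 1 0) * l ∈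
        Polynomial.nthRootsFinset (Fintype.card F + 1) (1 : AlgebraicClosure F) := by
    rintro ⟨h, hh⟩
    rw [Polynomial.mem_nthRootsFinset (Nat.succ_pos _)]
    rw [mem_centralizer_cp] at hh
    have hdet := sl2_det h
    rw [hh.1, hh.2] at hdet
    simp only
    generalize (h : Matrix (Fin 2) (Fin 2) F) 0 0 = a at *
    generalize (h : Matrix (Fin 2) (Fin 2) F) 1 0 = c at *
    have hpow : (algebraMap F (AlgebraicClosure F) a + algebraMap F (AlgebraicClosure F) c * l) ^ Fintype.card F =
        algebraMap F (AlgebraicClosure F) a + algebraMap F (AlgebraicClosure F) c * l⁻¹ := by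
      have h1 : (FiniteField.frobeniusAlgHom F (AlgebraicClosure F))
          (algebraMap F (AlgebraicClosure F) a + algebraMap F (AlgebraicClosure F) c * l) =
          algebraMap F (AlgebraicClosure F) a + algebraMap F (AlgebraicClosure F) c *
            (FiniteField.frobeniusAlgHom F (AlgebraicClosure F)) l := by
        rw [map_add, map_mul, AlgHom.commutes, AlgHom.commutes]
      simp only [FiniteField.coe_frobeniusAlgHom] at h1
      rw [h1, hfrob]
    rw [pow_succ, hpow]
    have hdet' := congrArg (algebraMap F (AlgebraicClosure F)) hdet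
    simp only [map_sub, map_mul, map_add, map_neg, map_one] at hdet'
    rw [← hl] at hdet'
    have hll : l * l⁻¹ = 1 := mul_inv_cancel₀ hl0
    linear_combination hdet' + (algebraMap F (AlgebraicClosure F) c) ^ 2 * hll
  let f : Subgroup.centralizer ({cp t} : Set (Matrix.SpecialLinearGroup (Fin 2) F)) →
      Polynomial.nthRootsFinset (Fintype.card F + 1) (1 : AlgebraicClosure F) := fun h => ⟨_, hmemroot h⟩
  have hf : Function.Injective f := by
    rintro ⟨h, hh⟩ ⟨k, hk⟩ hfk
    have e : algebraMap F (AlgebraicClosure F) ((h : Matrix (Fin 2) (Fin 2) F) 0 0) +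
        algebraMap F (AlgebraicClosure F) ((h : Matrix (Fin 2) (Fin 2) F) 1 0) * l =
        algebraMap F (AlgebraicClosure F) ((k : Matrix (Fin 2) (Fin 2) F) 0 0) +
        algebraMap F (AlgebraicClosure F) ((k : Matrix (Fin 2) (Fin 2) F) 1 0) * l := congrArg Subtype.val hfk
    rw [mem_centralizer_cp] at hh hk
    have hc : (h : Matrix (Fin 2) (Fin 2) F) 1 0 = (k : Matrix (Fin 2) (Fin 2) F) 1 0 := by
      by_contra hcne
      apply hne
      have hsub : (h : Matrix (Fin 2) (Fin 2) F) 1 0 - (k : Matrix (Fin 2) (Fin 2) F) 1 0 ≠ 0 := sub_ne_zero.2 hcne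
      have hlF : l = algebraMap F (AlgebraicClosure F)
          (((k : Matrix (Fin 2) (Fin 2) F) 0 0 - (h : Matrix (Fin 2) (Fin 2) F) 0 0) /
            ((h : Matrix (Fin 2) (Fin 2) F) 1 0 - (k : Matrix (Fin 2) (Fin 2) F) 1 0)) := by
        rw [map_div₀, map_sub, map_sub]
        have hsub' : algebraMap F (AlgebraicClosure F) ((h : Matrix (Fin 2) (Fin 2) F) 1 0) -
            algebraMap F (AlgebraicClosure F) ((k : Matrix (Fin 2) (Fin 2) F) 1 0) ≠ 0 := by
          rw [← map_sub]
          exact (map_ne_zero _).2 hsub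
        rw [eq_div_iff hsub']
        linear_combination e
      rw [← hfrob]
      conv_rhs => rw [hlF]
      rw [← map_pow, FiniteField.pow_card, ← hlF]
    have ha : (h : Matrix (Fin 2) (Fin 2) F) 0 0 = (k : Matrix (Fin 2) (Fin 2) F) 0 0 := by
      rw [hc] at e
      exact (algebraMap F (AlgebraicClosure F)).injective (add_right_cancel e)
    apply Subtype.ext
    apply Subtype.ext
    ext i j
    fin_cases i <;> fin_cases j <;> simp [hh.1, hh.2, hk.1, hk.2, ha, hc]
  calc Nat.card (Subgroup.centralizer ({cp t} : Set (Matrix.SpecialLinearGroup (Fin 2) F)))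
      ≤ Nat.card (Polynomial.nthRootsFinset (Fintype.card F + 1) (1 : AlgebraicClosure F)) :=
        Nat.card_le_card_of_injective f hf
    _ = (Polynomial.nthRootsFinset (Fintype.card F + 1) (1 : AlgebraicClosure F)).card := by
        rw [Nat.card_eq_fintype_card, Fintype.card_coe]
    _ ≤ Fintype.card F + 1 := by
        unfold Polynomial.nthRootsFinset
        exact (Multiset.toFinset_card_le _).trans (Polynomial.card_nthRoots _ _)

/-- Let F be a finite field with q elements, q odd. Then SL₂ over F contains a cyclic subgroup T′ of order q + 1 (a non-split torus) with the following properties: T′ is its own centraliser, and indeed the centraliser of each element of T′ other than 1 and −1 is exactly T′; every element of SL₂ having no eigenvector in F² is conjugate to an element of T′; the normaliser of T′ has order 2(q + 1) and exactly (q + 7)/2 conjugacy classes; and every element of that normaliser outside T′ has square −1. -/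
theorem result {F : Type*} [Field F] [Fintype F] (hodd : Odd (Fintype.card F)) :
    ∃ T' : Subgroup (Matrix.SpecialLinearGroup (Fin 2) F), IsCyclic T' ∧ Nat.card T' = Fintype.card F + 1 ∧
      Subgroup.centralizer ((T' : Set (Matrix.SpecialLinearGroup (Fin 2) F))) = T' ∧
      (∀ g : Matrix.SpecialLinearGroup (Fin 2) F, g ∈ T' → (g : Matrix (Fin 2) (Fin 2) F) ≠ 1 → (g : Matrix (Fin 2) (Fin 2) F) ≠ -1 → Subgroup.centralizer ({g} : Set (Matrix.SpecialLinearGroup (Fin 2) F)) = T') ∧
      (∀ g : Matrix.SpecialLinearGroup (Fin 2) F, (∀ (c : F) (v : Fin 2 → F), v ≠ 0 → (g : Matrix (Fin 2) (Fin 2) F).mulVec v ≠ c • v) → ∃ h : Matrix.SpecialLinearGroup (Fin 2) F, h * g * h⁻¹ ∈ T') ∧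
      Nat.card (Subgroup.normalizer (T' : Set (Matrix.SpecialLinearGroup (Fin 2) F))) = 2 * (Fintype.card F + 1) ∧
      Nat.card (ConjClasses (Subgroup.normalizer (T' : Set (Matrix.SpecialLinearGroup (Fin 2) F)))) = (Fintype.card F + 7) / 2 ∧
      ∀ g : Matrix.SpecialLinearGroup (Fin 2) F, g ∈ Subgroup.normalizer (T' : Set (Matrix.SpecialLinearGroup (Fin 2) F)) → g ∉ T' → ((g * g) : Matrix (Fin 2) (Fin 2) F) = -1 := by
  have hodd' : Fintype.card F % 2 = 1 := Nat.odd_iff.1 hodd
  have h2 : (2 : F) ≠ 0 := two_ne_zero_of_odd_card hodd'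
  have hq3 : 3 ≤ Fintype.card F := by
    have : 1 < Fintype.card F := Fintype.one_lt_card
    omega
  obtain ⟨X, l, hl0, hne, hlX, hord⟩ :=
    Cfsg.Agent.S2475.exists_torus_elt (F := F) (Fintype.card F + 1) (by omega) (Or.inr rfl)
  set t := Matrix.trace (X : Matrix (Fin 2) (Fin 2) F) with ht
  set A := cp t with hA
  have hl : l + l⁻¹ = algebraMap F (AlgebraicClosure F) (Matrix.trace (A : Matrix (Fin 2) (Fin 2) F)) := by
    rw [hA, cp_trace]; exact hlX
  have hlq1 : l ^ (Fintype.card F + 1) = 1 := by rw [← hord]; exact pow_orderOf_eq_one l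
  have hfrob : l ^ Fintype.card F = l⁻¹ := by
    rw [pow_succ] at hlq1
    exact eq_inv_of_mul_eq_one_left hlq1
  have ht4 : t ^ 2 ≠ 4 := trace_sq_ne_four_of_eigen t l hl0 hne hlX
  have hordA : orderOf A = Fintype.card F + 1 := by
    rw [sl2_orderOf_eq_eigen A l hl0 hne hl, hord]
  have hcardT : Nat.card (Subgroup.zpowers A) = Fintype.card F + 1 := by
    rw [Nat.card_zpowers, hordA]
  have hTC : Subgroup.zpowers A = Subgroup.centralizer ({A} : Set (Matrix.SpecialLinearGroup (Fin 2) F)) := by
    apply Subgroup.eq_of_le_of_card_ge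
    · rw [Subgroup.zpowers_le, Subgroup.mem_centralizer_singleton_iff]
    · rw [hcardT]
      exact card_centralizer_le t l hl0 hlX hfrob hne
  have hmemT : ∀ h : Matrix.SpecialLinearGroup (Fin 2) F, h ∈ Subgroup.zpowers A ↔
      ((h : Matrix (Fin 2) (Fin 2) F) 0 1 = -(h : Matrix (Fin 2) (Fin 2) F) 1 0 ∧
       (h : Matrix (Fin 2) (Fin 2) F) 1 1 = (h : Matrix (Fin 2) (Fin 2) F) 0 0 + t * (h : Matrix (Fin 2) (Fin 2) F) 1 0) := by
    intro h
    rw [hTC, hA, mem_centralizer_cp]
  have hcomm : ∀ a ∈ Subgroup.zpowers A, ∀ b ∈ Subgroup.zpowers A, a * b = b * a := by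
    intro a ha b hb
    obtain ⟨i, rfl⟩ := Subgroup.mem_zpowers_iff.1 ha
    obtain ⟨j, rfl⟩ := Subgroup.mem_zpowers_iff.1 hb
    exact zpow_mul_comm A i j
  have hAT : A ∈ Subgroup.zpowers A := Subgroup.mem_zpowers A
  -- the inverting element
  obtain ⟨w, hw⟩ := sl2_conj_of_trace_eq hodd' A A⁻¹ (by rw [hA, cp_trace]; exact ht4) (sl2_trace_inv A)
  have hwinv : ∀ s ∈ Subgroup.zpowers A, w * s * w⁻¹ = s⁻¹ := by
    intro s hs
    obtain ⟨i, rfl⟩ := Subgroup.mem_zpowers_iff.1 hs
    rw [← conj_zpow, ← hw, inv_zpow]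
  have hAA : A⁻¹ ≠ A := by
    intro h
    have h1 : A ^ 2 = 1 := by
      rw [pow_two]
      nth_rewrite 1 [← h]
      exact inv_mul_cancel A
    have := Nat.le_of_dvd (by norm_num) (orderOf_dvd_of_pow_eq_one h1)
    omega
  have hwT : w ∉ Subgroup.zpowers A := by
    intro h
    apply hAA
    rw [hw, hcomm w h A hAT, mul_assoc, mul_inv_cancel, mul_one]
  -- dichotomy for the normaliser
  have hdich : ∀ g ∈ Subgroup.normalizer ((Subgroup.zpowers A : Subgroup _) : Set (Matrix.SpecialLinearGroup (Fin 2) F)),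
      g * A * g⁻¹ = A ∨ g * A * g⁻¹ = A⁻¹ := by
    intro g hg
    have h1 := (Subgroup.mem_normalizer_iff.1 hg A).1 hAT
    have htr := sl2_trace_conj g A
    have hdet := sl2_det (g * A * g⁻¹)
    rw [hmemT] at h1
    rw [Matrix.trace_fin_two, h1.2] at htr
    nth_rewrite 3 [hA] at htr
    rw [cp_trace] at htr
    rw [h1.1, h1.2] at hdet
    have hinvA : ((A⁻¹ : Matrix.SpecialLinearGroup (Fin 2) F) : Matrix (Fin 2) (Fin 2) F) = !![t, 1; -1, 0] := by
      rw [Matrix.SpecialLinearGroup.coe_inv, hA, cp_coe, Matrix.adjugate_fin_two_of]; simp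
    generalize hB : g * A * g⁻¹ = B at *
    have hc : (1 - (B : Matrix (Fin 2) (Fin 2) F) 1 0) * (1 + (B : Matrix (Fin 2) (Fin 2) F) 1 0) = 0 := by
      have : (t ^ 2 - 4) * ((1 - (B : Matrix (Fin 2) (Fin 2) F) 1 0) * (1 + (B : Matrix (Fin 2) (Fin 2) F) 1 0)) = 0 := by
        have e : 2 * (B : Matrix (Fin 2) (Fin 2) F) 0 0 = t - t * (B : Matrix (Fin 2) (Fin 2) F) 1 0 := by
          linear_combination htr
        linear_combination 4 * hdet - (2 * (B : Matrix (Fin 2) (Fin 2) F) 0 0 + t + t * (B : Matrix (Fin 2) (Fin 2) F) 1 0) * e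
      exact (mul_eq_zero.1 this).resolve_left (sub_ne_zero.2 ht4)
    rcases mul_eq_zero.1 hc with h | h
    · left
      have hc1 : (B : Matrix (Fin 2) (Fin 2) F) 1 0 = 1 := by linear_combination -h
      have ha : (B : Matrix (Fin 2) (Fin 2) F) 0 0 = 0 := by
        have : 2 * (B : Matrix (Fin 2) (Fin 2) F) 0 0 = 0 := by rw [hc1] at htr; linear_combination htr
        exact (mul_eq_zero.1 this).resolve_left h2
      rw [sl2_ext_iff, hA, cp_coe]
      ext i j
      fin_cases i <;> fin_cases j <;> simp [h1.1, h1.2, hc1, ha]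
    · right
      have hc1 : (B : Matrix (Fin 2) (Fin 2) F) 1 0 = -1 := by linear_combination h
      have ha : (B : Matrix (Fin 2) (Fin 2) F) 0 0 = t := by
        have : 2 * ((B : Matrix (Fin 2) (Fin 2) F) 0 0 - t) = 0 := by rw [hc1] at htr; linear_combination htr
        exact sub_eq_zero.1 ((mul_eq_zero.1 this).resolve_left h2)
      rw [sl2_ext_iff, hinvA]
      ext i j
      fin_cases i <;> fin_cases j <;> simp [h1.1, h1.2, hc1, ha]
  have hfix : ∀ g : Matrix.SpecialLinearGroup (Fin 2) F, g * A * g⁻¹ = A → g ∈ Subgroup.zpowers A := by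
    intro g hg
    rw [hTC, Subgroup.mem_centralizer_singleton_iff]
    calc g * A = (g * A * g⁻¹) * g := by group
      _ = A * g := by rw [hg]
  have hpack := normalizer_package (Subgroup.zpowers A) w hcomm hwinv hwT
    (by
      intro g hg
      rcases hdich g hg with h | h
      · left; exact hfix g h
      · right
        apply hfix
        have : w⁻¹ * g * A * (w⁻¹ * g)⁻¹ = w⁻¹ * (g * A * g⁻¹) * w := by group
        rw [this, h, hw]; group)
    (-1)
    (by rw [hmemT, Matrix.SpecialLinearGroup.coe_neg, Matrix.SpecialLinearGroup.coe_one]; simp)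
    (sl2_neg_one_ne_one h2)
    (fun s _ => sl2_mul_self_eq_one_iff h2 s)
  rw [hcardT] at hpack
  refine ⟨Subgroup.zpowers A, inferInstance, hcardT, ?_, ?_, ?_, hpack.1, by have := hpack.2; omega, ?_⟩
  · -- self-centralising
    apply le_antisymm
    · intro h hh
      rw [hTC, Subgroup.mem_centralizer_singleton_iff]
      exact ((Subgroup.mem_centralizer_iff.1 hh) A hAT).symm
    · intro h hh
      rw [Subgroup.mem_centralizer_iff]
      intro k hk
      exact hcomm k hk h hh
  · intro g hg hg1 hg2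
    apply le_antisymm
    · intro h hh
      rw [Subgroup.mem_centralizer_singleton_iff, sl2_ext_iff, Matrix.SpecialLinearGroup.coe_mul,
        Matrix.SpecialLinearGroup.coe_mul] at hh
      have hgs := (hmemT g).1 hg
      have hc0 : (g : Matrix (Fin 2) (Fin 2) F) 1 0 ≠ 0 := by
        intro h0
        rcases sl2_noncentral_entries g (by rintro (h | h); exact hg1 h; exact hg2 h) with h1 | h1 | h1
        · exact h1 h0
        · apply h1; rw [hgs.1, h0, neg_zero]
        · apply h1; rw [hgs.2, h0]; ring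
      rw [hmemT]
      have e00 := congrFun (congrFun hh 0) 0
      have e10 := congrFun (congrFun hh 1) 0
      simp [Matrix.mul_apply, Fin.sum_univ_two, hgs.1, hgs.2] at e00 e10
      constructor
      · have : (g : Matrix (Fin 2) (Fin 2) F) 1 0 * ((h : Matrix (Fin 2) (Fin 2) F) 0 1 + (h : Matrix (Fin 2) (Fin 2) F) 1 0) = 0 := by
          linear_combination e00
        have := (mul_eq_zero.1 this).resolve_left hc0
        linear_combination this
      · have : (g : Matrix (Fin 2) (Fin 2) F) 1 0 * ((h : Matrix (Fin 2) (Fin 2) F) 1 1 - (h : Matrix (Fin 2) (Fin 2) F) 0 0 - t * (h : Matrix (Fin 2) (Fin 2) F) 1 0) = 0 := by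
          linear_combination e10
        have := (mul_eq_zero.1 this).resolve_left hc0
        linear_combination this
    · intro h hh
      rw [Subgroup.mem_centralizer_singleton_iff]
      exact hcomm h hh g hg
  · -- elements without eigenvector
    intro g hg
    obtain ⟨n, hn0, hn⟩ := exists_eigen (L := AlgebraicClosure F) (Matrix.trace (g : Matrix (Fin 2) (Fin 2) F))
    have hnq : n ^ Fintype.card F ≠ n := by
      intro h
      obtain ⟨r, rfl⟩ := mem_range_of_pow_card_eq (F := F) n h
      have hr0 : r ≠ 0 := by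
        rintro rfl
        simp at hn0
      have hr : r + r⁻¹ = Matrix.trace (g : Matrix (Fin 2) (Fin 2) F) := by
        apply (algebraMap F (AlgebraicClosure F)).injective
        rw [← hn, map_add, map_inv₀]
      obtain ⟨v, hv0, hv⟩ := exists_eigenvector_of_root g r hr0 hr
      exact hg r v hv0 hv
    have hnq' : n ^ Fintype.card F = n⁻¹ := (eigen_frobenius _ n hn0 hn).resolve_left hnq
    have hnne : n ≠ n⁻¹ := by
      intro h
      apply hnq
      rw [hnq', ← h]
    have hn1 : n ^ (Fintype.card F + 1) = 1 := by rw [pow_succ, hnq', inv_mul_cancel₀ hn0]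
    have hprim : IsPrimitiveRoot l (Fintype.card F + 1) := by
      rw [← hord]; exact IsPrimitiveRoot.orderOf l
    obtain ⟨i, _, hi⟩ := hprim.eq_pow_of_pow_eq_one hn1
    have htr : Matrix.trace ((A ^ i : Matrix.SpecialLinearGroup (Fin 2) F) : Matrix (Fin 2) (Fin 2) F) =
        Matrix.trace (g : Matrix (Fin 2) (Fin 2) F) := by
      apply (algebraMap F (AlgebraicClosure F)).injective
      rw [sl2_trace_pow_eigen A l hl0 hl i, hi, hn]
    obtain ⟨P, hP⟩ := sl2_conj_of_trace_eq hodd' g (A ^ i)
      (trace_sq_ne_four_of_eigen _ n hn0 hnne hn) htr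
    exact ⟨P, hP ▸ Subgroup.npow_mem_zpowers A i⟩
  · intro g hg hgT
    have h := (hdich g hg).resolve_left (fun h => hgT (hfix g h))
    have h' : g * A = A⁻¹ * g := by
      calc g * A = (g * A * g⁻¹) * g := by group
        _ = A⁻¹ * g := by rw [h]
    rw [sl2_ext_iff, Matrix.SpecialLinearGroup.coe_mul, Matrix.SpecialLinearGroup.coe_mul,
      Matrix.SpecialLinearGroup.coe_inv, hA, cp_coe, Matrix.adjugate_fin_two_of] at h'
    have e01 := congrFun (congrFun h' 0) 1
    simp [Matrix.mul_apply, Fin.sum_univ_two] at e01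
    have := sl2_sq_of_trace_zero g (by rw [Matrix.trace_fin_two]; linear_combination -e01)
    rw [← pow_two]
    exact this

end Cfsg.Agent.S2429
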