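import Mathlib
import Cfsg.Statements.S1018
import Cfsg.Agent.Lib.Helper17.Basic

set_option autoImplicit false
set_option linter.unusedSectionVars false
open Cfsg

namespace Cfsg.Agent.S1018

open Cfsg.Agent.Lib.Helper17

variable {G : Type*} [Group G] [Finite G]

lemma mem_fixedBy_iff (H : Subgroup G) (y g : G) :
    (g : G ⧸ H) ∈ MulAction.fixedBy (G ⧸ H) y ↔ g⁻¹ * y * g ∈ H := by
  rw [MulAction.mem_fixedBy, MulAction.Quotient.smul_mk, eq_comm, QuotientGroup.eq, smul_eq_mul, mul_assoc]

lemma mem_sylow_of_mem_normalizer {p : ℕ} [Fact p.Prime] (P : Sylow p G) (z : G) (hz : orderOf z = p)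
    (hzN : z ∈ Subgroup.normalizer ((P : Subgroup G) : Set G)) : z ∈ (P : Subgroup G) := by
  have hpg : IsPGroup p (Subgroup.zpowers z) := by
    apply IsPGroup.of_card (n := 1)
    rw [Nat.card_zpowers, hz, pow_one]
  have h2 : Subgroup.zpowers z ⊓ Subgroup.normalizer ((P : Subgroup G) : Set G) = Subgroup.zpowers z ⊓ P :=
    hpg.inf_normalizer_sylow P
  have h3 : z ∈ Subgroup.zpowers z ⊓ Subgroup.normalizer ((P : Subgroup G) : Set G) :=
    ⟨Subgroup.mem_zpowers z, hzN⟩
  rw [h2] at h3
  exact h3.2

lemma zpowers_eq_sylow {p : ℕ} [Fact p.Prime] (P : Sylow p G) (hP : Nat.card ↥(P : Subgroup G) = p)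
    (z : G) (hz : orderOf z = p) (hzP : z ∈ (P : Subgroup G)) : Subgroup.zpowers z = (P : Subgroup G) := by
  apply Subgroup.eq_of_le_of_card_ge
  · rw [Subgroup.zpowers_le]; exact hzP
  · rw [hP, Nat.card_zpowers, hz]

lemma fixedBy_eq_singleton {p : ℕ} [Fact p.Prime] (P : Sylow p G) (hP : Nat.card ↥(P : Subgroup G) = p)
    (y : G) (hy : orderOf y = p) :
    ∃ g : G, y ∈ ((g • P : Sylow p G) : Subgroup G) ∧
      MulAction.fixedBy (G ⧸ Subgroup.normalizer ((P : Subgroup G) : Set G)) y =
        {(g : G ⧸ Subgroup.normalizer ((P : Subgroup G) : Set G))} := by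
  have hcard : ∀ Q : Sylow p G, Nat.card ↥(Q : Subgroup G) = p := by
    intro Q
    rw [Q.card_eq_multiplicity, ← P.card_eq_multiplicity, hP]
  have hpg : IsPGroup p (Subgroup.zpowers y) := by
    apply IsPGroup.of_card (n := 1)
    rw [Nat.card_zpowers, hy, pow_one]
  obtain ⟨Q, hQ⟩ := hpg.exists_le_sylow
  obtain ⟨g, hg⟩ := MulAction.exists_smul_eq G P Q
  have hyQ : y ∈ ((g • P : Sylow p G) : Subgroup G) := by
    rw [hg]; exact hQ (Subgroup.mem_zpowers y)
  refine ⟨g, hyQ, ?_⟩
  ext q
  induction q using QuotientGroup.induction_on with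
  | H h =>
    rw [mem_fixedBy_iff, Set.mem_singleton_iff]
    constructor
    · intro hh
      have ho : orderOf (h⁻¹ * y * h) = p := by
        have hs : SemiconjBy h (h⁻¹ * y * h) y := by
          unfold SemiconjBy; group
        rw [hs.orderOf_eq, hy]
      have h1 : h⁻¹ * y * h ∈ (P : Subgroup G) := mem_sylow_of_mem_normalizer P _ ho hh
      have h2 : y ∈ ((h • P : Sylow p G) : Subgroup G) := (mem_smul_sylow h y P).mpr h1
      have e1 := zpowers_eq_sylow (h • P) (hcard _) y hy h2
      have e2 := zpowers_eq_sylow (g • P) (hcard _) y hy hyQ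
      have e3 : h • P = g • P := Sylow.ext (e1.symm.trans e2)
      rw [QuotientGroup.eq]
      have e4 : (h⁻¹ * g) • P = P := by rw [mul_smul, ← e3, inv_smul_smul]
      exact Sylow.smul_eq_iff_mem_normalizer.mp e4
    · intro hh
      rw [QuotientGroup.eq] at hh
      have e4 : (h⁻¹ * g) • P = P := Sylow.smul_eq_iff_mem_normalizer.mpr hh
      have e3 : g • P = h • P := by
        rw [mul_smul] at e4
        calc g • P = h • (h⁻¹ • g • P) := by rw [smul_inv_smul]
          _ = h • P := by rw [e4]
      rw [e3] at hyQ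
      exact Subgroup.le_normalizer ((mem_smul_sylow h y P).mp hyQ)

/-- Let P be a Sylow p-subgroup of order p of a finite group G, and consider the action of G on the left cosets of the normalizer N of P. Then every element of order p fixes exactly one coset, and an element of N that does not centralize P fixes at most as many cosets as there are orbits of P. -/
theorem result {G : Type*} [Group G] [Finite G] (p : ℕ) [Fact p.Prime] (P : Sylow p G) (hP : Nat.card ↥(P : Subgroup G) = p) : (∀ y : G, orderOf y = p → Nat.card (MulAction.fixedBy (G ⧸ Subgroup.normalizer ((P : Subgroup G) : Set G)) y) = 1) ∧ ∀ x : G, x ∈ Subgroup.normalizer ((P : Subgroup G) : Set G) → x ∉ Subgroup.centralizer ((P : Subgroup G) : Set G) → Nat.card (MulAction.fixedBy (G ⧸ Subgroup.normalizer ((P : Subgroup G) : Set G)) x) ≤ Nat.card (MulAction.orbitRel.Quotient ↥(P : Subgroup G) (G ⧸ Subgroup.normalizer ((P : Subgroup G) : Set G))) := by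
  have hp : p.Prime := Fact.out
  constructor
  · intro y hy
    obtain ⟨g, -, hg⟩ := fixedBy_eq_singleton P hP y hy
    rw [hg]
    simp
  · intro x hxN hxC
    set N := Subgroup.normalizer ((P : Subgroup G) : Set G) with hN
    let f : MulAction.fixedBy (G ⧸ N) x → MulAction.orbitRel.Quotient ↥(P : Subgroup G) (G ⧸ N) :=
      fun q => Quotient.mk'' q.1
    apply Nat.card_le_card_of_injective f
    rintro ⟨q, hq⟩ ⟨q', hq'⟩ hqq'
    apply Subtype.ext
    show q = q'
    have h1 : q ∈ MulAction.orbit ↥(P : Subgroup G) q' := by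
      rw [← MulAction.orbitRel_apply]
      exact Quotient.exact' hqq'
    obtain ⟨u, hu⟩ := h1
    -- q = u • q'
    have hu' : (u : G) • q' = q := hu
    rw [MulAction.mem_fixedBy] at hq hq'
    by_cases hu1 : (u : G) = 1
    · rw [hu1, one_smul] at hu'; exact hu'.symm
    set w : G := (u : G)⁻¹ * (x * u * x⁻¹) with hw
    have hwP : w ∈ (P : Subgroup G) := by
      apply (P : Subgroup G).mul_mem ((P : Subgroup G).inv_mem u.2)
      exact (Subgroup.mem_normalizer_iff.mp hxN u).mp u.2
    have hwq : w • q' = q' := by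
      have e1 : x • (u : G) • q' = (u : G) • q' := by rw [hu']; exact hq
      have e2 : (x * u * x⁻¹) • q' = (u : G) • q' := by
        rw [mul_smul, mul_smul]
        have : x⁻¹ • q' = q' := by rw [inv_smul_eq_iff, hq']
        rw [this, e1]
      rw [hw, mul_smul, e2, inv_smul_smul]
    have hord : ∀ z : G, z ∈ (P : Subgroup G) → z ≠ 1 → orderOf z = p := by
      intro z hz hz1
      have h2 : orderOf z ∣ p := by
        have := orderOf_dvd_natCard (⟨z, hz⟩ : ↥(P : Subgroup G))
        rw [hP] at this
        rwa [← Subgroup.orderOf_coe] at this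
      rcases (Nat.dvd_prime hp).mp h2 with h3 | h3
      · rw [orderOf_eq_one_iff] at h3; exact absurd h3 hz1
      · exact h3
    by_cases hw1 : w = 1
    · exfalso
      apply hxC
      -- x commutes with u, which generates P
      have hcomm : x * u = u * x := by
        have : (u : G) * w = u := by rw [hw1, mul_one]
        rw [hw, mul_inv_cancel_left] at this
        calc x * u = (x * u * x⁻¹) * x := by group
          _ = u * x := by rw [this]
      have hgen := zpowers_eq_sylow P hP u (hord u u.2 hu1) u.2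
      rw [Subgroup.mem_centralizer_iff]
      intro z hz
      have hz' : z ∈ Subgroup.zpowers (u : G) := by rw [hgen]; exact hz
      obtain ⟨k, rfl⟩ := Subgroup.mem_zpowers_iff.mp hz'
      exact ((Commute.zpow_right (show Commute x u from hcomm) k).eq).symm
    · -- w has order p, fixes exactly one coset: the base one
      obtain ⟨g, -, hg⟩ := fixedBy_eq_singleton P hP w (hord w hwP hw1)
      have hb : ((1 : G) : G ⧸ N) ∈ MulAction.fixedBy (G ⧸ N) w := by
        rw [mem_fixedBy_iff]
        have e : (1 : G)⁻¹ * w * 1 = w := by group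
        rw [e]
        exact Subgroup.le_normalizer hwP
      have hq'm : q' ∈ MulAction.fixedBy (G ⧸ N) w := hwq
      rw [hg, Set.mem_singleton_iff] at hb hq'm
      have hq'1 : q' = ((1 : G) : G ⧸ N) := hq'm.trans hb.symm
      rw [← hu', hq'1, MulAction.Quotient.smul_mk, smul_eq_mul, mul_one, QuotientGroup.eq, mul_one]
      exact N.inv_mem (Subgroup.le_normalizer u.2)

end Cfsg.Agent.S1018
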