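import Mathlib
import Cfsg.Statements.S1019

set_option autoImplicit false
open Cfsg

namespace Cfsg.Agent.S1019

lemma card_conj_mem {G : Type*} [Group G] [Finite G] (x : G) (T : G → Prop) :
    Nat.card {g : G // T (g⁻¹ * x * g)} =
      Nat.card {y : G // IsConj x y ∧ T y} * Nat.card (Subgroup.centralizer ({x} : Set G)) := by
  classical
  have e : {g : G // T (g⁻¹ * x * g)} ≃
      Σ y : {y : G // IsConj x y ∧ T y}, {g : G // g⁻¹ * x * g = y.1} :=
    { toFun := fun g => ⟨⟨g.1⁻¹ * x * g.1, ⟨isConj_iff.mpr ⟨g.1⁻¹, by simp⟩, g.2⟩⟩, ⟨g.1, rfl⟩⟩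
      invFun := fun s => ⟨s.2.1, by rw [s.2.2]; exact s.1.2.2⟩
      left_inv := fun g => rfl
      right_inv := by
        rintro ⟨⟨y, hy⟩, ⟨g, hg⟩⟩
        simp only at hg
        subst hg
        rfl }
  have hfib : ∀ y : {y : G // IsConj x y ∧ T y},
      Nat.card {g : G // g⁻¹ * x * g = y.1} = Nat.card (Subgroup.centralizer ({x} : Set G)) := by
    rintro ⟨y, hy, -⟩
    obtain ⟨c, hc⟩ := isConj_iff.mp hy
    apply Nat.card_congr
    refine
      { toFun := fun g => ⟨g.1 * c, ?_⟩
        invFun := fun z => ⟨z.1 * c⁻¹, ?_⟩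
        left_inv := fun g => by simp
        right_inv := fun z => by simp }
    · rw [Subgroup.mem_centralizer_singleton_iff]
      have h : g.1⁻¹ * x * g.1 = c * x * c⁻¹ := g.2.trans hc.symm
      have h2 : x * (g.1 * c) = g.1 * (g.1⁻¹ * x * g.1) * c := by group
      rw [h2, h]
      group
    · have h := Subgroup.mem_centralizer_singleton_iff.mp z.2
      simp only
      rw [← hc]
      have h2 : (z.1 * c⁻¹)⁻¹ * x * (z.1 * c⁻¹) = c * (z.1⁻¹ * (x * z.1)) * c⁻¹ := by group
      rw [h2, ← h]
      group
  have := Fintype.ofFinite {y : G // IsConj x y ∧ T y}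
  rw [Nat.card_congr e, Nat.card_sigma, Finset.sum_congr rfl (fun y _ => hfib y), Finset.sum_const,
    Finset.card_univ, smul_eq_mul, ← Nat.card_eq_fintype_card]

/-- Let H be a subgroup of a finite group G and x an element of H. In the action of G on the left cosets of H, the number of cosets fixed by x, multiplied by the size of the conjugacy class of x, equals the index of H multiplied by the number of conjugates of x that lie in H. -/
theorem result {G : Type*} [Group G] [Finite G] (H : Subgroup G) (x : G) (hx : x ∈ H) : Nat.card (MulAction.fixedBy (G ⧸ H) x) * Nat.card {g : G // IsConj x g} = H.index * Nat.card {g : G // IsConj x g ∧ g ∈ H} := by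
  have h1 : Nat.card {g : G // g⁻¹ * x * g ∈ H} = Nat.card H * Nat.card (MulAction.fixedBy (G ⧸ H) x) := by
    rw [← QuotientGroup.card_preimage_mk]
    apply Nat.card_congr
    apply Equiv.subtypeEquivRight
    intro g
    rw [Set.mem_preimage, MulAction.mem_fixedBy, MulAction.Quotient.smul_mk, eq_comm, QuotientGroup.eq, smul_eq_mul, mul_assoc]
  have h2 := card_conj_mem x (fun y => y ∈ H)
  have h3 := card_conj_mem x (fun _ => True)
  have h4 : Nat.card {g : G // (fun _ => True) (g⁻¹ * x * g)} = Nat.card G :=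
    Nat.card_congr (Equiv.subtypeUnivEquiv (fun _ => trivial))
  have h5 : Nat.card {y : G // IsConj x y ∧ (fun _ => True) y} = Nat.card {g : G // IsConj x g} :=
    Nat.card_congr (Equiv.subtypeEquivRight (fun y => by simp))
  rw [h4, h5] at h3
  rw [h1] at h2
  have h6 := H.index_mul_card
  set a := Nat.card (MulAction.fixedBy (G ⧸ H) x)
  set b := Nat.card {g : G // IsConj x g}
  set c := Nat.card (Subgroup.centralizer ({x} : Set G))
  set d := Nat.card {g : G // IsConj x g ∧ g ∈ H}
  set h := Nat.card H
  have hc : 0 < c := Nat.card_pos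
  have hh : 0 < h := Nat.card_pos
  have : (a * b) * (c * h) = (H.index * d) * (c * h) := by
    calc (a * b) * (c * h) = (h * a) * (b * c) := by ring
      _ = (d * c) * (H.index * h) := by rw [h2, ← h3, h6]
      _ = (H.index * d) * (c * h) := by ring
  exact Nat.eq_of_mul_eq_mul_right (Nat.mul_pos hc hh) this

end Cfsg.Agent.S1019
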