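import Mathlib
import Cfsg.Statements.S0985

set_option autoImplicit false
open Cfsg

namespace Cfsg.Agent.S0985

lemma card_modEq_one_of_orbits {H X : Type*} [Group H] [MulAction H X] [Finite X] (n : ℕ) (x₀ : X)
    (hfix : ∀ h : H, h • x₀ = x₀) (hdiv : ∀ x : X, x ≠ x₀ → n ∣ Nat.card (MulAction.orbit H x)) :
    Nat.card X ≡ 1 [MOD n] := by
  classical
  haveI := Fintype.ofFinite X
  haveI : Fintype (MulAction.orbitRel.Quotient H X) := Fintype.ofFinite _
  have e := MulAction.selfEquivSigmaOrbits H X
  rw [Nat.card_congr e, Nat.card_sigma]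
  let ω₀ : MulAction.orbitRel.Quotient H X := Quotient.mk'' x₀
  have horb : MulAction.orbit H x₀ = {x₀} := by
    ext y
    constructor
    · rintro ⟨h, rfl⟩
      exact hfix h
    · rintro rfl
      exact MulAction.mem_orbit_self _
  have hout : ∀ ω : MulAction.orbitRel.Quotient H X, ω.out = x₀ → ω = ω₀ := by
    intro ω h
    rw [← Quotient.out_eq' ω, h]
  have hout0 : ω₀.out = x₀ := by
    have h1 : (Quotient.mk'' ω₀.out : MulAction.orbitRel.Quotient H X) = Quotient.mk'' x₀ := Quotient.out_eq' ω₀
    have h2 : ω₀.out ∈ MulAction.orbit H x₀ := by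
      rw [← MulAction.orbitRel_apply]
      exact Quotient.exact' h1
    rw [horb] at h2
    exact h2
  rw [← Finset.add_sum_erase Finset.univ _ (Finset.mem_univ ω₀)]
  have h1 : Nat.card (MulAction.orbit H ω₀.out) = 1 := by
    rw [hout0, horb]
    simp
  rw [h1]
  have h2 : n ∣ ∑ ω ∈ Finset.univ.erase ω₀, Nat.card (MulAction.orbit H (Quotient.out ω)) := by
    apply Finset.dvd_sum
    intro ω hω
    apply hdiv
    intro h
    exact (Finset.ne_of_mem_erase hω) (hout ω h)
  obtain ⟨c, hc⟩ := h2
  rw [hc]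
  simp [Nat.ModEq]

/-- If the number of Sylow p-subgroups of a finite group is not congruent to 1 modulo p^k, then there are two distinct Sylow p-subgroups P and R such that the index of P ∩ R in P is at most p^(k-1). -/
theorem result {G : Type*} [Group G] [Finite G] (p k : ℕ) [Fact p.Prime] (h : ¬ Nat.card (Sylow p G) ≡ 1 [MOD p ^ k]) : ∃ P R : Sylow p G, P ≠ R ∧ ((R : Subgroup G).subgroupOf (P : Subgroup G)).index ≤ p ^ (k - 1) := by
  by_contra hcon
  push Not at hcon
  apply h
  obtain ⟨P⟩ : Nonempty (Sylow p G) := inferInstance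
  have hp : p.Prime := Fact.out
  rcases Nat.eq_zero_or_pos k with rfl | hk
  · simp [Nat.ModEq, Nat.mod_one]
  apply card_modEq_one_of_orbits (H := ↥(P : Subgroup G)) (p ^ k) P
  · intro g
    rw [Subgroup.smul_def, Sylow.smul_eq_iff_mem_normalizer]
    exact Subgroup.le_normalizer g.2
  · intro R hR
    have hlt := hcon P R (Ne.symm hR)
    have hstab : MulAction.stabilizer ↥(P : Subgroup G) R = (R : Subgroup G).subgroupOf (P : Subgroup G) := by
      have h1 : (P : Subgroup G) ⊓ Subgroup.normalizer ((R : Subgroup G) : Set G) = (P : Subgroup G) ⊓ R := P.2.inf_normalizer_sylow R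
      ext g
      rw [MulAction.mem_stabilizer_iff, Subgroup.smul_def, Sylow.smul_eq_iff_mem_normalizer, Subgroup.mem_subgroupOf]
      constructor
      · intro hg
        have : (g : G) ∈ (P : Subgroup G) ⊓ Subgroup.normalizer ((R : Subgroup G) : Set G) := ⟨g.2, hg⟩
        rw [h1] at this
        exact this.2
      · intro hg
        exact Subgroup.le_normalizer hg
    have hidx : Nat.card (MulAction.orbit ↥(P : Subgroup G) R) = ((R : Subgroup G).subgroupOf (P : Subgroup G)).index := by
      rw [← hstab, MulAction.index_stabilizer, Nat.card_coe_set_eq]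
    rw [hidx]
    obtain ⟨n, hn⟩ := P.2.exists_card_eq
    have hdvd : ((R : Subgroup G).subgroupOf (P : Subgroup G)).index ∣ p ^ n := hn ▸ Subgroup.index_dvd_card _
    obtain ⟨m, hm, hm'⟩ := (Nat.dvd_prime_pow hp).mp hdvd
    rw [hm'] at hlt ⊢
    have : k - 1 < m := (Nat.pow_lt_pow_iff_right hp.one_lt).mp hlt
    exact pow_dvd_pow p (by omega)

end Cfsg.Agent.S0985
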