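import Cfsg.Statements.S0910
import Mathlib
import Cfsg.Agent.S0142
import Cfsg.Agent.Lib.Helper3.Integral
import Cfsg.Agent.Lib.Helper80.Linear
import Cfsg.Agent.Lib.Helper78.Osima

set_option autoImplicit false
open Cfsg

namespace Cfsg.Agent.S0910

open Cfsg.Agent.Lib.Helper3 Module in
/-- in a nonabelian simple group, an irreducible representation in which some nonidentity element
acts as a scalar has the principal character. -/
theorem eq_one_of_scalar {G : Type*} [Group G] [Finite G] [IsSimpleGroup G]
    (hna : ∃ a b : G, a * b ≠ b * a) {n : ℕ} (ρ : Representation ℂ G (Fin n → ℂ))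
    (hirr : ρ.IsIrreducible) (g : G) (hg : g ≠ 1) (ω : ℂ) (hω : ρ g = ω • LinearMap.id) :
    ρ.character = fun _ => 1 := by
  classical
  have := Fintype.ofFinite G
  let N : Subgroup G :=
    { carrier := {x | ∃ c : ℂ, ρ x = c • LinearMap.id}
      one_mem' := ⟨1, by simp; rfl⟩
      mul_mem' := by
        rintro a b ⟨c, hc⟩ ⟨d, hd⟩
        refine ⟨c * d, ?_⟩
        rw [map_mul, hc, hd]
        ext v
        simp [smul_smul, mul_comm]
      inv_mem' := by
        rintro a ⟨c, hc⟩
        refine ⟨c⁻¹, ?_⟩
        have hc0 : c ≠ 0 := by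
          intro h0
          rw [h0, zero_smul] at hc
          have h1 : ρ (a⁻¹ * a) = 0 := by rw [map_mul, hc, mul_zero]
          rw [inv_mul_cancel, map_one] at h1
          have := ((isIrreducible_iff ρ).mp hirr).1
          obtain ⟨v, hv⟩ := exists_ne (0 : Fin n → ℂ)
          exact hv (by simpa using congrArg (fun T : Module.End ℂ (Fin n → ℂ) => T v) h1)
        have h1 : ρ a⁻¹ * ρ a = 1 := by rw [← map_mul, inv_mul_cancel, map_one]
        rw [hc] at h1
        have h2 : c • ρ a⁻¹ = 1 := by
          rw [← h1]; ext v; simp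
        calc ρ a⁻¹ = c⁻¹ • (c • ρ a⁻¹) := by rw [smul_smul, inv_mul_cancel₀ hc0, one_smul]
          _ = c⁻¹ • LinearMap.id := by rw [h2]; rfl }
  have hNnormal : N.Normal := by
    constructor
    rintro a ⟨c, hc⟩ b
    refine ⟨c, ?_⟩
    rw [map_mul, map_mul, hc]
    have h1 : ρ b * ρ b⁻¹ = 1 := by rw [← map_mul, mul_inv_cancel, map_one]
    calc ρ b * c • LinearMap.id * ρ b⁻¹ = c • (ρ b * ρ b⁻¹) := by ext v; simp
      _ = _ := by rw [h1]; rfl
  have hNtop : N = ⊤ := by
    rcases hNnormal.eq_bot_or_eq_top with h | h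
    · exfalso
      have : g ∈ N := ⟨ω, hω⟩
      rw [h, Subgroup.mem_bot] at this
      exact hg this
    · exact h
  have hscal : ∀ x : G, ∃ c : ℂ, ρ x = c • LinearMap.id := by
    intro x
    have : x ∈ N := by rw [hNtop]; trivial
    exact this
  rcases (MonoidHom.normal_ker ρ).eq_bot_or_eq_top with h | h
  · exfalso
    have hinj : Function.Injective ρ := (MonoidHom.ker_eq_bot_iff ρ).mp h
    obtain ⟨a, b, hab⟩ := hna
    apply hab
    apply hinj
    obtain ⟨c, hc⟩ := hscal a
    obtain ⟨d, hd⟩ := hscal b
    rw [map_mul, map_mul, hc, hd]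
    ext v
    simp [smul_smul, mul_comm]
  · have htriv : ∀ x : G, ρ.character x = ρ.character 1 := by
      intro x
      have hx : x ∈ MonoidHom.ker ρ := by rw [h]; trivial
      simp only [Representation.character]
      rw [MonoidHom.mem_ker.mp hx, ρ.map_one]
    have hχ : IsIrrCharacter G ρ.character := ⟨n, ρ, hirr, rfl⟩
    have h1 := classInner_irr_self hχ
    have hc : (Nat.card G : ℂ) ≠ 0 := by exact_mod_cast Nat.card_pos.ne'
    have hn : ρ.character 1 = (n : ℂ) := by rw [Representation.char_one]; simp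
    simp only [classInner, htriv, hn, Finset.sum_const, Finset.card_univ,
      nsmul_eq_mul, Complex.conj_natCast] at h1
    rw [← Nat.card_eq_fintype_card (α := G), inv_mul_cancel_left₀ hc] at h1
    have h2 : n * n = 1 := by exact_mod_cast h1
    have h3 : n = 1 := Nat.eq_one_of_mul_eq_one_right h2
    funext x
    rw [htriv, hn, h3]; simp

/-- Let G be a non-abelian finite simple group and p a prime. If an irreducible character χ lies in the principal block (relative to a maximal ideal of the algebraic integers containing p) and χ 1 is a power of p, then χ is the principal character. -/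
theorem result {G : Type*} [Group G] [Finite G] (p : ℕ) [Fact p.Prime] (M : Ideal Cfsg.AlgInt) (hM : Cfsg.IsPModular p M) [IsSimpleGroup G] (hna : ∃ a b : G, a * b ≠ b * a) (χ : Cfsg.IrrCharacter G) (hχ : χ ∈ Cfsg.principalBlock M G) (k : ℕ) (hdeg : (χ : G → ℂ) 1 = (p : ℂ) ^ k) : (χ : G → ℂ) = fun _ => 1 := by
  classical
  have hMp := Cfsg.Agent.Lib.Helper78.pmod_isPrime hM
  have hp : p.Prime := Fact.out
  rcases Nat.eq_zero_or_pos k with hk | hk
  · -- linear character
    subst hk
    rw [pow_zero] at hdeg
    obtain ⟨f, hf⟩ := Cfsg.Agent.Lib.Helper80.exists_hom_of_degree_one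
      (Cfsg.Agent.Lib.Helper80.isCharacter_of_irr χ.2) hdeg
    rcases (MonoidHom.normal_ker f).eq_bot_or_eq_top with h | h
    · exfalso
      have hinj : Function.Injective f := (MonoidHom.ker_eq_bot_iff f).mp h
      obtain ⟨a, b, hab⟩ := hna
      apply hab
      apply hinj
      rw [map_mul, map_mul, mul_comm]
    · funext x
      have hx : x ∈ MonoidHom.ker f := by rw [h]; trivial
      rw [hf, MonoidHom.mem_ker.mp hx]; simp
  · obtain ⟨n, ρ, hirr, hρ⟩ := χ.2
    have hn : (n : ℂ) = (p : ℂ) ^ k := by
      rw [← hdeg, ← hρ, Representation.char_one]; simp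
    have hn' : n = p ^ k := by exact_mod_cast hn
    have hfr : Module.finrank ℂ (Fin n → ℂ) = p ^ k := by simp [hn']
    have hdvd : p ∣ Nat.card G := by
      have h1 := Cfsg.Agent.Lib.Helper3.finrank_dvd_card ρ
      rw [hfr] at h1
      exact (dvd_pow_self p hk.ne').trans h1
    obtain ⟨P⟩ : Nonempty (Sylow p G) := inferInstance
    have hPne : (P : Subgroup G) ≠ ⊥ := P.ne_bot_of_dvd_card hdvd
    have : Nontrivial (P : Subgroup G) := (Subgroup.nontrivial_iff_ne_bot _).2 hPne
    have hcen := IsPGroup.center_nontrivial P.2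
    obtain ⟨⟨z, hz⟩, hz1⟩ := exists_ne (1 : Subgroup.center (P : Subgroup G))
    set g : G := (z : G) with hgdef
    have hg1 : g ≠ 1 := by
      intro h
      apply hz1
      apply Subtype.ext
      apply Subtype.ext
      exact h
    have hPle : (P : Subgroup G) ≤ Subgroup.centralizer ({g} : Set G) := by
      intro x hx
      rw [Subgroup.mem_centralizer_singleton_iff]
      have := Subgroup.mem_center_iff.1 hz ⟨x, hx⟩
      exact congrArg Subtype.val this
    have hidx : ¬ p ∣ (Subgroup.centralizer ({g} : Set G)).index :=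
      fun h => P.not_dvd_index (h.trans (Subgroup.index_dvd_of_le hPle))
    have hcop : Nat.Coprime (Module.finrank ℂ (Fin n → ℂ))
        (Subgroup.centralizer ({g} : Set G)).index := by
      rw [hfr]
      exact Nat.Coprime.pow_left k ((Nat.Prime.coprime_iff_not_dvd hp).2 hidx)
    rcases Cfsg.Agent.S0142.result ρ g hcop with h0 | hnorm
    · exfalso
      have h1 := hχ g
      rw [← hρ] at h1
      unfold Cfsg.centralChar at h1
      rw [h0] at h1
      simp only [mul_one, div_one, mul_zero, zero_div, sub_zero] at h1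
      exact hidx ((Cfsg.Agent.Lib.Helper78.memLocalIdeal_natCast_iff hM _).1 h1)
    · obtain ⟨ω, hω⟩ := (Cfsg.Agent.Lib.Helper3.norm_char_eq_finrank_iff ρ g).mp hnorm
      rw [← hρ]
      exact eq_one_of_scalar hna ρ hirr g hg1 ω hω

end Cfsg.Agent.S0910
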