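import Mathlib
import Cfsg.Statements.S0904
import Cfsg.Agent.Lib.Helper17.Basic
import Cfsg.Agent.Lib.Helper17.SelfCent

set_option autoImplicit false
open Cfsg

namespace Cfsg.Agent.S0904

open Cfsg.Agent.Lib.Helper17

/-- Let G be a finite simple group of order p ^ a * q ^ b * r with p, q, r distinct primes. Then every Sylow r-subgroup S of G satisfies C_G(S) = S. -/
theorem result {G : Type*} [Group G] [Finite G] [IsSimpleGroup G] (p q r a b : ℕ) (hp : p.Prime) (hq : q.Prime) [Fact r.Prime] (hpq : p ≠ q) (hpr : p ≠ r) (hqr : q ≠ r) (hcard : Nat.card G = p ^ a * q ^ b * r) (S : Sylow r G) : Subgroup.centralizer (S : Set G) = (S : Subgroup G) := by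
  have hr : r.Prime := Fact.out
  have hnd : ¬ r ∣ p ^ a * q ^ b := by
    intro h4
    rcases (Nat.Prime.dvd_mul hr).mp h4 with h5 | h5
    · exact hpr ((Nat.prime_dvd_prime_iff_eq hr hp).mp (hr.dvd_of_dvd_pow h5)).symm
    · exact hqr ((Nat.prime_dvd_prime_iff_eq hr hq).mp (hr.dvd_of_dvd_pow h5)).symm
  have hS : Nat.card ↥(S : Subgroup G) = r := by
    simpa using (sylow_card_index S (a := 1) (m := p ^ a * q ^ b) (by rw [hcard]; ring) hnd).1
  have hcyc : IsCyclic ↥(S : Subgroup G) := isCyclic_of_prime_card hS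
  have hSC : (S : Subgroup G) ≤ Subgroup.centralizer ((S : Subgroup G) : Set G) := by
    have : IsMulCommutative ↥(S : Subgroup G) := ⟨⟨fun a b => by
      letI := hcyc.commGroup
      exact mul_comm a b⟩⟩
    exact Subgroup.le_centralizer _
  by_cases hna : ∃ a b : G, a * b ≠ b * a
  · by_contra hne
    have hlt : Nat.card ↥(S : Subgroup G) < Nat.card ↥(Subgroup.centralizer ((S : Subgroup G) : Set G)) := by
      by_contra hle
      push Not at hle
      exact hne (Subgroup.eq_of_le_of_card_ge hSC hle).symm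
    obtain ⟨m, hm⟩ := Subgroup.card_dvd_of_le hSC
    rw [hS] at hm hlt
    have hm1 : m ≠ 1 := by
      rintro rfl
      omega
    obtain ⟨ℓ, hℓ, hℓm⟩ := Nat.exists_prime_and_dvd hm1
    have hCG := Subgroup.card_subgroup_dvd_card (Subgroup.centralizer ((S : Subgroup G) : Set G))
    rw [hm, hcard, mul_comm (p ^ a * q ^ b) r] at hCG
    have hmd : m ∣ p ^ a * q ^ b := Nat.dvd_of_mul_dvd_mul_left hr.pos hCG
    have : Fact ℓ.Prime := ⟨hℓ⟩
    obtain ⟨y', hy'⟩ := exists_prime_orderOf_dvd_card'
      (G := ↥(Subgroup.centralizer ((S : Subgroup G) : Set G))) ℓ (by rw [hm]; exact Dvd.dvd.mul_left hℓm r)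
    obtain ⟨x', hx'⟩ := exists_prime_orderOf_dvd_card' (G := ↥(S : Subgroup G)) r (by rw [hS])
    have hy : orderOf (y' : G) = ℓ := (Subgroup.orderOf_coe y').trans hy'
    have hx : orderOf (x' : G) = r := (Subgroup.orderOf_coe x').trans hx'
    have hcomm : Commute (x' : G) (y' : G) := (Subgroup.mem_centralizer_iff.mp y'.2) x' x'.2
    have hℓpq : ℓ = p ∨ ℓ = q := by
      rcases (Nat.Prime.dvd_mul hℓ).mp (hℓm.trans hmd) with h5 | h5
      · left; exact (Nat.prime_dvd_prime_iff_eq hℓ hp).mp (hℓ.dvd_of_dvd_pow h5)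
      · right; exact (Nat.prime_dvd_prime_iff_eq hℓ hq).mp (hℓ.dvd_of_dvd_pow h5)
    have hℓr : ℓ ≠ r := by
      rcases hℓpq with h | h
      · rw [h]; exact hpr
      · rw [h]; exact hqr
    have hord : orderOf ((x' : G) * (y' : G)) = r * ℓ := by
      rw [hcomm.orderOf_mul_eq_mul_orderOf_of_coprime (by rw [hx, hy]; exact (Nat.coprime_primes hr hℓ).mpr hℓr.symm),
        hx, hy]
    rcases hℓpq with h | h
    · exact no_elt_of_order_mul hna p q r a b hp hq hr hpq hpr hqr hcard _
        (by rw [hord, h]; exact Dvd.intro_left r rfl) (by rw [hord]; exact Dvd.intro ℓ rfl)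
    · exact no_elt_of_order_mul hna q p r b a hq hp hr hpq.symm hqr hpr (by rw [hcard]; ring) _
        (by rw [hord, h]; exact Dvd.intro_left r rfl) (by rw [hord]; exact Dvd.intro ℓ rfl)
  · push Not at hna
    have hn : (S : Subgroup G).Normal := ⟨fun n hn g => by rw [hna g n, mul_inv_cancel_right]; exact hn⟩
    rcases hn.eq_bot_or_eq_top with h | h
    · exfalso
      rw [h] at hS
      simp at hS
      exact hr.one_lt.ne hS
    · apply le_antisymm
      · rw [h]; exact le_top
      · exact hSC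

end Cfsg.Agent.S0904
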