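import Cfsg.Statements.S0090
import Cfsg.Agent.S0088

set_option autoImplicit false
open Cfsg

namespace Cfsg.Agent.S0090

open Subgroup
open scoped IsMulCommutative commutatorElement

variable {G : Type*} [Group G]

/-- conjugation by `x` on the normal subgroup `A`, as a homomorphism -/
def cj (A : Subgroup G) [hA : A.Normal] (x : G) : A →* A where
  toFun a := ⟨x * a * x⁻¹, hA.conj_mem a a.2 x⟩
  map_one' := by apply Subtype.ext; simp
  map_mul' a b := by apply Subtype.ext; simp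

theorem cj_eq_of_mk_eq (A : Subgroup G) [A.Normal] [hc : IsMulCommutative A] (x y : G)
    (h : (x : G ⧸ A) = y) (a : A) : cj A x a = cj A y a := by
  apply Subtype.ext
  change x * a * x⁻¹ = y * a * y⁻¹
  have hb : x⁻¹ * y ∈ A := QuotientGroup.eq.mp h
  have h1 : (⟨x⁻¹ * y, hb⟩ : A) * a = a * ⟨x⁻¹ * y, hb⟩ := hc.is_comm.comm _ _
  have h2 : x⁻¹ * y * a = a * (x⁻¹ * y) := congrArg Subtype.val h1
  calc x * a * x⁻¹ = x * (a * (x⁻¹ * y)) * y⁻¹ := by group
    _ = x * (x⁻¹ * y * a) * y⁻¹ := by rw [h2]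
    _ = y * a * y⁻¹ := by group

/-- the norm map -/
noncomputable def nu (A : Subgroup G) [A.Normal] [IsMulCommutative A] [Fintype (G ⧸ A)] (a : A) : A :=
  ∏ q : G ⧸ A, cj A q.out a

theorem cj_nu (A : Subgroup G) [A.Normal] [IsMulCommutative A] [Fintype (G ⧸ A)] (g : G) (a : A) :
    cj A g (nu A a) = nu A a := by
  unfold nu
  rw [map_prod]
  rw [← Equiv.prod_comp (MulAction.toPerm g : Equiv.Perm (G ⧸ A)) (fun q => cj A q.out a)]
  apply Finset.prod_congr rfl
  intro q _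
  have h1 : cj A g (cj A q.out a) = cj A (g * q.out) a := by
    apply Subtype.ext
    change g * (q.out * a * q.out⁻¹) * g⁻¹ = g * q.out * a * (g * q.out)⁻¹
    group
  rw [h1]
  apply cj_eq_of_mk_eq
  rw [QuotientGroup.out_eq']
  change ((g * q.out : G) : G ⧸ A) = g • q
  conv_rhs => rw [← QuotientGroup.out_eq' q]
  rfl

theorem nu_mul_inv_mem (A : Subgroup G) [A.Normal] [IsMulCommutative A] [Fintype (G ⧸ A)] (a : A) :
    ((nu A a : A) : G) * ((a : G) ^ A.index)⁻¹ ∈ ⁅A, (⊤ : Subgroup G)⁆ := by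
  set B : Subgroup A := (⁅A, (⊤ : Subgroup G)⁆).subgroupOf A with hB
  have h1 : ∀ x : G, (QuotientGroup.mk' B) (cj A x a) = (QuotientGroup.mk' B) a := by
    intro x
    rw [QuotientGroup.mk'_apply, QuotientGroup.mk'_apply, eq_comm, QuotientGroup.eq, hB, mem_subgroupOf]
    change (a : G)⁻¹ * (x * a * x⁻¹) ∈ _
    have : (a : G)⁻¹ * (x * a * x⁻¹) = ⁅(a : G)⁻¹, x⁆ := by rw [commutatorElement_def]; group
    rw [this]
    exact Subgroup.commutator_mem_commutator (A.inv_mem a.2) (mem_top x)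
  have h2 : (QuotientGroup.mk' B) (nu A a) = (QuotientGroup.mk' B) (a ^ A.index) := by
    unfold nu
    rw [map_prod, map_pow]
    rw [Finset.prod_congr rfl (fun q _ => h1 q.out), Finset.prod_const, Finset.card_univ,
      Subgroup.index_eq_card, Nat.card_eq_fintype_card]
  rw [QuotientGroup.mk'_apply, QuotientGroup.mk'_apply, eq_comm, QuotientGroup.eq, hB, mem_subgroupOf] at h2
  have h3 : ((nu A a : A) : G) * ((a : G) ^ A.index)⁻¹ = ((a ^ A.index)⁻¹ * nu A a : A) := by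
    rw [mul_comm ((a ^ A.index)⁻¹) (nu A a)]
    simp
  rw [h3]
  exact h2

/-- An abelian normal Hall subgroup A splits as the internal direct product of G' ∩ A and Z(G) ∩ A, and [A, G] = G' ∩ A. -/
theorem result {G : Type*} [Group G] [Finite G] (A : Subgroup G) [A.Normal] (hc : IsMulCommutative A) (hHall : Nat.Coprime (Nat.card A) A.index) : ⁅A, (⊤ : Subgroup G)⁆ = commutator G ⊓ A ∧ (commutator G ⊓ A) ⊓ (Subgroup.center G ⊓ A) = ⊥ ∧ (commutator G ⊓ A) ⊔ (Subgroup.center G ⊓ A) = A := by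
  classical
  haveI : Fintype (G ⧸ A) := Fintype.ofFinite _
  have h88 := Cfsg.Agent.S0088.result A hc hHall
  have hle1 : ⁅A, (⊤ : Subgroup G)⁆ ≤ commutator G ⊓ A := by
    refine le_inf ?_ (Subgroup.commutator_le_left A ⊤)
    rw [commutator_def]
    exact Subgroup.commutator_mono le_top le_rfl
  have hA : A ≤ ⁅A, (⊤ : Subgroup G)⁆ ⊔ (Subgroup.center G ⊓ A) := by
    intro a ha
    have hpow : a ^ A.index ∈ ⁅A, (⊤ : Subgroup G)⁆ ⊔ (Subgroup.center G ⊓ A) := by
      have h1 := nu_mul_inv_mem A ⟨a, ha⟩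
      have h2 : ((nu A ⟨a, ha⟩ : A) : G) ∈ Subgroup.center G ⊓ A := by
        refine ⟨?_, (nu A ⟨a, ha⟩).2⟩
        change ((nu A ⟨a, ha⟩ : A) : G) ∈ Subgroup.center G
        rw [Subgroup.mem_center_iff]
        intro g
        have h3 := congrArg Subtype.val (cj_nu A g ⟨a, ha⟩)
        change g * ((nu A ⟨a, ha⟩ : A) : G) * g⁻¹ = _ at h3
        have h4 := congrArg (· * g) h3
        simpa using h4
      have h3 : a ^ A.index = (((nu A ⟨a, ha⟩ : A) : G) * (a ^ A.index)⁻¹)⁻¹ * ((nu A ⟨a, ha⟩ : A) : G) := by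
        group
      rw [h3]
      exact Subgroup.mul_mem _ (Subgroup.mem_sup_left (Subgroup.inv_mem _ h1)) (Subgroup.mem_sup_right h2)
    have hcop : Nat.Coprime A.index (orderOf a) := by
      have h1 : orderOf (⟨a, ha⟩ : A) ∣ Nat.card A := orderOf_dvd_natCard _
      rw [Subgroup.orderOf_mk] at h1
      exact (Nat.Coprime.coprime_dvd_left h1 hHall).symm
    obtain ⟨k, hk⟩ := exists_pow_eq_self_of_coprime hcop
    rw [← hk]
    exact Subgroup.pow_mem _ hpow k
  have hle2 : commutator G ⊓ A ≤ ⁅A, (⊤ : Subgroup G)⁆ := by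
    rintro x ⟨hx1, hx2⟩
    have h1 := hA hx2
    rw [Subgroup.mem_sup_of_normal_left] at h1
    obtain ⟨u, hu, z, hz, rfl⟩ := h1
    have hz' : z ∈ commutator G := by
      have := Subgroup.mul_mem _ (Subgroup.inv_mem _ (hle1 hu).1) hx1
      simpa using this
    have hz1 : z ∈ A ⊓ commutator G ⊓ Subgroup.center G := ⟨⟨hz.2, hz'⟩, hz.1⟩
    rw [h88, Subgroup.mem_bot] at hz1
    rw [hz1, mul_one]
    exact hu
  refine ⟨le_antisymm hle1 hle2, ?_, ?_⟩
  · rw [eq_bot_iff, ← h88]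
    rintro x ⟨⟨h1, h2⟩, ⟨h3, -⟩⟩
    exact ⟨⟨h2, h1⟩, h3⟩
  · apply le_antisymm
    · exact sup_le inf_le_right inf_le_right
    · exact hA.trans (sup_le_sup_right hle1 _)

end Cfsg.Agent.S0090
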