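import Cfsg.Statements.S0105
import Cfsg.Agent.S0090
import Cfsg.Agent.S0074

set_option autoImplicit false
open Cfsg

namespace Cfsg.Agent.S0105

open Subgroup

/-- ambient form of the decomposition `P = (N' ∩ P) × (Z(N) ∩ P)`, `N = N_G(P)`, `P` abelian Sylow -/
theorem abelian_sylow_decomp {G : Type*} [Group G] [Finite G] {p : ℕ} [Fact p.Prime] (P : Sylow p G)
    (hP : IsMulCommutative P) :
    (⁅normalizer (P : Set G), normalizer (P : Set G)⁆ ⊓ (P : Subgroup G)) ⊓
      ((P : Subgroup G) ⊓ centralizer (normalizer (P : Set G) : Set G)) = ⊥ ∧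
    ∀ x ∈ (P : Subgroup G), ∃ u ∈ ⁅normalizer (P : Set G), normalizer (P : Set G)⁆ ⊓ (P : Subgroup G),
      ∃ z ∈ (P : Subgroup G) ⊓ centralizer (normalizer (P : Set G) : Set G), x = u * z := by
  set N := normalizer (P : Set G) with hN
  set A : Subgroup N := (P : Subgroup G).subgroupOf N with hA
  have hPN : (P : Subgroup G) ≤ N := le_normalizer
  let e : A ≃* (P : Subgroup G) := Subgroup.subgroupOfEquivOfLe hPN
  haveI : A.Normal := Subgroup.normal_in_normalizer
  have hAcomm : IsMulCommutative A := ⟨⟨fun a b => by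
    apply e.injective
    rw [map_mul, map_mul]
    exact hP.is_comm.comm _ _⟩⟩
  have hHall : Nat.Coprime (Nat.card A) A.index := (P.subtype hPN).card_coprime_index
  obtain ⟨-, h2, h3⟩ := Cfsg.Agent.S0090.result A hAcomm hHall
  constructor
  · rw [eq_bot_iff]
    rintro x ⟨⟨hx1, hx2⟩, ⟨-, hx3⟩⟩
    rw [← Subgroup.map_subtype_commutator] at hx1
    obtain ⟨y, hy, rfl⟩ := hx1
    have h4 : y ∈ (commutator N ⊓ A) ⊓ (center N ⊓ A) := by
      refine ⟨⟨hy, mem_subgroupOf.mpr hx2⟩, ⟨?_, mem_subgroupOf.mpr hx2⟩⟩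
      change y ∈ center N
      rw [mem_center_iff]
      intro n
      apply Subtype.ext
      exact (mem_centralizer_iff.mp hx3) n n.2
    rw [h2, mem_bot] at h4
    rw [h4]
    exact Subgroup.one_mem _
  · intro x hx
    have hxA : (⟨x, hPN hx⟩ : N) ∈ (commutator N ⊓ A) ⊔ (center N ⊓ A) := by
      rw [h3]; exact mem_subgroupOf.mpr hx
    rw [Subgroup.mem_sup_of_normal_left] at hxA
    obtain ⟨u, hu, z, hz, huz⟩ := hxA
    refine ⟨u, ⟨?_, mem_subgroupOf.mp hu.2⟩, z, ⟨mem_subgroupOf.mp hz.2, ?_⟩, ?_⟩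
    · rw [← Subgroup.map_subtype_commutator]
      exact ⟨u, hu.1, rfl⟩
    · change (z : G) ∈ centralizer (N : Set G)
      rw [mem_centralizer_iff]
      intro n hn
      have := (mem_center_iff.mp hz.1) ⟨n, hn⟩
      exact congrArg Subtype.val this
    · exact (congrArg Subtype.val huz).symm

/-- With an abelian Sylow p-subgroup P, some quotient of G is isomorphic to the part of P central in N_G(P). -/
theorem result {G : Type*} [Group G] [Finite G] {p : ℕ} [Fact p.Prime] (P : Sylow p G) (hP : IsMulCommutative P) : ∃ (N : Subgroup G) (hN : N.Normal), Nonempty (G ⧸ N ≃* ((P : Subgroup G) ⊓ Subgroup.centralizer (Subgroup.normalizer (P : Set G) : Set G) : Subgroup G)) := by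
  obtain ⟨h1, h2⟩ := abelian_sylow_decomp P hP
  have hfoc : (P : Subgroup G).focalSubgroup =
      ⁅normalizer (P : Set G), normalizer (P : Set G)⁆ ⊓ (P : Subgroup G) := by
    rw [← Subgroup.commutator_inf_eq_focalSubgroup P, Cfsg.Agent.S0074.result P hP]
  set Z0 : Subgroup G := (P : Subgroup G) ⊓ centralizer (normalizer (P : Set G) : Set G) with hZ0
  let ψ : Z0 →* (P : Subgroup G) ⧸ (P : Subgroup G).focalSubgroupOf :=
    (QuotientGroup.mk' _).comp (Subgroup.inclusion (inf_le_left : Z0 ≤ (P : Subgroup G)))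
  have hinj : Function.Injective ψ := by
    rw [injective_iff_map_eq_one]
    intro z hz
    have h3 : (Subgroup.inclusion (inf_le_left : Z0 ≤ (P : Subgroup G)) z) ∈
        (P : Subgroup G).focalSubgroupOf := (QuotientGroup.eq_one_iff _).mp hz
    rw [Subgroup.focalSubgroupOf_def, mem_subgroupOf, hfoc] at h3
    have h4 : (z : G) ∈ (⁅normalizer (P : Set G), normalizer (P : Set G)⁆ ⊓ (P : Subgroup G)) ⊓ Z0 :=
      ⟨h3, z.2⟩
    rw [h1, mem_bot] at h4
    exact Subtype.ext h4
  have hsurj : Function.Surjective ψ := by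
    intro q
    obtain ⟨x, rfl⟩ := QuotientGroup.mk_surjective q
    obtain ⟨u, hu, z, hz, hxuz⟩ := h2 x x.2
    refine ⟨⟨z, hz⟩, ?_⟩
    change ((⟨z, hz.1⟩ : (P : Subgroup G)) : (P : Subgroup G) ⧸ (P : Subgroup G).focalSubgroupOf) = x
    rw [QuotientGroup.eq, Subgroup.focalSubgroupOf_def, mem_subgroupOf, hfoc]
    change z⁻¹ * (x : G) ∈ _
    -- z⁻¹ * x = z⁻¹ * u * z = u  (P abelian)
    have hcomm : u * z = z * u :=
      congrArg Subtype.val (hP.is_comm.comm (⟨u, hu.2⟩ : P) ⟨z, hz.1⟩)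
    rw [hxuz, hcomm, inv_mul_cancel_left]
    exact hu
  refine ⟨(P : Subgroup G).transferFocal.ker, inferInstance, ⟨?_⟩⟩
  exact (Subgroup.transferFocal.quotientKerMulEquivQuotientFocalSubroupOf P).trans
    (MulEquiv.ofBijective ψ ⟨hinj, hsurj⟩).symm

end Cfsg.Agent.S0105
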