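import Cfsg.Statements.S1081
import Cfsg.Agent.Lib.Helper36.ChevGraph
import Cfsg.Agent.Lib.Helper18.ChevFinal

set_option autoImplicit false
open Cfsg

namespace Cfsg.Agent.S1081

open Cfsg.Lie Cfsg.Agent.Lib.Helper18 Cfsg.Agent.Lib.Helper36

def gt0 : GTab := ⟨0x9a4c259207a4a238f08a3a1b908662f160a892461d9107236218e06a34208c85c2b200c45a3f180f82a230a09844131409442120f87836100e8681e1806828522712080221c0c8382e0c048581608038180002018100205, 0x25ab48a50a512d5a400⟩
def gi0 : GTab := ⟨0x9a4c259207a4a238f08a3a1b908662f160a892461d9107236218e06a34208c85c2b200c45a3f180f82a230a09844131409442120f87836100e8681e1806828522712080221c0c8382e0c048581608038180002018100205, 0x25ab48a50a512d5a400⟩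
def gt1 : GTab := ⟨0xd8682a190a04430130b84820160483c1a080601c1c0b030280a040000c0202, 0x2a81540⟩
def gi1 : GTab := ⟨0xd86830150984032170a0482c11070241a0b040181e0c0501c0a04010000203, 0x1b00d80⟩
def gt2 : GTab := ⟨0xd86830150984032170a0482c11070241a0b040181e0c0501c0a04010000203, 0x1b00d80⟩
def gi2 : GTab := ⟨0xd8682a190a04430130b84820160483c1a080601c1c0b030280a040000c0202, 0x2a81540⟩

theorem b0 : gbound (chevE6.rank + chevE6.nroots) gt0 = true := by decide +kernel
theorem b0' : gbound (chevE6.rank + chevE6.nroots) gi0 = true := by decide +kernel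
theorem b1 : gbound (chevD4.rank + chevD4.nroots) gt1 = true := by decide +kernel
theorem b1' : gbound (chevD4.rank + chevD4.nroots) gi1 = true := by decide +kernel
theorem b2 : gbound (chevD4.rank + chevD4.nroots) gt2 = true := by decide +kernel
theorem b2' : gbound (chevD4.rank + chevD4.nroots) gi2 = true := by decide +kernel
theorem i0 : ginv fastE6 gt0 gi0 = true := by decide +kernel
theorem i1 : ginv fastD4 gt1 gi1 = true := by decide +kernel
theorem i2 : ginv fastD4 gt2 gi2 = true := by decide +kernel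
theorem a0 : gall chevE6 fastE6 gt0 [5, 1, 4, 3, 2, 0] = true := by decide +kernel
theorem a1 : gall chevD4 fastD4 gt1 [2, 1, 3, 0] = true := by decide +kernel
theorem a2 : gall chevD4 fastD4 gt2 [3, 1, 0, 2] = true := by decide +kernel

/-- Graph automorphisms: for E₆ with ρ = (p₁ p₆)(p₃ p₅) and for D₄ with ρ the 3-cycle on the outer nodes there is a group automorphism sending `x_p(t) ↦ x_{ρ(p)}(t)` and `x_{-p}(t) ↦ x_{-ρ(p)}(t)` for every fundamental root `p`. -/
theorem result {F : Type*} [Field F] (p : Cfsg.Lie.ChevalleyDatum × List ℕ)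
    (hp : p ∈ [(Cfsg.Lie.chevE6, [5, 1, 4, 3, 2, 0]), (Cfsg.Lie.chevD4, [2, 1, 3, 0]), (Cfsg.Lie.chevD4, [3, 1, 0, 2])]) :
    ∃ α : ↥(p.1.group F) ≃* ↥(p.1.group F), ∀ (g : ↥(p.1.group F)) (i : ℕ) (t : F), i < p.1.rank →
      (((g : GL p.1.Idx F) : Matrix p.1.Idx p.1.Idx F) = p.1.x F (p.1.simple i) t →
        ((α g : GL p.1.Idx F) : Matrix p.1.Idx p.1.Idx F) = p.1.x F (p.1.simple (p.2.getD i 0)) t) ∧
      (((g : GL p.1.Idx F) : Matrix p.1.Idx p.1.Idx F) = p.1.x F (p.1.neg (p.1.simple i)) t →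
        ((α g : GL p.1.Idx F) : Matrix p.1.Idx p.1.Idx F) = p.1.x F (p.1.neg (p.1.simple (p.2.getD i 0))) t) := by
  simp only [List.mem_cons, List.not_mem_nil, or_false] at hp
  rcases hp with rfl | rfl | rfl
  · exact exists_graph_aut_of_checks (base_of_mem F (by simp)) (tab_of_mem (by simp)) agreeE6 gt0 gi0 _ b0 b0' i0 a0
      (by decide) (by decide)
  · exact exists_graph_aut_of_checks (base_of_mem F (by simp)) (tab_of_mem (by simp)) agreeD4 gt1 gi1 _ b1 b1' i1 a1
      (by decide) (by decide)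
  · exact exists_graph_aut_of_checks (base_of_mem F (by simp)) (tab_of_mem (by simp)) agreeD4 gt2 gi2 _ b2 b2' i2 a2
      (by decide) (by decide)

end Cfsg.Agent.S1081
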