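import Cfsg.Statements.S0252
import Mathlib
import Cfsg.Agent.Lib.Helper5.LinearCard
import Cfsg.Agent.Lib.Helper5.PermEmbed

set_option autoImplicit false
open Cfsg

namespace Cfsg.Agent.S0252

/-- PSL_2(4) is isomorphic to A_5. -/
theorem result {F : Type*} [Field F] [Fintype F] (hF : Fintype.card F = 4) : Nonempty (Matrix.ProjectiveSpecialLinearGroup (Fin 2) F ≃* alternatingGroup (Fin 5)) := by
  refine Cfsg.Agent.Lib.Helper5.nonempty_mulEquiv_alternatingGroup_of_injective _
    (Matrix.ProjectiveSpecialLinearGroup.toPermHom_injective (K := F) (ι := Fin 2)) 5 ?_ ?_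
  · rw [Cfsg.Agent.Lib.Helper5.card_projLine, hF]
  · have := Cfsg.Agent.Lib.Helper5.card_PSL2 (F := F)
    rw [hF] at this
    norm_num at this
    rw [this]
    rfl

end Cfsg.Agent.S0252
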