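import Cfsg.Statements.S0799
import Cfsg.Agent.Lib.Helper41.Dickson.Master

set_option autoImplicit false
set_option linter.style.haveILetI false
open Cfsg

namespace Cfsg.Agent.S0799

open Cfsg.Agent.Lib.Helper41.Dickson

/-- a model in `Type` of a finite field -/
theorem exists_small_model {K : Type*} [Field K] [Finite K] :
    ∃ (K' : Type) (_ : Field K') (_ : Fintype K'), Fintype.card K' = Nat.card K ∧
      Nonempty (K ≃+* K') := by
  classical
  haveI := Fintype.ofFinite K
  obtain ⟨p, hp⟩ := CharP.exists K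
  obtain ⟨n, hpp, hn⟩ := FiniteField.card K p
  haveI := fact_iff.2 hpp
  letI : Fintype (GaloisField p n) := Fintype.ofFinite _
  have h1 : Fintype.card (GaloisField p n) = Fintype.card K := by
    rw [hn, ← Nat.card_eq_fintype_card, GaloisField.card p n n.ne_zero]
  refine ⟨GaloisField p n, inferInstance, inferInstance, ?_, ⟨FiniteField.ringEquivOfCardEq h1.symm⟩⟩
  rw [h1, Nat.card_eq_fintype_card]

/-- Dickson's classification of the subgroups of PSL_2(q), q a power of the prime p, d = gcd(2, q − 1): every subgroup H is (a) cyclic or dihedral with k dividing (q+1)/d or (q−1)/d (cyclic of order k, or dihedral of order 2k), (b) isomorphic to a subgroup of the normaliser of a Sylow p-subgroup, (c) isomorphic to A_4, S_4 or A_5, or (d) isomorphic to PSL_2(K) or PGL_2(K) for a finite field K with |K|^m = q. -/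
theorem result {F : Type*} [Field F] [Fintype F] {q : ℕ} (hF : Fintype.card F = q) (p : ℕ) [Fact p.Prime] [CharP F p] (H : Subgroup (Matrix.ProjectiveSpecialLinearGroup (Fin 2) F)) : (∃ k : ℕ, (k ∣ (q + 1) / Nat.gcd 2 (q - 1) ∨ k ∣ (q - 1) / Nat.gcd 2 (q - 1)) ∧ ((IsCyclic H ∧ Nat.card H = k) ∨ Nonempty (H ≃* DihedralGroup k))) ∨ (∃ (P : Sylow p (Matrix.ProjectiveSpecialLinearGroup (Fin 2) F)) (K : Subgroup (Matrix.ProjectiveSpecialLinearGroup (Fin 2) F)), K ≤ Subgroup.normalizer ((P : Subgroup (Matrix.ProjectiveSpecialLinearGroup (Fin 2) F)) : Set (Matrix.ProjectiveSpecialLinearGroup (Fin 2) F)) ∧ Nonempty (H ≃* K)) ∨ Nonempty (H ≃* alternatingGroup (Fin 4)) ∨ Nonempty (H ≃* Equiv.Perm (Fin 4)) ∨ Nonempty (H ≃* alternatingGroup (Fin 5)) ∨ (∃ (K : Type) (_ : Field K) (_ : Fintype K) (m : ℕ), Fintype.card K ^ m = q ∧ (Nonempty (H ≃* Matrix.ProjectiveSpecialLinearGroup (Fin 2) K) ∨ Nonempty (H ≃* Matrix.ProjGenLinGroup (Fin 2) K))) := by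
  subst hF
  rcases dickson_psl p H with ⟨h1, h2⟩ | ⟨k, hk, h2⟩ | ⟨P, hP⟩ | h | h | h | ⟨K, hK⟩
  · left
    exact ⟨Nat.card H, h2.symm, Or.inl ⟨h1, rfl⟩⟩
  · left
    exact ⟨k, hk.symm, Or.inr h2⟩
  · right; left
    exact ⟨P, H, hP, ⟨MulEquiv.refl _⟩⟩
  · right; right; left; exact h
  · right; right; right; left; exact h
  · right; right; right; right; left; exact h
  · right; right; right; right; right
    obtain ⟨K', i1, i2, hc, ⟨e⟩⟩ := exists_small_model (K := K)
    refine ⟨K', i1, i2, Module.finrank K F, ?_, ?_⟩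
    · rw [hc, ← Nat.card_eq_fintype_card, Module.natCard_eq_pow_finrank (K := K) (V := F)]
    · rcases hK with ⟨⟨e1⟩⟩ | ⟨⟨e1⟩⟩
      · left
        obtain ⟨e2⟩ := pslCongr e
        exact ⟨e1.trans e2⟩
      · right
        exact ⟨e1.trans (pglCongr e)⟩

end Cfsg.Agent.S0799
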