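import Cfsg.Statements.S5893
import Cfsg.Agent.Lib.Helper41.Dickson.MaxEven
import Cfsg.Agent.S0252
import Cfsg.Agent.S0799

set_option autoImplicit false
set_option linter.style.haveILetI false
set_option linter.unusedSectionVars false
set_option linter.unusedSimpArgs false
open Cfsg

namespace Cfsg.Agent.S5893

open Cfsg.Agent.Lib.Helper41 Cfsg.Agent.Lib.Helper41.Dickson

section aux

variable {F : Type*} [Field F] [Fintype F]

local notation "SL2" => Matrix.SpecialLinearGroup (Fin 2) F
local notation "PSL2" => Matrix.ProjectiveSpecialLinearGroup (Fin 2) F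
local notation "M2" => Matrix (Fin 2) (Fin 2) F

theorem pow_eq_one_of_mk [CharP F 2] (X : SL2) (n : ℕ)
    (h : (QuotientGroup.mk X : PSL2) ^ n = 1) : X ^ n = 1 := by
  apply Subtype.ext
  rw [Matrix.SpecialLinearGroup.coe_pow]
  rcases (psl2_pow_eq_one_iff X n).1 h with h | h
  · rw [h]; rfl
  · rw [h]
    have : (2 : F) = 0 := CharP.cast_eq_zero F 2
    ext i j
    fin_cases i <;> fin_cases j <;> simp
    · linear_combination (-1 : F) * this
    · linear_combination (-1 : F) * this

theorem trace_fix [CharP F 2] (j : ℕ) (X : SL2)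
    (h : orderOf (QuotientGroup.mk X : PSL2) ∣ 2 ∨ orderOf (QuotientGroup.mk X : PSL2) ∣ 2 ^ j - 1 ∨
      orderOf (QuotientGroup.mk X : PSL2) ∣ 2 ^ j + 1) :
    Matrix.trace (X : M2) ^ 2 ^ j = Matrix.trace (X : M2) := by
  rcases h with h | h | h
  · have h1 := trace_eq_two_of_pow 2 X (pow_eq_one_of_mk X 2 (orderOf_dvd_iff_pow_eq_one.1 h))
    have h2 : (2 : F) = 0 := CharP.cast_eq_zero F 2
    rw [h1, h2, zero_pow (by positivity)]
  · exact trace_pow_of_pow_pred 2 X j (pow_eq_one_of_mk X _ (orderOf_dvd_iff_pow_eq_one.1 h))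
  · exact trace_pow_of_pow_succ 2 X j (pow_eq_one_of_mk X _ (orderOf_dvd_iff_pow_eq_one.1 h))

theorem card_psl_even (heven : Even (Fintype.card F)) :
    Nat.card PSL2 = Fintype.card F * (Fintype.card F ^ 2 - 1) := by
  have h := natCard_PSL2 F
  rwa [Nat.card_eq_fintype_card (α := F), gcd_two_of_even heven Fintype.card_pos, one_mul] at h

theorem subfield_case [CharP F 2] (heven : Even (Fintype.card F)) (M : Subgroup PSL2)
    (hM : IsCoatom M) (j m : ℕ) (hj : j ≠ 0) (hm : 1 ≤ m) (hq : Fintype.card F = (2 ^ j) ^ m)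
    (hcard : Nat.card M = 2 ^ j * ((2 ^ j) ^ 2 - 1))
    (hord : ∀ g ∈ M, orderOf g ∣ 2 ∨ orderOf g ∣ 2 ^ j - 1 ∨ orderOf g ∣ 2 ^ j + 1) : m.Prime := by
  have hm2 : 2 ≤ m := by
    by_contra hcon
    have hm1 : m = 1 := by omega
    subst hm1
    rw [pow_one] at hq
    apply hM.1
    apply Subgroup.eq_top_of_card_eq
    rw [hcard, card_psl_even heven, hq]
  have h2 : 2 ∣ Nat.card M := by
    rw [hcard]
    exact Dvd.dvd.mul_right (dvd_pow_self 2 hj) _
  obtain ⟨u, hu⟩ := exists_prime_orderOf_dvd_card' 2 h2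
  refine prime_exponent 2 M hM j m hj hm2 hq ?_ (u : PSL2) u.2 ?_ ?_ ?_
  · intro X hX
    exact trace_fix j X (hord _ hX)
  · intro h
    have : u = 1 := Subtype.ext h
    rw [this, orderOf_one] at hu
    omega
  · have := pow_orderOf_eq_one u
    rw [hu] at this
    exact congrArg Subtype.val this
  · intro n hn
    rw [hcard] at hn
    have hodd : Nat.Coprime (2 ^ n) ((2 ^ j) ^ 2 - 1) := by
      apply Nat.Coprime.pow_left
      rw [Nat.Prime.coprime_iff_not_dvd Nat.prime_two]
      have h3 : 2 ∣ (2 ^ j) ^ 2 := Dvd.dvd.pow (dvd_pow_self 2 hj) (by norm_num)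
      have h4 : 0 < (2 ^ j) ^ 2 := by positivity
      omega
    exact Nat.le_of_dvd (by positivity) (hodd.dvd_of_dvd_mul_right hn)

theorem order_six_case [CharP F 2] (heven : Even (Fintype.card F)) (h4 : 4 ≤ Fintype.card F)
    (M : Subgroup PSL2) (hM : IsCoatom M) (hcard : Nat.card M = 6) :
    Nonempty (M ≃* DihedralGroup (Fintype.card F - 1)) ∨
    Nonempty (M ≃* DihedralGroup (Fintype.card F + 1)) := by
  haveI : Fact (Nat.Prime 3) := ⟨by norm_num⟩
  obtain ⟨c, hc⟩ := exists_prime_orderOf_dvd_card' (G := M) 3 (by rw [hcard]; norm_num)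
  have h1 : Nat.card (Subgroup.zpowers c) = 3 := by rw [Nat.card_zpowers, hc]
  have h2 : (Subgroup.zpowers c).index = 2 := by
    have := (Subgroup.zpowers c).index_mul_card
    rw [h1, hcard] at this
    omega
  haveI := Subgroup.normal_of_index_eq_two h2
  obtain ⟨k, hk, he⟩ := dihedral_of_normal_cyclic 2 h4 M hM (c : PSL2) (by
      intro h
      have h3 : c ^ 2 = 1 := Subtype.ext h
      have := orderOf_dvd_of_pow_eq_one h3
      rw [hc] at this
      omega) (by
      intro g hg
      have h3 : (⟨g, hg⟩ : M) * c * (⟨g, hg⟩ : M)⁻¹ ∈ Subgroup.zpowers c :=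
        Subgroup.Normal.conj_mem inferInstance c (Subgroup.mem_zpowers c) _
      obtain ⟨n, hn⟩ := h3
      refine ⟨n, ?_⟩
      have := congrArg Subtype.val hn
      simpa using this)
  rw [gcd_two_of_even heven Fintype.card_pos, one_mul] at hk
  rcases hk with rfl | rfl
  · exact Or.inl he
  · exact Or.inr he

theorem alt4_sq : ∀ x y : alternatingGroup (Fin 4), x ^ 2 = 1 → y ^ 2 = 1 → (x * y) ^ 2 = 1 := by
  decide

theorem alt4_invol : ∃ x : alternatingGroup (Fin 4), x ≠ 1 ∧ x ^ 2 = 1 := by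
  decide

theorem alt_four_case [CharP F 2] (heven : Even (Fintype.card F)) (h4 : 4 ≤ Fintype.card F)
    (M : Subgroup PSL2) (hM : IsCoatom M) (e : M ≃* alternatingGroup (Fin 4))
    (hcard : Nat.card M = 12) : Nat.card M = Fintype.card F * (Fintype.card F - 1) := by
  let V : Subgroup PSL2 :=
    { carrier := {g | g ∈ M ∧ g ^ 2 = 1}
      one_mem' := ⟨M.one_mem, one_pow _⟩
      mul_mem' := by
        rintro a b ⟨ha, ha2⟩ ⟨hb, hb2⟩
        refine ⟨M.mul_mem ha hb, ?_⟩
        have h1 : (e ⟨a, ha⟩) ^ 2 = 1 := by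
          rw [← map_pow]
          have : (⟨a, ha⟩ : M) ^ 2 = 1 := Subtype.ext ha2
          rw [this, map_one]
        have h2 : (e ⟨b, hb⟩) ^ 2 = 1 := by
          rw [← map_pow]
          have : (⟨b, hb⟩ : M) ^ 2 = 1 := Subtype.ext hb2
          rw [this, map_one]
        have h3 := alt4_sq _ _ h1 h2
        rw [← map_mul, ← map_pow] at h3
        have h5 := e.injective (h3.trans (map_one e).symm)
        exact congrArg Subtype.val h5
      inv_mem' := by
        rintro a ⟨ha, ha2⟩
        exact ⟨M.inv_mem ha, by rw [inv_pow, ha2, inv_one]⟩ }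
  have hV2 : IsPGroup 2 V := by
    rintro ⟨g, hg⟩
    exact ⟨1, Subtype.ext (by simpa using hg.2)⟩
  obtain ⟨P, hP⟩ := hV2.exists_le_sylow
  obtain ⟨-, hPq, -, -, hPc, -⟩ := borel_package 2 P
  have hMN : M ≤ Subgroup.normalizer (V : Set PSL2) := by
    intro g hg
    rw [Subgroup.mem_normalizer_iff]
    intro h
    constructor
    · rintro ⟨h1, h2⟩
      exact ⟨M.mul_mem (M.mul_mem hg h1) (M.inv_mem hg), by rw [conj_pow, h2]; simp⟩
    · rintro ⟨h1, h2⟩
      refine ⟨?_, ?_⟩
      · have := M.mul_mem (M.mul_mem (M.inv_mem hg) h1) hg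
        simpa [mul_assoc] using this
      · rw [conj_pow] at h2
        have h3 : h ^ 2 = g⁻¹ * (g * h ^ 2 * g⁻¹) * g := by simp [mul_assoc]
        rw [h3, h2]; simp
  have hPN : (P : Subgroup PSL2) ≤ Subgroup.normalizer (V : Set PSL2) := by
    intro x hx
    rw [Subgroup.mem_normalizer_iff]
    intro h
    constructor
    · intro hh
      have h1 : x * h * x⁻¹ = h := by
        rw [hPc x hx h (hP hh)]; simp
      rw [h1]; exact hh
    · intro hh
      have h1 : x⁻¹ * (x * h * x⁻¹) * x = x * h * x⁻¹ := by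
        rw [hPc x⁻¹ (P.inv_mem hx) _ (hP hh)]; simp
      have h2 : x⁻¹ * (x * h * x⁻¹) * x = h := by simp [mul_assoc]
      rw [← h2, h1]; exact hh
  have hNtop : Subgroup.normalizer (V : Set PSL2) ≠ ⊤ := by
    intro htop
    haveI : V.Normal := Subgroup.normalizer_eq_top_iff.1 htop
    haveI : IsSimpleGroup PSL2 := Matrix.ProjectiveSpecialLinearGroup.rank_two_simple (by
      rw [Nat.card_eq_fintype_card]; exact h4)
    rcases IsSimpleGroup.eq_bot_or_eq_top_of_normal V inferInstance with h | h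
    · obtain ⟨x, hx1, hx2⟩ := alt4_invol
      have h1 : ((e.symm x : M) : PSL2) ∈ V := by
        refine ⟨(e.symm x).2, ?_⟩
        have : (e.symm x) ^ 2 = 1 := by rw [← map_pow, hx2, map_one]
        exact congrArg Subtype.val this
      rw [h, Subgroup.mem_bot] at h1
      apply hx1
      have : e.symm x = 1 := Subtype.ext h1
      rw [← e.apply_symm_apply x, this, map_one]
    · apply hM.1
      rw [eq_top_iff, ← h]
      exact fun g hg => hg.1
  have hNM : Subgroup.normalizer (V : Set PSL2) = M := by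
    rcases hM.le_iff.1 hMN with h | h
    · exact absurd h hNtop
    · exact h
  have hPM : (P : Subgroup PSL2) ≤ M := hNM ▸ hPN
  have h5 := Subgroup.card_dvd_of_le hPM
  have hPq' : Nat.card (P : Subgroup PSL2) = Fintype.card F := hPq
  rw [hPq', hcard] at h5
  obtain ⟨n, -, hn⟩ := FiniteField.card F 2
  have h6 : Fintype.card F ≤ 12 := Nat.le_of_dvd (by norm_num) h5
  have h7 : (n : ℕ) < 4 := by
    by_contra hcon
    have : 2 ^ 4 ≤ 2 ^ (n : ℕ) := Nat.pow_le_pow_right (by norm_num) (by omega)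
    omega
  rw [hcard]
  rw [hn] at h4 h5 ⊢
  generalize (n : ℕ) = n' at *
  interval_cases n' <;> simp_all

theorem perm4_elt : ∃ x : Equiv.Perm (Fin 4), x ^ 4 = 1 ∧ x ^ 2 ≠ 1 :=
  ⟨finRotate 4, by decide, by decide⟩

theorem perm_four_case [CharP F 2] (heven : Even (Fintype.card F))
    (M : Subgroup PSL2) (e : M ≃* Equiv.Perm (Fin 4)) : False := by
  obtain ⟨x, hx4, hx2⟩ := perm4_elt
  set y : PSL2 := ((e.symm x : M) : PSL2) with hy
  have hy4 : y ^ 4 = 1 := by
    have : (e.symm x) ^ 4 = 1 := by rw [← map_pow, hx4, map_one]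
    exact congrArg Subtype.val this
  have hy2 : y ^ 2 ≠ 1 := by
    intro h
    apply hx2
    have h1 : (e.symm x) ^ 2 = 1 := Subtype.ext h
    rw [← map_pow] at h1
    have := e.symm.injective (h1.trans (map_one e.symm).symm)
    exact this
  have h4 : orderOf y ∣ 4 := orderOf_dvd_of_pow_eq_one hy4
  have hq : 0 < Fintype.card F := Fintype.card_pos
  obtain ⟨a, ha⟩ := heven
  have key : ∀ d : ℕ, ¬ 2 ∣ d → orderOf y ∣ d → False := by
    intro d hd h
    have h1 : orderOf y ∣ Nat.gcd 4 d := Nat.dvd_gcd h4 h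
    have h2 : Nat.gcd 4 d = 1 := by
      have : Nat.Coprime (2 ^ 2) d :=
        Nat.Coprime.pow_left 2 ((Nat.Prime.coprime_iff_not_dvd Nat.prime_two).2 hd)
      exact this
    rw [h2, Nat.dvd_one, orderOf_eq_one_iff] at h1
    exact hy2 (by rw [h1, one_pow])
  rcases psl2_orderOf_dvd 2 y with h | h | h
  · exact hy2 (orderOf_dvd_iff_pow_eq_one.1 h)
  · rw [gcd_two_of_even ⟨a, ha⟩ hq, Nat.div_one] at h
    exact key _ (by omega) h
  · rw [gcd_two_of_even ⟨a, ha⟩ hq, Nat.div_one] at h
    exact key _ (by omega) h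

end aux

/-- Let F be a finite field of even order q ≥ 4 and let M be a maximal subgroup of PSL₂(F) (= SL₂(F) = PGL₂(F)). Then one of the following holds: |M| = q(q − 1) (the stabiliser of a point of the projective line, elementary abelian of order q extended by a cyclic group of order q − 1); M is dihedral of order 2(q − 1); M is dihedral of order 2(q + 1); or q = q₀^r for a prime r with q₀ ≠ 2 and M ≅ PSL₂(F₀) with |F₀| = q₀. -/
theorem result {F : Type*} [Field F] [Fintype F]
    (heven : Even (Fintype.card F)) (h4 : 4 ≤ Fintype.card F) (M : Subgroup (Matrix.ProjectiveSpecialLinearGroup (Fin 2) F)) (hM : IsCoatom M) :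
    Nat.card M = Fintype.card F * (Fintype.card F - 1) ∨
    Nonempty (M ≃* DihedralGroup (Fintype.card F - 1)) ∨
    Nonempty (M ≃* DihedralGroup (Fintype.card F + 1)) ∨
    (∃ (F₀ : Type) (_ : Field F₀) (_ : Fintype F₀) (r : ℕ), r.Prime ∧ Fintype.card F₀ ≠ 2 ∧
        Fintype.card F = Fintype.card F₀ ^ r ∧ Nonempty (M ≃* Matrix.ProjectiveSpecialLinearGroup (Fin 2) F₀)) := by
  classical
  haveI : CharP F 2 := charTwo_of_even heven
  have hgcd := gcd_two_of_even heven (Fintype.card_pos (α := F))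
  have hdih : ∀ c : Matrix.ProjectiveSpecialLinearGroup (Fin 2) F, c ^ 2 ≠ 1 →
      (∀ g ∈ M, g * c * g⁻¹ ∈ Subgroup.zpowers c) →
      Nonempty (M ≃* DihedralGroup (Fintype.card F - 1)) ∨
      Nonempty (M ≃* DihedralGroup (Fintype.card F + 1)) := by
    intro c hc hn
    obtain ⟨k, hk, he⟩ := dihedral_of_normal_cyclic 2 h4 M hM c hc hn
    rw [hgcd, one_mul] at hk
    rcases hk with rfl | rfl
    · exact Or.inl he
    · exact Or.inr he
  have hexp2 : (∀ g ∈ M, g ^ 2 = 1) → Nat.card M = Fintype.card F * (Fintype.card F - 1) := by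
    intro h
    have h1 : IsPGroup 2 M := by
      rintro ⟨g, hg⟩
      exact ⟨1, Subtype.ext (by simpa using h g hg)⟩
    have := card_of_pgroup 2 M hM h1
    rwa [hgcd, one_mul] at this
  rcases dickson_card 2 M with ⟨hcyc, -⟩ | ⟨k, -, ⟨e⟩, -⟩ | ⟨P, hP⟩ | ⟨⟨e⟩, hc⟩ | ⟨⟨e⟩, -⟩ | ⟨⟨e⟩, hc⟩ |
    ⟨K, m, hm, hqm, hK2, hK⟩
  · -- cyclic
    obtain ⟨c, hgen⟩ := IsCyclic.exists_generator (α := M)
    by_cases hc : (c : Matrix.ProjectiveSpecialLinearGroup (Fin 2) F) ^ 2 = 1
    · left
      apply hexp2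
      intro g hg
      obtain ⟨n, hn⟩ := Subgroup.mem_zpowers_iff.1 (hgen ⟨g, hg⟩)
      have h1 : g = (c : Matrix.ProjectiveSpecialLinearGroup (Fin 2) F) ^ n := by
        have := congrArg Subtype.val hn
        simpa using this.symm
      rw [h1, ← zpow_natCast, ← zpow_mul, mul_comm, zpow_mul, zpow_natCast, hc, one_zpow]
    · right
      rw [← or_assoc]
      left
      apply hdih _ hc
      intro g hg
      obtain ⟨n, hn⟩ := Subgroup.mem_zpowers_iff.1 (hgen ⟨g, hg⟩)
      have h1 : g = (c : Matrix.ProjectiveSpecialLinearGroup (Fin 2) F) ^ n := by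
        have := congrArg Subtype.val hn
        simpa using this.symm
      refine ⟨1, ?_⟩
      rw [h1]
      simp only [zpow_one]
      rw [← zpow_add_one, add_comm, zpow_one_add, mul_assoc, mul_inv_cancel, mul_one]
  · -- dihedral
    set c : M := e.symm (DihedralGroup.r 1) with hcdef
    by_cases hc : (c : Matrix.ProjectiveSpecialLinearGroup (Fin 2) F) ^ 2 = 1
    · left
      apply hexp2
      intro g hg
      have h1 : (DihedralGroup.r (1 : ZMod k)) ^ 2 = 1 := by
        have h2 : c ^ 2 = 1 := Subtype.ext hc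
        have h3 := congrArg e h2
        rwa [map_pow, map_one, hcdef, e.apply_symm_apply] at h3
      have h2 := dihedral_sq_of_r_sq k h1 (e ⟨g, hg⟩)
      rw [← map_pow] at h2
      have h3 := e.injective (h2.trans (map_one e).symm)
      exact congrArg Subtype.val h3
    · right
      rw [← or_assoc]
      left
      apply hdih _ hc
      intro g hg
      obtain ⟨n, hn⟩ := dihedral_conj_r k (e ⟨g, hg⟩)
      refine ⟨n, ?_⟩
      have h1 : c ^ n = ⟨g, hg⟩ * c * (⟨g, hg⟩ : M)⁻¹ := by
        apply e.injective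
        rw [map_zpow, map_mul, map_mul, map_inv, hcdef, e.apply_symm_apply]
        exact hn
      have := congrArg Subtype.val h1
      simpa using this
  · left
    have := card_of_le_normalizer 2 M hM P hP
    rwa [hgcd, one_mul] at this
  · left
    exact alt_four_case heven h4 M hM e hc
  · exact (perm_four_case heven M e).elim
  · -- A5
    right; right; right
    obtain ⟨n, -, hn⟩ := FiniteField.card F 2
    have h5 : 5 ∣ Fintype.card F * (Fintype.card F ^ 2 - 1) := by
      rw [← card_psl_even heven]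
      exact Dvd.dvd.trans (by rw [hc]; norm_num) (Subgroup.card_subgroup_dvd_card M)
    obtain ⟨m, hm⟩ : ∃ m : ℕ, (n : ℕ) = 2 * m := by
      by_contra hcon
      obtain ⟨m, hm⟩ : ∃ m : ℕ, (n : ℕ) = 2 * m + 1 := by
        rcases Nat.even_or_odd' (n : ℕ) with ⟨m, h | h⟩
        · exact absurd ⟨m, h⟩ hcon
        · exact ⟨m, h⟩
      rw [hn, hm] at h5
      rcases (Nat.Prime.dvd_mul (by norm_num : Nat.Prime 5)).1 h5 with h | h
      · have := Nat.Prime.dvd_of_dvd_pow (by norm_num : Nat.Prime 5) h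
        omega
      · have h6 : (2 ^ (2 * m + 1)) ^ 2 = 4 * 16 ^ m := by
          rw [← pow_mul]
          have : (2 * m + 1) * 2 = 2 + 4 * m := by ring
          rw [this, pow_add, pow_mul]
          norm_num
        have h7 : 16 ^ m % 5 = 1 := by
          rw [Nat.pow_mod]; simp
        rw [h6] at h
        omega
    have hq : Fintype.card F = (2 ^ 2) ^ m := by rw [hn, hm, pow_mul]
    have hm1 : 1 ≤ m := by
      have := n.pos
      omega
    have hprime := subfield_case heven M hM 2 m (by norm_num) hm1 hq (by rw [hc]; norm_num) (by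
      intro g hg
      have := orderOf_of_alt_five e ⟨g, hg⟩
      rw [Subgroup.orderOf_mk] at this
      simpa using this)
    letI : Fintype (GaloisField 2 2) := Fintype.ofFinite _
    have hcard : Fintype.card (GaloisField 2 2) = 4 := by
      rw [← Nat.card_eq_fintype_card, GaloisField.card 2 2 (by norm_num)]; norm_num
    obtain ⟨e2⟩ := Cfsg.Agent.S0252.result hcard
    exact ⟨GaloisField 2 2, inferInstance, inferInstance, m, hprime, by rw [hcard]; norm_num,
      by rw [hcard, hq]; norm_num, ⟨e.trans e2.symm⟩⟩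
  · -- subfield groups
    haveI : Fintype K := Fintype.ofFinite _
    haveI : CharP K 2 := RingHom.charP K.subtype K.subtype.injective 2
    obtain ⟨j, -, hj⟩ := FiniteField.card K 2
    have hKc : Nat.card K = 2 ^ (j : ℕ) := by rw [Nat.card_eq_fintype_card, hj]
    have hKeven : Even (Nat.card K) := by
      rw [hKc]; exact (Nat.even_pow.2 ⟨even_two, j.pos.ne'⟩)
    have hgK : Nat.gcd 2 (Fintype.card K - 1) = 1 := by
      rw [← Nat.card_eq_fintype_card]
      exact gcd_two_of_even hKeven (by omega)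
    obtain ⟨e, hcM⟩ : ∃ _ : M ≃* Matrix.ProjectiveSpecialLinearGroup (Fin 2) K,
        Nat.card M = Nat.card K * (Nat.card K ^ 2 - 1) := by
      rcases hK with ⟨⟨e⟩, h⟩ | ⟨⟨e⟩, h⟩
      · rw [hgcd, one_mul] at h
        exact ⟨e, h⟩
      · obtain ⟨e2⟩ := psl_equiv_pgl_of_even K hKeven
        exact ⟨e.trans e2.symm, h⟩
    by_cases hj1 : (j : ℕ) = 1
    · right
      rw [← or_assoc]
      left
      apply order_six_case heven h4 M hM
      rw [hcM, hKc, hj1]; norm_num
    · right; right; right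
      have hprime := subfield_case heven M hM j m j.pos.ne' hm (by rw [hqm, hKc])
        (by rw [hcM, hKc]) (by
        intro g hg
        have h1 := psl2_orderOf_dvd 2 (e ⟨g, hg⟩)
        rw [e.orderOf_eq, Subgroup.orderOf_mk, hgK, Nat.div_one, Nat.div_one, hj] at h1
        exact h1)
      obtain ⟨K', i1, i2, hc, ⟨eK⟩⟩ := Cfsg.Agent.S0799.exists_small_model (K := K)
      obtain ⟨e2⟩ := pslCongr eK
      refine ⟨K', i1, i2, m, hprime, ?_, by rw [hc, hqm], ⟨e.trans e2⟩⟩
      rw [hc, hKc]
      intro h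
      apply hj1
      have : 2 ^ (j : ℕ) = 2 ^ 1 := by rw [h]; norm_num
      exact Nat.pow_right_injective (le_refl 2) this

end Cfsg.Agent.S5893
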