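import Cfsg.Statements.S1137
import Cfsg.Agent.Lib.Helper63.SuzCenter

set_option autoImplicit false
open Cfsg

namespace Cfsg.Agent.S1137

open Cfsg.Agent.Lib.Helper63.Suz in
/-- In a Suzuki 2-group `P` (a finite non-abelian 2-group with more than one involution admitting a cyclic group of automorphisms regular on its involutions) the involutions are exactly the non-identity central elements, and `Z(P)` is elementary abelian. -/
theorem result {P : Type*} [Group P] (hP : Cfsg.IsSuzukiTwoGroup P) :
    (∀ x : P, (x ≠ 1 ∧ x * x = 1) ↔ (x ∈ Subgroup.center P ∧ x ≠ 1)) ∧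
      ∀ z ∈ Subgroup.center P, z * z = 1 := by
  obtain ⟨hfin, h2, hna, -, K, hKc, hreg⟩ := hP
  haveI := hfin
  have hset : Setup K := by
    refine ⟨h2, ?_, hreg⟩
    intro a ha b hb
    haveI := hKc
    haveI : IsMulCommutative K := IsCyclic.isMulCommutative
    have := mul_comm' (⟨a, ha⟩ : K) ⟨b, hb⟩
    exact congrArg Subtype.val this
  have hz : ∀ z ∈ Subgroup.center P, z * z = 1 := fun z hz => hset.center_sq hna hz
  refine ⟨?_, hz⟩
  intro x
  constructor
  · rintro ⟨hx1, hx2⟩
    exact ⟨Subgroup.mem_center_iff.2 (hset.central hx2), hx1⟩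
  · rintro ⟨hxc, hx1⟩
    exact ⟨hx1, hz x hxc⟩

end Cfsg.Agent.S1137
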