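import Cfsg.Statements.S3773
import Cfsg.Agent.Lib.Helper1.Frattini
import Cfsg.Agent.Lib.Helper2.PGroupFrattini

set_option autoImplicit false
open Cfsg

namespace Cfsg.Agent.S3773

open scoped Classical
open scoped commutatorElement

section chars
variable {T : Type*} [Group T] [Finite T]

theorem exists_char (h2 : ∀ t : T, t * t = 1) (t : T) (ht : t ≠ 1) :
    ∃ μ : T →* ℤˣ, μ t = -1 := by
  have : Fact (Nat.Prime 2) := ⟨Nat.prime_two⟩
  have hinv : ∀ x : T, x⁻¹ = x := fun x => inv_eq_of_mul_eq_one_left (h2 x)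
  have hc : ∀ x y : T, x * y = y * x := by
    intro x y
    have := hinv (x * y)
    rw [mul_inv_rev, hinv, hinv] at this
    exact this.symm
  have hP : IsPGroup 2 T := fun g => ⟨1, by rw [pow_one, pow_two]; exact h2 g⟩
  have hbot : frattini T = ⊥ :=
    Cfsg.Agent.Lib.Helper2.frattini_eq_bot_of_elementary (p := 2) hc
      (fun x => by rw [pow_two]; exact h2 x)
  have hnot : t ∉ frattini T := by
    rw [hbot, Subgroup.mem_bot]; exact ht
  rw [Cfsg.Agent.Lib.Helper1.mem_frattini_iff] at hnot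
  push Not at hnot
  obtain ⟨M, hM, htM⟩ := hnot
  obtain ⟨_, hidx⟩ := Cfsg.Agent.Lib.Helper2.isCoatom_normal_index hP hM
  refine ⟨MonoidHom.mk' (fun x => if x ∈ M then 1 else -1) ?_, ?_⟩
  · intro a b
    have := Subgroup.mul_mem_iff_of_index_two hidx (a := a) (b := b)
    by_cases ha : a ∈ M <;> by_cases hb : b ∈ M <;> simp [ha, hb, this]
  · simp [htM]

instance finiteDual : Finite (T →* ℤˣ) :=
  Finite.of_injective (fun f => (f : T → ℤˣ)) DFunLike.coe_injective

noncomputable instance fintypeDual : Fintype (T →* ℤˣ) := Fintype.ofFinite _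

theorem sum_dual_eq_zero (h2 : ∀ t : T, t * t = 1) (t : T) (ht : t ≠ 1) :
    ∑ l : T →* ℤˣ, ((l t : ℤˣ) : ℤ) = 0 := by
  obtain ⟨μ, hμ⟩ := exists_char h2 t ht
  have h1 : ∑ l : T →* ℤˣ, ((l t : ℤˣ) : ℤ) = ∑ l : T →* ℤˣ, (((l * μ) t : ℤˣ) : ℤ) :=
    (Equiv.sum_comp (Equiv.mulRight μ) (fun l : T →* ℤˣ => ((l t : ℤˣ) : ℤ))).symm
  have h3 : ∑ l : T →* ℤˣ, (((l * μ) t : ℤˣ) : ℤ) = - ∑ l : T →* ℤˣ, ((l t : ℤˣ) : ℤ) := by
    rw [← Finset.sum_neg_distrib]
    refine Finset.sum_congr rfl (fun l _ => ?_)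
    rw [MonoidHom.mul_apply, hμ]
    simp
  omega

omit [Finite T] in
theorem sum_char_eq_zero [Fintype T] (l : T →* ℤˣ) (hl : l ≠ 1) :
    ∑ t : T, ((l t : ℤˣ) : ℤ) = 0 := by
  obtain ⟨s, hs⟩ : ∃ s, l s ≠ 1 := by
    by_contra hcon
    push Not at hcon
    exact hl (MonoidHom.ext hcon)
  have hs' : l s = -1 := (Int.units_eq_one_or (l s)).resolve_left hs
  have h1 : ∑ t : T, ((l t : ℤˣ) : ℤ) = ∑ t : T, ((l (t * s) : ℤˣ) : ℤ) :=
    (Equiv.sum_comp (Equiv.mulRight s) (fun t : T => ((l t : ℤˣ) : ℤ))).symm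
  have h3 : ∑ t : T, ((l (t * s) : ℤˣ) : ℤ) = - ∑ t : T, ((l t : ℤˣ) : ℤ) := by
    rw [← Finset.sum_neg_distrib]
    refine Finset.sum_congr rfl (fun t _ => ?_)
    rw [map_mul, hs']
    simp
  omega

theorem card_dual (h2 : ∀ t : T, t * t = 1) : Fintype.card (T →* ℤˣ) = Nat.card T := by
  cases nonempty_fintype T
  have h1 : ∑ t : T, ∑ l : T →* ℤˣ, ((l t : ℤˣ) : ℤ) = (Fintype.card (T →* ℤˣ) : ℤ) := by
    rw [Finset.sum_eq_single (1 : T)]
    · simp
    · intro t _ ht
      exact sum_dual_eq_zero h2 t ht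
    · intro h; exact absurd (Finset.mem_univ _) h
  have h3 : ∑ l : T →* ℤˣ, ∑ t : T, ((l t : ℤˣ) : ℤ) = (Fintype.card T : ℤ) := by
    rw [Finset.sum_eq_single (1 : T →* ℤˣ)]
    · simp
    · intro l _ hl
      exact sum_char_eq_zero l hl
    · intro h; exact absurd (Finset.mem_univ _) h
  rw [Finset.sum_comm, h3] at h1
  rw [Nat.card_eq_fintype_card]
  exact_mod_cast h1.symm

end chars

section star
variable {H : Type*} [Group H]

/-- `T` is a central subgroup of exponent two containing all squares. -/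
structure Cfg (T : Subgroup H) : Prop where
  central : ∀ t ∈ T, ∀ h : H, h * t = t * h
  sq_one : ∀ t ∈ T, t * t = 1
  sq_mem : ∀ x : H, x * x ∈ T

variable {T : Subgroup H}

theorem Cfg.comm_mem (c : Cfg T) (w x : H) : ⁅w, x⁆ ∈ T := by
  have h1 : ⁅w, x⁆ = ((w * x) * (w * x)) * (x⁻¹ * (w⁻¹ * w⁻¹) * x) * (x⁻¹ * x⁻¹) := by
    rw [commutatorElement_def]; group
  have h2 : x⁻¹ * (w⁻¹ * w⁻¹) * x = w⁻¹ * w⁻¹ := by
    rw [mul_assoc, ← c.central _ (c.sq_mem w⁻¹) x]; group
  rw [h1, h2]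
  exact mul_mem (mul_mem (c.sq_mem _) (c.sq_mem _)) (c.sq_mem _)

/-- evaluation of a character of `T` at an element of `H` (zero outside `T`). -/
noncomputable def ev (l : T →* ℤˣ) (h : H) : ℤ := if hh : h ∈ T then ((l ⟨h, hh⟩ : ℤˣ) : ℤ) else 0

theorem ev_of_mem (l : T →* ℤˣ) {h : H} (hh : h ∈ T) : ev l h = ((l ⟨h, hh⟩ : ℤˣ) : ℤ) := dif_pos hh

theorem ev_mul (l : T →* ℤˣ) {s t : H} (hs : s ∈ T) (ht : t ∈ T) : ev l (s * t) = ev l s * ev l t := by
  rw [ev_of_mem l hs, ev_of_mem l ht, ev_of_mem l (mul_mem hs ht)]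
  have : (⟨s * t, mul_mem hs ht⟩ : T) = ⟨s, hs⟩ * ⟨t, ht⟩ := rfl
  rw [this, map_mul]
  simp

theorem ev_one (l : T →* ℤˣ) : ev l 1 = 1 := by
  rw [ev_of_mem l (one_mem T)]
  have : (⟨1, one_mem T⟩ : T) = 1 := rfl
  rw [this, map_one]
  simp

theorem ev_eq (l : T →* ℤˣ) {t : H} (ht : t ∈ T) : ev l t = 1 ∨ ev l t = -1 := by
  rw [ev_of_mem l ht]
  rcases Int.units_eq_one_or (l ⟨t, ht⟩) with h | h <;> simp [h]

theorem ev_sq (l : T →* ℤˣ) {t : H} (ht : t ∈ T) : ev l t * ev l t = 1 := by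
  rcases ev_eq l ht with h | h <;> rw [h] <;> norm_num

/-- sign of the square. -/
noncomputable def eps (l : T →* ℤˣ) (x : H) : ℤ := ev l (x * x)
/-- sign of the commutator. -/
noncomputable def bet (l : T →* ℤˣ) (w x : H) : ℤ := ev l ⁅w, x⁆

theorem eps_mul (c : Cfg T) (l : T →* ℤˣ) (x w : H) :
    eps l (x * w) = eps l x * eps l w * bet l w x := by
  have key : (x * w) * (x * w) = (x * x) * (w * w) * ⁅w, x⁆ := by
    have h1 : w * x = ⁅w, x⁆ * (x * w) := by rw [commutatorElement_def]; group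
    calc (x * w) * (x * w) = x * (w * x) * w := by group
      _ = x * (⁅w, x⁆ * (x * w)) * w := by rw [← h1]
      _ = (x * ⁅w, x⁆) * (x * w * w) := by group
      _ = (⁅w, x⁆ * x) * (x * w * w) := by rw [c.central _ (c.comm_mem w x) x]
      _ = ⁅w, x⁆ * ((x * x) * (w * w)) := by group
      _ = _ := (c.central _ (c.comm_mem w x) _).symm
  unfold eps bet
  rw [key, ev_mul l (mul_mem (c.sq_mem x) (c.sq_mem w)) (c.comm_mem w x),
    ev_mul l (c.sq_mem x) (c.sq_mem w)]

theorem bet_mul_right (c : Cfg T) (l : T →* ℤˣ) (w x g : H) :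
    bet l w (x * g) = bet l w x * bet l w g := by
  have key : ⁅w, x * g⁆ = ⁅w, x⁆ * ⁅w, g⁆ := by
    rw [commutatorElement_mul_right_eq_mul_conj]
    have : ⁅w, x⁆ * x * ⁅w, g⁆ * x⁻¹ = ⁅w, x⁆ * ((x * ⁅w, g⁆) * x⁻¹) := by group
    rw [this, c.central _ (c.comm_mem w g) x]; group
  unfold bet
  rw [key, ev_mul l (c.comm_mem w x) (c.comm_mem w g)]

theorem bet_mul_left (c : Cfg T) (l : T →* ℤˣ) (w v x : H) :
    bet l (w * v) x = bet l w x * bet l v x := by
  have key : ⁅w * v, x⁆ = ⁅w, x⁆ * ⁅v, x⁆ := by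
    rw [commutatorElement_mul_left_eq_conj_mul]
    have : w * ⁅v, x⁆ * w⁻¹ * ⁅w, x⁆ = ((w * ⁅v, x⁆) * w⁻¹) * ⁅w, x⁆ := by group
    rw [this, c.central _ (c.comm_mem v x) w]
    have h2 : ⁅v, x⁆ * w * w⁻¹ * ⁅w, x⁆ = ⁅v, x⁆ * ⁅w, x⁆ := by group
    rw [h2]
    exact (c.central _ (c.comm_mem v x) _).symm
  unfold bet
  rw [key, ev_mul l (c.comm_mem w x) (c.comm_mem v x)]

theorem bet_eq (c : Cfg T) (l : T →* ℤˣ) (w x : H) : bet l w x = 1 ∨ bet l w x = -1 :=
  ev_eq l (c.comm_mem w x)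

theorem eps_eq (c : Cfg T) (l : T →* ℤˣ) (x : H) : eps l x = 1 ∨ eps l x = -1 :=
  ev_eq l (c.sq_mem x)

theorem eps_sq (c : Cfg T) (l : T →* ℤˣ) (x : H) : eps l x * eps l x = 1 :=
  ev_sq l (c.sq_mem x)

/-- the radical of the form attached to `l`. -/
def rad (c : Cfg T) (l : T →* ℤˣ) : Subgroup H where
  carrier := {w | ∀ x, bet l w x = 1}
  one_mem' := by
    intro x
    unfold bet
    rw [commutatorElement_one_left, ev_one]
  mul_mem' := by
    intro a b ha hb x
    rw [bet_mul_left c, ha x, hb x]; rfl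
  inv_mem' := by
    intro a ha x
    have h1 : bet l (a⁻¹ * a) x = 1 := by
      unfold bet
      rw [inv_mul_cancel, commutatorElement_one_left, ev_one]
    rw [bet_mul_left c, ha x, mul_one] at h1
    exact h1

theorem mem_rad (c : Cfg T) (l : T →* ℤˣ) (w : H) : w ∈ rad c l ↔ ∀ x, bet l w x = 1 := Iff.rfl

theorem center_le_rad (c : Cfg T) (l : T →* ℤˣ) : Subgroup.center H ≤ rad c l := by
  intro w hw x
  have : ⁅w, x⁆ = 1 := by
    rw [commutatorElement_eq_one_iff_mul_comm]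
    exact (Subgroup.mem_center_iff.mp hw x).symm
  unfold bet
  rw [this, ev_one]

/-- `eps` cut off outside the radical. -/
noncomputable def cen (c : Cfg T) (l : T →* ℤˣ) (w : H) : ℤ := if w ∈ rad c l then eps l w else 0

variable [Fintype H]

theorem sum_bet (c : Cfg T) (l : T →* ℤˣ) (w : H) :
    ∑ x, bet l w x = if w ∈ rad c l then (Fintype.card H : ℤ) else 0 := by
  split_ifs with hw
  · have : ∀ x, bet l w x = 1 := hw
    simp [this]
  · have : ∃ g, bet l w g ≠ 1 := by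
      by_contra hcon
      push Not at hcon
      exact hw hcon
    obtain ⟨g, hg⟩ := this
    have hb : bet l w g = -1 := (bet_eq c l w g).resolve_left hg
    have h1 : ∑ x, bet l w x = ∑ x, bet l w (x * g) :=
      (Equiv.sum_comp (Equiv.mulRight g) (fun y => bet l w y)).symm
    have h2 : ∑ x, bet l w (x * g) = - ∑ x, bet l w x := by
      rw [← Finset.sum_neg_distrib]
      refine Finset.sum_congr rfl (fun x _ => ?_)
      rw [bet_mul_right c, hb]; ring
    omega

theorem sum_cen (c : Cfg T) (l : T →* ℤˣ) :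
    ∑ w : H, cen c l w = 0 ∨ ∑ w : H, cen c l w = (Nat.card (rad c l) : ℤ) := by
  by_cases hall : ∀ g ∈ rad c l, eps l g = 1
  · right
    have : ∀ w : H, cen c l w = if w ∈ rad c l then 1 else 0 := by
      intro w
      unfold cen
      split_ifs with hw
      · exact hall w hw
      · rfl
    simp_rw [this]
    rw [Finset.sum_boole, Nat.card_eq_fintype_card, Fintype.card_subtype]
  · left
    push Not at hall
    obtain ⟨g, hg, hg2⟩ := hall
    have he : eps l g = -1 := (eps_eq c l g).resolve_left hg2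
    have h1 : ∑ x : H, cen c l x = ∑ x : H, cen c l (x * g) :=
      (Equiv.sum_comp (Equiv.mulRight g) (fun y => cen c l y)).symm
    have h2 : ∑ x : H, cen c l (x * g) = - ∑ x : H, cen c l x := by
      rw [← Finset.sum_neg_distrib]
      refine Finset.sum_congr rfl (fun x _ => ?_)
      have hiff : x * g ∈ rad c l ↔ x ∈ rad c l := Subgroup.mul_mem_cancel_right _ hg
      have hb : bet l g x = 1 := hg x
      unfold cen
      by_cases hx : x ∈ rad c l
      · rw [if_pos hx, if_pos (hiff.mpr hx), eps_mul c, he, hb]; ring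
      · rw [if_neg hx, if_neg (fun h' => hx (hiff.mp h'))]; ring
    omega

theorem S_sq (c : Cfg T) (l : T →* ℤˣ) :
    (∑ x : H, eps l x) * (∑ x : H, eps l x) = (Fintype.card H : ℤ) * ∑ w : H, cen c l w := by
  calc (∑ x : H, eps l x) * (∑ y : H, eps l y) = ∑ x : H, ∑ y : H, eps l x * eps l y :=
        Finset.sum_mul_sum _ _ _ _
    _ = ∑ x : H, ∑ w : H, eps l x * eps l (x * w) := by
        refine Finset.sum_congr rfl (fun x _ => ?_)
        exact (Equiv.sum_comp (Equiv.mulLeft x) (fun y => eps l x * eps l y)).symm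
    _ = ∑ x : H, ∑ w : H, eps l w * bet l w x := by
        refine Finset.sum_congr rfl (fun x _ => Finset.sum_congr rfl (fun w _ => ?_))
        rw [eps_mul c]
        linear_combination (eps l w * bet l w x) * eps_sq c l x
    _ = ∑ w : H, ∑ x : H, eps l w * bet l w x := Finset.sum_comm
    _ = ∑ w : H, eps l w * ∑ x : H, bet l w x := by
        refine Finset.sum_congr rfl (fun w _ => ?_)
        rw [Finset.mul_sum]
    _ = ∑ w : H, (Fintype.card H : ℤ) * cen c l w := by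
        refine Finset.sum_congr rfl (fun w _ => ?_)
        rw [sum_bet c, cen]
        split_ifs <;> ring
    _ = _ := by rw [Finset.mul_sum]

theorem dvd_S_sq (c : Cfg T) (l : T →* ℤˣ) :
    ((Nat.card H * Nat.card (Subgroup.center H) : ℕ) : ℤ) ∣ (∑ x : H, eps l x) ^ 2 := by
  rw [pow_two, S_sq c l]
  push_cast
  rw [Nat.card_eq_fintype_card]
  apply mul_dvd_mul_left
  rcases sum_cen c l with h | h
  · rw [h]; exact dvd_zero _
  · rw [h]
    exact_mod_cast Subgroup.card_dvd_of_le (center_le_rad c l)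

theorem sum_S (c : Cfg T) : ∑ l : T →* ℤˣ, ∑ x : H, eps l x =
    (Nat.card T : ℤ) * (Nat.card {x : H // x ^ 2 = 1} : ℤ) := by
  have h2 : ∀ t : T, t * t = 1 := fun t => Subtype.ext (c.sq_one t.1 t.2)
  rw [Finset.sum_comm]
  have : ∀ x : H, ∑ l : T →* ℤˣ, eps l x = if x ^ 2 = 1 then (Nat.card T : ℤ) else 0 := by
    intro x
    split_ifs with hx
    · rw [pow_two] at hx
      have : ∀ l : T →* ℤˣ, eps l x = 1 := by
        intro l
        unfold eps
        rw [hx, ev_one]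
      simp only [this, Finset.sum_const, Finset.card_univ, nsmul_eq_mul, mul_one]
      rw [card_dual h2]
    · rw [pow_two] at hx
      have h3 := sum_dual_eq_zero h2 ⟨x * x, c.sq_mem x⟩ (fun h => hx (congrArg Subtype.val h))
      rw [← h3]
      refine Finset.sum_congr rfl (fun l _ => ?_)
      exact ev_of_mem l (c.sq_mem x)
  simp_rw [this]
  rw [← Finset.sum_filter, Finset.sum_const, nsmul_eq_mul, Nat.card_eq_fintype_card (α := {x : H // x ^ 2 = 1}),
    Fintype.card_subtype, mul_comm]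

end star

theorem star {H : Type*} [Group H] [Finite H] {T : Subgroup H} (c : Cfg T) :
    Nat.card H * Nat.card (Subgroup.center H) ≤
      (Nat.card T * Nat.card {x : H // x ^ 2 = 1}) ^ 2 := by
  cases nonempty_fintype H
  set m : ℤ := ((Nat.card H * Nat.card (Subgroup.center H) : ℕ) : ℤ) with hm
  have hpair : ∀ l μ : T →* ℤˣ, m ∣ (∑ x : H, eps l x) * (∑ x : H, eps μ x) := by
    intro l μ
    have h1 := dvd_S_sq c l
    have h2 := dvd_S_sq c μ
    have h3 : m ^ 2 ∣ ((∑ x : H, eps l x) * (∑ x : H, eps μ x)) ^ 2 := by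
      rw [mul_pow, pow_two m]
      exact mul_dvd_mul h1 h2
    exact (Int.pow_dvd_pow_iff two_ne_zero).mp h3
  have hdvd : m ∣ ((Nat.card T : ℤ) * (Nat.card {x : H // x ^ 2 = 1} : ℤ)) ^ 2 := by
    rw [← sum_S c, pow_two, Finset.sum_mul_sum]
    exact Finset.dvd_sum (fun l _ => Finset.dvd_sum (fun μ _ => hpair l μ))
  have hpos : (0 : ℤ) < ((Nat.card T : ℤ) * (Nat.card {x : H // x ^ 2 = 1} : ℤ)) ^ 2 := by
    have h1 : 0 < Nat.card T := Nat.card_pos
    have : Nonempty {x : H // x ^ 2 = 1} := ⟨⟨1, one_pow 2⟩⟩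
    have h2 : 0 < Nat.card {x : H // x ^ 2 = 1} := Nat.card_pos
    positivity
  have := Int.le_of_dvd hpos hdvd
  rw [hm] at this
  exact_mod_cast this

section special
variable {G : Type*} [Group G]

theorem Cfg.sq_mul {T : Subgroup G} (c : Cfg T) (x w : G) :
    (x * w) * (x * w) = (x * x) * (w * w) * ⁅w, x⁆ := by
  have h1 : w * x = ⁅w, x⁆ * (x * w) := by rw [commutatorElement_def]; group
  calc (x * w) * (x * w) = x * (w * x) * w := by group
    _ = x * (⁅w, x⁆ * (x * w)) * w := by rw [← h1]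
    _ = (x * ⁅w, x⁆) * (x * w * w) := by group
    _ = (⁅w, x⁆ * x) * (x * w * w) := by rw [c.central _ (c.comm_mem w x) x]
    _ = ⁅w, x⁆ * ((x * x) * (w * w)) := by group
    _ = _ := (c.central _ (c.comm_mem w x) _).symm

/-- central elements of order at most two. -/
def U (G : Type*) [Group G] : Subgroup G where
  carrier := {t | t ∈ Subgroup.center G ∧ t * t = 1}
  one_mem' := ⟨one_mem _, by simp⟩
  mul_mem' := by
    rintro a b ⟨ha, ha2⟩ ⟨hb, hb2⟩
    refine ⟨mul_mem ha hb, ?_⟩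
    have h := Subgroup.mem_center_iff.mp ha b
    calc a * b * (a * b) = a * (b * a) * b := by group
      _ = a * (a * b) * b := by rw [h]
      _ = (a * a) * (b * b) := by group
      _ = 1 := by rw [ha2, hb2, one_mul]
  inv_mem' := by
    rintro a ⟨ha, ha2⟩
    refine ⟨inv_mem ha, ?_⟩
    rw [← mul_inv_rev, ha2, inv_one]

instance U_normal : (U G).Normal := ⟨by
  rintro n ⟨hn, hn2⟩ g
  have h := Subgroup.mem_center_iff.mp hn g
  have : g * n * g⁻¹ = n := by rw [h]; group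
  rw [this]
  exact ⟨hn, hn2⟩⟩

theorem cfg_frattini [Finite G] (hG : IsPGroup 2 G)
    (hcl : (⊤ : Subgroup G).lowerCentralSeries 2 = ⊥) (hexp : ∀ x : G, x ^ 4 = 1)
    (hN : ∀ x y : G, x ^ 2 = 1 → y ^ 2 = 1 → (x * y) ^ 2 = 1) : Cfg (frattini G) := by
  have : Fact (Nat.Prime 2) := ⟨Nat.prime_two⟩
  have hcc : ∀ x y z : G, z * ⁅x, y⁆ = ⁅x, y⁆ * z := by
    intro x y z
    have h1 : ⁅⁅x, y⁆, z⁆ ∈ (⊤ : Subgroup G).lowerCentralSeries 2 :=
      Subgroup.commutator_mem_commutator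
        (Subgroup.commutator_mem_commutator (Subgroup.mem_top x) (Subgroup.mem_top y))
        (Subgroup.mem_top z)
    rw [hcl, Subgroup.mem_bot, commutatorElement_eq_one_iff_mul_comm] at h1
    exact h1.symm
  have hc2 : ∀ w x : G, ⁅w, x⁆ ^ 2 = 1 := by
    intro w x
    have h1 : ⁅w, x⁆ = ((w * x) * (w * x)) * (x⁻¹ * (w⁻¹ * w⁻¹) * x) * (x⁻¹ * x⁻¹) := by
      rw [commutatorElement_def]; group
    rw [h1]
    apply hN
    · apply hN
      · have : ((w * x) * (w * x)) ^ 2 = (w * x) ^ 4 := by rw [← pow_two, ← pow_mul]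
        rw [this, hexp]
      · have : (x⁻¹ * (w⁻¹ * w⁻¹) * x) ^ 2 = x⁻¹ * (w ^ 4)⁻¹ * x := by rw [pow_two]; group
        rw [this, hexp]; group
    · have : (x⁻¹ * x⁻¹) ^ 2 = (x ^ 4)⁻¹ := by rw [pow_two]; group
      rw [this, hexp, inv_one]
  have hsqc : ∀ x y : G, y * (x * x) = (x * x) * y := by
    intro x y
    have h1 : x * y = ⁅x, y⁆ * (y * x) := by rw [commutatorElement_def]; group
    have h2 : ⁅x, y⁆ * ⁅x, y⁆ = 1 := by rw [← pow_two]; exact hc2 x y
    symm
    calc (x * x) * y = x * (x * y) := by group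
      _ = x * (⁅x, y⁆ * (y * x)) := by rw [← h1]
      _ = (x * ⁅x, y⁆) * (y * x) := by group
      _ = (⁅x, y⁆ * x) * (y * x) := by rw [hcc x y x]
      _ = ⁅x, y⁆ * (x * y) * x := by group
      _ = ⁅x, y⁆ * (⁅x, y⁆ * (y * x)) * x := by rw [← h1]
      _ = (⁅x, y⁆ * ⁅x, y⁆) * (y * (x * x)) := by group
      _ = y * (x * x) := by rw [h2, one_mul]
  have hle : frattini G ≤ U G := by
    apply Cfsg.Agent.Lib.Helper2.frattini_le_of_elementary_quotient (p := 2)
    · rw [commutator_def, Subgroup.commutator_le]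
      intro x _ y _
      refine ⟨Subgroup.mem_center_iff.mpr (fun z => hcc x y z), ?_⟩
      rw [← pow_two]; exact hc2 x y
    · intro x
      rw [pow_two]
      refine ⟨Subgroup.mem_center_iff.mpr (fun z => hsqc x z), ?_⟩
      have : x * x * (x * x) = x ^ 4 := by rw [← pow_two, ← pow_two, ← pow_mul]
      rw [this, hexp]
  refine ⟨?_, ?_, ?_⟩
  · intro t ht h
    exact Subgroup.mem_center_iff.mp (hle ht).1 h
  · intro t ht
    exact (hle ht).2
  · intro x
    rw [← pow_two]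
    exact Cfsg.Agent.Lib.Helper2.pow_p_mem_frattini hG x

/-- the elements whose square lies in `K'`. -/
def Msub {T : Subgroup G} (c : Cfg T) (K' : Subgroup T)
    (hK : ∀ w x : G, (⟨⁅w, x⁆, c.comm_mem w x⟩ : T) ∈ K') : Subgroup G where
  carrier := {x | (⟨x * x, c.sq_mem x⟩ : T) ∈ K'}
  one_mem' := by
    have : (⟨(1 : G) * 1, c.sq_mem 1⟩ : T) = 1 := Subtype.ext (by simp)
    show (⟨(1 : G) * 1, c.sq_mem 1⟩ : T) ∈ K'
    rw [this]; exact one_mem _
  mul_mem' := by
    intro a b ha hb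
    have : (⟨(a * b) * (a * b), c.sq_mem (a * b)⟩ : T) =
        ⟨a * a, c.sq_mem a⟩ * ⟨b * b, c.sq_mem b⟩ * ⟨⁅b, a⁆, c.comm_mem b a⟩ :=
      Subtype.ext (c.sq_mul a b)
    show (⟨(a * b) * (a * b), c.sq_mem (a * b)⟩ : T) ∈ K'
    rw [this]
    exact mul_mem (mul_mem ha hb) (hK b a)
  inv_mem' := by
    intro a ha
    have : (⟨a⁻¹ * a⁻¹, c.sq_mem a⁻¹⟩ : T) = (⟨a * a, c.sq_mem a⟩ : T)⁻¹ :=
      Subtype.ext (by simp)
    show (⟨a⁻¹ * a⁻¹, c.sq_mem a⁻¹⟩ : T) ∈ K'
    rw [this]; exact inv_mem ha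

theorem card_le_two_mul_Msub [Finite G] {T : Subgroup G} (c : Cfg T) (K' : Subgroup T)
    (hK : ∀ w x : G, (⟨⁅w, x⁆, c.comm_mem w x⟩ : T) ∈ K') (hidx : K'.index = 2) :
    Nat.card G ≤ 2 * Nat.card (Msub c K' hK) := by
  set M := Msub c K' hK with hM
  by_cases htop : M = ⊤
  · rw [htop, Subgroup.card_top]; omega
  · obtain ⟨a, ha⟩ : ∃ a, a ∉ M := by
      by_contra hcon
      push Not at hcon
      exact htop (eq_top_iff.mpr (fun z _ => hcon z))
    have hi : M.index = 2 := by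
      rw [Subgroup.index_eq_two_iff]
      refine ⟨a, fun b => ?_⟩
      by_cases hb : b ∈ M
      · right
        refine ⟨hb, fun hba => ha ?_⟩
        exact (Subgroup.mul_mem_cancel_left M hb).mp hba
      · left
        refine ⟨?_, hb⟩
        have e : (⟨(b * a) * (b * a), c.sq_mem (b * a)⟩ : T) =
            ⟨b * b, c.sq_mem b⟩ * ⟨a * a, c.sq_mem a⟩ * ⟨⁅a, b⁆, c.comm_mem a b⟩ :=
          Subtype.ext (c.sq_mul b a)
        show (⟨(b * a) * (b * a), c.sq_mem (b * a)⟩ : T) ∈ K'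
        rw [e]
        refine mul_mem ?_ (hK a b)
        rw [Subgroup.mul_mem_iff_of_index_two hidx]
        exact ⟨fun h => absurd h hb, fun h => absurd h ha⟩
    rw [← M.card_mul_index, hi, mul_comm]

theorem comm_eq [Finite G] (hG : IsPGroup 2 G) (c : Cfg (frattini G))
    (hj : Nat.card {x : G // x ^ 2 = 1} = Nat.card (frattini G))
    (hg : Nat.card (frattini G) ^ 3 ≤ Nat.card G) : commutator G = frattini G := by
  have : Fact (Nat.Prime 2) := ⟨Nat.prime_two⟩
  by_contra hne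
  set T := frattini G with hT
  have hDT : commutator G ≤ T := by
    rw [commutator_def, Subgroup.commutator_le]
    intro x _ y _
    exact c.comm_mem x y
  have hD' : (commutator G).subgroupOf T ≠ ⊤ := by
    rw [Ne, Subgroup.subgroupOf_eq_top]
    intro h
    exact hne (le_antisymm hDT h)
  obtain ⟨K', hK'co, hDK'⟩ := (eq_top_or_exists_le_coatom _).resolve_left hD'
  obtain ⟨_, hidx⟩ := Cfsg.Agent.Lib.Helper2.isCoatom_normal_index (hG.to_subgroup T) hK'co
  have hK : ∀ w x : G, (⟨⁅w, x⁆, c.comm_mem w x⟩ : T) ∈ K' := by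
    intro w x
    apply hDK'
    rw [Subgroup.mem_subgroupOf]
    exact Subgroup.commutator_mem_commutator (Subgroup.mem_top w) (Subgroup.mem_top x)
  set M := Msub c K' hK with hM
  have hgM := card_le_two_mul_Msub c K' hK hidx
  have hTM : T ≤ M := by
    intro t ht
    have : (⟨t * t, c.sq_mem t⟩ : T) = 1 := Subtype.ext (c.sq_one t ht)
    show (⟨t * t, c.sq_mem t⟩ : T) ∈ K'
    rw [this]; exact one_mem _
  set K : Subgroup G := K'.map T.subtype with hKdef
  have hKT : K ≤ T := Subgroup.map_subtype_le K'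
  have hKM : K ≤ M := hKT.trans hTM
  have cM : Cfg (K.subgroupOf M) := by
    refine ⟨?_, ?_, ?_⟩
    · intro t ht h
      rw [Subgroup.mem_subgroupOf] at ht
      exact Subtype.ext (c.central _ (hKT ht) h.1)
    · intro t ht
      rw [Subgroup.mem_subgroupOf] at ht
      exact Subtype.ext (c.sq_one _ (hKT ht))
    · intro x
      rw [Subgroup.mem_subgroupOf]
      exact ⟨⟨x.1 * x.1, c.sq_mem x.1⟩, x.2, rfl⟩
  have hstar := star cM
  have hk1 : Nat.card (K.subgroupOf M) = Nat.card K' := by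
    rw [Nat.card_congr (Subgroup.subgroupOfEquivOfLe hKM).toEquiv, hKdef,
      Subgroup.card_map_of_injective T.subtype_injective]
  have hk2 : Nat.card K' * 2 = Nat.card T := by
    rw [← hidx]; exact K'.card_mul_index
  have hz : Nat.card T ≤ Nat.card (Subgroup.center M) := by
    rw [← Nat.card_congr (Subgroup.subgroupOfEquivOfLe hTM).toEquiv]
    apply Subgroup.card_le_of_le
    intro t ht
    rw [Subgroup.mem_subgroupOf] at ht
    rw [Subgroup.mem_center_iff]
    intro h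
    exact Subtype.ext (c.central _ ht h.1)
  have hjM : Nat.card {x : M // x ^ 2 = 1} ≤ Nat.card {x : G // x ^ 2 = 1} := by
    refine Nat.card_le_card_of_injective (fun x => ⟨x.1.1, ?_⟩) ?_
    · have := congrArg Subtype.val x.2
      simpa using this
    · intro x y hxy
      simp only [Subtype.mk.injEq] at hxy
      exact Subtype.ext (Subtype.ext hxy)
  rw [hk1] at hstar
  rw [hj] at hjM
  have htpos : 0 < Nat.card T := Nat.card_pos
  set t := Nat.card T
  set g := Nat.card G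
  set μ := Nat.card M
  set zM := Nat.card (Subgroup.center M)
  set k := Nat.card K'
  set jM := Nat.card {x : M // x ^ 2 = 1}
  have e1 : 4 * (μ * t) ≤ 4 * (μ * zM) := by
    apply Nat.mul_le_mul_left; exact Nat.mul_le_mul_left _ hz
  have e2 : 4 * (μ * zM) ≤ 4 * (k * jM) ^ 2 := Nat.mul_le_mul_left _ hstar
  have e3 : 4 * (k * jM) ^ 2 = t ^ 2 * jM ^ 2 := by rw [← hk2]; ring
  have e4 : t ^ 2 * jM ^ 2 ≤ t ^ 2 * t ^ 2 := Nat.mul_le_mul_left _ (Nat.pow_le_pow_left hjM 2)
  have e5 : 2 * (t ^ 3 * t) ≤ 4 * (μ * t) := by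
    have : t ^ 3 * t ≤ (2 * μ) * t := Nat.mul_le_mul_right _ (hg.trans hgM)
    nlinarith
  have e6 : 2 * (t ^ 3 * t) ≤ t ^ 2 * t ^ 2 := by
    calc 2 * (t ^ 3 * t) ≤ 4 * (μ * t) := e5
      _ ≤ 4 * (μ * zM) := e1
      _ ≤ 4 * (k * jM) ^ 2 := e2
      _ = t ^ 2 * jM ^ 2 := e3
      _ ≤ _ := e4
  have e7 : t ^ 3 * t = t ^ 2 * t ^ 2 := by ring
  have e8 : 0 < t ^ 2 * t ^ 2 := by positivity
  omega

end special

theorem result {G : Type*} [Group G] [Finite G] (hG : IsPGroup 2 G) (hcl : (⊤ : Subgroup G).lowerCentralSeries 2 = ⊥) (hexp : ∀ x : G, x ^ 4 = 1) (hN : ∀ x y : G, x ^ 2 = 1 → y ^ 2 = 1 → (x * y) ^ 2 = 1) : Nat.card G ≤ Nat.card {x : G // x ^ 2 = 1} ^ 3 ∧ (¬ Cfsg.IsSpecial 2 G → Nat.card G < Nat.card {x : G // x ^ 2 = 1} ^ 3) := by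
  have c := cfg_frattini hG hcl hexp hN
  have hstar := star c
  have hle : frattini G ≤ Subgroup.center G := fun t ht =>
    Subgroup.mem_center_iff.mpr (fun h => c.central t ht h)
  have htz : Nat.card (frattini G) ≤ Nat.card (Subgroup.center G) := Subgroup.card_le_of_le hle
  have htj : Nat.card (frattini G) ≤ Nat.card {x : G // x ^ 2 = 1} := by
    refine Nat.card_le_card_of_injective (fun x => ⟨x.1, ?_⟩) ?_
    · rw [pow_two]; exact c.sq_one x.1 x.2
    · intro x y hxy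
      simp only [Subtype.mk.injEq] at hxy
      exact Subtype.ext hxy
  have htpos : 0 < Nat.card (frattini G) := Nat.card_pos
  have hcomm := comm_eq hG c
  set t := Nat.card (frattini G)
  set g := Nat.card G
  set z := Nat.card (Subgroup.center G) with hz
  set j := Nat.card {x : G // x ^ 2 = 1}
  have hjpos : 0 < j := lt_of_lt_of_le htpos htj
  constructor
  · have h1 : g * t ≤ (t * j ^ 2) * t := by
      calc g * t ≤ g * z := Nat.mul_le_mul_left _ htz
        _ ≤ (t * j) ^ 2 := hstar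
        _ = _ := by ring
    have h2 : g ≤ t * j ^ 2 := Nat.le_of_mul_le_mul_right h1 htpos
    calc g ≤ t * j ^ 2 := h2
      _ ≤ j * j ^ 2 := Nat.mul_le_mul_right _ htj
      _ = j ^ 3 := by ring
  · intro hns
    by_contra hcon
    push Not at hcon
    apply hns
    have h1 : (j * z) * j ^ 2 ≤ (t ^ 2) * j ^ 2 := by
      calc (j * z) * j ^ 2 = j ^ 3 * z := by ring
        _ ≤ g * z := Nat.mul_le_mul_right _ hcon
        _ ≤ (t * j) ^ 2 := hstar
        _ = _ := by ring
    have h2 : j * z ≤ t ^ 2 := Nat.le_of_mul_le_mul_right h1 (by positivity)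
    have h3 : z ≤ t := by
      have : j * z ≤ j * t := by
        calc j * z ≤ t ^ 2 := h2
          _ = t * t := by ring
          _ ≤ j * t := Nat.mul_le_mul_right _ htj
      exact Nat.le_of_mul_le_mul_left this hjpos
    have h4 : j ≤ t := by
      have : j * t ≤ t * t := by
        calc j * t ≤ j * z := Nat.mul_le_mul_left _ htz
          _ ≤ t ^ 2 := h2
          _ = t * t := by ring
      exact Nat.le_of_mul_le_mul_right this htpos
    have hfc : frattini G = Subgroup.center G := Subgroup.eq_of_le_of_card_ge hle h3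
    have hjt : j = t := le_antisymm h4 htj
    refine ⟨hG, hfc, ?_⟩
    rw [← hfc]
    apply hcomm hjt
    rw [← hjt]; exact hcon

end Cfsg.Agent.S3773
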