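import Cfsg.Statements.S1138
import Cfsg.Agent.Lib.Helper20.SuzCard

set_option autoImplicit false
open Cfsg

namespace Cfsg.Agent.S1138

open Cfsg.Agent.Lib.Helper63.Suz Cfsg.Agent.Lib.Helper20.Suz in
open scoped commutatorElement in
/-- Let `P` be a Suzuki 2-group with `|Z(P)| = q`. Then every square lies in `Z(P)` and `P/Z(P)` is abelian (so elementary abelian), `|P| = q²` or `|P| = q³`, and `P` has exponent 4. -/
theorem result {P : Type*} [Group P] (hP : Cfsg.IsSuzukiTwoGroup P) :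
    (∀ x : P, x * x ∈ Subgroup.center P) ∧ (∀ x y : P, x⁻¹ * y⁻¹ * x * y ∈ Subgroup.center P) ∧
      (Nat.card P = Nat.card (Subgroup.center P) ^ 2 ∨ Nat.card P = Nat.card (Subgroup.center P) ^ 3) ∧
      Monoid.exponent P = 4 := by
  obtain ⟨hfin, h2, hna, ⟨x, y, hxy, hx1, hx2, hy1, hy2⟩, K, hKc, hreg⟩ := hP
  haveI := hfin
  have hset : Setup K := by
    refine ⟨h2, ?_, hreg⟩
    intro a ha b hb
    haveI := hKc
    haveI : IsMulCommutative K := IsCyclic.isMulCommutative
    have := mul_comm' (⟨a, ha⟩ : K) ⟨b, hb⟩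
    exact congrArg Subtype.val this
  have h3 : ∃ e e' : P, e ∈ hset.V ∧ e' ∈ hset.V ∧ e ≠ 1 ∧ e' ≠ 1 ∧ e ≠ e' :=
    ⟨x, y, hx2, hy2, hx1, hy1, hxy⟩
  obtain ⟨hsq, hcard⟩ := card_cases hset h3 hna
  have hcen : Subgroup.center P = hset.V := by
    apply le_antisymm
    · intro z hz
      exact hset.center_sq hna hz
    · intro z hz
      exact Subgroup.mem_center_iff.2 (Vc hset hz)
  rw [hcen]
  refine ⟨hsq, ?_, hcard, ?_⟩
  · intro a b
    have h1 : a⁻¹ * b⁻¹ * a * b = ⁅a⁻¹, b⁻¹⁆ := by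
      rw [commutatorElement_def]; group
    rw [h1, comm_eq_squares]
    exact mul_mem (mul_mem (hsq _) (hsq _)) (hsq _)
  · have h4 : ∀ a : P, a ^ 4 = 1 := by
      intro a
      rw [pow_four_eq]
      exact hsq a
    have hd : Monoid.exponent P ∣ 4 := Monoid.exponent_dvd_of_forall_pow_eq_one h4
    have hnd : ¬ Monoid.exponent P ∣ 2 := by
      intro hd2
      obtain ⟨a, b, hab⟩ := hna
      apply hab
      have ha : a * a = 1 := by
        rw [← pow_two]
        exact Monoid.exponent_dvd_iff_forall_pow_eq_one.1 hd2 a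
      exact (Vc hset (v := a) ha b).symm
    have hle : Monoid.exponent P ≤ 4 := Nat.le_of_dvd (by norm_num) hd
    interval_cases hE : Monoid.exponent P
    · simp at hd
    · simp at hnd
    · simp at hnd
    · norm_num at hd
    · rfl

end Cfsg.Agent.S1138
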