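import Cfsg.Statements.S1354
import Cfsg.Agent.S1430
import Cfsg.Agent.S1403
import Cfsg.Agent.Lib.Helper49.BG14b

set_option autoImplicit false
open Cfsg

namespace Cfsg.Agent.S1354

/-- Let G be a minimal simple group of odd order, M a maximal subgroup and K a cyclic Hall κ(M)-subgroup of M, and put K* = M_σ ∩ C_G(K). Then K* ≠ 1, and if K ≠ 1 then for every non-identity k ∈ K the centralizer C_M(k) is the subgroup generated by K and K* (an internal direct product, as K ∩ M_σ = 1 and K* centralizes K). -/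
theorem result {G : Type*} [Group G] [Finite G] (hG : Cfsg.IsMinSimpleOddOrder G)
    (M : Subgroup G) (hM : IsCoatom M) (K : Subgroup G)
    (hKc : IsCyclic K) (hK : Cfsg.IsPiHallOf (Cfsg.kappa M) K M) :
    Cfsg.sigmaCore M ⊓ Subgroup.centralizer (K : Set G) ≠ ⊥ ∧
      (K ≠ ⊥ → ∀ k ∈ K, k ≠ 1 →
        M ⊓ Subgroup.centralizer ({k} : Set G) = K ⊔ (Cfsg.sigmaCore M ⊓ Subgroup.centralizer (K : Set G))) := by
  have h30 : Cfsg.Agent.Lib.Helper49.BG14.H1430 G :=
    fun M hM K hK hK1 => Cfsg.Agent.S1430.result hG M hM K hK hK1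
  have hU : Cfsg.Agent.Lib.Helper24.UT G :=
    fun K hK hK2 hK3 => Cfsg.Agent.S1403.result hG K hK hK2 hK3
  refine ⟨?_, ?_⟩
  · by_cases hK1 : K = ⊥
    · have h1 : Cfsg.sigmaCore M ⊓ Subgroup.centralizer (K : Set G) = Cfsg.sigmaCore M := by
        apply inf_eq_left.mpr
        intro x _
        rw [Subgroup.mem_centralizer_iff]
        intro w hw
        have hw' : w ∈ K := hw
        rw [hK1, Subgroup.mem_bot] at hw'
        rw [hw', one_mul, mul_one]
      rw [h1]
      exact Cfsg.Agent.Lib.Helper49.BG11.sc_ne_bot hG hU hM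
    · exact Cfsg.Agent.Lib.Helper49.BG14.Ks_ne_bot hG h30 hM hK hK1
  · intro hK1 k hk hk1
    apply le_antisymm (Cfsg.Agent.Lib.Helper49.BG14.cent_le h30 hM hK hk hk1)
    apply sup_le
    · intro a ha
      refine ⟨hK.1 ha, ?_⟩
      show a ∈ Subgroup.centralizer ({k} : Set G)
      rw [Subgroup.mem_centralizer_iff]
      intro w hw
      rw [Set.mem_singleton_iff] at hw
      subst hw
      have := (IsCyclic.isMulCommutative (α := K)).is_comm.comm ⟨w, hk⟩ ⟨a, ha⟩
      exact congrArg Subtype.val this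
    · intro a ha
      refine ⟨Cfsg.Agent.Lib.Helper31.BG11.sc_le M ha.1, ?_⟩
      show a ∈ Subgroup.centralizer ({k} : Set G)
      rw [Subgroup.mem_centralizer_iff]
      intro w hw
      rw [Set.mem_singleton_iff] at hw
      subst hw
      exact Subgroup.mem_centralizer_iff.mp ha.2 w hk

end Cfsg.Agent.S1354
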