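import Cfsg.Statements.S1384
import Cfsg.Agent.Lib.Helper10.BG124b
import Cfsg.Agent.Lib.Helper24.U95a
import Cfsg.Agent.Lib.Helper24.BGSolv
import Cfsg.Agent.Lib.Helper25.NilpotentCoprime

set_option autoImplicit false
set_option linter.style.haveILetI false
set_option linter.unusedVariables false
open Cfsg

namespace Cfsg.Agent.S1384

open Subgroup
open Cfsg.Agent.Lib
open Cfsg.Agent.Lib.Helper24 Cfsg.Agent.Lib.Helper34 Cfsg.Agent.Lib.Helper31.BG11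

universe u

variable {G : Type u} [Group G] [Finite G]

/-- the `p`-part and the `p'`-part of a nilpotent subgroup. -/
theorem nil_decomp {H : Subgroup G} (hH : Group.IsNilpotent H) (p : ℕ) [hp : Fact p.Prime] :
    ∃ P H₂ : Subgroup G, P ≤ H ∧ H₂ ≤ H ∧ IsPGroup p P ∧ ¬ p ∣ Nat.card H₂ ∧ ¬ p ∣ P.relIndex H ∧
      (∃ k : ℕ, H₂.relIndex H = p ^ k) ∧
      (∀ h ∈ H, (∃ k : ℕ, orderOf h = p ^ k) → h ∈ P) ∧
      (∀ h ∈ H, (orderOf h).Coprime p → h ∈ H₂) := by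
  haveI := hH
  let S : Sylow p ↥H := default
  haveI hSn : (S : Subgroup ↥H).Normal :=
    Helper68.BG121.hall_normal_of_nilpotent _ S.card_coprime_index
  obtain ⟨K, hK⟩ := exists_isPiHall (G := ↥H) {q | q ≠ p}
  haveI hKn : K.Normal := Helper68.BG121.hall_normal_of_nilpotent _ (IsPiHall.coprime_card_index hK)
  have hKi : K.index = p ^ K.index.primeFactorsList.length := by
    apply Nat.eq_prime_pow_of_unique_prime_dvd K.index_ne_zero_of_finite
    intro d hd hdd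
    by_contra hne
    exact hK.2 d hd hne hdd
  refine ⟨(S : Subgroup ↥H).map H.subtype, K.map H.subtype, map_subtype_le _, map_subtype_le _,
    S.2.map _, ?_, ?_, ⟨K.index.primeFactorsList.length, ?_⟩, ?_, ?_⟩
  · rw [card_map_of_injective H.subtype_injective]
    intro hd
    exact hK.1 p hp.out hd rfl
  · rw [relIndex_map_subtype]
    exact S.not_dvd_index
  · rw [relIndex_map_subtype]
    exact hKi
  · rintro h hh ⟨k, hk⟩
    have h1 : (Nat.card (zpowers (⟨h, hh⟩ : ↥H))).Coprime (S : Subgroup ↥H).index := by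
      rw [Nat.card_zpowers, Subgroup.orderOf_mk, hk]
      exact Nat.Coprime.pow_left _ ((Nat.Prime.coprime_iff_not_dvd hp.out).mpr S.not_dvd_index)
    have h2 := Helper68.BG121.le_of_normal_of_coprime_index _ _ h1
    exact ⟨⟨h, hh⟩, h2 (mem_zpowers _), rfl⟩
  · intro h hh hc
    have h1 : (Nat.card (zpowers (⟨h, hh⟩ : ↥H))).Coprime K.index := by
      rw [Nat.card_zpowers, Subgroup.orderOf_mk, hKi]
      exact Nat.Coprime.pow_right _ hc
    have h2 := Helper68.BG121.le_of_normal_of_coprime_index _ _ h1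
    exact ⟨⟨h, hh⟩, h2 (mem_zpowers _), rfl⟩

/-- Sylow control of fusion in a subgroup of `p`-length one. -/
theorem sylow_ctl_of_pLength {p : ℕ} [hp : Fact p.Prime] {X S : Subgroup G}
    (hpl : PLengthLE p 1 X) (hS : IsSylowIn p S X) {y u : G} (hy : y ∈ S) (hu : u ∈ X)
    (h : u * y * u⁻¹ ∈ S) :
    ∃ m ∈ X ⊓ normalizer (S : Set G), m * y * m⁻¹ = u * y * u⁻¹ := by
  obtain ⟨K, hKX, hXK, hKp, hfac⟩ := exists_frattini_of_pLength_one p hpl hS
  obtain ⟨k, hk, m, hm, rfl⟩ := hfac u hu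
  refine ⟨m, hm, ?_⟩
  set y' := m * y * m⁻¹ with hy'
  have hy'S : y' ∈ S := (mem_normalizer_iff.mp hm.2 y).mp hy
  have h1 : k * m * y * (k * m)⁻¹ = k * y' * k⁻¹ := by
    rw [hy']; group
  rw [h1] at h ⊢
  have h2 : k * y' * k⁻¹ * y'⁻¹ ∈ K ⊓ S := by
    refine ⟨?_, S.mul_mem h (S.inv_mem hy'S)⟩
    have h3 : y' * k⁻¹ * y'⁻¹ ∈ K :=
      (mem_normalizer_iff.mp (hXK (hS.1 hy'S)) _).mp (K.inv_mem hk)
    have : k * y' * k⁻¹ * y'⁻¹ = k * (y' * k⁻¹ * y'⁻¹) := by group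
    rw [this]
    exact K.mul_mem hk h3
  have h4 : K ⊓ S = ⊥ := Helper22.BG.inf_eq_bot_of_coprime_p hKp hS.2.1
  rw [h4, mem_bot] at h2
  have : k * y' * k⁻¹ = y' := by
    calc k * y' * k⁻¹ = (k * y' * k⁻¹ * y'⁻¹) * y' := by group
      _ = y' := by rw [h2, one_mul]
  exact this.symm

theorem sylow_ctl (hG : IsMinSimpleOddOrder G) {p : ℕ} [hp : Fact p.Prime] {X S : Subgroup G}
    (hS : IsSylowIn p S X) {y u : G} (hy : y ∈ S) (hu : u ∈ X) (h : u * y * u⁻¹ ∈ S) :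
    ∃ m ∈ X ⊓ normalizer (S : Set G), m * y * m⁻¹ = u * y * u⁻¹ := by
  by_cases hX : X = ⊤
  · subst hX
    by_cases hS1 : S = ⊥
    · subst hS1
      rw [mem_bot] at hy
      subst hy
      exact ⟨1, one_mem _, by simp⟩
    have hU := Helper10.BG124.ut hG
    obtain ⟨M, hM, hNM⟩ := exists_coatom_ge
      (MS_normalizer_ne_top hG hS1 (MS_isPGroup_ne_top hG hS.2.1))
    have hSM : S ≤ M := le_normalizer.trans hNM
    have hSM' : IsSylowIn p S M := hS.of_le hSM le_top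
    have hpM : p ∣ Nat.card M :=
      (Helper10.dvd_card_of_isPGroup_ne_bot hS.2.1 hS1).trans (card_dvd_of_le hSM)
    have hps : p ∈ sigma M := mem_sigma_iff.mpr ⟨hpM, S, hSM', hNM⟩
    have hz : zpowers y ≤ S := zpowers_le.mpr hy
    have hcj : cj u (zpowers y) ≤ M := by
      rintro _ ⟨z, hz', rfl⟩
      obtain ⟨i, rfl⟩ := mem_zpowers_iff.mp hz'
      have : (MulAut.conj u).toMonoidHom (y ^ i) = (u * y * u⁻¹) ^ i := by
        simp [conj_zpow]
      rw [this]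
      exact hSM (S.zpow_mem h i)
    obtain ⟨m, hm, c, hc, rfl⟩ := sigma_conj hG hU hM hps (hS.2.1.to_le hz) (hz.trans hSM) hcj
    have hcy : c * y * c⁻¹ = y := by
      have := mem_centralizer_iff.mp hc y (mem_zpowers y)
      rw [← this]; group
    have h1 : m * c * y * (m * c)⁻¹ = m * y * m⁻¹ := by
      calc m * c * y * (m * c)⁻¹ = m * (c * y * c⁻¹) * m⁻¹ := by group
        _ = m * y * m⁻¹ := by rw [hcy]
    rw [h1] at h ⊢
    obtain ⟨m', hm', hm'y⟩ := sylow_ctl_of_pLength (Helper10.BG124.pl1 hG p M hM.1) hSM' hy hm h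
    exact ⟨m', ⟨mem_top _, hm'.2⟩, hm'y⟩
  · exact sylow_ctl_of_pLength (Helper10.BG124.pl1 hG p X hX) hS hy hu h

theorem conj_mem_of_mem_zpowers {H : Subgroup G} {x a u : G} (ha : a ∈ zpowers x)
    (h : u * x * u⁻¹ ∈ H) : u * a * u⁻¹ ∈ H := by
  obtain ⟨i, rfl⟩ := mem_zpowers_iff.mp ha
  rw [← conj_zpow]
  exact H.zpow_mem h i

theorem orderOf_conj' (u a : G) : orderOf (u * a * u⁻¹) = orderOf a := by
  have := (MulAut.conj u).orderOf_eq a
  rwa [MulAut.conj_apply] at this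

theorem ctl (hG : IsMinSimpleOddOrder G) : ∀ (n : ℕ) (X H : Subgroup G), Nat.card H = n → H ≤ X →
    Group.IsNilpotent H → (Nat.card H).Coprime (H.relIndex X) →
    ∀ x ∈ H, ∀ u ∈ X, u * x * u⁻¹ ∈ H →
      ∃ ν ∈ X ⊓ normalizer (H : Set G), ν * x * ν⁻¹ = u * x * u⁻¹ := by
  intro n
  induction n using Nat.strong_induction_on with
  | _ n ih =>
  intro X H hn hHX hHn hcop x hx u hu hux
  by_cases hH1 : H = ⊥
  · subst hH1
    rw [mem_bot] at hx
    subst hx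
    exact ⟨1, one_mem _, by simp⟩
  have hcard : Nat.card H ≠ 1 := fun h1 => hH1 (card_eq_one.mp h1)
  obtain ⟨p, hp, hpH⟩ := Nat.exists_prime_and_dvd hcard
  haveI : Fact p.Prime := ⟨hp⟩
  obtain ⟨P, H₂, hPH, hH₂H, hPp, hpH₂, hpP, ⟨k, hk⟩, hPmem, hH₂mem⟩ := nil_decomp hHn p
  -- basic numerics
  have hP1 : P ≠ ⊥ := by
    rintro rfl
    rw [relIndex_bot_left] at hpP
    exact hpP hpH
  have hcardH : p ^ k * Nat.card H₂ = Nat.card H := by
    rw [← hk]; exact Helper22.relIndex_mul_natCard hH₂H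
  have hk0 : k ≠ 0 := by
    rintro rfl
    rw [pow_zero, one_mul] at hcardH
    exact hpH₂ (hcardH ▸ hpH)
  have hlt : Nat.card H₂ < n := by
    rw [← hn, ← hcardH]
    have h2 : 2 ≤ p ^ k := le_trans hp.two_le (Nat.le_self_pow hk0 p)
    have h3 : 0 < Nat.card H₂ := Nat.card_pos
    nlinarith
  have hcopH₂ : (Nat.card H₂).Coprime p :=
    Nat.coprime_comm.mp ((Nat.Prime.coprime_iff_not_dvd hp).mpr hpH₂)
  have hcomm : ∀ a ∈ P, ∀ b ∈ H₂, a * b = b * a := by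
    intro a ha b hb
    apply Helper25.commute_of_coprime_orderOf_of_mem hHn (hPH ha) (hH₂H hb)
    obtain ⟨j, hj⟩ := (IsPGroup.iff_orderOf.mp hPp) ⟨a, ha⟩
    rw [Subgroup.orderOf_mk] at hj
    rw [hj]
    apply Nat.Coprime.pow_left
    have h1 : orderOf b ∣ Nat.card H₂ := by
      have := orderOf_dvd_natCard (⟨b, hb⟩ : H₂)
      rwa [Subgroup.orderOf_mk] at this
    exact Nat.Coprime.coprime_dvd_right h1 (Nat.coprime_comm.mp hcopH₂)
  have hPC : P ≤ centralizer (H₂ : Set G) := fun a ha =>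
    mem_centralizer_iff.mpr fun b hb => (hcomm a ha b hb).symm
  have hH₂C : H₂ ≤ centralizer (P : Set G) := fun b hb =>
    mem_centralizer_iff.mpr fun a ha => hcomm a ha b hb
  have hsup : H = P ⊔ H₂ := by
    apply le_antisymm _ (sup_le hPH hH₂H)
    intro h hh
    obtain ⟨a, ha, b, hb, hab, hao, hbo⟩ := Helper25.exists_pPart_mul_pPrimePart p hp h
    rw [hab]
    exact mul_mem (mem_sup_left (hPmem a (zpowers_le.mpr hh ha) hao))
      (mem_sup_right (hH₂mem b (zpowers_le.mpr hh hb) hbo))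
  have hnorm : ∀ ν : G, ν ∈ normalizer (P : Set G) → ν ∈ normalizer (H₂ : Set G) →
      ν ∈ normalizer (H : Set G) := by
    intro ν h1 h2
    apply mem_normalizer_of_map_conj_eq
    rw [hsup, Subgroup.map_sup, map_conj_eq_self_of_mem_normalizer h1,
      map_conj_eq_self_of_mem_normalizer h2]
  have hPX : IsSylowIn p P X := by
    refine ⟨hPH.trans hHX, hPp, ?_⟩
    rw [← relIndex_mul_relIndex P H X hPH hHX]
    intro hd
    rcases (Nat.Prime.dvd_mul hp).mp hd with h1 | h1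
    · exact hpP h1
    · exact Nat.Prime.not_coprime_iff_dvd.mpr ⟨p, hp, hpH, h1⟩ hcop
  have hH₂X : (Nat.card H₂).Coprime (H₂.relIndex X) := by
    rw [← relIndex_mul_relIndex H₂ H X hH₂H hHX, hk]
    exact Nat.Coprime.mul_right (Nat.Coprime.pow_right _ hcopH₂)
      (Nat.Coprime.coprime_dvd_left (card_dvd_of_le hH₂H) hcop)
  have hH₂K : ∀ K : Subgroup G, H₂ ≤ K → K ≤ X → (Nat.card H₂).Coprime (H₂.relIndex K) := by
    intro K h1 h2
    exact Nat.Coprime.coprime_dvd_right (Dvd.intro _ (relIndex_mul_relIndex H₂ K X h1 h2)) hH₂X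
  -- decomposition of x
  obtain ⟨a, ha, b, hb, hxab, hao, hbo⟩ := Helper25.exists_pPart_mul_pPrimePart p hp x
  have haP : a ∈ P := hPmem a (zpowers_le.mpr hx ha) hao
  have hbH₂ : b ∈ H₂ := hH₂mem b (zpowers_le.mpr hx hb) hbo
  have huaP : u * a * u⁻¹ ∈ P :=
    hPmem _ (conj_mem_of_mem_zpowers ha hux) (by rw [orderOf_conj']; exact hao)
  have hubH₂ : u * b * u⁻¹ ∈ H₂ :=
    hH₂mem _ (conj_mem_of_mem_zpowers hb hux) (by rw [orderOf_conj']; exact hbo)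
  -- Step A
  obtain ⟨n₁, hn₁, hn₁a⟩ := sylow_ctl hG hPX haP hu huaP
  have hKtop : X ⊓ centralizer (P : Set G) ≠ ⊤ := by
    intro htop
    obtain ⟨z, hz, hz1⟩ : ∃ z ∈ P, z ≠ 1 := by
      by_contra hcon
      push Not at hcon
      exact hP1 ((eq_bot_iff_forall P).mpr hcon)
    apply Helper22.BG.centralizer_ne_top hG hz1
    rw [eq_top_iff, ← htop]
    exact inf_le_right.trans (centralizer_le (by simpa using hz))
  have hn₁K : n₁ ∈ normalizer ((X ⊓ centralizer (P : Set G) : Subgroup G) : Set G) :=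
    Helper22.le_normalizer_inf (A := X ⊓ normalizer (P : Set G)) (inf_le_left.trans le_normalizer)
      (inf_le_right.trans (Helper22.normalizer_le_normalizer_centralizer P)) hn₁
  obtain ⟨k₁, hk₁, hk₁n⟩ := hall_frattini_rel' (MS_solvable hG hKtop)
    (le_inf (hH₂H.trans hHX) hH₂C) (hH₂K _ (le_inf (hH₂H.trans hHX) hH₂C) inf_le_left) hn₁K
  set ν := k₁ * n₁ with hν
  have hνX : ν ∈ X := X.mul_mem hk₁.1 hn₁.1
  have hνP : ν ∈ normalizer (P : Set G) :=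
    mul_mem (centralizer_le_normalizer _ hk₁.2) hn₁.2
  have hνa : ν * a * ν⁻¹ = u * a * u⁻¹ := by
    have h1 : ν * a * ν⁻¹ = k₁ * (n₁ * a * n₁⁻¹) * k₁⁻¹ := by rw [hν]; group
    rw [h1, hn₁a]
    have h2 := mem_centralizer_iff.mp hk₁.2 _ huaP
    rw [← h2]; group
  -- Step B
  set h := ν⁻¹ * u with hh
  have hhX : h ∈ X := X.mul_mem (X.inv_mem hνX) hu
  have hha : h * a * h⁻¹ = a := by
    have h1 : h * a * h⁻¹ = ν⁻¹ * (u * a * u⁻¹) * ν := by rw [hh]; group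
    rw [h1, ← hνa]; group
  have hhb : h * b * h⁻¹ ∈ H₂ := by
    have h1 : h * b * h⁻¹ = ν⁻¹ * (u * b * u⁻¹) * ν⁻¹⁻¹ := by rw [hh]; group
    rw [h1]
    exact (mem_normalizer_iff.mp (inv_mem hk₁n) _).mp hubH₂
  have hH₂X₂ : H₂ ≤ X ⊓ centralizer ({a} : Set G) :=
    le_inf (hH₂H.trans hHX) (hH₂C.trans (centralizer_le (by simpa using haP)))
  have hhX₂ : h ∈ X ⊓ centralizer ({a} : Set G) := by
    refine mem_inf.mpr ⟨hhX, ?_⟩
    rw [mem_centralizer_singleton_iff]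
    calc h * a = (h * a * h⁻¹) * h := by group
      _ = a * h := by rw [hha]
  obtain ⟨ν₂, hν₂, hν₂b⟩ := ih (Nat.card H₂) hlt (X ⊓ centralizer ({a} : Set G)) H₂ rfl hH₂X₂
    (isNilpotent_of_le hH₂H hHn) (hH₂K _ hH₂X₂ inf_le_left) b hbH₂ h hhX₂ hhb
  have hν₂a : ν₂ * a * ν₂⁻¹ = a := by
    have := mem_centralizer_singleton_iff.mp hν₂.1.2
    rw [this]; group
  -- Step C
  have hPD : IsSylowIn p P (X ⊓ centralizer (H₂ : Set G)) :=
    hPX.of_le (le_inf hPX.1 hPC) inf_le_left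
  have hν₂D : ν₂ ∈ normalizer ((X ⊓ centralizer (H₂ : Set G) : Subgroup G) : Set G) :=
    Helper22.le_normalizer_inf (A := X ⊓ normalizer (H₂ : Set G)) (inf_le_left.trans le_normalizer)
      (inf_le_right.trans (Helper22.normalizer_le_normalizer_centralizer H₂)) ⟨hν₂.1.1, hν₂.2⟩
  obtain ⟨d, hd, hdν⟩ := Helper22.BG.Syl.frattini (p := p) ⟨hPD.1, hPD.2.1, hPD.2.2⟩ hν₂D
  set w := (d * ν₂) * a * (d * ν₂)⁻¹ with hw
  have hwP : w ∈ P := (mem_normalizer_iff.mp hdν a).mp haP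
  have hdw : d⁻¹ * w * d⁻¹⁻¹ = a := by
    have h1 : d⁻¹ * w * d⁻¹⁻¹ = ν₂ * a * ν₂⁻¹ := by rw [hw]; group
    rw [h1, hν₂a]
  obtain ⟨n₃, hn₃, hn₃w⟩ := sylow_ctl hG hPD hwP (inv_mem hd) (by rw [hdw]; exact haP)
  rw [hdw] at hn₃w
  set ν₄ := n₃ * (d * ν₂) with hν₄
  have hν₄a : ν₄ * a * ν₄⁻¹ = a := by
    have h1 : ν₄ * a * ν₄⁻¹ = n₃ * w * n₃⁻¹ := by rw [hν₄, hw]; group
    rw [h1, hn₃w]
  have hν₄b : ν₄ * b * ν₄⁻¹ = h * b * h⁻¹ := by
    have h1 : ν₄ * b * ν₄⁻¹ = (n₃ * d) * (ν₂ * b * ν₂⁻¹) * (n₃ * d)⁻¹ := by rw [hν₄]; group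
    rw [h1, hν₂b]
    have h2 : n₃ * d ∈ centralizer (H₂ : Set G) := mul_mem hn₃.1.2 hd.2
    have h3 := mem_centralizer_iff.mp h2 _ hhb
    rw [← h3]; group
  have hν₄X : ν₄ ∈ X := X.mul_mem hn₃.1.1 (X.mul_mem hd.1 hν₂.1.1)
  have hν₄P : ν₄ ∈ normalizer (P : Set G) := mul_mem hn₃.2 hdν
  have hν₄H₂ : ν₄ ∈ normalizer (H₂ : Set G) :=
    mul_mem (centralizer_le_normalizer _ hn₃.1.2)
      (mul_mem (centralizer_le_normalizer _ hd.2) hν₂.2)
  refine ⟨ν * ν₄, ⟨X.mul_mem hνX hν₄X, hnorm _ (mul_mem hνP hν₄P) (mul_mem hk₁n hν₄H₂)⟩, ?_⟩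
  have e1 : ν * ν₄ * x * (ν * ν₄)⁻¹ = ν * ((ν₄ * a * ν₄⁻¹) * (ν₄ * b * ν₄⁻¹)) * ν⁻¹ := by
    rw [hxab]; group
  rw [e1, hν₄a, hν₄b]
  have e2 : ν * (a * (h * b * h⁻¹)) * ν⁻¹ = (ν * a * ν⁻¹) * (u * b * u⁻¹) := by
    rw [hh]; group
  rw [e2, hνa, hxab]
  group

/-- Let G be a minimal simple group of odd order and H a nilpotent subgroup whose order is coprime to its index. If x ∈ H and gxg⁻¹ ∈ H for some g ∈ G, then nxn⁻¹ = gxg⁻¹ for some n in the normalizer of H. -/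
theorem result {G : Type*} [Group G] [Finite G] (hG : Cfsg.IsMinSimpleOddOrder G)
    (H : Subgroup G) (hHn : Group.IsNilpotent H) (hHall : (Nat.card H).Coprime H.index) :
    ∀ x ∈ H, ∀ g : G, g * x * g⁻¹ ∈ H → ∃ n ∈ Subgroup.normalizer (H : Set G), n * x * n⁻¹ = g * x * g⁻¹ := by
  intro x hx g hg
  obtain ⟨ν, hν, h⟩ := ctl hG _ ⊤ H rfl le_top hHn (by rwa [relIndex_top_right]) x hx g (mem_top g) hg
  exact ⟨ν, hν.2, h⟩

end Cfsg.Agent.S1384
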