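import Cfsg.Statements.S1363
import Cfsg.Agent.Lib.Helper26.BG1363c
import Cfsg.Agent.S1430
import Cfsg.Agent.S1431
import Cfsg.Agent.S1438
import Cfsg.Agent.S1351
import Cfsg.Agent.S1352
import Cfsg.Agent.S1353
import Cfsg.Agent.S1354
import Cfsg.Agent.S1355
import Cfsg.Agent.S1357
import Cfsg.Agent.S1366
import Cfsg.Agent.S1368
import Cfsg.Agent.S1369
import Cfsg.Agent.S1372
import Cfsg.Agent.S1378

set_option autoImplicit false
open Cfsg

namespace Cfsg.Agent.S1363

/-- Let G be a minimal simple group of odd order and M a maximal subgroup with standard factorisation M = K U M_σ and K ≠ 1. Then U is abelian and the normalizer of U in G is not contained in M. -/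
theorem result {G : Type*} [Group G] [Finite G] (hG : Cfsg.IsMinSimpleOddOrder G)
    (M : Subgroup G) (hM : IsCoatom M) (K U : Subgroup G) (hKU : Cfsg.IsSigmaDecomposition M K U) (hK1 : K ≠ ⊥) :
    IsMulCommutative U ∧ ¬ Subgroup.normalizer (U : Set G) ≤ M := by
  exact Cfsg.Agent.Lib.Helper26.BG1363.row1363 hG (Cfsg.Agent.S1430.result hG)
    (Cfsg.Agent.S1431.result hG) (Cfsg.Agent.S1438.result hG) (Cfsg.Agent.S1351.result hG)
    (Cfsg.Agent.S1352.result hG) (Cfsg.Agent.S1353.result hG) (Cfsg.Agent.S1354.result hG)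
    (Cfsg.Agent.S1355.result hG) (Cfsg.Agent.S1357.result hG) (Cfsg.Agent.S1366.result hG)
    (Cfsg.Agent.S1368.result hG) (Cfsg.Agent.S1369.result hG) (Cfsg.Agent.S1372.result hG)
    (Cfsg.Agent.S1378.result hG) M hM K U hKU hK1

end Cfsg.Agent.S1363
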