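import Cfsg.Statements.S1439
import Cfsg.Agent.Lib.Helper23.BGT2
import Cfsg.Agent.Lib.Helper72.BG37b
import Cfsg.Agent.S1403
import Cfsg.Agent.S1417

set_option autoImplicit false
open Cfsg

namespace Cfsg.Agent.S1439

open Cfsg.Agent.Lib.Helper24 Cfsg.Agent.Lib.Helper34 Cfsg.Agent.Lib.Helper31.BG11 Cfsg.Agent.Lib.Helper23T

/-- Let G be a minimal simple group of odd order and M a maximal subgroup, and let Y be the largest normal subgroup of F(M) involving no prime of σ(M). Then Y is cyclic, every prime divisor of its order lies in τ₂(M), and F(M) is generated by F(M_σ) and Y (a direct product, the orders being coprime). -/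
theorem result {G : Type*} [Group G] [Finite G] (hG : Cfsg.IsMinSimpleOddOrder G)
    (M : Subgroup G) (hM : IsCoatom M) :
    IsCyclic ↥(Cfsg.piCoreOf {q | q.Prime ∧ q ∉ Cfsg.sigma M} (Cfsg.fittingOf M)) ∧
      (∀ p : ℕ, p.Prime → p ∣ Nat.card ↥(Cfsg.piCoreOf {q | q.Prime ∧ q ∉ Cfsg.sigma M} (Cfsg.fittingOf M)) → p ∈ Cfsg.tau2 M) ∧
      Cfsg.fittingOf M = Cfsg.fittingOf (Cfsg.sigmaCore M) ⊔ Cfsg.piCoreOf {q | q.Prime ∧ q ∉ Cfsg.sigma M} (Cfsg.fittingOf M) := by
  have hU : UT G := fun K hK h2 h3 => Cfsg.Agent.S1403.result hG K hK h2 h3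
  have h17 : H1417 G := fun M hM p _ hp A hA => Cfsg.Agent.S1417.result hG M hM p hp A hA
  have hFM : Cfsg.fittingOf M ≤ M := Subgroup.map_subtype_le _
  have hYF := Cfsg.Agent.Lib.Helper22.piCoreOf_le {q | q.Prime ∧ q ∉ Cfsg.sigma M} (Cfsg.fittingOf M)
  have hYprimes := Cfsg.Agent.Lib.Helper22.piCoreOf_primes {q | q.Prime ∧ q ∉ Cfsg.sigma M}
    (Cfsg.fittingOf M)
  set Y := Cfsg.piCoreOf {q | q.Prime ∧ q ∉ Cfsg.sigma M} (Cfsg.fittingOf M) with hY
  have hFnil : Group.IsNilpotent (Cfsg.fittingOf M) := by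
    have h1 : Group.IsNilpotent (Cfsg.fittingSubgroup M) :=
      Cfsg.Agent.Lib.Helper1.fittingSubgroup_isNilpotent
    exact Group.nilpotent_of_mulEquiv
      ((Cfsg.fittingSubgroup M).equivMapOfInjective M.subtype M.subtype_injective)
  have hYnil : Group.IsNilpotent Y := isNilpotent_of_le hYF hFnil
  -- `p`-subgroups of `Y`
  have key : ∀ (p : ℕ) [Fact p.Prime] (X : Subgroup G), IsPGroup p X → X ≤ Y →
      X ≤ Cfsg.pCoreOf p M := fun p _ X hX hXY =>
    Cfsg.Agent.Lib.Helper10.BG95.le_pCoreOf_of_le_fittingOf hX (hXY.trans hYF)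
  have hτ : ∀ p : ℕ, p.Prime → p ∣ Nat.card Y → p ∈ Cfsg.tau2 M := by
    intro p hpp hpd
    have : Fact p.Prime := ⟨hpp⟩
    obtain ⟨y, hy⟩ := exists_prime_orderOf_dvd_card' (G := Y) p hpd
    have hy' : orderOf (y : G) = p := by rw [Subgroup.orderOf_coe]; exact hy
    have hpg : IsPGroup p (Subgroup.zpowers (y : G)) :=
      IsPGroup.of_card (n := 1) (by rw [Nat.card_zpowers, hy', pow_one])
    have h1 := key p _ hpg (Subgroup.zpowers_le.2 y.2)
    apply mem_tau2_of_normal hG hU hM (hYprimes p hpp hpd).2 (Cfsg.Agent.Lib.Helper47.pCoreOf_le M)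
      (Cfsg.Agent.Lib.Helper47.pCoreOf_isPGroup M) _ (Cfsg.Agent.Lib.Helper47.le_normalizer_pCoreOf M)
    intro hb
    rw [hb, le_bot_iff, Subgroup.zpowers_eq_bot] at h1
    rw [h1, orderOf_one] at hy'
    exact hpp.one_lt.ne hy'
  refine ⟨?_, hτ, ?_⟩
  · have hZ : IsZGroup Y := by
      refine ⟨fun p hpp P => ?_⟩
      have : Fact p.Prime := ⟨hpp⟩
      by_cases hpd : p ∣ Nat.card Y
      · have h1 : IsCyclic ((P : Subgroup Y).map Y.subtype) :=
          isCyclic_of_normal hG hU h17 hM (hYprimes p hpp hpd).2 (Cfsg.Agent.Lib.Helper47.pCoreOf_le M)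
            (Cfsg.Agent.Lib.Helper47.pCoreOf_isPGroup M) (Cfsg.Agent.Lib.Helper47.le_normalizer_pCoreOf M)
            (key p _ (P.2.map _) (Subgroup.map_subtype_le _))
        exact isCyclic_of_surjective ((P : Subgroup Y).equivMapOfInjective Y.subtype
          Y.subtype_injective).symm.toMonoidHom (MulEquiv.surjective _)
      · obtain ⟨k, hk⟩ := IsPGroup.iff_card.1 P.2
        have hk0 : k = 0 := by
          by_contra hk0
          exact hpd ((hk ▸ dvd_pow_self p hk0 : p ∣ Nat.card P).trans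
            (Subgroup.card_subgroup_dvd_card _))
        rw [hk0, pow_zero] at hk
        have : Subsingleton (P : Subgroup Y) := (Nat.card_eq_one_iff_unique.1 hk).1
        exact isCyclic_of_subsingleton
    infer_instance
  · apply le_antisymm
    · rw [Cfsg.Agent.S1482.fittingOf_eq_iSup]
      refine iSup_le fun p => ?_
      have : Fact (p : ℕ).Prime := ⟨p.2⟩
      have hpg := Cfsg.Agent.Lib.Helper47.pCoreOf_isPGroup (p := (p : ℕ)) M
      have hle := Cfsg.Agent.Lib.Helper47.pCoreOf_le (p := (p : ℕ)) M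
      have hn := Cfsg.Agent.Lib.Helper47.le_normalizer_pCoreOf (p := (p : ℕ)) M
      by_cases hσ : (p : ℕ) ∈ Cfsg.sigma M
      · refine le_trans ?_ le_sup_left
        exact Cfsg.Agent.Lib.Helper72.le_fittingOf (le_sc hG hU hM hσ hle hpg) ((sc_le M).trans hn)
          hpg.isNilpotent
      · refine le_trans ?_ le_sup_right
        apply Cfsg.Agent.Lib.Helper22.le_piCoreOf _
          (Cfsg.Agent.Lib.Helper72.pCoreOf_le_fittingOf p.2 M) (hFM.trans hn)
        intro q hq hqd
        have h1 : q = (p : ℕ) := Cfsg.Agent.Lib.Helper22.primes_of_isPGroup p.2 hpg q hq hqd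
        exact ⟨hq, h1 ▸ hσ⟩
    · apply sup_le _ hYF
      apply Cfsg.Agent.Lib.Helper72.le_fittingOf ((Subgroup.map_subtype_le _).trans (sc_le M))
        ((sc_norm M).trans (Cfsg.Agent.Lib.Helper72.normalizer_le_normalizer_fittingOf _))
      have h1 : Group.IsNilpotent (Cfsg.fittingSubgroup (Cfsg.sigmaCore M)) :=
        Cfsg.Agent.Lib.Helper1.fittingSubgroup_isNilpotent
      exact Group.nilpotent_of_mulEquiv
        ((Cfsg.fittingSubgroup (Cfsg.sigmaCore M)).equivMapOfInjective (Cfsg.sigmaCore M).subtype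
          (Cfsg.sigmaCore M).subtype_injective)

end Cfsg.Agent.S1439
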