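import Cfsg.Statements.S1509
import Cfsg.Agent.Lib.Helper3.Irr

set_option autoImplicit false
open Cfsg

namespace Cfsg.Agent.S1509

open Cfsg.Agent.Lib.Helper3
open scoped ComplexConjugate

variable {X : Type*} [Group X] [Fintype X]

theorem classInner_neg_left' (a b : X → ℂ) : classInner (-a) b = - classInner a b := by
  have := classInner_smul_left (-1 : ℂ) a b
  simpa using this

theorem classInner_neg_right' (a b : X → ℂ) : classInner a (-b) = - classInner a b := by
  have := classInner_smul_right (-1 : ℂ) a b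
  simpa using this

/-- Two signed irreducible characters are orthogonal, equal, or opposite. -/
theorem signed_cases (a b : X → ℂ) (ha : IsIrrCharacter X a ∨ IsIrrCharacter X (-a))
    (hb : IsIrrCharacter X b ∨ IsIrrCharacter X (-b)) :
    classInner a b = 0 ∨ (a = b ∧ classInner a b = 1) ∨ (a = -b ∧ classInner a b = -1) := by
  classical
  rcases ha with ha | ha <;> rcases hb with hb | hb
  · have h := classInner_irr ha hb
    by_cases hab : a = b
    · rw [if_pos hab] at h; exact Or.inr (Or.inl ⟨hab, h⟩)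
    · rw [if_neg hab] at h; exact Or.inl h
  · have h := classInner_irr ha hb
    rw [classInner_neg_right'] at h
    by_cases hab : a = -b
    · rw [if_pos hab] at h; exact Or.inr (Or.inr ⟨hab, by rw [← h, neg_neg]⟩)
    · rw [if_neg hab] at h; exact Or.inl (neg_eq_zero.1 h)
  · have h := classInner_irr ha hb
    rw [classInner_neg_left'] at h
    by_cases hab : -a = b
    · rw [if_pos hab] at h
      exact Or.inr (Or.inr ⟨by rw [← hab, neg_neg], by rw [← h, neg_neg]⟩)
    · rw [if_neg hab] at h; exact Or.inl (neg_eq_zero.1 h)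
  · have h := classInner_irr ha hb
    rw [classInner_neg_left', classInner_neg_right', neg_neg] at h
    by_cases hab : -a = -b
    · rw [if_pos hab] at h; exact Or.inr (Or.inl ⟨neg_injective hab, h⟩)
    · rw [if_neg hab] at h; exact Or.inl h

theorem signed_one_ne_zero (a : X → ℂ) (ha : IsIrrCharacter X a ∨ IsIrrCharacter X (-a)) :
    a 1 ≠ 0 := by
  rcases ha with ha | ha
  · exact IsIrrCharacter.apply_one_ne_zero ha
  · have := IsIrrCharacter.apply_one_ne_zero ha
    simpa using this

theorem aux (α β γ δ : X → ℂ) (hα : Cfsg.IsIrrCharacter X α ∨ Cfsg.IsIrrCharacter X (-α))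
    (hβ : Cfsg.IsIrrCharacter X β ∨ Cfsg.IsIrrCharacter X (-β))
    (hγ : Cfsg.IsIrrCharacter X γ ∨ Cfsg.IsIrrCharacter X (-γ))
    (hδ : Cfsg.IsIrrCharacter X δ ∨ Cfsg.IsIrrCharacter X (-δ)) (u v : ℝ) (hu : u ≠ 0) (hv : v ≠ 0)
    (hab : Cfsg.classInner α β = 0) (hcd : Cfsg.classInner γ δ = 0)
    (hmix : Cfsg.classInner (α - β) ((u : ℂ) • γ - (v : ℂ) • δ) = 0) (h1 : α 1 = β 1)
    (h2 : (u : ℂ) * γ 1 = (v : ℂ) * δ 1) : Cfsg.classInner α γ = 0 := by
  have hγ1 := signed_one_ne_zero γ hγ
  have huC : (u : ℂ) ≠ 0 := by exact_mod_cast hu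
  have hvC : (v : ℂ) ≠ 0 := by exact_mod_cast hv
  have hba : classInner β α = 0 := by rw [← classInner_conj_symm, hab, map_zero]
  rw [classInner_sub_left, classInner_sub_right, classInner_sub_right, classInner_smul_right,
    classInner_smul_right, classInner_smul_right, classInner_smul_right, Complex.conj_ofReal,
    Complex.conj_ofReal] at hmix
  -- general argument with a sign ε
  have key : ∀ ε : ℂ, ε * ε = 1 → α = ε • γ → classInner α γ = ε → False := by
    intro ε hε hαγ hx1
    have hx2 : classInner α δ = 0 := by rw [hαγ, classInner_smul_left, hcd, mul_zero]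
    have hγα : γ = ε • α := by rw [hαγ, smul_smul, hε, one_smul]
    have hx3 : classInner β γ = 0 := by rw [hγα, classInner_smul_right, hba, mul_zero]
    rw [hx1, hx2, hx3] at hmix
    have hα1 : α 1 = ε * γ 1 := by rw [hαγ]; rfl
    rcases signed_cases β δ hβ hδ with h | ⟨h, h'⟩ | ⟨h, h'⟩
    · rw [h] at hmix
      have : (u : ℂ) * ε = 0 := by linear_combination hmix
      rcases mul_eq_zero.1 this with h0 | h0
      · exact huC h0
      · rw [h0] at hε; simp at hε
    · rw [h'] at hmix
      have hβ1 : β 1 = δ 1 := by rw [h]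
      -- u ε + v = 0, ε γ1 = δ1, u γ1 = v δ1
      have e1 : (u : ℂ) * ε + v = 0 := by linear_combination hmix
      have e2 : ε * γ 1 = δ 1 := by rw [← hα1, h1, hβ1]
      have e3 : (u : ℂ) * γ 1 = v * (ε * γ 1) := by rw [e2]; exact h2
      have e4 : (u : ℂ) = v * ε := by
        apply mul_right_cancel₀ hγ1
        linear_combination e3
      have e5 : (v : ℂ) * 2 = 0 := by
        have : (v : ℂ) * (ε * ε) + v = 0 := by rw [e4] at e1; linear_combination e1
        rw [hε] at this
        linear_combination this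
      rcases mul_eq_zero.1 e5 with h0 | h0
      · exact hvC h0
      · norm_num at h0
    · rw [h'] at hmix
      have hβ1 : β 1 = - δ 1 := by rw [h]; rfl
      have e1 : (u : ℂ) * ε - v = 0 := by linear_combination hmix
      have e2 : ε * γ 1 = - δ 1 := by rw [← hα1, h1, hβ1]
      have e3 : (u : ℂ) * γ 1 = - (v * (ε * γ 1)) := by rw [e2]; linear_combination h2
      have e4 : (u : ℂ) = - (v * ε) := by
        apply mul_right_cancel₀ hγ1
        linear_combination e3
      have e5 : (v : ℂ) * 2 = 0 := by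
        have : - ((v : ℂ) * (ε * ε)) - v = 0 := by rw [e4] at e1; linear_combination e1
        rw [hε] at this
        linear_combination -this
      rcases mul_eq_zero.1 e5 with h0 | h0
      · exact hvC h0
      · norm_num at h0
  rcases signed_cases α γ hα hγ with h | ⟨h, h'⟩ | ⟨h, h'⟩
  · exact h
  · exact (key 1 (by norm_num) (by rw [one_smul]; exact h) h').elim
  · exact (key (-1) (by norm_num) (by rw [neg_one_smul]; exact h) h').elim

theorem result {X : Type*} [Group X] [Fintype X] (α β γ δ : X → ℂ) (hα : Cfsg.IsIrrCharacter X α ∨ Cfsg.IsIrrCharacter X (-α)) (hβ : Cfsg.IsIrrCharacter X β ∨ Cfsg.IsIrrCharacter X (-β)) (hγ : Cfsg.IsIrrCharacter X γ ∨ Cfsg.IsIrrCharacter X (-γ)) (hδ : Cfsg.IsIrrCharacter X δ ∨ Cfsg.IsIrrCharacter X (-δ)) (u v : ℝ) (hu : u ≠ 0) (hv : v ≠ 0) (hab : Cfsg.classInner α β = 0) (hcd : Cfsg.classInner γ δ = 0) (hmix : Cfsg.classInner (α - β) ((u : ℂ) • γ - (v : ℂ) • δ) = 0) (h1 : α 1 = β 1) (h2 : (u : ℂ) * γ 1 = (v : ℂ) * δ 1) : Cfsg.classInner α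 γ = 0 ∧ Cfsg.classInner α δ = 0 ∧ Cfsg.classInner β γ = 0 ∧ Cfsg.classInner β δ = 0 := by
  have hba : classInner β α = 0 := by rw [← classInner_conj_symm, hab, map_zero]
  have hdc : classInner δ γ = 0 := by rw [← classInner_conj_symm, hcd, map_zero]
  have hmix2 : classInner (α - β) (((-v : ℝ) : ℂ) • δ - ((-u : ℝ) : ℂ) • γ) = 0 := by
    have : (((-v : ℝ) : ℂ) • δ - ((-u : ℝ) : ℂ) • γ) = ((u : ℂ) • γ - (v : ℂ) • δ) := by
      push_cast
      rw [neg_smul, neg_smul]; abel
    rw [this]; exact hmix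
  have hmix3 : classInner (β - α) ((u : ℂ) • γ - (v : ℂ) • δ) = 0 := by
    have : β - α = -(α - β) := by abel
    rw [this, classInner_neg_left', hmix, neg_zero]
  have hmix4 : classInner (β - α) (((-v : ℝ) : ℂ) • δ - ((-u : ℝ) : ℂ) • γ) = 0 := by
    have : β - α = -(α - β) := by abel
    rw [this, classInner_neg_left', hmix2, neg_zero]
  have h2' : (((-v : ℝ) : ℂ)) * δ 1 = ((-u : ℝ) : ℂ) * γ 1 := by
    push_cast; linear_combination h2
  exact ⟨aux α β γ δ hα hβ hγ hδ u v hu hv hab hcd hmix h1 h2,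
    aux α β δ γ hα hβ hδ hγ (-v) (-u) (neg_ne_zero.2 hv) (neg_ne_zero.2 hu) hab hdc hmix2 h1 h2',
    aux β α γ δ hβ hα hγ hδ u v hu hv hba hcd hmix3 h1.symm h2,
    aux β α δ γ hβ hα hδ hγ (-v) (-u) (neg_ne_zero.2 hv) (neg_ne_zero.2 hu) hba hdc hmix4 h1.symm h2'⟩

end Cfsg.Agent.S1509
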