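import Cfsg.Statements.S1529
import Cfsg.Agent.Lib.Helper26.Virtual
set_option autoImplicit false
open Cfsg

namespace Cfsg.Agent.S1529

open Cfsg.Agent.Lib.Helper26 Cfsg.Agent.Lib.Helper3

/-- General form (arbitrary finite groups `N`, `G`): sign uniformity. -/
theorem signs {N : Type*} [Group N] [Fintype N] {G : Type*} [Group G] [Fintype G]
    (S : Set (N → ℂ)) (hirr : ∀ χ ∈ S, IsIrrCharacter N χ)
    (τ₁ : (N → ℂ) → (G → ℂ)) (hτ₁ : IsLinearIsometryOn (zspan S) τ₁)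
    (h0 : ∀ α ∈ zspan S, α 1 = 0 → τ₁ α 1 = 0) :
    (∀ χ ∈ S, IsIrrCharacter G (τ₁ χ) ∨ IsIrrCharacter G (-τ₁ χ)) ∧
    (∀ χ ∈ S, ∀ ψ ∈ S, ψ 1 * τ₁ χ 1 = χ 1 * τ₁ ψ 1) ∧
    (∀ χ ∈ S, ∀ ψ ∈ S, IsIrrCharacter G (τ₁ χ) → IsIrrCharacter G (τ₁ ψ)) ∧
    (∀ χ ∈ S, ∀ ψ ∈ S, IsIrrCharacter G (-τ₁ χ) → IsIrrCharacter G (-τ₁ ψ)) := by
  have hpm : ∀ χ ∈ S, IsIrrCharacter G (τ₁ χ) ∨ IsIrrCharacter G (-τ₁ χ) := by
    intro χ hχ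
    apply gen_norm_one (iso_gen hτ₁ (mem_zspan hχ))
    rw [iso_inner hτ₁ (mem_zspan hχ) (mem_zspan hχ), classInner_irr_self (hirr χ hχ)]
  have hdeg : ∀ χ ∈ S, ∀ ψ ∈ S, ψ 1 * τ₁ χ 1 = χ 1 * τ₁ ψ 1 := by
    intro χ hχ ψ hψ
    obtain ⟨n, -, hn⟩ := irr_degree (hirr χ hχ)
    obtain ⟨m, -, hm⟩ := irr_degree (hirr ψ hψ)
    have h1 : ((m : ℤ) • χ) ∈ zspan S := zspan_zsmul _ (mem_zspan hχ)
    have h2 : ((n : ℤ) • ψ) ∈ zspan S := zspan_zsmul _ (mem_zspan hψ)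
    have h3 := h0 _ (zspan_sub h1 h2) (by simp [hn, hm, mul_comm])
    rw [iso_sub hτ₁ (isZMod_zspan S) h1 h2, iso_zsmul hτ₁ _ (mem_zspan hχ),
      iso_zsmul hτ₁ _ (mem_zspan hψ)] at h3
    rw [Pi.sub_apply, Pi.smul_apply, Pi.smul_apply, zsmul_eq_mul, zsmul_eq_mul, Int.cast_natCast,
      Int.cast_natCast] at h3
    rw [hn, hm]
    linear_combination h3
  refine ⟨hpm, hdeg, ?_, ?_⟩
  · intro χ hχ ψ hψ h1
    rcases hpm ψ hψ with h2 | h2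
    · exact h2
    · exfalso
      obtain ⟨n, hn0, hn⟩ := irr_degree (hirr χ hχ)
      obtain ⟨m, hm0, hm⟩ := irr_degree (hirr ψ hψ)
      obtain ⟨a, ha0, ha⟩ := irr_degree h1
      obtain ⟨b, hb0, hb⟩ := irr_degree h2
      have h3 := hdeg χ hχ ψ hψ
      have hb' : τ₁ ψ 1 = -(b : ℂ) := by
        have : -(τ₁ ψ 1) = b := hb
        rw [← this]; ring
      rw [hn, hm, ha, hb'] at h3
      have h4 : ((m * a + n * b : ℕ) : ℂ) = 0 := by push_cast; linear_combination h3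
      have h5 : m * a + n * b = 0 := by exact_mod_cast h4
      have : 0 < m * a := Nat.mul_pos hm0 ha0
      omega
  · intro χ hχ ψ hψ h1
    rcases hpm ψ hψ with h2 | h2
    · exfalso
      obtain ⟨n, hn0, hn⟩ := irr_degree (hirr χ hχ)
      obtain ⟨m, hm0, hm⟩ := irr_degree (hirr ψ hψ)
      obtain ⟨a, ha0, ha⟩ := irr_degree h1
      obtain ⟨b, hb0, hb⟩ := irr_degree h2
      have h3 := hdeg χ hχ ψ hψ
      have ha' : τ₁ χ 1 = -(a : ℂ) := by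
        have : -(τ₁ χ 1) = a := ha
        rw [← this]; ring
      rw [hn, hm, ha', hb] at h3
      have h4 : ((m * a + n * b : ℕ) : ℂ) = 0 := by push_cast; linear_combination -h3
      have h5 : m * a + n * b = 0 := by exact_mod_cast h4
      have : 0 < m * a := Nat.mul_pos hm0 ha0
      omega
    · exact h2

theorem inj {N : Type*} [Group N] [Fintype N] {G : Type*} [Group G] [Fintype G]
    (S : Set (N → ℂ)) (hirr : ∀ χ ∈ S, IsIrrCharacter N χ)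
    (τ₁ : (N → ℂ) → (G → ℂ)) (hτ₁ : IsLinearIsometryOn (zspan S) τ₁) :
    ∀ χ ∈ S, ∀ ψ ∈ S, τ₁ χ = τ₁ ψ → χ = ψ := by
  intro χ hχ ψ hψ h
  by_contra hne
  have h1 := iso_inner hτ₁ (mem_zspan hχ) (mem_zspan hψ)
  have h2 := iso_inner hτ₁ (mem_zspan hψ) (mem_zspan hψ)
  rw [h, h2, classInner_irr_self (hirr ψ hψ), classInner_irr_ne (hirr χ hχ) (hirr ψ hψ) hne] at h1
  exact one_ne_zero h1

theorem result {G : Type*} [Group G] [Fintype G] (N : Subgroup G) [Fintype N] (S : Set (N → ℂ)) (hirr : ∀ χ ∈ S, Cfsg.IsIrrCharacter N χ) (htwo : ∃ χ ∈ S, ∃ ψ ∈ S, χ ≠ ψ) (τ₁ : (N → ℂ) → (G → ℂ)) (hτ₁ : Cfsg.IsLinearIsometryOn (Cfsg.zspan S) τ₁) (h0 : ∀ α ∈ Cfsg.zspan S, α 1 = 0 → τ₁ α 1 = 0) : ∃ ε : ℂ, (ε = 1 ∨ ε = -1) ∧ (∀ χ ∈ S, Cfsg.IsIrrCharacter G (ε • τ₁ χ)) ∧ (∀ χ ∈ S, ∀ ψ ∈ S, τ₁ χ = τ₁ ψ → χ = ψ) := by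
  obtain ⟨hpm, -, hpos, hneg⟩ := signs S hirr τ₁ hτ₁ h0
  obtain ⟨χ₀, hχ₀, -⟩ := htwo
  rcases hpm χ₀ hχ₀ with h | h
  · exact ⟨1, Or.inl rfl, fun χ hχ => by simpa using hpos χ₀ hχ₀ χ hχ h, inj S hirr τ₁ hτ₁⟩
  · exact ⟨-1, Or.inr rfl, fun χ hχ => by simpa using hneg χ₀ hχ₀ χ hχ h, inj S hirr τ₁ hτ₁⟩

end Cfsg.Agent.S1529
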