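import Cfsg.Statements.S1419
import Cfsg.Agent.Lib.Helper23.BGT4
import Cfsg.Agent.S1403
import Cfsg.Agent.S1408
import Cfsg.Agent.S1412
import Cfsg.Agent.S1414
import Cfsg.Agent.S1417
import Cfsg.Agent.S1418

set_option autoImplicit false
open Cfsg

namespace Cfsg.Agent.S1419

open Cfsg.Agent.Lib.Helper24 Cfsg.Agent.Lib.Helper34 Cfsg.Agent.Lib.Helper31.BG11 Cfsg.Agent.Lib.Helper23T

/-- Let G be a minimal simple group of odd order whose Sylow p-subgroups are nonabelian, M a maximal subgroup with p ∈ τ₂(M), E a complement to M_σ in M and A ≤ E elementary abelian of order p ^ 2. Then τ₂(M) = {p}; A₀ = A ∩ C_G(M_σ) has order p and F(M) is generated by M_σ and A₀ (a direct product); and every subgroup X ≠ A₀ of E of order p satisfies M_σ ∩ C_G(X) = 1 and C_G(X) ⊄ M. -/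
theorem result {G : Type*} [Group G] [Finite G] (hG : Cfsg.IsMinSimpleOddOrder G)
    (M : Subgroup G) (hM : IsCoatom M) (E : Subgroup G) (hE : Cfsg.IsComplIn E (Cfsg.sigmaCore M) M) (p : ℕ) [Fact p.Prime] (hp : p ∈ Cfsg.tau2 M) (hS : ∀ S : Sylow p G, ¬ IsMulCommutative (S : Subgroup G))
    (A : Subgroup G) (hA : (A ≤ E ∧ Cfsg.IsElementaryAbelian p A ∧ Nat.card A = p ^ 2)) :
    Cfsg.tau2 M = {p} ∧
      (Nat.card ↥(A ⊓ Subgroup.centralizer (Cfsg.sigmaCore M : Set G)) = p ∧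
        Cfsg.fittingOf M = Cfsg.sigmaCore M ⊔ (A ⊓ Subgroup.centralizer (Cfsg.sigmaCore M : Set G))) ∧
      ∀ X : Subgroup G, X ≤ E → Nat.card X = p → X ≠ A ⊓ Subgroup.centralizer (Cfsg.sigmaCore M : Set G) →
        Cfsg.sigmaCore M ⊓ Subgroup.centralizer (X : Set G) = ⊥ ∧ ¬ Subgroup.centralizer (X : Set G) ≤ M := by
  have hU : UT G := fun K hK h2 h3 => Cfsg.Agent.S1403.result hG K hK h2 h3
  have h17 : H1417 G := fun M hM p _ hp A hA => Cfsg.Agent.S1417.result hG M hM p hp A hA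
  have h18 : Cfsg.Agent.Lib.Helper34.BG13.H1418 G := fun M hM E hE p _ hp A hA =>
    Cfsg.Agent.S1418.result hG M hM E hE p hp A hA
  have h14 : Cfsg.Agent.Lib.Helper34.BG13.H1414 G := fun M hM p hp hd hβ =>
    ⟨((Cfsg.Agent.S1414.result hG M hM).2.2.2.2 p hp hd hβ).1,
      ((Cfsg.Agent.S1414.result hG M hM).2.2.2.2 p hp hd hβ).2.1⟩
  have hAM : A ≤ M := hA.1.trans hE.1
  have hA' : A ≤ M ∧ Cfsg.IsElementaryAbelian p A ∧ Nat.card A = p ^ 2 := ⟨hAM, hA.2⟩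
  obtain ⟨hnil, -, -, hCA, hstar, -⟩ := h17 M hM p hp A hA'
  obtain ⟨⟨hEA, hlines⟩, ⟨hCAE, -, -⟩, huniq⟩ := h18 M hM E hE p hp A hA
  obtain ⟨S, Z, t, hD⟩ := exists_D127 hG hU h17 hM hp hS hA' (hCAE.trans inf_le_left)
  obtain ⟨hc, hZ, hl⟩ := lines127 hG hU hM hp.2.1 hA' hD hCA hstar huniq
  have h08 : ∀ q : ℕ, q ∈ Cfsg.tau2 M → ¬ Cfsg.IsIdealPrime q G := fun q hq =>
    have : Fact q.Prime := ⟨hq.1⟩
    (Cfsg.Agent.S1408.result hG M hM q hq.2.1 hq.2.2.1 hq.2.2.2).1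
  have hτ := tau2_127 hG hU h14 h17 h18 hM h08 hE hp hA hD
  have hpM : p ∣ Nat.card M := by
    have h1 : p ∣ Nat.card A := by rw [hA.2.2]; exact dvd_pow_self p two_ne_zero
    exact h1.trans (Subgroup.card_dvd_of_le hAM)
  have hp2 : p ≠ 2 := MS_prime_ne_two hG hpM
  have hmax := (Cfsg.Agent.S1408.result hG M hM p hp.2.1 hp.2.2.1 hp.2.2.2).2 A hAM hA.2.1 hA.2.2
  have hpsq : ∀ y ∈ (S : Subgroup G), y ^ p ∈ A → y ^ p ∈ Z := fun y hy hyA =>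
    no_psq hp2 hD hA.2.1 hA.2.2 hmax (fun hr => Cfsg.Agent.S1412.result hG p S hr) (hS S) hy hyA
  refine ⟨hτ, ⟨hc, fitting127 hG hU hM hE hp.2.1 hτ hnil hAM hEA hD hc hZ hpsq⟩, ?_⟩
  intro X hXE hXc hXne
  exact hl X (hlines X hXE hXc) hXc hXne

end Cfsg.Agent.S1419
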