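import Cfsg.Statements.S0352
import Cfsg.Agent.Lib.Helper6.Steiner

set_option autoImplicit false
open Cfsg

namespace Cfsg.Agent.S0352


open Cfsg.Agent.Lib.Helper6.Steiner in
theorem xvals {α : Type*} [Fintype α] [DecidableEq α] (hα : Fintype.card α = 24)
    {B : Set (Finset α)} (hB : Cfsg.IsSteinerSystem 5 8 B) {b : Finset α} (hb : b ∈ B) :
    xnum B b 0 = 30 ∧ xnum B b 1 = 0 ∧ xnum B b 2 = 448 ∧ xnum B b 3 = 0 ∧ xnum B b 4 = 280 := by
  have m0 := moment hB hb (i := 0) (by norm_num)
  have m1 := moment hB hb (i := 1) (by norm_num)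
  have m2 := moment hB hb (i := 2) (by norm_num)
  have m3 := moment hB hb (i := 3) (by norm_num)
  have m4 := moment hB hb (i := 4) (by norm_num)
  have x8 := xnum_top hB hb
  have x5 := xnum_eq_zero hB hb (j := 5) (by norm_num) (by norm_num)
  have x6 := xnum_eq_zero hB hb (j := 6) (by norm_num) (by norm_num)
  have x7 := xnum_eq_zero hB hb (j := 7) (by norm_num) (by norm_num)
  simp only [Finset.sum_range_succ, Finset.sum_range_zero, hα, x5, x6, x7, x8] at m0 m1 m2 m3 m4
  norm_num [Nat.choose] at m0 m1 m2 m3 m4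
  omega

/-- In a Steiner system S(5, 8, 24), two distinct blocks intersect in 0, 2 or 4 points. -/
theorem result {α : Type*} [Fintype α] [DecidableEq α] (hα : Fintype.card α = 24) {B : Set (Finset α)} (hB : Cfsg.IsSteinerSystem 5 8 B) {b c : Finset α} (hb : b ∈ B) (hc : c ∈ B) (hbc : b ≠ c) : (b ∩ c).card = 0 ∨ (b ∩ c).card = 2 ∨ (b ∩ c).card = 4 := by
  obtain ⟨-, h1, -, h3, -⟩ := xvals hα hB hb
  have hpos := Cfsg.Agent.Lib.Helper6.Steiner.xnum_pos_of_mem (b := b) hc
  have hlt : (b ∩ c).card < 5 := by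
    by_contra hge
    exact hbc (Cfsg.Agent.Lib.Helper6.Steiner.eq_of_le_card_inter hB hb hc (by omega))
  generalize (b ∩ c).card = j at hpos hlt ⊢
  interval_cases j
  · left; rfl
  · omega
  · right; left; rfl
  · omega
  · right; right; rfl

end Cfsg.Agent.S0352
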