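import Cfsg.Statements.S2119
import Mathlib
-- import your own Cfsg.Agent.* helpers here

set_option autoImplicit false
open Cfsg

namespace Cfsg.Agent.S2119


open Equiv Equiv.Perm

variable {α : Type*} [Fintype α] [DecidableEq α]

lemma three_apply {y : Perm α} (hy : y.IsThreeCycle) (x : α) : y (y (y x)) = x := by
  have : (y ^ 3) x = x := by rw [← hy.orderOf, pow_orderOf_eq_one]; rfl
  simpa [pow_succ] using this

lemma common_edge {y y' : Perm α} (hy : y.IsThreeCycle) (hy' : y'.IsThreeCycle)
    (h2 : (y * y') * (y * y') = 1) (h1 : y * y' ≠ 1) : ∃ a, y a = y' a ∧ y a ≠ a := by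
  by_contra hcon
  push Not at hcon
  have hsub : ∀ x, y x ≠ x → y' x ≠ x := by
    intro x hx hx'
    have h3 := congrArg (fun f => f x) h2
    simp only [coe_mul, Function.comp_apply, hx', coe_one, id_eq] at h3
    have h4 : y' (y x) = y (y x) := by
      apply y.injective; rw [h3, three_apply hy]
    have h5 := hcon (y x) h4.symm
    exact hx (y.injective h5)
  have hS : y.support = y'.support := by
    apply Finset.eq_of_subset_of_card_le
    · intro x hx
      rw [mem_support] at hx ⊢
      exact hsub x hx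
    · rw [hy.card_support, hy'.card_support]
  apply h1
  ext x
  simp only [coe_mul, Function.comp_apply, coe_one, id_eq]
  by_cases hx : x ∈ y.support
  · have hx' : y' x ∈ y.support := by
      rw [hS, apply_mem_support, ← hS]; exact hx
    have hs := hy.support_eq_iff_mem_support.mpr hx
    rw [hs] at hx'
    simp only [Finset.mem_insert, Finset.mem_singleton] at hx'
    rw [hS, mem_support] at hx
    rcases hx' with h | h | h
    · exact absurd h hx
    · have := hcon x h.symm
      rw [← h] at this
      exact absurd this hx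
    · rw [h, three_apply hy]
  · have hx' : x ∉ y'.support := hS ▸ hx
    rw [notMem_support] at hx hx'
    rw [hx', hx]

lemma eq_of_edge {y₁ y₂ : Perm α} (h₁ : y₁.IsThreeCycle) (h₂ : y₂.IsThreeCycle) {a : α}
    (ha : y₁ a ≠ a) (h1 : y₁ a = y₂ a) (h2 : y₁ (y₁ a) = y₂ (y₂ a)) : y₁ = y₂ := by
  have e1 := h₁.eq_swap_mul_swap_iff_mem_support.mpr (mem_support.mpr ha)
  have e2 := h₂.eq_swap_mul_swap_iff_mem_support.mpr (mem_support.mpr (h1 ▸ ha))
  rw [e1, e2, h2, h1]

lemma common_edge3 {y₁ y₂ y₃ : Perm α} (h₁ : y₁.IsThreeCycle) (h₂ : y₂.IsThreeCycle)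
    (h₃ : y₃.IsThreeCycle) {a b : α} (hab : a ≠ b) (h1a : y₁ a = b) (h2a : y₂ a = b)
    (h12 : y₁ ≠ y₂)
    (e13 : ∃ u, y₁ u = y₃ u ∧ y₁ u ≠ u) (e23 : ∃ v, y₂ v = y₃ v ∧ y₂ v ≠ v) : y₃ a = b := by
  obtain ⟨u, hu, hu'⟩ := e13
  obtain ⟨v, hv, hv'⟩ := e23
  have hcd : y₁ b ≠ y₂ b := by
    intro h
    apply h12
    apply eq_of_edge h₁ h₂ (a := a) (by rw [h1a]; exact hab.symm) (by rw [h1a, h2a])
    rw [h1a, h2a, h]
  have s1 := h₁.support_eq_iff_mem_support.mpr (mem_support.mpr (show y₁ a ≠ a by rw [h1a]; exact hab.symm))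
  have s2 := h₂.support_eq_iff_mem_support.mpr (mem_support.mpr (show y₂ a ≠ a by rw [h2a]; exact hab.symm))
  have mu : u ∈ y₁.support := mem_support.mpr hu'
  have mv : v ∈ y₂.support := mem_support.mpr hv'
  rw [s1, h1a] at mu
  rw [s2, h2a] at mv
  simp only [Finset.mem_insert, Finset.mem_singleton] at mu mv
  have t1 := three_apply h₁ a
  have t2 := three_apply h₂ a
  rw [h1a] at t1
  rw [h2a] at t2
  rcases mu with rfl | rfl | rfl
  · rw [← hu, h1a]
  · rcases mv with rfl | rfl | rfl
    · rw [← hv, h2a]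
    · exact absurd (hu.trans hv.symm) hcd
    · -- y₃ b = y₁ b, y₃ (y₂ b) = a
      exfalso
      rw [t2] at hv
      have s3 := h₃.support_eq_iff_mem_support.mpr (mem_support.mpr (show y₃ u ≠ u by rw [← hu]; exact hu'))
      have md : y₂ u ∈ y₃.support := by
        rw [mem_support, ← hv]; intro h; rw [← h, h2a] at t2; exact hab t2.symm
      rw [s3] at md
      simp only [Finset.mem_insert, Finset.mem_singleton] at md
      have t3 := three_apply h₃ u
      grind
  · rcases mv with rfl | rfl | rfl
    · rw [← hv, h2a]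
    · exfalso
      rw [t1] at hu
      have s3 := h₃.support_eq_iff_mem_support.mpr (mem_support.mpr (show y₃ v ≠ v by rw [← hv]; exact hv'))
      have md : y₁ v ∈ y₃.support := by
        rw [mem_support, ← hu]; intro h; rw [← h, h1a] at t1; exact hab t1.symm
      rw [s3] at md
      simp only [Finset.mem_insert, Finset.mem_singleton] at md
      have t3 := three_apply h₃ v
      grind
    · exfalso
      rw [t1] at hu
      rw [t2] at hv
      exact hcd (y₃.injective (hu.symm.trans hv))


lemma isThreeCycle_x {p q i : α} (hpq : p ≠ q) (hip : i ≠ p) (hiq : i ≠ q) :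
    (swap p q * swap q i).IsThreeCycle := by
  rw [swap_comm p q]
  exact isThreeCycle_swap_mul_swap_same hpq.symm hiq.symm hip.symm

lemma x_rel {p q i j : α} (hpq : p ≠ q) (hip : i ≠ p) (hiq : i ≠ q) (hjp : j ≠ p) (hjq : j ≠ q)
    (hij : i ≠ j) :
    ((swap p q * swap q i) * (swap p q * swap q j)) * ((swap p q * swap q i) * (swap p q * swap q j)) = 1 := by
  ext z
  simp only [coe_mul, Function.comp_apply, coe_one, id_eq, swap_apply_def]
  grind

lemma x_ne {p q i j : α} (hpq : p ≠ q) (hip : i ≠ p) (hiq : i ≠ q) (hjp : j ≠ p) (hjq : j ≠ q) :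
    ((swap p q * swap q i) * (swap p q * swap q j)) ≠ 1 := by
  intro h
  have := congrArg (fun f => f p) h
  simp only [coe_mul, Function.comp_apply, coe_one, id_eq, swap_apply_def] at this
  grind

/-- generation -/
lemma alt_le_closure {p q : α} (hpq : p ≠ q) :
    alternatingGroup α ≤ Subgroup.closure {g : Perm α | ∃ i, i ≠ p ∧ i ≠ q ∧ g = swap p q * swap q i} := by
  set H := Subgroup.closure {g : Perm α | ∃ i, i ≠ p ∧ i ≠ q ∧ g = swap p q * swap q i} with hH
  have hHA : H ≤ alternatingGroup α := by
    rw [hH, Subgroup.closure_le]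
    rintro g ⟨i, hip, hiq, rfl⟩
    exact (isThreeCycle_x hpq hip hiq).mem_alternatingGroup
  have h1 : ∀ v, v ≠ p → swap p q * swap p v ∈ H := by
    intro v hv
    by_cases hvq : v = q
    · subst hvq; simp [H.one_mem]
    · have : swap p q * swap p v = (swap p q * swap q v)⁻¹ := by
        ext z
        simp only [coe_mul, Function.comp_apply, mul_inv_rev, swap_inv, swap_apply_def]
        grind
      rw [this]
      exact H.inv_mem (Subgroup.subset_closure ⟨v, hv, hvq, rfl⟩)
  have h2 : ∀ u v, u ≠ p → v ≠ p → swap p u * swap p v ∈ H := by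
    intro u v hu hv
    have : swap p u * swap p v = (swap p q * swap p u)⁻¹ * (swap p q * swap p v) := by
      simp [mul_assoc]
    rw [this]
    exact H.mul_mem (H.inv_mem (h1 u hu)) (h1 v hv)
  have h3 : ∀ a b, a ≠ b → swap a b * swap p q ∈ H := by
    intro a b hab
    by_cases hap : a = p
    · subst hap; exact h2 b q hab.symm hpq.symm
    by_cases hbp : b = p
    · subst hbp; rw [swap_comm a b]; exact h2 a q hap hpq.symm
    have : swap a b * swap p q = (swap p a * swap p b) * (swap p a * swap p q) := by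
      have : swap a b = swap p a * swap p b * swap p a := by
        ext z
        simp only [coe_mul, Function.comp_apply, swap_apply_def]
        grind
      rw [this]; simp [mul_assoc]
    rw [this]
    exact H.mul_mem (h2 a b hap hbp) (h2 a q hap hpq.symm)
  have h4 : ∀ g : Perm α, g ∈ H ∨ swap p q * g ∈ H := by
    intro g
    induction g using Equiv.Perm.swap_induction_on with
    | one => exact Or.inl H.one_mem
    | swap_mul f x y hxy ih =>
      rcases ih with ih | ih
      · right
        have : swap p q * (swap x y * f) = (swap x y * swap p q)⁻¹ * f := by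
          simp [mul_assoc]
        rw [this]
        exact H.mul_mem (H.inv_mem (h3 x y hxy)) ih
      · left
        have : swap x y * f = (swap x y * swap p q) * (swap p q * f) := by
          simp [mul_assoc]
        rw [this]
        exact H.mul_mem (h3 x y hxy) ih
  intro g hg
  rcases h4 g with h | h
  · exact h
  · exfalso
    have := hHA h
    rw [mem_alternatingGroup] at this hg
    rw [Perm.sign_mul, hg, sign_swap hpq] at this
    exact absurd this (by decide)


theorem exists_conj {p q i0 i1 : α} (hpq : p ≠ q) (h0p : i0 ≠ p) (h0q : i0 ≠ q) (h1p : i1 ≠ p)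
    (h1q : i1 ≠ q) (h01 : i0 ≠ i1)
    (φ : alternatingGroup α ≃* alternatingGroup α)
    (hφ : ∀ g : alternatingGroup α, (g : Perm α).IsThreeCycle → (φ g : Perm α).IsThreeCycle) :
    ∃ σ : Perm α, ∀ g : alternatingGroup α, (φ g : Perm α) = σ * g * σ⁻¹ := by
  classical
  -- the generators
  let X : α → alternatingGroup α := fun i =>
    if h : i ≠ p ∧ i ≠ q then ⟨swap p q * swap q i, (isThreeCycle_x hpq h.1 h.2).mem_alternatingGroup⟩
    else 1
  have hX : ∀ i, i ≠ p → i ≠ q → (X i : Perm α) = swap p q * swap q i := by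
    intro i hip hiq
    simp only [X, dif_pos (And.intro hip hiq)]
  let y : α → Perm α := fun i => (φ (X i) : Perm α)
  have hy3 : ∀ i, i ≠ p → i ≠ q → (y i).IsThreeCycle := by
    intro i hip hiq
    apply hφ
    rw [hX i hip hiq]
    exact isThreeCycle_x hpq hip hiq
  have hXinj : ∀ i j, i ≠ p → i ≠ q → j ≠ p → j ≠ q → y i = y j → i = j := by
    intro i j hip hiq hjp hjq h
    have h1 : X i = X j := φ.injective (Subtype.ext h)
    have h2 : (X i : Perm α) q = (X j : Perm α) q := by rw [h1]
    rw [hX i hip hiq, hX j hjp hjq] at h2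
    simp only [coe_mul, Function.comp_apply, swap_apply_def] at h2
    grind
  have hrel : ∀ i j, i ≠ p → i ≠ q → j ≠ p → j ≠ q → i ≠ j →
      ∃ a, y i a = y j a ∧ y i a ≠ a := by
    intro i j hip hiq hjp hjq hij
    apply common_edge (hy3 i hip hiq) (hy3 j hjp hjq)
    · have : (X i * X j) * (X i * X j) = 1 := by
        apply Subtype.ext
        simp only [Subgroup.coe_mul, hX i hip hiq, hX j hjp hjq, Subgroup.coe_one]
        exact x_rel hpq hip hiq hjp hjq hij
      have h2 := congrArg (fun g => (φ g : Perm α)) this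
      simpa [y] using h2
    · intro h
      have h2 : φ (X i * X j) = 1 := by
        apply Subtype.ext
        simpa [y] using h
      have h3 : X i * X j = 1 := by
        apply φ.injective; rw [h2, map_one]
      have h4 := congrArg (fun g : alternatingGroup α => (g : Perm α)) h3
      simp only [Subgroup.coe_mul, hX i hip hiq, hX j hjp hjq, Subgroup.coe_one] at h4
      exact x_ne hpq hip hiq hjp hjq h4
  obtain ⟨a, ha1, ha2⟩ := hrel i0 i1 h0p h0q h1p h1q h01
  set b := y i0 a with hb
  have hab : a ≠ b := fun h => ha2 h.symm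
  have hya : ∀ i, i ≠ p → i ≠ q → y i a = b := by
    intro i hip hiq
    by_cases hi0 : i = i0
    · rw [hi0]
    by_cases hi1 : i = i1
    · rw [hi1, ← ha1]
    exact common_edge3 (hy3 i0 h0p h0q) (hy3 i1 h1p h1q) (hy3 i hip hiq) hab rfl ha1.symm
      (fun h => h01 (hXinj _ _ h0p h0q h1p h1q h))
      (hrel i0 i h0p h0q hip hiq (Ne.symm hi0)) (hrel i1 i h1p h1q hip hiq (Ne.symm hi1))
  have hnd : ∀ i, i ≠ p → i ≠ q → [a, b, y i b].Nodup := by
    intro i hip hiq
    have := (hy3 i hip hiq).nodup_iff_mem_support.mpr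
      (mem_support.mpr (show y i a ≠ a by rw [hya i hip hiq]; exact hab.symm))
    rwa [hya i hip hiq] at this
  let f : α → α := fun x => if x = p then a else if x = q then b else y x b
  have hfp : f p = a := by simp [f]
  have hfq : f q = b := by simp [f, hpq.symm]
  have hfi : ∀ i, i ≠ p → i ≠ q → f i = y i b := by
    intro i hip hiq; simp [f, hip, hiq]
  have hfinj : Function.Injective f := by
    intro u v huv
    by_cases hup : u = p
    · by_cases hvp : v = p
      · rw [hup, hvp]
      · by_cases hvq : v = q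
        · rw [hup, hvq, hfp, hfq] at huv; exact absurd huv hab
        · rw [hup, hfp, hfi v hvp hvq] at huv
          have := hnd v hvp hvq
          grind
    · by_cases huq : u = q
      · by_cases hvp : v = p
        · rw [huq, hvp, hfp, hfq] at huv; exact absurd huv.symm hab
        · by_cases hvq : v = q
          · rw [huq, hvq]
          · rw [huq, hfq, hfi v hvp hvq] at huv
            have := hnd v hvp hvq
            grind
      · by_cases hvp : v = p
        · rw [hvp, hfp, hfi u hup huq] at huv
          have := hnd u hup huq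
          grind
        · by_cases hvq : v = q
          · rw [hvq, hfq, hfi u hup huq] at huv
            have := hnd u hup huq
            grind
          · rw [hfi u hup huq, hfi v hvp hvq] at huv
            apply hXinj u v hup huq hvp hvq
            apply eq_of_edge (hy3 u hup huq) (hy3 v hvp hvq) (a := a)
            · rw [hya u hup huq]; exact hab.symm
            · rw [hya u hup huq, hya v hvp hvq]
            · rw [hya u hup huq, hya v hvp hvq, huv]
  let σ : Perm α := Equiv.ofBijective f (Finite.injective_iff_bijective.mp hfinj)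
  have hσ : ∀ x, σ x = f x := fun x => rfl
  refine ⟨σ, ?_⟩
  -- the two homs
  let f₁ : alternatingGroup α →* Perm α := (alternatingGroup α).subtype.comp φ.toMonoidHom
  let f₂ : alternatingGroup α →* Perm α := (MulAut.conj σ).toMonoidHom.comp (alternatingGroup α).subtype
  have hgen : ∀ i, i ≠ p → i ≠ q → f₁ (X i) = f₂ (X i) := by
    intro i hip hiq
    show y i = σ * (X i : Perm α) * σ⁻¹
    rw [hX i hip hiq]
    have e1 := (hy3 i hip hiq).eq_swap_mul_swap_iff_mem_support.mpr
      (mem_support.mpr (show y i a ≠ a by rw [hya i hip hiq]; exact hab.symm))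
    rw [hya i hip hiq] at e1
    rw [e1]
    have : σ * (swap p q * swap q i) * σ⁻¹ = (σ * swap p q * σ⁻¹) * (σ * swap q i * σ⁻¹) := by
      simp [mul_assoc]
    rw [this, ← swap_apply_apply, ← swap_apply_apply, hσ, hσ, hσ, hfp, hfq, hfi i hip hiq]
  have hle : alternatingGroup α ≤ (f₁.eqLocus f₂).map (alternatingGroup α).subtype := by
    refine (alt_le_closure hpq).trans ?_
    rw [Subgroup.closure_le]
    rintro g ⟨i, hip, hiq, rfl⟩
    exact ⟨X i, hgen i hip hiq, hX i hip hiq⟩
  intro g
  obtain ⟨g', hg', hgg⟩ := hle g.2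
  have : g' = g := Subtype.ext hgg
  rw [← this]
  exact hg'


open scoped Nat

lemma fact_step (j m : ℕ) (h : 2 * 3 ^ (j + 1) * (j + 2)! * m ! < (m + 3 * j + 3)!) :
    2 * 3 ^ (j + 1 + 1) * (j + 1 + 2)! * m ! < (m + 3 * (j + 1) + 3)! := by
  have e1 : (m + 3 * (j + 1) + 3)! = (m + 3 * j + 6) * ((m + 3 * j + 5) * ((m + 3 * j + 4) * (m + 3 * j + 3)!)) := by
    have : m + 3 * (j + 1) + 3 = (m + 3 * j + 3) + 1 + 1 + 1 := by ring
    rw [this, Nat.factorial_succ, Nat.factorial_succ, Nat.factorial_succ]
  have e2 : 2 * 3 ^ (j + 1 + 1) * (j + 1 + 2)! * m ! = (3 * (j + 3)) * (2 * 3 ^ (j + 1) * (j + 2)! * m !) := by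
    have : j + 1 + 2 = (j + 2) + 1 := by ring
    rw [this, Nat.factorial_succ]; ring
  rw [e1, e2]
  have h3 : 3 * (j + 3) ≤ (m + 3 * j + 6) * ((m + 3 * j + 5) * (m + 3 * j + 4)) := by
    calc 3 * (j + 3) = (j + 3) * (3 * 1) := by ring
      _ ≤ (m + 3 * j + 6) * ((m + 3 * j + 5) * (m + 3 * j + 4)) :=
        Nat.mul_le_mul (by omega) (Nat.mul_le_mul (by omega) (by omega))
  calc (3 * (j + 3)) * (2 * 3 ^ (j + 1) * (j + 2)! * m !)
      < (3 * (j + 3)) * (m + 3 * j + 3)! := by
        apply Nat.mul_lt_mul_of_pos_left h (by positivity)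
    _ ≤ ((m + 3 * j + 6) * ((m + 3 * j + 5) * (m + 3 * j + 4))) * (m + 3 * j + 3)! :=
        Nat.mul_le_mul_right _ h3
    _ = _ := by ring

lemma fact_ineq (j m : ℕ) (h : ¬ (j = 0 ∧ m = 0)) :
    2 * 3 ^ (j + 1) * (j + 2)! * m ! < (m + 3 * j + 3)! := by
  induction j with
  | zero =>
    have hm : 1 ≤ m := by omega
    have e1 : (m + 3 * 0 + 3)! = (m + 3) * ((m + 2) * ((m + 1) * m !)) := by
      have : m + 3 * 0 + 3 = m + 1 + 1 + 1 := by ring
      rw [this, Nat.factorial_succ, Nat.factorial_succ, Nat.factorial_succ]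
    rw [e1]
    have hpos : 0 < m ! := Nat.factorial_pos m
    have : 2 * 3 ^ (0 + 1) * (0 + 2)! * m ! = 12 * m ! := by
      norm_num [Nat.factorial]
    rw [this]
    have h3 : 12 < (m + 3) * ((m + 2) * (m + 1)) := by
      calc 12 < 4 * (3 * 2) := by norm_num
        _ ≤ (m + 3) * ((m + 2) * (m + 1)) :=
          Nat.mul_le_mul (by omega) (Nat.mul_le_mul (by omega) (by omega))
    calc 12 * m ! < ((m + 3) * ((m + 2) * (m + 1))) * m ! := Nat.mul_lt_mul_of_pos_right h3 hpos
      _ = _ := by ring
  | succ j ih =>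
    by_cases hjm : j = 0 ∧ m = 0
    · obtain ⟨rfl, rfl⟩ := hjm
      norm_num [Nat.factorial]
    · exact fact_step j m (ih hjm)

lemma card_centralizer_rel [Nontrivial α] (g : alternatingGroup α) :
    ∃ r, (r = 1 ∨ r = 2) ∧ Nat.card (Subgroup.centralizer {(g : Perm α)}) =
      Nat.card (Subgroup.centralizer {g}) * r := by
  set C := Subgroup.centralizer {(g : Perm α)} with hC
  refine ⟨(alternatingGroup α).relIndex C, ?_, ?_⟩
  · have := Subgroup.relIndex_dvd_index_of_normal (alternatingGroup α) C
    rw [alternatingGroup.index_eq_two] at this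
    exact (Nat.dvd_prime Nat.prime_two).mp this
  · rw [← ((alternatingGroup α).subgroupOf C).card_mul_index]
    congr 1
    apply Nat.card_congr
    exact
      { toFun := fun x => ⟨⟨x.1.1, x.2⟩, by
          have : x.1.1 ∈ Subgroup.centralizer {(g : Perm α)} := x.1.2
          rw [Subgroup.mem_centralizer_singleton_iff] at this
          rw [Subgroup.mem_centralizer_singleton_iff]
          exact Subtype.ext this⟩
        invFun := fun x => ⟨⟨x.1.1, by
          have := x.2
          rw [Subgroup.mem_centralizer_singleton_iff] at this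
          rw [hC, Subgroup.mem_centralizer_singleton_iff]
          exact congrArg Subtype.val this⟩, x.1.2⟩
        left_inv := fun x => rfl
        right_inv := fun x => rfl }

lemma card_centralizer_map (ψ : alternatingGroup α ≃* alternatingGroup α) (g : alternatingGroup α) :
    Nat.card (Subgroup.centralizer {ψ g}) = Nat.card (Subgroup.centralizer {g}) := by
  apply Nat.card_congr
  symm
  apply ψ.toEquiv.subtypeEquiv
  intro x
  simp only [SetLike.mem_coe, Subgroup.mem_centralizer_singleton_iff, MulEquiv.toEquiv_eq_coe, MulEquiv.coe_toEquiv, ← map_mul, ψ.injective.eq_iff]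

theorem isThreeCycle_map (hn6 : Fintype.card α ≠ 6) (ψ : alternatingGroup α ≃* alternatingGroup α)
    (g : alternatingGroup α) (hg : (g : Perm α).IsThreeCycle) : (ψ g : Perm α).IsThreeCycle := by
  have hnt : Nontrivial α := by
    rw [← Fintype.one_lt_card_iff_nontrivial]
    have := hg.card_support
    have h2 := (g : Perm α).support.card_le_univ
    omega
  have ho : orderOf (ψ g : Perm α) = 3 := by
    rw [Subgroup.orderOf_coe, MulEquiv.orderOf_eq, ← Subgroup.orderOf_coe, hg.orderOf]
  obtain ⟨k, hk⟩ := cycleType_prime_order (σ := (ψ g : Perm α)) (by rw [ho]; exact Nat.prime_three)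
  rw [ho] at hk
  rcases k with _ | j
  · simpa [IsThreeCycle] using hk
  exfalso
  have hsum : 3 * (j + 2) ≤ Fintype.card α := by
    have h1 := sum_cycleType (ψ g : Perm α)
    rw [hk] at h1
    simp only [Multiset.sum_replicate, smul_eq_mul] at h1
    have h2 := (ψ g : Perm α).support.card_le_univ
    omega
  obtain ⟨m, hm⟩ := Nat.exists_eq_add_of_le hsum
  obtain ⟨r, hr, h1⟩ := card_centralizer_rel g
  obtain ⟨r', hr', h2⟩ := card_centralizer_rel (ψ g)
  rw [card_centralizer_map, nat_card_centralizer, hk] at h2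
  rw [nat_card_centralizer, hg.cycleType] at h1
  have hts : (Multiset.replicate (j + 1 + 1) 3).toFinset = {3} := by
    rw [Multiset.toFinset_replicate]; simp
  rw [hts] at h2
  simp only [Multiset.sum_replicate, smul_eq_mul, Multiset.prod_replicate, Finset.prod_singleton,
    Multiset.count_replicate_self] at h2
  simp only [Multiset.sum_singleton, Multiset.prod_singleton, Multiset.toFinset_singleton,
    Finset.prod_singleton, Multiset.count_singleton_self, Nat.factorial_one, mul_one] at h1
  have hne : ¬ (j = 0 ∧ m = 0) := by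
    rintro ⟨rfl, rfl⟩; omega
  have hin := fact_ineq j m hne
  have e1 : Fintype.card α - 3 = m + 3 * j + 3 := by omega
  have e2 : Fintype.card α - (j + 1 + 1) * 3 = m := by omega
  rw [e1] at h1
  rw [e2] at h2
  set c := Nat.card (Subgroup.centralizer {g}) with hc
  have h3 : (m + 3 * j + 3)! * 3 * r' = m ! * 3 ^ (j + 1 + 1) * (j + 1 + 1)! * r := by
    rw [h1, h2]; ring
  have h4 : (m + 3 * j + 3)! * 3 ≤ (m + 3 * j + 3)! * 3 * r' := by
    rcases hr' with rfl | rfl <;> omega
  have h5 : m ! * 3 ^ (j + 1 + 1) * (j + 1 + 1)! * r ≤ m ! * 3 ^ (j + 1 + 1) * (j + 1 + 1)! * 2 := by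
    rcases hr with rfl | rfl <;> omega
  have h6 : m ! * 3 ^ (j + 1 + 1) * (j + 1 + 1)! * 2 = 3 * (2 * 3 ^ (j + 1) * (j + 2)! * m !) := by
    ring
  omega


lemma conjNormal_injective {p q i0 i1 : α} (hnd : [p, q, i0, i1].Nodup) :
    Function.Injective (MulAut.conjNormal : Perm α →* MulAut ↥(alternatingGroup α)) := by
  rw [injective_iff_map_eq_one]
  intro σ hσ
  ext a
  by_contra hab
  simp only [coe_one, id_eq] at hab
  -- find c d distinct from a and σ a
  obtain ⟨c, d, hca, hcb, hda, hdb, hcd⟩ : ∃ c d : α, c ≠ a ∧ c ≠ σ a ∧ d ≠ a ∧ d ≠ σ a ∧ c ≠ d := by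
    have hcard : 2 ≤ (({p, q, i0, i1} : Finset α) \ {a, σ a}).card := by
      have h1 : ({p, q, i0, i1} : Finset α).card = 4 := by
        simp only [List.nodup_cons, List.mem_cons, List.not_mem_nil, or_false, not_or,
          not_false_eq_true, List.nodup_nil, and_true] at hnd
        rw [Finset.card_insert_of_notMem, Finset.card_insert_of_notMem,
          Finset.card_insert_of_notMem, Finset.card_singleton] <;> simp <;> tauto
      have h2 := Finset.le_card_sdiff ({a, σ a} : Finset α) ({p, q, i0, i1} : Finset α)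
      have h3 : ({a, σ a} : Finset α).card ≤ 2 := Finset.card_le_two
      omega
    obtain ⟨c, hc, d, hd, hcd⟩ := Finset.one_lt_card.mp hcard
    simp only [Finset.mem_sdiff, Finset.mem_insert, Finset.mem_singleton, not_or] at hc hd
    exact ⟨c, d, hc.2.1, hc.2.2, hd.2.1, hd.2.2, hcd⟩
  have h3 : (swap (σ a) c * swap c d).IsThreeCycle := isThreeCycle_x hcb.symm hdb hcd.symm
  have h4 := congrArg (fun f : MulAut ↥(alternatingGroup α) =>
    ((f ⟨_, h3.mem_alternatingGroup⟩ : alternatingGroup α) : Perm α) (σ a)) hσ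
  simp only [MulAut.conjNormal_apply, MulAut.one_apply, coe_mul, Function.comp_apply,
    Equiv.Perm.coe_inv, Equiv.symm_apply_apply] at h4
  rw [swap_apply_of_ne_of_ne hca.symm hda.symm, swap_apply_of_ne_of_ne (Ne.symm hab) hca.symm,
    swap_apply_of_ne_of_ne hcb.symm hdb.symm, swap_apply_left] at h4
  exact hcb h4.symm

theorem bijective_conjNormal {p q i0 i1 : α} (hnd : [p, q, i0, i1].Nodup)
    (hn6 : Fintype.card α ≠ 6) :
    Function.Bijective (MulAut.conjNormal : Perm α →* MulAut ↥(alternatingGroup α)) := by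
  refine ⟨conjNormal_injective hnd, ?_⟩
  intro ψ
  have hnd' := hnd
  simp only [List.nodup_cons, List.mem_cons, List.not_mem_nil, or_false, not_or,
    not_false_eq_true, List.nodup_nil, and_true] at hnd'
  obtain ⟨σ, hσ⟩ := exists_conj (p := p) (q := q) (i0 := i0) (i1 := i1) hnd'.1.1
    (Ne.symm hnd'.1.2.1) (Ne.symm hnd'.2.1.1) (Ne.symm hnd'.1.2.2) (Ne.symm hnd'.2.1.2) hnd'.2.2
    ψ (isThreeCycle_map hn6 ψ)
  refine ⟨σ, ?_⟩
  ext g : 2
  rw [MulAut.conjNormal_apply, hσ]

/-- Automorphisms of the alternating groups: for n ≥ 4 with n ≠ 6, every automorphism of the alternating group of degree n is conjugation by a unique permutation, i.e. conjugation induces an isomorphism from the symmetric group of degree n onto the automorphism group of the alternating group (so the outer automorphism group has order 2). -/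
theorem result (n : ℕ) (hn : 4 ≤ n) (h6 : n ≠ 6) : Function.Bijective (MulAut.conjNormal : Equiv.Perm (Fin n) →* MulAut ↥(alternatingGroup (Fin n))) := by
  have h0 : (0 : ℕ) < n := by omega
  have h1 : (1 : ℕ) < n := by omega
  have h2 : (2 : ℕ) < n := by omega
  have h3 : (3 : ℕ) < n := by omega
  apply bijective_conjNormal (p := ⟨0, h0⟩) (q := ⟨1, h1⟩) (i0 := ⟨2, h2⟩) (i1 := ⟨3, h3⟩)
  · simp
  · simpa using h6

end Cfsg.Agent.S2119
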