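import Cfsg.Statements.S1475
import Cfsg.Agent.Lib.Helper25.NormTrick
import Cfsg.Agent.Lib.Helper1.Hall
import Cfsg.Agent.Lib.Helper1.MinimalNormal

set_option autoImplicit false
open Cfsg

namespace Cfsg.Agent.S1475

open Cfsg.Agent.Lib.Helper25

variable {G : Type*} [Group G] [Finite G]

theorem eppo_commute (h : ∀ g : G, IsPrimePow (orderOf g) ∨ g = 1) {g v : G} (hc : Commute g v)
    (hcop : (orderOf g).Coprime (orderOf v)) : g = 1 ∨ v = 1 := by
  have ho := hc.orderOf_mul_eq_mul_orderOf_of_coprime hcop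
  rcases h (g * v) with hpp | h1
  · rw [ho] at hpp
    rcases (hcop.isPrimePow_dvd_mul hpp).1 dvd_rfl with hd | hd
    · right
      have : orderOf g * orderOf v ∣ orderOf g * 1 := by rwa [mul_one]
      have := Nat.dvd_of_mul_dvd_mul_left (orderOf_pos g) this
      exact orderOf_eq_one_iff.1 (Nat.dvd_one.1 this)
    · left
      have : orderOf g * orderOf v ∣ 1 * orderOf v := by rwa [one_mul]
      have := Nat.dvd_of_mul_dvd_mul_right (orderOf_pos v) this
      exact orderOf_eq_one_iff.1 (Nat.dvd_one.1 this)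
  · left
    rw [h1, orderOf_one] at ho
    exact orderOf_eq_one_iff.1 (Nat.eq_one_of_mul_eq_one_right ho.symm)

omit [Finite G] in
theorem orderOf_of_mem_pGroup {p : ℕ} [Fact p.Prime] {R : Subgroup G} (hR : IsPGroup p R) {x : G} (hx : x ∈ R) :
    ∃ k, orderOf x = p ^ k := by
  obtain ⟨k, hk⟩ := (IsPGroup.iff_orderOf.1 hR) ⟨x, hx⟩
  exact ⟨k, by rw [← hk]; simp⟩

open scoped IsMulCommutative in
theorem key (h : ∀ g : G, IsPrimePow (orderOf g) ∨ g = 1)
    (p r s : ℕ) (hp : p.Prime) (hr : r.Prime) (hs : s.Prime) (hpr : p ≠ r) (hps : p ≠ s)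
    (hrs : r ≠ s) (A : Subgroup G) [A.Normal] [IsMulCommutative A] (hA : IsPGroup p A) (hA1 : A ≠ ⊥)
    (R : Subgroup G) (hR : IsPGroup r R) (hR1 : R ≠ ⊥) (y : G) (hy : orderOf y = s)
    (hyR : ∀ x ∈ R, y * x * y⁻¹ ∈ R) : False := by
  have : Fact r.Prime := ⟨hr⟩
  have : Fact p.Prime := ⟨hp⟩
  have : Fact s.Prime := ⟨hs⟩
  have hyi : ∀ (i : ℕ), ∀ x ∈ R, y ^ i * x * (y ^ i)⁻¹ ∈ R := by
    intro i
    induction i with
    | zero => intro x hx; simpa using hx
    | succ i ih =>
      intro x hx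
      have := hyR _ (ih x hx)
      convert this using 1
      rw [pow_succ']
      group
  have hN : ∀ (i : ℕ), ∀ x ∈ R, (x * y) ^ i * (y ^ i)⁻¹ ∈ R := by
    intro i
    induction i with
    | zero => intro x hx; simp [R.one_mem]
    | succ i ih =>
      intro x hx
      have h1 := R.mul_mem (ih x hx) (hyi i x hx)
      convert h1 using 1
      rw [pow_succ, pow_succ]
      generalize (x * y) ^ i = a
      generalize y ^ i = b
      group
  -- no element of order `s` in `R`
  have hnoS : ∀ z ∈ R, orderOf z ≠ s := by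
    intro z hz hzs
    obtain ⟨k, hk⟩ := orderOf_of_mem_pGroup hR hz
    rw [hzs] at hk
    have : s ∣ r ^ k := by rw [← hk]
    exact hrs ((Nat.prime_dvd_prime_iff_eq hs hr).1 (hs.dvd_of_dvd_pow this)).symm
  have hpow : ∀ x ∈ R, (x * y) ^ s = 1 := by
    intro x hx
    have hgs : (x * y) ^ s ∈ R := by
      have := hN s x hx
      rwa [← hy, pow_orderOf_eq_one y, inv_one, mul_one, hy] at this
    rcases h (x * y) with hpp | h1
    · obtain ⟨t, k, ht, hk0, hk⟩ := hpp
      have ht' : t.Prime := ht.nat_prime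
      by_cases hts : t = s
      · subst hts
        obtain ⟨j, hj⟩ := orderOf_of_mem_pGroup hR hgs
        have d1 : orderOf ((x * y) ^ t) ∣ t ^ k := by
          rw [hk]; exact orderOf_pow_dvd t
        have d2 : orderOf ((x * y) ^ t) ∣ r ^ j := by rw [hj]
        have hc : Nat.Coprime (t ^ k) (r ^ j) :=
          Nat.Coprime.pow _ _ ((Nat.coprime_primes ht' hr).2 hrs.symm)
        exact orderOf_eq_one_iff.1 (Nat.eq_one_of_dvd_coprimes hc d1 d2)
      · exfalso
        have h1 := hN (t ^ k) x hx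
        rw [hk, pow_orderOf_eq_one, one_mul] at h1
        have h2 : y ^ orderOf (x * y) ∈ R := by simpa using R.inv_mem h1
        apply hnoS _ h2
        rw [Nat.Coprime.orderOf_pow, hy]
        rw [hy, ← hk]
        exact (Nat.Coprime.pow_right _ ((Nat.coprime_primes hs ht').2 (Ne.symm hts)))
    · rw [h1, one_pow]
  have hxy1 : ∀ x ∈ R, x * y ≠ 1 := by
    intro x hx h1
    have h2 : y = x⁻¹ := (inv_eq_of_mul_eq_one_right h1).symm
    exact hnoS y (h2 ▸ R.inv_mem hx) hy
  have hoxy : ∀ x ∈ R, orderOf (x * y) = s := by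
    intro x hx
    exact orderOf_eq_prime (hpow x hx) (hxy1 x hx)
  obtain ⟨⟨x₀, hx₀⟩, hx₀1⟩ := (Subgroup.ne_bot_iff_exists_ne_one).1 hR1
  have hx₀1' : x₀ ≠ 1 := by
    intro h
    apply hx₀1
    ext
    simpa using h
  obtain ⟨⟨v, hv⟩, hv1⟩ := (Subgroup.ne_bot_iff_exists_ne_one).1 hA1
  -- fixed point freeness
  have hfix : ∀ g : G, g ≠ 1 → (orderOf g).Coprime p → ∀ v : A,
      (MulAut.conjNormal g : MulAut A) v = v → v = 1 := by
    intro g hg1 hgp v hgv
    have h1 : g * (v : G) * g⁻¹ = v := by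
      rw [← MulAut.conjNormal_apply, hgv]
    have hc : Commute g (v : G) := by
      have : g * (v : G) = (g * (v : G) * g⁻¹) * g := by group
      rw [h1] at this
      exact this
    obtain ⟨k, hk⟩ := orderOf_of_mem_pGroup hA v.2
    rcases eppo_commute h hc (by rw [hk]; exact Nat.Coprime.pow_right _ hgp) with h2 | h2
    · exact absurd h2 hg1
    · ext
      simpa using h2
  have hfin := norm_trick (V := A) (MulAut.conjNormal : G →* MulAut A) R y s hs hyR hpow
    (fun x hx => hfix (x * y) (hxy1 x hx) (by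
      rw [hoxy x hx]; exact (Nat.coprime_primes hs hp).2 hps.symm))
    x₀ hx₀ (hfix x₀ hx₀1' (by
      obtain ⟨k, hk⟩ := orderOf_of_mem_pGroup hR hx₀
      rw [hk]
      exact Nat.Coprime.pow_left _ ((Nat.coprime_primes hr hp).2 hpr.symm))) ⟨v, hv⟩
  obtain ⟨m, hm⟩ := IsPGroup.iff_card.1 hR
  obtain ⟨k, hk⟩ := (IsPGroup.iff_orderOf.1 hA) ⟨v, hv⟩
  apply hv1
  have d1 : orderOf (⟨v, hv⟩ : A) ∣ r ^ m := by
    rw [← hm]
    exact orderOf_dvd_of_pow_eq_one hfin
  have d2 : orderOf (⟨v, hv⟩ : A) ∣ p ^ k := by rw [hk]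
  exact orderOf_eq_one_iff.1 (Nat.eq_one_of_dvd_coprimes
    (Nat.Coprime.pow _ _ ((Nat.coprime_primes hr hp).2 hpr.symm)) d1 d2)

/-- Let G be a finite solvable group such that the order of every element is a prime power (1 included). Then at most two distinct primes divide the order of G. -/
theorem result {G : Type*} [Group G] [Finite G] [Group.IsSolvable G] (h : ∀ g : G, IsPrimePow (orderOf g) ∨ g = 1) :
    (Nat.card G).primeFactors.card ≤ 2 := by
  by_contra hcon
  rw [not_le] at hcon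
  have hnt : Nontrivial G := by
    by_contra hn
    rw [not_nontrivial_iff_subsingleton] at hn
    rw [Nat.card_eq_one_iff_unique.2 ⟨hn, ⟨1⟩⟩] at hcon
    simp at hcon
  obtain ⟨p, A, hp, hAn, hA1, hA, hAc, -⟩ :=
    Cfsg.Agent.Lib.Helper1.exists_normal_pSubgroup_of_solvable (G := G)
  -- a Hall `p'`-subgroup
  have hG0 : Nat.card G ≠ 0 := Nat.card_pos.ne'
  obtain ⟨K, hK⟩ := Cfsg.Agent.Lib.Helper1.hall_exists (G := G) (ordCompl[p] (Nat.card G))
    (ordProj[p] (Nat.card G)) (by rw [mul_comm]; exact (Nat.ordProj_mul_ordCompl_eq_self _ p).symm)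
    (Nat.Coprime.pow_right _ (Nat.coprime_ordCompl hp hG0).symm)
  have hdvdK : ∀ q : ℕ, q.Prime → q ≠ p → q ∣ Nat.card G → q ∣ Nat.card K := by
    intro q hq hqp hqG
    rw [← Nat.ordProj_mul_ordCompl_eq_self (Nat.card G) p] at hqG
    rcases hq.dvd_mul.1 hqG with h1 | h1
    · exact absurd ((Nat.prime_dvd_prime_iff_eq hq hp).1 (hq.dvd_of_dvd_pow h1)) hqp
    · rwa [hK]
  have hKp : ¬ p ∣ Nat.card K := by
    rw [hK]
    exact Nat.not_dvd_ordCompl hp hG0
  -- a first prime different from `p`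
  obtain ⟨q₀, hq₀, hq₀p⟩ := Finset.exists_mem_ne (by omega : 1 < (Nat.card G).primeFactors.card) p
  have hKnt : Nontrivial K := by
    rw [← Finite.one_lt_card_iff_nontrivial]
    have := hdvdK q₀ (Nat.prime_of_mem_primeFactors hq₀) hq₀p (Nat.dvd_of_mem_primeFactors hq₀)
    exact lt_of_lt_of_le (Nat.prime_of_mem_primeFactors hq₀).one_lt (Nat.le_of_dvd Nat.card_pos this)
  obtain ⟨r, R, hr, hRn, hR1, hR, -, -⟩ :=
    Cfsg.Agent.Lib.Helper1.exists_normal_pSubgroup_of_solvable (G := K)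
  have : Fact r.Prime := ⟨hr⟩
  have hrK : r ∣ Nat.card K := by
    obtain ⟨m, hm⟩ := IsPGroup.iff_card.1 hR
    have hm0 : m ≠ 0 := by
      rintro rfl
      rw [pow_zero] at hm
      exact hR1 (Subgroup.card_eq_one.1 hm)
    exact (dvd_pow_self r hm0).trans (hm ▸ Subgroup.card_subgroup_dvd_card R)
  have hrp : r ≠ p := by
    rintro rfl
    exact hKp hrK
  -- a third prime
  have hcard3 : 0 < (((Nat.card G).primeFactors.erase p).erase r).card := by
    have h1 := Finset.pred_card_le_card_erase (s := (Nat.card G).primeFactors) (a := p)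
    have h2 := Finset.pred_card_le_card_erase (s := (Nat.card G).primeFactors.erase p) (a := r)
    omega
  obtain ⟨s, hs⟩ := Finset.card_pos.1 hcard3
  rw [Finset.mem_erase, Finset.mem_erase] at hs
  obtain ⟨hsr, hsp, hsG⟩ := hs
  have hsP := Nat.prime_of_mem_primeFactors hsG
  have : Fact s.Prime := ⟨hsP⟩
  obtain ⟨y, hy⟩ := exists_prime_orderOf_dvd_card' (G := K) s
    (hdvdK s hsP hsp (Nat.dvd_of_mem_primeFactors hsG))
  refine key h p r s hp hr hsP hrp.symm hsp.symm hsr.symm A hA hA1 (R.map K.subtype)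
    (hR.map _) ?_ (y : G) (by rw [Subgroup.orderOf_coe, hy]) ?_
  · intro hbot
    rw [Subgroup.map_eq_bot_iff_of_injective _ K.subtype_injective] at hbot
    exact hR1 hbot
  · rintro _ ⟨x, hx, rfl⟩
    exact ⟨y * x * y⁻¹, hRn.conj_mem x hx y, by simp⟩

end Cfsg.Agent.S1475
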