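import Cfsg.Statements.S3993
import Mathlib

set_option autoImplicit false
open Cfsg

namespace Cfsg.Agent.S3993

open MulAction Subgroup

/-- weighted orbit counting -/
theorem dvd_sum_of_invariant {K X : Type*} [Group K] [MulAction K X] (d : ℕ) (w : X → ℕ)
    (hw : ∀ (g : K) (x : X), w (g • x) = w x) (Y : Finset X) :
    (∀ g : K, ∀ y ∈ Y, g • y ∈ Y) → (∀ y ∈ Y, d ∣ (stabilizer K y).index * w y) →
      d ∣ ∑ y ∈ Y, w y := by
  classical
  induction Y using Finset.strongInduction with
  | H Y ih =>
    intro hinv hd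
    rcases Y.eq_empty_or_nonempty with rfl | ⟨y, hy⟩
    · simp
    · set O := Y.filter (fun x => x ∈ orbit K y) with hO
      set Y' := Y.filter (fun x => x ∉ orbit K y) with hY'
      have hOset : (O : Set X) = orbit K y := by
        ext x
        simp only [hO, Finset.coe_filter, Set.mem_ofPred_eq]
        constructor
        · exact fun h => h.2
        · rintro ⟨g, rfl⟩
          exact ⟨hinv g y hy, mem_orbit y g⟩
      have hOcard : O.card = (stabilizer K y).index := by
        rw [index_stabilizer, ← hOset, Set.ncard_coe_finset]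
      have hsplit : ∑ x ∈ O, w x + ∑ x ∈ Y', w x = ∑ x ∈ Y, w x :=
        Finset.sum_filter_add_sum_filter_not _ _ _
      have hOsum : ∑ x ∈ O, w x = (stabilizer K y).index * w y := by
        rw [← hOcard, Finset.sum_const_nat]
        intro x hx
        obtain ⟨g, rfl⟩ := (Finset.mem_filter.mp hx).2
        exact hw g y
      have hss : Y' ⊂ Y := by
        refine Finset.filter_ssubset.mpr ⟨y, hy, ?_⟩
        simp [mem_orbit_self]
      have h1 : d ∣ ∑ x ∈ Y', w x := by
        apply ih Y' hss
        · intro g x hx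
          rw [hY', Finset.mem_filter] at hx ⊢
          refine ⟨hinv g x hx.1, ?_⟩
          rw [← orbit_eq_iff, orbit_smul, orbit_eq_iff]
          exact hx.2
        · intro x hx
          exact hd x (Finset.mem_filter.mp hx).1
      rw [← hsplit, hOsum]
      exact dvd_add (hd y hy) h1

/-- number of solutions of `z ^ k = 1` is unchanged modulo a central subgroup of order prime to `k`. -/
theorem card_pow_eq_one_quotient {H : Type*} [Group H] [Finite H] (N : Subgroup H) [N.Normal]
    (hN : N ≤ center H) (k : ℕ) (hk : (Nat.card N).Coprime k) :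
    Nat.card {w : H ⧸ N // w ^ k = 1} = Nat.card {z : H // z ^ k = 1} := by
  symm
  apply Nat.card_congr
  refine Equiv.ofBijective (fun z => ⟨(z.1 : H ⧸ N), by rw [← QuotientGroup.mk_pow, z.2]; rfl⟩) ⟨?_, ?_⟩
  · rintro ⟨z, hz⟩ ⟨z', hz'⟩ h
    have h1 : (z : H ⧸ N) = z' := congrArg Subtype.val h
    rw [QuotientGroup.eq] at h1
    set n := z⁻¹ * z' with hn
    have h2 : z' = z * n := by rw [hn]; group
    have hc : Commute z n := (mem_center_iff.mp (hN h1) z)
    have h3 : n ^ k = 1 := by
      have := hz'
      rw [h2, hc.mul_pow, hz, one_mul] at this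
      exact this
    have h4 : (⟨n, h1⟩ : N) = 1 := by
      apply (powCoprime hk).injective
      simp only [powCoprime_apply, one_pow]
      exact Subtype.ext h3
    have h5 : n = 1 := congrArg Subtype.val h4
    apply Subtype.ext
    show z = z'
    rw [h2, h5, mul_one]
  · rintro ⟨w, hw⟩
    obtain ⟨h, rfl⟩ := QuotientGroup.mk_surjective w
    have h1 : h ^ k ∈ N := by
      rw [← QuotientGroup.eq_one_iff, QuotientGroup.mk_pow]; exact hw
    obtain ⟨n, hn⟩ := (powCoprime hk).surjective ⟨(h ^ k)⁻¹, inv_mem h1⟩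
    have hn' : (n : H) ^ k = (h ^ k)⁻¹ := congrArg Subtype.val hn
    have hc : Commute h (n : H) := (mem_center_iff.mp (hN n.2) h)
    refine ⟨⟨h * n, by rw [hc.mul_pow, hn', mul_inv_cancel]⟩, ?_⟩
    apply Subtype.ext
    show ((h * n : H) : H ⧸ N) = h
    rw [QuotientGroup.mk_mul, (QuotientGroup.eq_one_iff (n : H)).mpr n.2, mul_one]

/-- the number of elements of order `d` is divisible by `φ(d)`. -/
theorem totient_dvd_card_orderOf {H : Type*} [Group H] [Fintype H] [DecidableEq H] (d : ℕ) :
    Nat.totient d ∣ (Finset.univ.filter (fun y : H => orderOf y = d)).card := by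
  classical
  rw [Finset.card_eq_sum_card_fiberwise (f := fun y : H => zpowers y) (t := Finset.univ)
    (fun _ _ => Finset.mem_coe.mpr (Finset.mem_univ _))]
  apply Finset.dvd_sum
  intro C _
  rcases Finset.eq_empty_or_nonempty
    ((Finset.univ.filter (fun y : H => orderOf y = d)).filter (fun y => zpowers y = C)) with h | ⟨y₀, hy₀⟩
  · rw [h]; simp
  · rw [Finset.mem_filter, Finset.mem_filter] at hy₀
    obtain ⟨⟨-, ho⟩, rfl⟩ := hy₀
    have hcard : Fintype.card (zpowers y₀) = d := by
      rw [← Nat.card_eq_fintype_card, Nat.card_zpowers, ho]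
    have h1 := IsCyclic.card_orderOf_eq_totient (α := zpowers y₀) (d := d) (by rw [hcard])
    rw [← h1]
    apply dvd_of_eq
    apply Finset.card_bij (fun (c : zpowers y₀) _ => (c : H))
    · intro c hc
      rw [Finset.mem_filter] at hc
      rw [Finset.mem_filter, Finset.mem_filter]
      have hoc : orderOf (c : H) = d := by rw [Subgroup.orderOf_coe]; exact hc.2
      refine ⟨⟨Finset.mem_univ _, hoc⟩, ?_⟩
      apply Subgroup.eq_of_le_of_card_ge
      · rw [zpowers_le]; exact c.2
      · rw [Nat.card_zpowers, Nat.card_zpowers, hoc, ho]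
    · intro a _ b _ hab
      exact Subtype.ext hab
    · intro y hy
      rw [Finset.mem_filter, Finset.mem_filter] at hy
      have hmem : y ∈ zpowers y₀ := hy.2 ▸ mem_zpowers y
      refine ⟨⟨y, hmem⟩, ?_, rfl⟩
      rw [Finset.mem_filter]
      refine ⟨Finset.mem_univ _, ?_⟩
      rw [← Subgroup.orderOf_coe]; exact hy.1.2


theorem pow_eq_of_modEq {G : Type*} [Group G] {x : G} {n a b : ℕ} (hx : x ^ n = 1) (h : a ≡ b [MOD n]) :
    x ^ a = x ^ b :=
  pow_eq_pow_iff_modEq.mpr (h.of_dvd (orderOf_dvd_of_pow_eq_one hx))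

variable {G : Type*} [Group G] [Fintype G] [DecidableEq G]

/-- the pairs (p-part, p'-part) -/
noncomputable def pairs (r k : ℕ) : Finset (G × G) :=
  Finset.univ.filter (fun t => orderOf t.1 = r ∧ t.2 ^ k = 1 ∧ t.1 * t.2 = t.2 * t.1)

/-- the elements with `x ^ (p^(a+1) k) = 1` but `x ^ (p^a k) ≠ 1`. -/
def dset (p a k : ℕ) : Finset G :=
  Finset.univ.filter (fun x => x ^ (p ^ (a + 1) * k) = 1 ∧ x ^ (p ^ a * k) ≠ 1)

theorem card_dset (p a k : ℕ) (hp : p.Prime) (hk : Nat.Coprime p k) :
    (dset p a k : Finset G).card = (pairs (p ^ (a + 1)) k : Finset (G × G)).card := by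
  haveI : Fact p.Prime := ⟨hp⟩
  set r := p ^ (a + 1) with hr
  have hrk : Nat.Coprime r k := Nat.Coprime.pow_left _ hk
  obtain ⟨e₁, he₁r, he₁k⟩ := Nat.chineseRemainder hrk 1 0
  obtain ⟨e₂, he₂r, he₂k⟩ := Nat.chineseRemainder hrk 0 1
  have hsum : e₁ + e₂ ≡ 1 [MOD r * k] := by
    rw [← Nat.modEq_and_modEq_iff_modEq_mul hrk]
    exact ⟨by simpa using he₁r.add he₂r, by simpa using he₁k.add he₂k⟩
  symm
  apply Finset.card_bij (fun (t : G × G) _ => t.1 * t.2)
  · rintro ⟨y, z⟩ ht
    simp only [pairs, Finset.mem_filter, Finset.mem_univ, true_and] at ht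
    obtain ⟨hy, hz, hc'⟩ := ht
    have hc : Commute y z := hc'
    simp only [dset, Finset.mem_filter, Finset.mem_univ, true_and]
    have hyr : y ^ r = 1 := by rw [← hy]; exact pow_orderOf_eq_one y
    constructor
    · rw [hc.mul_pow, pow_mul, hyr, one_pow, mul_comm r k, pow_mul, hz, one_pow, one_mul]
    · rw [hc.mul_pow, mul_comm (p ^ a) k, pow_mul z, hz, one_pow, mul_one]
      intro h
      have h1 := orderOf_dvd_of_pow_eq_one h
      rw [hy, hr, pow_succ, mul_comm k, Nat.mul_dvd_mul_iff_left (pow_pos hp.pos a)] at h1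
      exact hp.one_lt.ne' (Nat.Coprime.eq_one_of_dvd hk h1)
  · rintro ⟨y, z⟩ ht ⟨y', z'⟩ ht' h
    simp only [pairs, Finset.mem_filter, Finset.mem_univ, true_and] at ht ht'
    obtain ⟨hy, hz, hc⟩ := ht
    obtain ⟨hy', hz', hc'⟩ := ht'
    replace hc : Commute y z := hc
    replace hc' : Commute y' z' := hc'
    simp only at h
    have hyr : y ^ r = 1 := by rw [← hy]; exact pow_orderOf_eq_one y
    have hyr' : y' ^ r = 1 := by rw [← hy']; exact pow_orderOf_eq_one y'
    have key : ∀ (y z : G), y ^ r = 1 → z ^ k = 1 → Commute y z →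
        (y * z) ^ e₁ = y ∧ (y * z) ^ e₂ = z := by
      intro y z hy hz hc
      constructor
      · rw [hc.mul_pow, pow_eq_of_modEq hy he₁r, pow_eq_of_modEq hz he₁k, pow_one, pow_zero, mul_one]
      · rw [hc.mul_pow, pow_eq_of_modEq hy he₂r, pow_eq_of_modEq hz he₂k, pow_one, pow_zero, one_mul]
    have k1 := key y z hyr hz hc
    have k2 := key y' z' hyr' hz' hc'
    rw [h] at k1
    exact Prod.ext (k1.1.symm.trans k2.1) (k1.2.symm.trans k2.2)
  · intro x hx
    simp only [dset, Finset.mem_filter, Finset.mem_univ, true_and] at hx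
    obtain ⟨hx1, hx2⟩ := hx
    have hyz : x ^ e₁ * x ^ e₂ = x := by
      rw [← pow_add, pow_eq_of_modEq hx1 hsum, pow_one]
    have hc : Commute (x ^ e₁) (x ^ e₂) := (Commute.refl x).pow_pow _ _
    have hz : (x ^ e₂) ^ k = 1 := by
      rw [← pow_mul]
      obtain ⟨c, hc⟩ := (Nat.modEq_zero_iff_dvd.mp he₂r)
      rw [hc, mul_assoc, mul_comm c k, ← mul_assoc, pow_mul, hx1, one_pow]
    have hy1 : (x ^ e₁) ^ p ^ (a + 1) = 1 := by
      rw [← pow_mul]
      obtain ⟨c, hc⟩ := (Nat.modEq_zero_iff_dvd.mp he₁k)
      rw [hc, mul_comm (k * c), ← mul_assoc, pow_mul, ← hr, hx1, one_pow]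
    have hy2 : ¬ (x ^ e₁) ^ p ^ a = 1 := by
      intro h
      apply hx2
      rw [← hyz, hc.mul_pow, pow_mul, h, one_pow, mul_comm (p ^ a) k, pow_mul, hz, one_pow, one_mul]
    refine ⟨(x ^ e₁, x ^ e₂), ?_, hyz⟩
    simp only [pairs, Finset.mem_filter, Finset.mem_univ, true_and]
    exact ⟨orderOf_eq_prime_pow hy2 hy1, hz, hc.eq⟩

/-- counting pairs by the first coordinate -/
theorem card_pairs_fst (r k : ℕ) : (pairs r k : Finset (G × G)).card =
    ∑ y ∈ Finset.univ.filter (fun y : G => orderOf y = r),
      (Finset.univ.filter (fun z : G => z ^ k = 1 ∧ y * z = z * y)).card := by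
  rw [Finset.card_eq_sum_card_fiberwise (f := Prod.fst)
    (t := Finset.univ.filter (fun y : G => orderOf y = r))]
  · apply Finset.sum_congr rfl
    intro y hy
    rw [Finset.mem_filter] at hy
    symm
    apply Finset.card_bij (fun z _ => (y, z))
    · intro z hz
      simp only [pairs, Finset.mem_filter, Finset.mem_univ, true_and] at hz ⊢
      exact ⟨⟨hy.2, hz⟩, trivial⟩
    · intro a _ b _ h
      exact congrArg Prod.snd h
    · rintro ⟨y', z⟩ h
      simp only [pairs, Finset.mem_filter, Finset.mem_univ, true_and] at h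
      obtain ⟨⟨h1, h2, h3⟩, rfl⟩ := h
      exact ⟨z, by simp [h2, h3], rfl⟩
  · intro t ht
    simp only [pairs, Finset.coe_filter, Finset.mem_univ, true_and, Set.mem_ofPred_eq] at ht ⊢
    exact ht.1

/-- counting pairs by the second coordinate -/
theorem card_pairs_snd (r k : ℕ) : (pairs r k : Finset (G × G)).card =
    ∑ z ∈ Finset.univ.filter (fun z : G => z ^ k = 1),
      (Finset.univ.filter (fun y : G => orderOf y = r ∧ y * z = z * y)).card := by
  rw [Finset.card_eq_sum_card_fiberwise (f := Prod.snd)
    (t := Finset.univ.filter (fun z : G => z ^ k = 1))]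
  · apply Finset.sum_congr rfl
    intro z hz
    rw [Finset.mem_filter] at hz
    symm
    apply Finset.card_bij (fun y _ => (y, z))
    · intro y hy
      simp only [pairs, Finset.mem_filter, Finset.mem_univ, true_and] at hy ⊢
      exact ⟨⟨hy.1, hz.2, hy.2⟩, trivial⟩
    · intro a _ b _ h
      exact congrArg Prod.fst h
    · rintro ⟨y, z'⟩ h
      simp only [pairs, Finset.mem_filter, Finset.mem_univ, true_and] at h
      obtain ⟨⟨h1, h2, h3⟩, rfl⟩ := h
      exact ⟨y, by simp [h1, h3], rfl⟩
  · intro t ht
    simp only [pairs, Finset.coe_filter, Finset.mem_univ, true_and, Set.mem_ofPred_eq] at ht ⊢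
    exact ht.2.1


omit [Fintype G] [DecidableEq G] in
theorem card_sol_gcd [Finite G] (n : ℕ) :
    Nat.card {g : G // g ^ n = 1} = Nat.card {g : G // g ^ (Nat.gcd n (Nat.card G)) = 1} := by
  apply Nat.card_congr
  apply Equiv.subtypeEquivRight
  intro g
  rw [← orderOf_dvd_iff_pow_eq_one, ← orderOf_dvd_iff_pow_eq_one, Nat.dvd_gcd_iff]
  exact ⟨fun h => ⟨h, orderOf_dvd_natCard g⟩, fun h => h.1⟩

theorem card_sol_eq (n : ℕ) :
    Nat.card {g : G // g ^ n = 1} = (Finset.univ.filter (fun g : G => g ^ n = 1)).card := by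
  rw [Nat.card_eq_fintype_card, Fintype.card_subtype]

theorem card_sol_centralizer (y : G) (k : ℕ) :
    (Finset.univ.filter (fun z : G => z ^ k = 1 ∧ y * z = z * y)).card =
      Nat.card {z : centralizer {y} // z ^ k = 1} := by
  classical
  rw [Nat.card_eq_fintype_card, ← Finset.card_univ]
  symm
  apply Finset.card_bij (fun (z : {z : centralizer {y} // z ^ k = 1}) _ => (z.1.1 : G))
  · intro z _
    rw [Finset.mem_filter]
    exact ⟨Finset.mem_univ _, congrArg Subtype.val z.2, (mem_centralizer_singleton_iff.mp z.1.2).symm⟩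
  · intro a _ b _ h
    exact Subtype.ext (Subtype.ext h)
  · intro z hz
    rw [Finset.mem_filter] at hz
    exact ⟨⟨⟨z, mem_centralizer_singleton_iff.mpr hz.2.2.symm⟩, Subtype.ext hz.2.1⟩, Finset.mem_univ _, rfl⟩

theorem totient_dvd_card_order_centralizer (z : G) (r : ℕ) :
    Nat.totient r ∣ (Finset.univ.filter (fun y : G => orderOf y = r ∧ y * z = z * y)).card := by
  classical
  have h1 := totient_dvd_card_orderOf (H := centralizer {z}) r
  have h2 : (Finset.univ.filter (fun y : centralizer {z} => orderOf y = r)).card =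
      (Finset.univ.filter (fun y : G => orderOf y = r ∧ y * z = z * y)).card := by
    apply Finset.card_bij (fun (y : centralizer {z}) _ => (y : G))
    · intro y hy
      rw [Finset.mem_filter] at hy ⊢
      refine ⟨Finset.mem_univ _, ?_, (mem_centralizer_singleton_iff.mp y.2)⟩
      rw [Subgroup.orderOf_coe]; exact hy.2
    · intro a _ b _ h
      exact Subtype.ext h
    · intro y hy
      rw [Finset.mem_filter] at hy
      refine ⟨⟨y, mem_centralizer_singleton_iff.mpr hy.2.2⟩, ?_, rfl⟩
      rw [Finset.mem_filter]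
      refine ⟨Finset.mem_univ _, ?_⟩
      rw [← Subgroup.orderOf_coe]; exact hy.2.1
  rw [← h2]; exact h1

universe u

theorem frobenius_aux : ∀ (N : ℕ) (G : Type u) [Group G] [Finite G], Nat.card G = N →
    ∀ m, m ∣ N → m ∣ Nat.card {g : G // g ^ m = 1} := by
  intro N
  induction N using Nat.strong_induction_on with
  | _ N IH =>
  intro G _ _ hN
  classical
  have := Fintype.ofFinite G
  have hNpos : 0 < N := hN ▸ Nat.card_pos
  suffices H : ∀ q m, m * q = N → m ∣ Nat.card {g : G // g ^ m = 1} by
    rintro m ⟨q, hq⟩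
    exact H q m hq.symm
  intro q
  induction q using Nat.strong_induction_on with
  | _ q IHq =>
  intro m hmq
  have hmpos : 0 < m := Nat.pos_of_ne_zero (by rintro rfl; simp at hmq; omega)
  have hqpos : 0 < q := Nat.pos_of_ne_zero (by rintro rfl; simp at hmq; omega)
  by_cases hq1 : q = 1
  · subst hq1
    rw [mul_one] at hmq
    have h0 : Nat.card {g : G // g ^ m = 1} = Nat.card G :=
      Nat.card_congr (Equiv.subtypeUnivEquiv (fun g => by rw [hmq, ← hN]; exact pow_card_eq_one'))
    rw [h0, hN, hmq]
  -- choose a prime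
  set p := q.minFac with hpdef
  have hp : p.Prime := Nat.minFac_prime hq1
  obtain ⟨q', hq'⟩ := Nat.minFac_dvd q
  rw [← hpdef] at hq'
  have hq'lt : q' < q := by
    have h2 := hp.two_le
    have : 0 < q' := Nat.pos_of_ne_zero (by rintro rfl; omega)
    rw [hq']; nlinarith
  have h1 := IHq q' hq'lt (m * p) (by rw [← hmq, hq']; ring)
  set a := m.factorization p with ha
  set k := m / p ^ a with hk
  have hmk : p ^ a * k = m := Nat.ordProj_mul_ordCompl_eq_self m p
  have hcop : Nat.Coprime p k := Nat.coprime_ordCompl hp hmpos.ne'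
  have hmp : m * p = p ^ (a + 1) * k := by rw [← hmk]; ring
  have hkN : k ∣ N := ⟨p ^ a * q, by rw [← hmq, ← hmk]; ring⟩
  -- splitting
  have hsplit : Nat.card {g : G // g ^ (m * p) = 1} =
      Nat.card {g : G // g ^ m = 1} + (dset p a k : Finset G).card := by
    rw [card_sol_eq, card_sol_eq, ← Finset.card_filter_add_card_filter_not
      (s := Finset.univ.filter (fun g : G => g ^ (m * p) = 1)) (fun g => g ^ m = 1)]
    congr 1
    · congr 1
      ext g
      simp only [Finset.mem_filter, Finset.mem_univ, true_and]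
      constructor
      · exact fun h => h.2
      · intro h
        exact ⟨by rw [pow_mul, h, one_pow], h⟩
    · congr 1
      ext g
      simp only [dset, Finset.mem_filter, Finset.mem_univ, true_and, hmp, hmk, ne_eq]
  have hD1 : p ^ a ∣ (dset p a k : Finset G).card := by
    rw [card_dset p a k hp hcop, card_pairs_snd]
    apply Finset.dvd_sum
    intro z _
    refine dvd_trans ?_ (totient_dvd_card_order_centralizer z (p ^ (a + 1)))
    rw [Nat.totient_prime_pow_succ hp]
    exact Dvd.intro _ rfl
  have hD2 : k ∣ (dset p a k : Finset G).card := by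
    rw [card_dset p a k hp hcop, card_pairs_fst]
    apply dvd_sum_of_invariant (K := ConjAct G)
    · intro g y
      apply Finset.card_bij (fun z _ => (ConjAct.ofConjAct g)⁻¹ * z * (ConjAct.ofConjAct g))
      · intro z hz
        rw [Finset.mem_filter] at hz ⊢
        rw [ConjAct.smul_def] at hz
        refine ⟨Finset.mem_univ _, ?_, ?_⟩
        · have := conj_pow (a := (ConjAct.ofConjAct g)⁻¹) (b := z) (i := k)
          rw [inv_inv] at this
          rw [this, hz.2.1]; group
        · have h3 := hz.2.2
          set c := ConjAct.ofConjAct g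
          calc y * (c⁻¹ * z * c) = c⁻¹ * ((c * y * c⁻¹) * z) * c := by group
            _ = c⁻¹ * (z * (c * y * c⁻¹)) * c := by rw [h3]
            _ = c⁻¹ * z * c * y := by group
      · intro z _ z' _ h
        exact mul_left_cancel (mul_right_cancel h)
      · intro z hz
        rw [Finset.mem_filter] at hz
        set c := ConjAct.ofConjAct g with hc
        refine ⟨c * z * c⁻¹, ?_, by group⟩
        rw [Finset.mem_filter, ConjAct.smul_def, ← hc]
        refine ⟨Finset.mem_univ _, ?_, ?_⟩
        · rw [conj_pow, hz.2.1]; group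
        · calc c * y * c⁻¹ * (c * z * c⁻¹) = c * (y * z) * c⁻¹ := by group
            _ = c * (z * y) * c⁻¹ := by rw [hz.2.2]
            _ = c * z * c⁻¹ * (c * y * c⁻¹) := by group
    · intro g y hy
      rw [Finset.mem_filter] at hy ⊢
      refine ⟨Finset.mem_univ _, ?_⟩
      rw [ConjAct.smul_def]
      have := (MulAut.conj (ConjAct.ofConjAct g)).orderOf_eq y
      rw [MulAut.conj_apply] at this
      rw [this]; exact hy.2
    · intro y hy
      rw [Finset.mem_filter] at hy
      have hy := hy.2
      rw [card_sol_centralizer]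
      set H := centralizer {y} with hH
      let y' : H := ⟨y, mem_centralizer_singleton_iff.mpr rfl⟩
      have hcen : zpowers y' ≤ center H := by
        rw [zpowers_le, mem_center_iff]
        intro g
        exact Subtype.ext (mem_centralizer_singleton_iff.mp g.2)
      haveI : (zpowers y').Normal := by
        constructor
        intro n hn g
        rw [mem_center_iff.mp (hcen hn) g, mul_inv_cancel_right]
        exact hn
      have hcardN : Nat.card (zpowers y') = p ^ (a + 1) := by
        rw [Nat.card_zpowers, ← Subgroup.orderOf_coe]; exact hy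
      have hcopN : (Nat.card (zpowers y')).Coprime k := by
        rw [hcardN]; exact Nat.Coprime.pow_left _ hcop
      rw [← card_pow_eq_one_quotient (zpowers y') hcen k hcopN, card_sol_gcd]
      set c := Nat.card (H ⧸ zpowers y') with hc
      have hHc : Nat.card H = c * p ^ (a + 1) := by
        rw [Subgroup.card_eq_card_quotient_mul_card_subgroup (zpowers y'), hcardN]
      have hidx : (stabilizer (ConjAct G) y).index * (c * p ^ (a + 1)) = N := by
        rw [← hHc, hH, Subgroup.nat_card_centralizer_nat_card_stabilizer, mul_comm,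
          Subgroup.card_mul_index, ← hN]
        exact Nat.card_congr ConjAct.ofConjAct.toEquiv
      have hcpos : 0 < c := Nat.card_pos
      have hclt : c < N := by
        have h2 : 2 ≤ p ^ (a + 1) := by
          calc 2 ≤ p := hp.two_le
            _ = p ^ 1 := (pow_one p).symm
            _ ≤ p ^ (a + 1) := Nat.pow_le_pow_right hp.pos (by omega)
        have hipos : 0 < (stabilizer (ConjAct G) y).index := by
          rcases Nat.eq_zero_or_pos (stabilizer (ConjAct G) y).index with h | h
          · rw [h, zero_mul] at hidx; omega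
          · exact h
        calc c < c * 2 := by omega
          _ ≤ c * p ^ (a + 1) := Nat.mul_le_mul_left c h2
          _ ≤ (stabilizer (ConjAct G) y).index * (c * p ^ (a + 1)) := Nat.le_mul_of_pos_left _ hipos
          _ = N := hidx
      have h3 := IH c hclt (H ⧸ zpowers y') rfl (Nat.gcd k c) (Nat.gcd_dvd_right k c)
      have h4 : k ∣ (stabilizer (ConjAct G) y).index * c := by
        have : k ∣ ((stabilizer (ConjAct G) y).index * c) * p ^ (a + 1) := by
          rw [mul_assoc, hidx]; exact hkN
        exact Nat.Coprime.dvd_of_dvd_mul_right (Nat.Coprime.pow_right _ hcop.symm) this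
      have h5 : k ∣ (stabilizer (ConjAct G) y).index * Nat.gcd k c := dvd_mul_gcd_of_dvd_mul h4
      exact h5.trans (Nat.mul_dvd_mul_left _ h3)
  have hD : m ∣ (dset p a k : Finset G).card := by
    rw [← hmk]
    exact Nat.Coprime.mul_dvd_of_dvd_of_dvd (Nat.Coprime.pow_left _ hcop) hD1 hD2
  have h2 : m ∣ Nat.card {g : G // g ^ (m * p) = 1} := (Dvd.intro _ rfl).trans h1
  rw [hsplit] at h2
  exact (Nat.dvd_add_left hD).mp h2

/-- Frobenius' divisibility Theorem: if m divides the order of a finite group G, then m divides the number of elements g of G with g^m = 1. -/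
theorem result {G : Type*} [Group G] [Finite G] (m : ℕ) (hm : m ∣ Nat.card G) :
    m ∣ Nat.card {g : G // g ^ m = 1} := by
  exact frobenius_aux (Nat.card G) G rfl m hm

end Cfsg.Agent.S3993
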