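import Cfsg.Statements.S2910
import Cfsg.Agent.S0071
import Cfsg.Agent.Lib.Helper24.PGroup

set_option autoImplicit false
open Cfsg

namespace Cfsg.Agent.S2910

/-- Let p be an odd prime dividing the order of the finite group G and P a Sylow p-subgroup of G. If Ω₁(P) (generated by the elements of order dividing p) is contained in the centre of G, then G has a normal p-complement. In particular, if G is quasisimple then Ω₁(P) is not central in G. -/
theorem result {G : Type*} [Group G] [Finite G] {p : ℕ} [Fact p.Prime] (hp : p ≠ 2) (hdiv : p ∣ Nat.card G) (P : Sylow p G) (hZ : Cfsg.omegaOne p (P : Subgroup G) ≤ Subgroup.center G) : Cfsg.HasNormalPComplement p G ∧ ¬ Cfsg.IsQuasisimple G := by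
  classical
  have hex : ∃ N : Subgroup G, N.Normal ∧ N.IsComplement' (P : Subgroup G) := by
    rw [Cfsg.Agent.S0071.result P]
    intro Q hQP g hg hcop
    have key := Lib.Helper24.le_centralizer_of_centralizes_omega p hp (Subgroup.zpowers g)
      (by rw [Nat.card_zpowers]; exact hcop) Q (P.2.to_le hQP)
      (by rw [Subgroup.zpowers_le]; exact hg)
      (by
        intro x hx hxp
        have h1 : x ∈ Cfsg.omegaOne p (P : Subgroup G) := Subgroup.subset_closure ⟨hQP hx, hxp⟩
        have h2 := hZ h1
        rw [Subgroup.mem_centralizer_iff]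
        intro a _
        exact (Subgroup.mem_center_iff.mp h2 a))
    rw [Subgroup.mem_centralizer_iff]
    intro q hq
    exact (Subgroup.mem_centralizer_iff.mp (key hq) g (Subgroup.mem_zpowers g)).symm
  obtain ⟨N, hN, hc⟩ := hex
  refine ⟨⟨P, N, hN, hc⟩, ?_⟩
  rintro ⟨hperf, -⟩
  -- G ⧸ N is a nontrivial p-group
  have hcard : Nat.card (G ⧸ N) = Nat.card (P : Subgroup G) := by
    rw [← Subgroup.index_eq_card]
    exact hc.symm.index_eq_card
  obtain ⟨n, hn⟩ := IsPGroup.iff_card.mp P.2
  have hq : IsPGroup p (G ⧸ N) := IsPGroup.of_card (n := n) (by rw [hcard, hn])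
  have hnil : Group.IsNilpotent (G ⧸ N) := hq.isNilpotent
  have hnt : Nontrivial (G ⧸ N) := by
    rw [← Finite.one_lt_card_iff_nontrivial, hcard]
    have h1 := P.card_eq_multiplicity
    rw [h1]
    apply Nat.one_lt_pow _ (Fact.out : p.Prime).one_lt
    intro h0
    rcases (Nat.factorization_eq_zero_iff _ _).mp h0 with h | h | h
    · exact h Fact.out
    · exact h hdiv
    · exact Nat.card_pos.ne' h
  exact Group.IsPerfect.not_isNilpotent (G := G ⧸ N) hnil

end Cfsg.Agent.S2910
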