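import Cfsg.Statements.S3971
import Cfsg.Agent.S0071

set_option autoImplicit false
open Cfsg

namespace Cfsg.Agent.S3971

open Subgroup in
theorem cent_of_cyclic {G : Type*} [Group G] [Finite G] (D : Subgroup G) (hD : IsPGroup 2 D)
    (hc : IsCyclic D) (g : G) (hg : g ∈ normalizer (D : Set G)) (hodd : Odd (orderOf g)) :
    g ∈ centralizer (D : Set G) := by
  set g' : normalizer (D : Set G) := ⟨g, hg⟩ with hg'
  set φ := D.normalizerMonoidHom g' with hφ
  have h1 : orderOf φ ∣ orderOf g := by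
    have := orderOf_map_dvd D.normalizerMonoidHom g'
    rwa [Subgroup.orderOf_mk] at this
  have h2 : orderOf φ ∣ Nat.card (MulAut D) := orderOf_dvd_natCard φ
  obtain ⟨k, hk⟩ := hD.exists_card_eq
  have h3 : ∃ j : ℕ, Nat.card (MulAut D) = 2 ^ j := by
    rw [hc.card_mulAut, hk]
    rcases Nat.eq_zero_or_pos k with h0 | h0
    · exact ⟨0, by rw [h0]; simp⟩
    · exact ⟨k - 1, by rw [Nat.totient_prime_pow Nat.prime_two h0]; simp⟩
  obtain ⟨j, hj⟩ := h3
  rw [hj] at h2
  have hoddφ : Odd (orderOf φ) := Odd.of_dvd_nat hodd h1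
  have h4 : orderOf φ = 1 := by
    have hcop : Nat.Coprime (orderOf φ) (2 ^ j) :=
      Nat.Coprime.pow_right j (Nat.coprime_two_right.2 hoddφ)
    exact Nat.Coprime.eq_one_of_dvd hcop h2
  rw [orderOf_eq_one_iff] at h4
  have h5 : g' ∈ D.normalizerMonoidHom.ker := h4
  rw [normalizerMonoidHom_ker] at h5
  exact Subgroup.mem_subgroupOf.1 h5

theorem idx_two {G : Type*} [Group G] (Q D : Subgroup G) (hidx : D.relIndex Q = 2) {a b : G}
    (ha : a ∈ Q) (hb : b ∈ Q) : a * b ∈ D ↔ (a ∈ D ↔ b ∈ D) := by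
  have := Subgroup.mul_mem_iff_of_index_two (H := D.subgroupOf Q) hidx (a := ⟨a, ha⟩) (b := ⟨b, hb⟩)
  simpa [Subgroup.mem_subgroupOf] using this

open Subgroup in
theorem cent_of_index_two {G : Type*} [Group G] [Finite G] (Q D : Subgroup G) (hQ : IsPGroup 2 Q)
    (hidx : D.relIndex Q = 2) (g : G) (hgQ : g ∈ normalizer (Q : Set G))
    (hgD : g ∈ centralizer (D : Set G)) (hodd : Odd (orderOf g)) : g ∈ centralizer (Q : Set G) := by
  rw [mem_centralizer_iff] at hgD ⊢
  intro z hz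
  by_cases hzD : z ∈ D
  · exact hgD z hzD
  have hz' : z ∈ Q := hz
  have hconj : g * z * g⁻¹ ∈ Q := (mem_normalizer_iff.1 hgQ z).1 hz'
  have hconjD : g * z * g⁻¹ ∉ D := by
    intro h
    apply hzD
    have h1 := hgD _ h
    have h2 : z = g * z * g⁻¹ := by
      have e : g * z * g⁻¹ * g = g * z := by group
      rw [e] at h1
      exact mul_left_cancel h1
    rw [h2]; exact h
  set c := z⁻¹ * (g * z * g⁻¹) with hc
  have hcD : c ∈ D := by
    rw [hc, idx_two Q D hidx (Q.inv_mem hz') hconj]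
    constructor
    · intro h; exact absurd (by simpa using D.inv_mem h) hzD
    · intro h; exact absurd h hconjD
  have hgc : c * g = g * c := hgD c hcD
  have hpow : ∀ i : ℕ, g ^ i * z * (g ^ i)⁻¹ = z * c ^ i := by
    intro i
    induction i with
    | zero => simp
    | succ i ih =>
      have e1 : g ^ (i + 1) * z * (g ^ (i + 1))⁻¹ = g * (g ^ i * z * (g ^ i)⁻¹) * g⁻¹ := by
        rw [pow_succ']; group
      have e2 : g * c ^ i * g⁻¹ = c ^ i := by
        have : Commute g (c ^ i) := (show Commute g c from hgc.symm).pow_right i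
        rw [this.eq]; group
      rw [e1, ih]
      have e3 : g * (z * c ^ i) * g⁻¹ = (g * z * g⁻¹) * (g * c ^ i * g⁻¹) := by group
      rw [e3, e2, pow_succ']
      have : g * z * g⁻¹ = z * c := by rw [hc]; group
      rw [this, mul_assoc]
  have h1 := hpow (orderOf g)
  rw [pow_orderOf_eq_one] at h1
  have h2 : c ^ orderOf g = 1 := by
    have : z * 1 = z * c ^ orderOf g := by simpa using h1
    exact (mul_left_cancel this).symm
  have hcQ : c ∈ Q := Q.mul_mem (Q.inv_mem hz') hconj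
  obtain ⟨j, hj⟩ := hQ ⟨c, hcQ⟩
  have hj' : c ^ 2 ^ j = 1 := by
    have := congrArg Subtype.val hj
    simpa using this
  have h3 : orderOf c ∣ Nat.gcd (orderOf g) (2 ^ j) :=
    Nat.dvd_gcd (orderOf_dvd_of_pow_eq_one h2) (orderOf_dvd_of_pow_eq_one hj')
  have hcop : Nat.Coprime (orderOf g) (2 ^ j) :=
    Nat.Coprime.pow_right j (Nat.coprime_two_right.2 hodd)
  rw [hcop, Nat.dvd_one, orderOf_eq_one_iff] at h3
  have h4 : g * z * g⁻¹ = z := by
    have : g * z * g⁻¹ = z * c := by rw [hc]; group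
    rw [this, h3, mul_one]
  have : z * g = (g * z * g⁻¹) * g := by rw [h4]
  rw [this]; group

open Subgroup in
theorem norm_of_sub {G : Type*} [Group G] [Finite G] (D : Subgroup G) (w : G)
    (h : ∀ d ∈ D, w⁻¹ * d * w ∈ D) : w ∈ normalizer (D : Set G) := by
  have hi : ∀ (i : ℕ), ∀ d ∈ D, (w ^ i)⁻¹ * d * w ^ i ∈ D := by
    intro i
    induction i with
    | zero => intro d hd; simpa using hd
    | succ i ih =>
      intro d hd
      have e : (w ^ (i + 1))⁻¹ * d * w ^ (i + 1) = w⁻¹ * ((w ^ i)⁻¹ * d * w ^ i) * w := by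
        rw [pow_succ]; group
      rw [e]
      exact h _ (ih d hd)
  have hw : ∀ d ∈ D, w * d * w⁻¹ ∈ D := by
    intro d hd
    have hpos : 0 < orderOf w := orderOf_pos w
    have e1 : w ^ (orderOf w - 1) = w⁻¹ := by
      have : w ^ (orderOf w - 1) * w = 1 := by
        rw [← pow_succ, Nat.sub_add_cancel hpos, pow_orderOf_eq_one]
      exact eq_inv_of_mul_eq_one_left this
    have := hi (orderOf w - 1) d hd
    rw [e1, inv_inv] at this
    exact this
  rw [mem_normalizer_iff]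
  intro d
  constructor
  · exact hw d
  · intro hd
    have := h _ hd
    have e : w⁻¹ * (w * d * w⁻¹) * w = d := by group
    rwa [e] at this

open Subgroup in
theorem normalizes {G : Type*} [Group G] [Finite G] (Q : Subgroup G) (y : G)
    (hidx : (zpowers y).relIndex Q = 2) (hyQ : y ∈ Q) (g : G) (hgQ : g ∈ normalizer (Q : Set G))
    (hodd : Odd (orderOf g)) (h3 : ¬ 3 ∣ orderOf g) : g ∈ normalizer ((zpowers y : Subgroup G) : Set G) := by
  classical
  set D := zpowers y with hD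
  have hDQ : D ≤ Q := by rw [hD, zpowers_le]; exact hyQ
  -- an element outside `D`
  obtain ⟨z, hzQ, hzD⟩ : ∃ z ∈ Q, z ∉ D := by
    by_contra hcon
    push Not at hcon
    have : D.relIndex Q = 1 := relIndex_eq_one.2 hcon
    omega
  have hQi : ∀ (i : ℕ) (a : G), a ∈ Q → (g ^ i)⁻¹ * a * g ^ i ∈ Q := by
    intro i a ha
    have h1 : (g ^ i)⁻¹ ∈ normalizer (Q : Set G) := inv_mem (pow_mem hgQ i)
    have := (mem_normalizer_iff.1 h1 a).1 ha
    simpa using this
  have hQi' : ∀ (i : ℕ) (a : G), a ∈ Q → g ^ i * a * (g ^ i)⁻¹ ∈ Q := by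
    intro i a ha
    have h1 : (g ^ i) ∈ normalizer (Q : Set G) := pow_mem hgQ i
    exact (mem_normalizer_iff.1 h1 a).1 ha
  let χ : ℕ → G → Prop := fun i a => (g ^ i)⁻¹ * a * g ^ i ∈ D
  have hmul : ∀ i a b, a ∈ Q → b ∈ Q → (χ i (a * b) ↔ (χ i a ↔ χ i b)) := by
    intro i a b ha hb
    have e : (g ^ i)⁻¹ * (a * b) * g ^ i = ((g ^ i)⁻¹ * a * g ^ i) * ((g ^ i)⁻¹ * b * g ^ i) := by
      group
    show (g ^ i)⁻¹ * (a * b) * g ^ i ∈ D ↔ _
    rw [e]
    exact idx_two Q D hidx (hQi i a ha) (hQi i b hb)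
  have hinv : ∀ i a, χ i a⁻¹ ↔ χ i a := by
    intro i a
    have e : (g ^ i)⁻¹ * a⁻¹ * g ^ i = ((g ^ i)⁻¹ * a * g ^ i)⁻¹ := by group
    show (g ^ i)⁻¹ * a⁻¹ * g ^ i ∈ D ↔ _
    rw [e, inv_mem_iff]
  have hone : ∀ i, χ i 1 := by
    intro i
    show (g ^ i)⁻¹ * 1 * g ^ i ∈ D
    simp
  -- every element of `Q` lies in a subgroup containing `y` and `z`
  have hgen : ∀ S : Subgroup G, y ∈ S → z ∈ S → Q ≤ S := by
    intro S hy hz a ha
    have hDS : D ≤ S := by rw [hD, zpowers_le]; exact hy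
    by_cases haD : a ∈ D
    · exact hDS haD
    · have : z⁻¹ * a ∈ D := by
        rw [idx_two Q D hidx (Q.inv_mem hzQ) ha]
        constructor
        · intro h; exact absurd (by simpa using D.inv_mem h) hzD
        · intro h; exact absurd h haD
      have e : a = z * (z⁻¹ * a) := by group
      rw [e]
      exact S.mul_mem hz (hDS this)
  have hnot : ∀ i, ¬ (χ i y ∧ χ i z) := by
    rintro i ⟨h1, h2⟩
    let S : Subgroup G :=
      { carrier := {a | a ∈ Q ∧ χ i a}
        one_mem' := ⟨Q.one_mem, hone i⟩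
        mul_mem' := by
          rintro a b ⟨ha, ha'⟩ ⟨hb, hb'⟩
          exact ⟨Q.mul_mem ha hb, (hmul i a b ha hb).2 ⟨fun _ => hb', fun _ => ha'⟩⟩
        inv_mem' := by
          rintro a ⟨ha, ha'⟩
          exact ⟨Q.inv_mem ha, (hinv i a).2 ha'⟩ }
    have hS := hgen S ⟨hyQ, h1⟩ ⟨hzQ, h2⟩
    have := (hS (hQi' i z hzQ)).2
    apply hzD
    have e : (g ^ i)⁻¹ * (g ^ i * z * (g ^ i)⁻¹) * g ^ i = z := by group
    have h4 : (g ^ i)⁻¹ * (g ^ i * z * (g ^ i)⁻¹) * g ^ i ∈ D := this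
    rwa [e] at h4
  have hdet : ∀ i j, (χ i y ↔ χ j y) → (χ i z ↔ χ j z) → ∀ a ∈ Q, (χ i a ↔ χ j a) := by
    intro i j h1 h2
    let S : Subgroup G :=
      { carrier := {a | a ∈ Q ∧ (χ i a ↔ χ j a)}
        one_mem' := ⟨Q.one_mem, ⟨fun _ => hone j, fun _ => hone i⟩⟩
        mul_mem' := by
          rintro a b ⟨ha, ha'⟩ ⟨hb, hb'⟩
          refine ⟨Q.mul_mem ha hb, ?_⟩
          rw [hmul i a b ha hb, hmul j a b ha hb, ha', hb']
        inv_mem' := by
          rintro a ⟨ha, ha'⟩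
          refine ⟨Q.inv_mem ha, ?_⟩
          rw [hinv, hinv, ha'] }
    have hS := hgen S ⟨hyQ, h1⟩ ⟨hzQ, h2⟩
    intro a ha
    exact (hS ha).2
  -- pigeonhole
  let f : Fin 4 → {p : Bool × Bool // p ≠ (true, true)} := fun i =>
    ⟨(decide (χ i y), decide (χ i z)), by
      intro h
      have h1 := congrArg Prod.fst h
      have h2 := congrArg Prod.snd h
      simp only [decide_eq_true_eq] at h1 h2
      exact hnot i ⟨h1, h2⟩⟩
  have hcard : Fintype.card {p : Bool × Bool // p ≠ (true, true)} < Fintype.card (Fin 4) := by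
    decide
  obtain ⟨i, j, hij, hf⟩ := Fintype.exists_ne_map_eq_of_card_lt f hcard
  have key : ∀ i j : Fin 4, (i : ℕ) < j → f i = f j → g ∈ normalizer (D : Set G) := by
    intro i j hlt hf
    have h0 := congrArg Subtype.val hf
    have h1 : (χ i y ↔ χ j y) := by
      have := congrArg Prod.fst h0
      simpa [f] using this
    have h2 : (χ i z ↔ χ j z) := by
      have := congrArg Prod.snd h0
      simpa [f] using this
    have hd := hdet i j h1 h2
    set k : ℕ := (j : ℕ) - i with hk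
    have hk1 : 1 ≤ k := by omega
    have hk3 : k ≤ 3 := by have := j.2; omega
    have hji : (j : ℕ) = i + k := by omega
    -- `g ^ k` normalizes `D`
    have hsub : ∀ d ∈ D, (g ^ k)⁻¹ * d * g ^ k ∈ D := by
      intro d hd'
      have ha : g ^ (i : ℕ) * d * (g ^ (i : ℕ))⁻¹ ∈ Q := hQi' i d (hDQ hd')
      have h3 : χ i (g ^ (i : ℕ) * d * (g ^ (i : ℕ))⁻¹) := by
        show (g ^ (i : ℕ))⁻¹ * (g ^ (i : ℕ) * d * (g ^ (i : ℕ))⁻¹) * g ^ (i : ℕ) ∈ D
        have e : (g ^ (i : ℕ))⁻¹ * (g ^ (i : ℕ) * d * (g ^ (i : ℕ))⁻¹) * g ^ (i : ℕ) = d := by group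
        rw [e]; exact hd'
      have h4 : (g ^ (j : ℕ))⁻¹ * (g ^ (i : ℕ) * d * (g ^ (i : ℕ))⁻¹) * g ^ (j : ℕ) ∈ D :=
        (hd _ ha).1 h3
      have e : (g ^ (j : ℕ))⁻¹ * (g ^ (i : ℕ) * d * (g ^ (i : ℕ))⁻¹) * g ^ (j : ℕ)
          = (g ^ k)⁻¹ * d * g ^ k := by
        rw [hji, pow_add]; group
      rwa [e] at h4
    have hnk' : g ^ k ∈ normalizer (D : Set G) := norm_of_sub D (g ^ k) hsub
    have hcop : Nat.Coprime k (orderOf g) := by
      have h2 : ¬ 2 ∣ orderOf g := by
        rw [← even_iff_two_dvd, Nat.not_even_iff_odd]; exact hodd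
      interval_cases k
      · exact Nat.coprime_one_left _
      · exact (Nat.Prime.coprime_iff_not_dvd Nat.prime_two).2 h2
      · exact (Nat.Prime.coprime_iff_not_dvd Nat.prime_three).2 h3
    obtain ⟨m, hm⟩ := exists_pow_eq_self_of_coprime hcop
    rw [← hm]
    exact pow_mem hnk' m
  rcases lt_or_gt_of_ne (fun h => hij (Fin.ext h) : (i : ℕ) ≠ j) with h | h
  · exact key i j h hf
  · exact key j i h hf.symm

/-- Let `G` be a finite group of order `2 ^ a * n` with `n` odd and not divisible by `3`, and suppose `G` has an element of order `2 ^ (a - 1)` (so a Sylow `2`-subgroup has a cyclic subgroup of index at most `2`). Then `G` has a normal subgroup of order `n`. -/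
theorem result {G : Type*} [Group G] [Finite G] (a n : ℕ) (hG : Nat.card G = 2 ^ a * n) (hn : Odd n) (h3 : ¬ 3 ∣ n) (hx : ∃ x : G, orderOf x = 2 ^ (a - 1)) : ∃ N : Subgroup G, N.Normal ∧ Nat.card N = n := by
  classical
  obtain ⟨x, hx⟩ := hx
  have : Fact (Nat.Prime 2) := ⟨Nat.prime_two⟩
  have hC : IsPGroup 2 (Subgroup.zpowers x) := IsPGroup.of_card (n := a - 1) (by rw [Nat.card_zpowers, hx])
  obtain ⟨P, hP⟩ := hC.exists_le_sylow
  have h2n : ¬ 2 ∣ n := by
    rw [← even_iff_two_dvd, Nat.not_even_iff_odd]; exact hn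
  have hn0 : n ≠ 0 := by rintro rfl; simp at h2n
  have hPcard : Nat.card P = 2 ^ a := by
    rw [Sylow.card_eq_multiplicity, hG, Nat.factorization_mul (by positivity) hn0]
    simp [Nat.factorization_eq_zero_of_not_dvd h2n, Nat.Prime.factorization_pow Nat.prime_two]
  have h3G : ¬ 3 ∣ Nat.card G := by
    rw [hG]
    intro h
    rcases (Nat.Prime.dvd_mul Nat.prime_three).1 h with h | h
    · have := Nat.Prime.dvd_of_dvd_pow Nat.prime_three h
      omega
    · exact h3 h
  have main : ∀ Q : Subgroup G, Q ≤ (P : Subgroup G) → ∀ g ∈ Subgroup.normalizer (Q : Set G),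
      Nat.Coprime (orderOf g) 2 → g ∈ Subgroup.centralizer (Q : Set G) := by
    intro Q hQP g hg hcop
    have hodd : Odd (orderOf g) := Nat.coprime_two_right.1 hcop
    have h3g : ¬ 3 ∣ orderOf g := fun h => h3G (h.trans (orderOf_dvd_natCard g))
    have hQ2 : IsPGroup 2 Q := P.2.to_le hQP
    set D := Subgroup.zpowers x ⊓ Q with hD
    have hDc : IsCyclic D := Subgroup.isCyclic_of_le (inf_le_left : D ≤ Subgroup.zpowers x)
    obtain ⟨y, hy⟩ := (Subgroup.isCyclic_iff_exists_zpowers_eq_top D).1 hDc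
    have hrP : (Subgroup.zpowers x).relIndex P ≤ 2 ∧ (Subgroup.zpowers x).relIndex P ≠ 0 := by
      have h1 := Subgroup.relIndex_mul_relIndex (⊥ : Subgroup G) _ _ bot_le hP
      rw [Subgroup.relIndex_bot_left, Subgroup.relIndex_bot_left, Nat.card_zpowers, hx, hPcard] at h1
      rcases Nat.eq_zero_or_pos a with h0 | h0
      · subst h0
        have h1' : (Subgroup.zpowers x).relIndex P = 1 := by simpa using h1
        omega
      · have e : 2 ^ a = 2 ^ (a - 1) * 2 := by
          rw [← pow_succ, Nat.sub_add_cancel h0]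
        rw [e] at h1
        have := Nat.eq_of_mul_eq_mul_left (by positivity) h1
        omega
    have hidx : D.relIndex Q ≤ 2 := by
      rw [hD, Subgroup.inf_relIndex_right]
      exact (Subgroup.relIndex_le_of_le_right hQP hrP.2).trans hrP.1
    have hidx0 : D.relIndex Q ≠ 0 := by
      rw [hD, Subgroup.inf_relIndex_right]
      intro h0
      exact hrP.2 (Subgroup.relIndex_eq_zero_of_le_right hQP h0)
    have hDQ : D ≤ Q := inf_le_right
    have hD2 : IsPGroup 2 D := hQ2.to_le hDQ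
    have hcases : D.relIndex Q = 1 ∨ D.relIndex Q = 2 := by omega
    rcases hcases with h1 | h2
    · have hQD : Q ≤ D := Subgroup.relIndex_eq_one.1 h1
      have hQeq : Q = D := le_antisymm hQD hDQ
      rw [hQeq] at hg ⊢
      exact cent_of_cyclic D hD2 hDc g hg hodd
    · have hyQ : y ∈ Q := hDQ (hy ▸ Subgroup.mem_zpowers y)
      have hgD : g ∈ Subgroup.normalizer (D : Set G) := by
        have := normalizes Q y (by rw [hy]; exact h2) hyQ g hg hodd h3g
        rwa [hy] at this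
      exact cent_of_index_two Q D hQ2 h2 g hg (cent_of_cyclic D hD2 hDc g hgD hodd) hodd
  obtain ⟨N, hN, hcompl⟩ := (Cfsg.Agent.S0071.result P).2 main
  refine ⟨N, hN, ?_⟩
  have := hcompl.card_mul_card
  rw [hPcard, hG, mul_comm] at this
  exact Nat.eq_of_mul_eq_mul_left (by positivity) this

end Cfsg.Agent.S3971
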