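import Cfsg.Statements.S2845
import Cfsg.Agent.Lib.Helper47.WClosure

set_option autoImplicit false
open Cfsg

namespace Cfsg.Agent.S2845

open Subgroup Cfsg.Agent.Lib.Helper47

/-- Let Q be a nontrivial large p-subgroup of the finite group H. Then for every subgroup L ≥ Q with O_p(L) ≠ 1, C_H(O_p(L)) is a p-group and L has characteristic p, and either the weak closure L° of Q in L equals Q or C_H(L°) = 1; for every subgroup R of H containing a Sylow p-subgroup of H with O_p(R) ≠ 1, C_H(O_p(R)) ≤ O_p(R); and H has parabolic characteristic p. -/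
theorem result {H : Type*} [Group H] [Finite H] {p : ℕ} [Fact p.Prime] (Q : Subgroup H) (hQp : IsPGroup p ↥Q) (hQ1 : Q ≠ ⊥) (hL : Cfsg.IsLarge Q) : (∀ L : Subgroup H, Q ≤ L → Cfsg.pCore p ↥L ≠ ⊥ → IsPGroup p ↥(Subgroup.centralizer (((Cfsg.pCoreOf p L) : Subgroup H) : Set H)) ∧ Subgroup.centralizer (Cfsg.pCore p ↥L : Set ↥L) ≤ Cfsg.pCore p ↥L ∧ (Cfsg.weakClosure Q L = Q ∨ Subgroup.centralizer (((Cfsg.weakClosure Q L) : Subgroup H) : Set H) = ⊥)) ∧ (∀ R : Subgroup H, Cfsg.IsParabolic p R → Cfsg.pCore p ↥R ≠ ⊥ → Subgroup.centralizer (((Cfsg.pCoreOf p R) : Subgroup H) : Set H) ≤ (Cfsg.pCoreOf p R)) ∧ Cfsg.IsOfParabolicCharacteristic p H := by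
  have hb : ∀ R : Subgroup H, Cfsg.IsParabolic p R → Cfsg.pCore p ↥R ≠ ⊥ →
      centralizer (pCoreOf p R : Set H) ≤ pCoreOf p R := by
    rintro R ⟨T, hTR⟩ hR
    have hR' : pCoreOf p R ≠ ⊥ := fun h0 => hR (pCore_eq_bot_iff_pCoreOf.mpr h0)
    obtain ⟨T', hQT'⟩ := hQp.exists_le_sylow
    obtain ⟨h, hh⟩ := sylow_conj T' T
    have hQ' : cj h Q ≤ R := by
      refine le_trans ?_ hTR
      rw [← hh]
      exact cj_mono hQT'
    have hD := IsLarge.isPGroup_centralizer_pCoreOf (IsLarge.conj hL h) (IsPGroup_cj hQp h)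
      (fun h0 => hQ1 (cj_eq_bot_iff.mp h0)) hQ' hR'
    have hRD : R ≤ normalizer ((centralizer (pCoreOf p R : Set H) : Subgroup H) : Set H) :=
      (le_normalizer_pCoreOf R).trans (normalizer_le_normalizer_centralizer _)
    have h1 := T.3 (IsPGroup_sup hD T.2 (hTR.trans hRD)) le_sup_right
    have h2 : centralizer (pCoreOf p R : Set H) ≤ R := by
      refine le_trans ?_ hTR
      rw [← h1]
      exact le_sup_left
    exact le_pCoreOf h2 hRD hD
  refine ⟨?_, hb, ?_⟩
  · intro L hQL hLne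
    have hL' : pCoreOf p L ≠ ⊥ := fun h0 => hLne (pCore_eq_bot_iff_pCoreOf.mpr h0)
    have hD := IsLarge.isPGroup_centralizer_pCoreOf hL hQp hQ1 hQL hL'
    refine ⟨hD, ?_, ?_⟩
    · rw [Lib.Helper47.charP_iff]
      apply le_pCoreOf inf_le_left _ hD.to_inf_right
      exact le_normalizer_inf le_normalizer
        ((le_normalizer_pCoreOf L).trans (normalizer_le_normalizer_centralizer _))
    · by_cases hall : ∀ g : H, cj g Q ≤ L → cj g Q = Q
      · left
        apply le_antisymm
        · exact iSup_le (fun g => (hall g g.2).le)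
        · exact le_weakClosure hQL
      · right
        push Not at hall
        obtain ⟨g, hgL, hne⟩ := hall
        have hg : g ∉ normalizer (Q : Set H) := fun h0 => hne (cj_eq_self_of_mem_normalizer h0)
        have h1 := IsLarge.inf_centralizer_cj_eq_bot hL hQp hQ1 hg
        have h2 : Q ≤ weakClosure Q L := le_weakClosure hQL
        have h3 : cj g Q ≤ weakClosure Q L := cj_le_weakClosure hgL
        exact le_bot_iff.mp (h1 ▸ le_inf (centralizer_le (by exact_mod_cast h2))
          (centralizer_le (by exact_mod_cast h3)))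
  · intro R hR hR1 hpar
    rw [Lib.Helper47.charP_iff]
    refine inf_le_right.trans (hb _ hpar ?_)
    intro h0
    rw [pCore_eq_bot_iff_pCoreOf] at h0
    have : R ≤ pCoreOf p (normalizer (R : Set H)) := le_pCoreOf le_normalizer le_rfl hR
    exact hR1 (le_bot_iff.mp (h0 ▸ this))

end Cfsg.Agent.S2845
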