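import Cfsg.Statements.S3684
import Cfsg.Agent.S0206

set_option autoImplicit false
open Cfsg

namespace Cfsg.Agent.S3684

open MulAction Subgroup

/-- a normal subgroup contained in a point stabilizer of a faithful transitive action is trivial -/
theorem eq_bot_of_normal_le_stabilizer {G Ω : Type*} [Group G] [MulAction G Ω] [FaithfulSMul G Ω]
    [IsPretransitive G Ω] (M : Subgroup G) (hM : M.Normal) (a : Ω) (h : M ≤ stabilizer G a) :
    M = ⊥ := by
  rw [eq_bot_iff]
  intro s hs
  rw [Subgroup.mem_bot]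
  apply FaithfulSMul.eq_of_smul_eq_smul (α := Ω)
  intro x
  obtain ⟨g, rfl⟩ := exists_smul_eq G a x
  have h1 : g⁻¹ * s * g⁻¹⁻¹ ∈ stabilizer G a := h (hM.conj_mem s hs g⁻¹)
  rw [inv_inv, mem_stabilizer_iff, mul_smul, mul_smul] at h1
  rw [one_smul]
  calc s • g • a = g • (g⁻¹ • s • g • a) := by rw [smul_inv_smul]
    _ = g • a := by rw [h1]

/-- a group of order two: the nontrivial element -/
theorem exists_of_card_two {G : Type*} [Group G] (A : Subgroup G) (h : Nat.card A = 2) :
    ∃ t : G, orderOf t = 2 ∧ A = zpowers t := by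
  have : Fact (Nat.Prime 2) := ⟨Nat.prime_two⟩
  have hfin : Finite A := Nat.finite_of_card_ne_zero (by rw [h]; norm_num)
  obtain ⟨t, ht⟩ := exists_prime_orderOf_dvd_card' (G := A) 2 (by rw [h])
  refine ⟨t.1, by rw [Subgroup.orderOf_coe, ht], ?_⟩
  symm
  apply Subgroup.eq_of_le_of_card_ge
  · rw [zpowers_le]; exact t.2
  · rw [h, Nat.card_zpowers, Subgroup.orderOf_coe, ht]

/-- Let a finite group G act faithfully and primitively on a set Ω, and suppose the stabilizer of a point a has an orbit of length 2. Then the stabilizer of a has order 2 and G is isomorphic to the dihedral group of order 2p for some prime p. -/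
theorem result {G Ω : Type*} [Group G] [Finite G] [MulAction G Ω] [FaithfulSMul G Ω] [Finite Ω]
    (hprim : MulAction.IsPreprimitive G Ω) (a b : Ω) (h2 : Nat.card (MulAction.orbit (MulAction.stabilizer G a) b) = 2) :
    Nat.card (MulAction.stabilizer G a) = 2 ∧ ∃ p : ℕ, p.Prime ∧ Nonempty (G ≃* DihedralGroup p) := by
  set A := stabilizer G a with hA
  set B := stabilizer G b with hB
  -- `B` has relative index 2 in `A`
  have hBA : B.relIndex A = 2 := by
    have h1 : (stabilizer A b).index = 2 := by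
      rw [index_stabilizer, ← Nat.card_coe_set_eq, h2]
    have h3 : stabilizer A b = B.subgroupOf A := by
      ext x
      simp [hB, mem_subgroupOf, mem_stabilizer_iff, Subgroup.smul_def]
    rw [Subgroup.relIndex, ← h3, h1]
  have hab : a ≠ b := by
    rintro rfl
    rw [relIndex_self] at hBA
    norm_num at hBA
  have : Nontrivial Ω := ⟨a, b, hab⟩
  have hmax : IsCoatom A := IsPreprimitive.isCoatom_stabilizer_of_isPreprimitive G a
  have hind : A.index = B.index := by
    rw [hA, hB, index_stabilizer_of_transitive, index_stabilizer_of_transitive]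
  have hAB : A.relIndex B = 2 := by
    have e1 : (A ⊓ B).relIndex A * A.index = (A ⊓ B).index := relIndex_mul_index inf_le_left
    have e2 : (A ⊓ B).relIndex B * B.index = (A ⊓ B).index := relIndex_mul_index inf_le_right
    rw [inf_relIndex_left, hBA] at e1
    rw [inf_relIndex_right, ← hind, ← e1] at e2
    exact Nat.eq_of_mul_eq_mul_right (Nat.pos_of_ne_zero A.index_ne_zero_of_finite) e2
  -- `A ⊓ B` is normalised by `A` and `B`
  have hnA : A ≤ normalizer ((A ⊓ B : Subgroup G) : Set G) := by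
    have : (B.subgroupOf A).Normal := normal_of_index_eq_two hBA
    rw [inf_comm]
    exact normal_subgroupOf_iff_le_normalizer_inf.mp this
  have hnB : B ≤ normalizer ((A ⊓ B : Subgroup G) : Set G) := by
    have : (A.subgroupOf B).Normal := normal_of_index_eq_two hAB
    exact normal_subgroupOf_iff_le_normalizer_inf.mp this
  have hBnle : ¬ B ≤ A := by
    intro hle
    rw [relIndex_eq_one.mpr hle] at hAB
    norm_num at hAB
  have htop : normalizer ((A ⊓ B : Subgroup G) : Set G) = ⊤ := by
    apply hmax.2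
    exact lt_of_le_of_ne hnA (fun e => hBnle (by rw [e]; exact hnB))
  have hK : A ⊓ B = ⊥ :=
    eq_bot_of_normal_le_stabilizer _ (normalizer_eq_top_iff.mp htop) a inf_le_left
  have hcardA : Nat.card A = 2 := by
    have := relIndex_bot_left (H := A)
    rw [← hK, inf_relIndex_left, hBA] at this
    exact this.symm
  have hcardB : Nat.card B = 2 := by
    have := relIndex_bot_left (H := B)
    rw [← hK, inf_relIndex_right, hAB] at this
    exact this.symm
  refine ⟨hcardA, ?_⟩
  obtain ⟨t, ht, hAt⟩ := exists_of_card_two A hcardA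
  obtain ⟨s, hs, hBs⟩ := exists_of_card_two B hcardB
  have hts : t ≠ s := by
    rintro rfl
    exact hBnle (by rw [hAt, hBs])
  have hcl : closure ({t, s} : Set G) = ⊤ := by
    apply hmax.2
    refine lt_of_le_of_ne ?_ ?_
    · rw [hAt, zpowers_le]
      exact subset_closure (by simp)
    · intro e
      apply hBnle
      rw [e, hBs, zpowers_le]
      exact subset_closure (by simp)
  obtain ⟨e⟩ := Cfsg.Agent.S0206.result t s ht hs hts
  set n := orderOf (t * s) with hn
  have eG : G ≃* DihedralGroup n :=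
    (Subgroup.topEquiv.symm.trans (MulEquiv.subgroupCongr hcl.symm)).trans e
  have hcardG : Nat.card G = 2 * n := by
    rw [Nat.card_congr eG.toEquiv, DihedralGroup.nat_card]
  refine ⟨n, ?_, ⟨eG⟩⟩
  -- `n` is prime
  have hn1 : n ≠ 1 := by
    intro h1
    rw [hn, orderOf_eq_one_iff] at h1
    apply hts
    have ht2 : t * t = 1 := by rw [← pow_two, ← ht, pow_orderOf_eq_one]
    exact mul_left_cancel (ht2.trans h1.symm) |>.symm ▸ rfl
  have hn0 : n ≠ 0 := by
    intro h0
    rw [h0, mul_zero] at hcardG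
    exact Nat.card_pos.ne' hcardG
  set p := n.minFac with hp
  have hpp : p.Prime := Nat.minFac_prime hn1
  have hpn : p ∣ n := Nat.minFac_dvd n
  set r := t * s with hr
  have ht2 : t * t = 1 := by rw [← pow_two, ← ht, pow_orderOf_eq_one]
  have hs2 : s * s = 1 := by rw [← pow_two, ← hs, pow_orderOf_eq_one]
  have htinv : t⁻¹ = t := inv_eq_of_mul_eq_one_left ht2
  have hsinv : s⁻¹ = s := inv_eq_of_mul_eq_one_left hs2
  have hrinv : r⁻¹ = s * t := by rw [hr, mul_inv_rev, htinv, hsinv]
  have htr : t * r * t⁻¹ = r⁻¹ := by rw [hrinv, htinv, hr, ← mul_assoc, ht2, one_mul]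
  have hsr : s * r * s⁻¹ = r⁻¹ := by
    rw [hrinv, hsinv, hr, mul_assoc, mul_assoc, hs2, mul_one]
  set M := zpowers (r ^ (n / p)) with hM
  have hMcard : Nat.card M = p := by
    rw [hM, Nat.card_zpowers, orderOf_pow_of_dvd (Nat.div_pos (Nat.le_of_dvd (Nat.pos_of_ne_zero hn0) hpn) hpp.pos).ne'
      (Nat.div_dvd_of_dvd hpn), ← hn, Nat.div_div_self hpn hn0]
  have hkey : ∀ g : G, g * r * g⁻¹ = r⁻¹ → ∀ x ∈ M, g * x * g⁻¹ ∈ M := by
    intro g hg x hx
    obtain ⟨k, rfl⟩ := mem_zpowers_iff.mp hx
    have : g * (r ^ (n / p)) ^ k * g⁻¹ = ((r ^ (n / p)) ^ k)⁻¹ := by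
      rw [← conj_zpow, ← conj_pow, hg, inv_pow, inv_zpow]
    rw [this]
    exact M.inv_mem (zpow_mem (mem_zpowers _) k)
  have hconj : ∀ g : G, g * r * g⁻¹ = r⁻¹ → g ∈ normalizer (M : Set G) := by
    intro g hg
    have hg' : g⁻¹ * r * g⁻¹⁻¹ = r⁻¹ := by
      have h7 : r = g * r⁻¹ * g⁻¹ := by
        calc r = (r⁻¹)⁻¹ := (inv_inv r).symm
          _ = (g * r * g⁻¹)⁻¹ := by rw [hg]
          _ = g * r⁻¹ * g⁻¹ := by group
      calc g⁻¹ * r * g⁻¹⁻¹ = g⁻¹ * (g * r⁻¹ * g⁻¹) * g⁻¹⁻¹ := by rw [← h7]
        _ = r⁻¹ := by group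
    rw [mem_normalizer_iff]
    intro x
    refine ⟨hkey g hg x, fun hx => ?_⟩
    have := hkey g⁻¹ hg' _ hx
    have e2 : g⁻¹ * (g * x * g⁻¹) * g⁻¹⁻¹ = x := by group
    rwa [e2] at this
  have hMn : M.Normal := by
    rw [← normalizer_eq_top_iff, eq_top_iff, ← hcl, closure_le]
    rintro x (rfl | rfl)
    · exact hconj _ htr
    · exact hconj _ hsr
  have hMA : ¬ M ≤ A := by
    intro hle
    have := eq_bot_of_normal_le_stabilizer M hMn a hle
    rw [this, card_bot] at hMcard
    exact hpp.one_lt.ne hMcard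
  have hsup : A ⊔ M = ⊤ := by
    apply hmax.2
    exact lt_of_le_of_ne le_sup_left (fun e => hMA (by rw [e]; exact le_sup_right))
  have h3 : M.relIndex A ∣ 2 := by rw [← hcardA]; exact relIndex_dvd_card M A
  have h4 : Nat.card M * M.index = Nat.card G := M.card_mul_index
  rw [← relIndex_top_right, ← hsup, relIndex_sup_right, hMcard, hcardG] at h4
  have h5 : 2 * n ∣ 2 * p := by
    rw [← h4, mul_comm 2 p]
    exact Nat.mul_dvd_mul_left p h3
  have h6 : n ∣ p := Nat.dvd_of_mul_dvd_mul_left (by norm_num) h5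
  rcases (Nat.dvd_prime hpp).mp h6 with h | h
  · exact absurd h hn1
  · rw [h]; exact hpp

end Cfsg.Agent.S3684
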