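import Cfsg.Statements.S0765
import Cfsg.Agent.Lib.Helper13.SympTrans

set_option autoImplicit false
open Cfsg

namespace Cfsg.Agent.S0765

open Matrix Cfsg.Agent.Lib.Helper13

variable {F : Type*} [Field F] {m : ℕ}

/-- vectors whose first `k` hyperbolic coordinates vanish -/
def Wk (F : Type*) [Field F] (m k : ℕ) : Submodule F (Fin m ⊕ Fin m → F) where
  carrier := {x | ∀ i : Fin m, (i : ℕ) < k → x (Sum.inl i) = 0 ∧ x (Sum.inr i) = 0}
  add_mem' := by
    intro a b ha hb i hi
    simp [ha i hi, hb i hi]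
  zero_mem' := by
    intro i _
    simp
  smul_mem' := by
    intro c x hx i hi
    simp [hx i hi]

theorem mem_Wk {k : ℕ} {x : Fin m ⊕ Fin m → F} :
    x ∈ Wk F m k ↔ ∀ i : Fin m, (i : ℕ) < k → x (Sum.inl i) = 0 ∧ x (Sum.inr i) = 0 := Iff.rfl

theorem Wk_nondeg (k : ℕ) : ∀ u ∈ Wk F m k, u ≠ 0 → ∃ a ∈ Wk F m k, Cfsg.sympForm m F u a ≠ 0 := by
  intro u hu hu0
  obtain ⟨j, hj⟩ : ∃ j, u j ≠ 0 := by
    by_contra hcon
    push Not at hcon
    exact hu0 (funext hcon)
  rcases j with i | i
  · refine ⟨Pi.single (Sum.inr i) 1, ?_, ?_⟩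
    · intro i' hi'
      have hne : i' ≠ i := by
        rintro rfl
        exact hj (hu i' hi').1
      simp [hne]
    · rw [sympForm_single_inr_right]
      simpa using hj
  · refine ⟨Pi.single (Sum.inl i) 1, ?_, ?_⟩
    · intro i' hi'
      have hne : i' ≠ i := by
        rintro rfl
        exact hj (hu i' hi').2
      simp [hne]
    · rw [sympForm_single_inl_right]
      exact hj

theorem step (A : Matrix.symplecticGroup (Fin m) F) (k : ℕ) (hk : k ≤ m) :
    ∃ T ∈ Subgroup.closure (tvSet (⊤ : Submodule F (Fin m ⊕ Fin m → F))), ∀ i : Fin m, (i : ℕ) < k →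
      ((T * A : Matrix.symplecticGroup (Fin m) F) : Matrix (Fin m ⊕ Fin m) (Fin m ⊕ Fin m) F) *ᵥ
        (Pi.single (Sum.inl i) 1) = Pi.single (Sum.inl i) 1 ∧
      ((T * A : Matrix.symplecticGroup (Fin m) F) : Matrix (Fin m ⊕ Fin m) (Fin m ⊕ Fin m) F) *ᵥ
        (Pi.single (Sum.inr i) 1) = Pi.single (Sum.inr i) 1 := by
  induction k with
  | zero => exact ⟨1, Subgroup.one_mem _, fun i hi => absurd hi (Nat.not_lt_zero _)⟩
  | succ k ih =>
    obtain ⟨T, hT, hfix⟩ := ih (by omega)
    set B := T * A with hB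
    let kk : Fin m := ⟨k, by omega⟩
    set e : Fin m ⊕ Fin m → F := Pi.single (Sum.inl kk) 1 with he
    set f : Fin m ⊕ Fin m → F := Pi.single (Sum.inr kk) 1 with hf
    have hfe : Cfsg.sympForm m F f e = 1 := by
      rw [he, sympForm_single_inl_right, hf]; simp
    have memW : ∀ x : Fin m ⊕ Fin m → F,
        (∀ i : Fin m, (i : ℕ) < k → Cfsg.sympForm m F x (Pi.single (Sum.inl i) 1) = 0 ∧
          Cfsg.sympForm m F x (Pi.single (Sum.inr i) 1) = 0) →
        (B : Matrix (Fin m ⊕ Fin m) (Fin m ⊕ Fin m) F) *ᵥ x ∈ Wk F m k := by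
      intro x hx i hi
      have h1 := sp_preserves B x (Pi.single (Sum.inl i) 1)
      have h2 := sp_preserves B x (Pi.single (Sum.inr i) 1)
      rw [(hfix i hi).1, sympForm_single_inl_right, (hx i hi).1] at h1
      rw [(hfix i hi).2, sympForm_single_inr_right, (hx i hi).2] at h2
      exact ⟨by simpa using h2, h1⟩
    have hne : ∀ i : Fin m, (i : ℕ) < k → i ≠ kk := by
      intro i hi h
      rw [h] at hi
      exact lt_irrefl _ hi
    have hBf : (B : Matrix (Fin m ⊕ Fin m) (Fin m ⊕ Fin m) F) *ᵥ f ∈ Wk F m k := by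
      apply memW
      intro i hi
      rw [sympForm_single_inl_right, sympForm_single_inr_right, hf]
      simp [hne i hi]
    have hBe : (B : Matrix (Fin m ⊕ Fin m) (Fin m ⊕ Fin m) F) *ᵥ e ∈ Wk F m k := by
      apply memW
      intro i hi
      rw [sympForm_single_inl_right, sympForm_single_inr_right, he]
      simp [hne i hi]
    have hfW : f ∈ Wk F m k := by
      intro i hi
      simp [hf, hne i hi]
    have heW : e ∈ Wk F m k := by
      intro i hi
      simp [he, hne i hi]
    obtain ⟨S, hS, hSf, hSe⟩ := exists_tv_pair (Wk F m k) (Wk_nondeg k) hBf hBe hfW heW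
      (by rw [sp_preserves, hfe]) hfe
    refine ⟨S * T, Subgroup.mul_mem _ (Subgroup.closure_mono (tvSet_mono le_top) hS) hT, ?_⟩
    intro i hi
    rw [mul_assoc, ← hB]
    rw [show ((S * B : Matrix.symplecticGroup (Fin m) F) :
      Matrix (Fin m ⊕ Fin m) (Fin m ⊕ Fin m) F)
      = (S : Matrix (Fin m ⊕ Fin m) (Fin m ⊕ Fin m) F) * B from rfl, ← mulVec_mulVec, ← mulVec_mulVec]
    rcases Nat.lt_succ_iff_lt_or_eq.mp hi with hlt | heq
    · rw [(hfix i hlt).1, (hfix i hlt).2]
      constructor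
      · apply closure_tvSet_fixes (Wk F m k) hS
        intro w hw
        rw [sympForm_swap, sympForm_single_inl_right, (hw i hlt).2, neg_zero]
      · apply closure_tvSet_fixes (Wk F m k) hS
        intro w hw
        rw [sympForm_swap, sympForm_single_inr_right, (hw i hlt).1, neg_zero, neg_zero]
    · have : i = kk := Fin.ext heq
      subst this
      exact ⟨hSe, hSf⟩

/-- Generation of the symplectic group by symplectic transvections: the subgroup of Sp_2m(F) generated by all matrices of maps x ↦ x + c f(x, w) w is the whole group. -/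
theorem result {F : Type*} [Field F] (m : ℕ) : Subgroup.closure {A : Matrix.symplecticGroup (Fin m) F | ∃ (w : Fin m ⊕ Fin m → F) (c : F), (A : Matrix (Fin m ⊕ Fin m) (Fin m ⊕ Fin m) F) = Cfsg.sympTransvection m w c} = ⊤ := by
  rw [← Cfsg.Agent.Lib.Helper13.tvSet_top_eq, eq_top_iff]
  intro A _
  obtain ⟨T, hT, hfix⟩ := step A m le_rfl
  have h1 : T * A = 1 := by
    apply Subtype.ext
    rw [Matrix.ext_iff_mulVec]
    intro x
    have hx : x = ∑ j, x j • (Pi.single j 1 : Fin m ⊕ Fin m → F) := by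
      funext j'
      simp [Finset.sum_apply, Pi.single_apply]
    rw [hx, Matrix.mulVec_sum, Matrix.mulVec_sum]
    apply Finset.sum_congr rfl
    intro j _
    rw [Matrix.mulVec_smul, Matrix.mulVec_smul]
    congr 1
    rcases j with i | i
    · rw [(hfix i i.2).1]
      exact (Matrix.one_mulVec _).symm
    · rw [(hfix i i.2).2]
      exact (Matrix.one_mulVec _).symm
  have : A = T⁻¹ := by
    rw [eq_inv_iff_mul_eq_one, ← h1]
    have := mul_eq_one_iff_eq_inv.mp h1
    rw [this]; simp
  rw [this]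
  exact Subgroup.inv_mem _ hT

end Cfsg.Agent.S0765
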