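import Cfsg.Statements.S3977
import Cfsg.Agent.Lib.Helper66.StemLemmas

set_option autoImplicit false
open Cfsg

namespace Cfsg.Agent.S3977

open Cfsg.Agent.Lib.Helper66
open scoped commutatorElement

universe u

/-- the power formula in class two. -/
theorem mul_pow_of_central {Γ : Type*} [Group Γ] (x y : Γ) (h : ⁅y, x⁆ ∈ Subgroup.center Γ) (n : ℕ) :
    (x * y) ^ n = x ^ n * y ^ n * ⁅y, x⁆ ^ (n.choose 2) := by
  induction n with
  | zero => simp
  | succ n ih =>
    have h1 : y ^ n * x = ⁅y, x⁆ ^ n * x * y ^ n := by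
      rw [← commutatorElement_pow_left_of_central y x h n, commutatorElement_def]; group
    have hc : ∀ (k : ℕ) (g : Γ), g * ⁅y, x⁆ ^ k = ⁅y, x⁆ ^ k * g :=
      fun k g => (Subgroup.mem_center_iff.mp (pow_mem h k) g)
    have h2 : (n + 1).choose 2 = n + n.choose 2 := by
      rw [Nat.choose_succ_succ' n 1, Nat.choose_one_right]
    rw [pow_succ, ih, h2, pow_succ x, pow_succ y, pow_add ⁅y, x⁆]
    have hcc := hc (n.choose 2)
    have hw := hc n
    clear hc ih
    generalize ⁅y, x⁆ ^ n.choose 2 = c at *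
    generalize ⁅y, x⁆ ^ n = w at *
    calc x ^ n * y ^ n * c * (x * y) = x ^ n * (y ^ n * x) * y * c := by
          rw [mul_assoc (x ^ n * y ^ n), ← hcc (x * y)]
          simp only [mul_assoc]
      _ = x ^ n * (w * x * y ^ n) * y * c := by rw [h1]
      _ = (x ^ n * w) * x * y ^ n * y * c := by simp only [mul_assoc]
      _ = w * (x ^ n * x * (y ^ n * y)) * c := by rw [hw]; simp only [mul_assoc]
      _ = x ^ n * x * (y ^ n * y) * (w * c) := by rw [← hw]; simp only [mul_assoc]

theorem isCyclic_of_unique_max {G : Type*} [Group G] [Finite G] (p m : ℕ) [hp : Fact p.Prime]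
    (hG : Nat.card G = p ^ (m + 1))
    (h : ∀ H K : Subgroup G, Nat.card H = p ^ m → Nat.card K = p ^ m → H = K) : IsCyclic G := by
  have hdvd : p ^ m ∣ Nat.card G := by rw [hG]; exact pow_dvd_pow p (Nat.le_succ m)
  obtain ⟨M, hM⟩ := Sylow.exists_subgroup_card_pow_prime p hdvd
  have hex : ∃ x, x ∉ M := by
    by_contra hall
    push Not at hall
    have htop : M = ⊤ := eq_top_iff.mpr (fun x _ => hall x)
    rw [htop, Subgroup.card_top, hG] at hM
    have := Nat.pow_right_injective hp.out.two_le hM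
    omega
  obtain ⟨x, hx⟩ := hex
  refine ⟨x, fun g => ?_⟩
  obtain ⟨k, hk1, hk2⟩ := (Nat.dvd_prime_pow hp.out).mp
    (hG ▸ Subgroup.card_subgroup_dvd_card (Subgroup.zpowers x))
  by_cases hkm : k ≤ m
  · obtain ⟨K, hK1, hK2⟩ := Sylow.exists_subgroup_card_pow_prime_le p hdvd (Subgroup.zpowers x) hk2 hkm
    have := h K M hK1 hM
    exact absurd (this ▸ hK2 (Subgroup.mem_zpowers x)) hx
  · have hk : k = m + 1 := by omega
    have : Subgroup.zpowers x = ⊤ := Subgroup.eq_top_of_card_eq _ (by rw [hk2, hk, hG])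
    have hg : g ∈ Subgroup.zpowers x := by rw [this]; trivial
    exact hg

/-- the key computation: an element of small order outside `⟨b⟩`. -/
theorem exists_small {G : Type*} [Group G] [Finite G] (p e : ℕ) [hp : Fact p.Prime] (hG : IsPGroup p G)
    (a b : G) (ha : (Subgroup.zpowers a).Normal) (hb : (Subgroup.zpowers b).Normal)
    (hap : a ^ p ∈ Subgroup.zpowers b) (hba : b ∉ Subgroup.zpowers a)
    (htop : Subgroup.zpowers a ⊔ Subgroup.zpowers b = ⊤) (he : p ∣ e) (he2 : p ∣ e.choose 2) :
    ∃ y ∈ Subgroup.zpowers b, (a * y) ^ e = 1 := by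
  obtain ⟨j, hj⟩ := Submonoid.mem_powers_iff _ _ |>.mp (mem_powers_iff_mem_zpowers.mpr hap)
  have hpj : p ∣ j := by
    by_contra hnd
    obtain ⟨r, hr⟩ := (IsPGroup.iff_orderOf.mp hG) b
    have hcop : Nat.Coprime j (orderOf b) := by
      rw [hr]
      exact Nat.Coprime.pow_right _ ((Nat.Prime.coprime_iff_not_dvd hp.out).mpr hnd).symm
    obtain ⟨t, ht⟩ := exists_pow_eq_self_of_coprime hcop
    apply hba
    rw [← ht, hj, ← pow_mul]
    exact Subgroup.npow_mem_zpowers a _
  obtain ⟨j', rfl⟩ := hpj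
  obtain ⟨e', rfl⟩ := he
  set y := (b ^ j')⁻¹ with hy
  have hyb : y ∈ Subgroup.zpowers b := inv_mem (Subgroup.npow_mem_zpowers b _)
  have hz1 : ⁅y, a⁆ ∈ Subgroup.zpowers a := by
    rw [commutatorElement_def]
    exact mul_mem (ha.conj_mem a (Subgroup.mem_zpowers a) y) (inv_mem (Subgroup.mem_zpowers a))
  have hz2 : ⁅y, a⁆ ∈ Subgroup.zpowers b := by
    rw [commutatorElement_def, mul_assoc, mul_assoc, ← mul_assoc a]
    exact mul_mem hyb (hb.conj_mem _ (inv_mem hyb) a)
  have hcomm_of : ∀ c u v : G, u ∈ Subgroup.zpowers c → v ∈ Subgroup.zpowers c → u * v = v * u := by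
    intro c u v hu hv
    obtain ⟨k, rfl⟩ := Subgroup.mem_zpowers_iff.mp hu
    obtain ⟨l, rfl⟩ := Subgroup.mem_zpowers_iff.mp hv
    rw [← zpow_add, ← zpow_add, add_comm]
  have hz : ⁅y, a⁆ ∈ Subgroup.center G := by
    have hle : Subgroup.zpowers a ⊔ Subgroup.zpowers b ≤ Subgroup.centralizer {⁅y, a⁆} := by
      apply sup_le
      · intro u hu
        rw [Subgroup.mem_centralizer_singleton_iff]
        exact hcomm_of a _ _ hu hz1
      · intro u hu
        rw [Subgroup.mem_centralizer_singleton_iff]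
        exact hcomm_of b _ _ hu hz2
    rw [htop] at hle
    rw [Subgroup.mem_center_iff]
    intro g
    exact Subgroup.mem_centralizer_singleton_iff.mp (hle (Subgroup.mem_top g))
  have hzp : ⁅y, a⁆ ^ p = 1 := by
    rw [← commutatorElement_pow_right_of_central y a hz p, commutatorElement_eq_one_iff_mul_comm]
    exact hcomm_of b _ _ hyb hap
  refine ⟨y, hyb, ?_⟩
  rw [mul_pow_of_central a y hz]
  obtain ⟨c, hc⟩ := he2
  rw [hc, pow_mul ⁅y, a⁆, hzp, one_pow, mul_one, pow_mul a, ← hj, hy, inv_pow, ← pow_mul, ← pow_mul]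
  rw [mul_inv_eq_one]
  congr 1
  ring

theorem aux (p s : ℕ) [hp : Fact p.Prime] (hs : 1 ≤ s) (h2 : p ≠ 2 ∨ 2 ≤ s) :
    ∀ (m : ℕ) (G : Type u) [Group G] [Finite G], Nat.card G = p ^ m → s < m →
      (∀ H K : Subgroup G, Nat.card H = p ^ s → Nat.card K = p ^ s → H = K) → IsCyclic G := by
  intro m
  induction m with
  | zero => intro G _ _ _ h; omega
  | succ m ih =>
    intro G _ _ hG hsm huniq
    by_cases hall : ∀ H K : Subgroup G, Nat.card H = p ^ m → Nat.card K = p ^ m → H = K
    · exact isCyclic_of_unique_max p m hG hall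
    exfalso
    push Not at hall
    obtain ⟨M₁, M₂, h1, h2', hne⟩ := hall
    have hpG : IsPGroup p G := IsPGroup.of_card hG
    have hsm' : s < m := by
      rcases Nat.lt_succ_iff_lt_or_eq.mp hsm with h | h
      · exact h
      · subst h; exact absurd (huniq M₁ M₂ h1 h2') hne
    have hcyc : ∀ M : Subgroup G, Nat.card M = p ^ m → IsCyclic M := by
      intro M hM
      apply ih M hM hsm'
      intro H K hH hK
      have := huniq (H.map M.subtype) (K.map M.subtype)
        (by rw [Subgroup.card_map_of_injective M.subtype_injective, hH])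
        (by rw [Subgroup.card_map_of_injective M.subtype_injective, hK])
      exact Subgroup.map_injective M.subtype_injective this
    have hdvd : p ^ s ∣ Nat.card G := by rw [hG]; exact pow_dvd_pow p hsm.le
    obtain ⟨U, hU⟩ := Sylow.exists_subgroup_card_pow_prime p hdvd
    have hUle : ∀ M : Subgroup G, Nat.card M = p ^ m → U ≤ M := by
      intro M hM
      obtain ⟨H', hH'le, hH'card⟩ := Sylow.exists_subgroup_le_card_pow_prime_of_le_card hp.out hpG
        (H := M) (n := s) (by rw [hM]; exact Nat.pow_le_pow_right hp.out.pos hsm'.le)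
      rw [huniq U H' hU hH'card]; exact hH'le
    have hsmall : ∀ g : G, ∀ t ≤ s, g ^ (p ^ t) = 1 → g ∈ U := by
      intro g t ht hg
      have h3 : Nat.card (Subgroup.zpowers g) ∣ p ^ t := by
        rw [Nat.card_zpowers]; exact orderOf_dvd_of_pow_eq_one hg
      obtain ⟨k, hk1, hk2⟩ := (Nat.dvd_prime_pow hp.out).mp h3
      obtain ⟨K, hK1, hK2⟩ := Sylow.exists_subgroup_card_pow_prime_le p hdvd (Subgroup.zpowers g) hk2
        (hk1.trans ht)
      rw [huniq U K hU hK1]; exact hK2 (Subgroup.mem_zpowers g)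
    have hidx : ∀ M : Subgroup G, Nat.card M = p ^ m → M.index = p := by
      intro M hM
      have h3 := M.card_mul_index
      rw [hM, hG, pow_succ] at h3
      exact Nat.eq_of_mul_eq_mul_left (pow_pos hp.out.pos m) h3
    have hnorm : ∀ M : Subgroup G, Nat.card M = p ^ m → M.Normal := by
      intro M hM
      apply Subgroup.normal_of_index_eq_minFac_card
      rw [hidx M hM, hG, Nat.Prime.pow_minFac hp.out (Nat.succ_ne_zero m)]
    have hgen : ∀ M : Subgroup G, Nat.card M = p ^ m → ∃ a : G, M = Subgroup.zpowers a := by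
      intro M hM
      obtain ⟨⟨a, haM⟩, ha⟩ := (hcyc M hM).exists_generator
      refine ⟨a, le_antisymm ?_ ?_⟩
      · intro u hu
        obtain ⟨k, hk⟩ := Subgroup.mem_zpowers_iff.mp (ha ⟨u, hu⟩)
        rw [Subgroup.mem_zpowers_iff]
        exact ⟨k, by simpa using congrArg Subtype.val hk⟩
      · rw [Subgroup.zpowers_le]; exact haM
    have hnle : ∀ M M' : Subgroup G, Nat.card M = p ^ m → Nat.card M' = p ^ m → M ≤ M' → M = M' := by
      intro M M' hM hM' hle
      exact Subgroup.eq_of_le_of_card_ge hle (by rw [hM, hM'])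
    obtain ⟨a, rfl⟩ := hgen M₁ h1
    obtain ⟨b, rfl⟩ := hgen M₂ h2'
    have hN1 := hnorm _ h1
    have hN2 := hnorm _ h2'
    have hap : a ^ p ∈ Subgroup.zpowers b := by
      have h3 : ((a : G) : G ⧸ Subgroup.zpowers b) ^ p = 1 := by
        have h4 : Nat.card (G ⧸ Subgroup.zpowers b) = p := hidx _ h2'
        rw [← h4]; exact pow_card_eq_one'
      exact (QuotientGroup.eq_one_iff _).mp (by simpa using h3)
    have hba : b ∉ Subgroup.zpowers a := by
      intro hmem
      exact hne (hnle _ _ h2' h1 (Subgroup.zpowers_le.mpr hmem)).symm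
    have hab : a ∉ Subgroup.zpowers b := by
      intro hmem
      exact hne (hnle _ _ h1 h2' (Subgroup.zpowers_le.mpr hmem))
    have htop : Subgroup.zpowers a ⊔ Subgroup.zpowers b = ⊤ := by
      obtain ⟨k, hk1, hk2⟩ := (Nat.dvd_prime_pow hp.out).mp
        (hG ▸ Subgroup.card_subgroup_dvd_card (Subgroup.zpowers a ⊔ Subgroup.zpowers b))
      by_cases hkm : k ≤ m
      · exfalso
        have h3 : Subgroup.zpowers a = Subgroup.zpowers a ⊔ Subgroup.zpowers b :=
          Subgroup.eq_of_le_of_card_ge le_sup_left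
            (by rw [hk2, h1]; exact Nat.pow_le_pow_right hp.out.pos hkm)
        apply hba
        rw [h3]
        exact le_sup_right (a := Subgroup.zpowers a) (Subgroup.mem_zpowers b)
      · have hk : k = m + 1 := by omega
        exact Subgroup.eq_top_of_card_eq _ (by rw [hk2, hk, hG])
    obtain ⟨t, ht, he2⟩ : ∃ t, 1 ≤ t ∧ t ≤ s ∧ p ∣ (p ^ t).choose 2 := by
      by_cases hp2 : p = 2
      · refine ⟨2, by omega, ?_, ?_⟩
        · rcases h2 with h | h
          · exact absurd hp2 h
          · exact h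
        · subst hp2
          decide
      · refine ⟨1, le_refl 1, hs, ?_⟩
        rw [pow_one]
        apply Nat.Prime.dvd_choose_self hp.out (by norm_num)
        have := hp.out.two_le
        omega
    obtain ⟨y, hy, hg⟩ := exists_small p (p ^ t) hpG a b hN1 hN2 hap hba htop
      (dvd_pow_self p (by omega)) he2.2
    have h5 := hUle _ h2' (hsmall _ t he2.1 hg)
    apply hab
    have : a = a * y * y⁻¹ := by group
    rw [this]
    exact mul_mem h5 (inv_mem hy)

/-- Let `p` be a prime and `G` a group of order `p ^ m` which has exactly one subgroup of order `p ^ s`, where `1 ≤ s < m`, and where `s ≥ 2` if `p = 2`. Then `G` is cyclic. (For `p = 2` and `s = 1` the generalized quaternion groups also occur; that case is the classical criterion for a unique involution.) -/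
theorem result {G : Type*} [Group G] [Finite G] (p m s : ℕ) (hp : p.Prime) (hG : Nat.card G = p ^ m) (hs : 1 ≤ s) (hsm : s < m) (h2 : p ≠ 2 ∨ 2 ≤ s) (huniq : ∀ H K : Subgroup G, Nat.card H = p ^ s → Nat.card K = p ^ s → H = K) : IsCyclic G := by
  have : Fact p.Prime := ⟨hp⟩
  exact aux p s hs h2 m G hG hsm huniq

end Cfsg.Agent.S3977
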