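import Mathlib
import Cfsg.Statements.S0838
import Cfsg.Agent.Lib.Helper14.DiscQuad

set_option autoImplicit false
open Cfsg

namespace Cfsg.Agent.S0838

/-- Over a finite field with 2 ≠ 0 and n odd: two quadratic forms Q₁, Q₂ on F^n with non-degenerate polar forms are similar — there are an invertible linear map g and a scalar c ≠ 0 with Q₂ (g v) = c · Q₁ v for all v. -/
theorem result {F : Type*} [Field F] [Fintype F] (h2 : (2 : F) ≠ 0) {n : ℕ} (hn : Odd n) (Q₁ Q₂ : QuadraticForm F (Fin n → F)) (h₁ : (QuadraticMap.polarBilin Q₁).Nondegenerate) (h₂ : (QuadraticMap.polarBilin Q₂).Nondegenerate) : ∃ (g : (Fin n → F) ≃ₗ[F] (Fin n → F)) (c : F), c ≠ 0 ∧ ∀ v, Q₂ (g v) = c * Q₁ v := by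
  have hD₁ := Cfsg.Agent.Lib.Helper14.hasDisc_polarBilin Q₁
  have hD₂ := Cfsg.Agent.Lib.Helper14.hasDisc_polarBilin Q₂
  set D₁ := (Matrix.of (fun i j : Fin n => QuadraticMap.polar ⇑Q₁ (Pi.single i 1) (Pi.single j 1))).det
  set D₂ := (Matrix.of (fun i j : Fin n => QuadraticMap.polar ⇑Q₂ (Pi.single i 1) (Pi.single j 1))).det
  have hD₁0 : D₁ ≠ 0 := hD₁.ne_zero h₁
  have hD₂0 : D₂ ≠ 0 := hD₂.ne_zero h₂
  have hc : D₁ * D₂ ≠ 0 := mul_ne_zero hD₁0 hD₂0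
  have hDc := hD₁.smul (D₁ * D₂)
  have hfr : Module.finrank F (Fin n → F) = n := by simp
  rw [hfr] at hDc
  obtain ⟨j, hj⟩ := hn
  have hsq : IsSquare ((D₁ * D₂) ^ n * D₁ * D₂) := by
    refine ⟨(D₁ * D₂) ^ (j + 1), ?_⟩
    rw [hj]; ring
  obtain ⟨g, hg⟩ := Cfsg.Agent.Lib.Helper14.exists_isometry_of_disc h2 n
    ((D₁ * D₂) • QuadraticMap.polarBilin Q₁) (QuadraticMap.polarBilin Q₂)
    ((Cfsg.Agent.Lib.Helper14.polarBilin_isSymm Q₁).smul _)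
    (Cfsg.Agent.Lib.Helper14.polarBilin_isSymm Q₂)
    (hDc.nondegenerate (mul_ne_zero (pow_ne_zero _ hc) hD₁0)) h₂ hfr hfr _ _ hDc hD₂ hsq
  refine ⟨g, D₁ * D₂, hc, fun v => ?_⟩
  exact Cfsg.Agent.Lib.Helper14.quad_eq_of_polar_eq h2 Q₁ Q₂ (D₁ * D₂) v (g v)
    (by simpa using hg v v)

end Cfsg.Agent.S0838
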