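import Cfsg.Statements.S0289
import Mathlib
import Cfsg.Agent.Lib.Helper5.QuadForms

set_option autoImplicit false
open Cfsg

namespace Cfsg.Agent.S0289

/-- The hyperbolic quadratic form on F^(2m), m at least 1, has q^(2m-1) + q^m - q^(m-1) zeros (that is, (q^m - 1)(q^(m-1) + 1) non-zero isotropic vectors). -/
theorem result {F : Type*} [Field F] [Fintype F] {q : ℕ} (hF : Fintype.card F = q) (m : ℕ) (hm : 1 ≤ m) : Nat.card {v : Fin m ⊕ Fin m → F // Cfsg.quadFormPlus m F v = 0} = q ^ (2 * m - 1) + q ^ m - q ^ (m - 1) := by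
  obtain ⟨j, rfl⟩ : ∃ j, m = j + 1 := ⟨m - 1, by omega⟩
  have h := Cfsg.Agent.Lib.Helper5.card_zeros_plus (F := F) (j + 1)
  rw [hF] at h
  have hq : 0 < q := by rw [← hF]; exact Fintype.card_pos
  have e1 : 2 * (j + 1) - 1 = 2 * j + 1 := by omega
  rw [e1, Nat.add_sub_cancel]
  generalize Nat.card {v : Fin (j + 1) ⊕ Fin (j + 1) → F // Cfsg.quadFormPlus (j + 1) F v = 0} = z at h ⊢
  have h2 : q * (z + q ^ j) = q * (q ^ (2 * j + 1) + q ^ (j + 1)) := by
    have : q * (z + q ^ j) = q * z + q ^ (j + 1) := by ring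
    rw [this, h]
    ring
  have h3 := Nat.eq_of_mul_eq_mul_left hq h2
  omega

end Cfsg.Agent.S0289
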