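import Mathlib
import Cfsg.Statements.S2624
import Cfsg.Agent.Lib.Helper14.DiscQuad

set_option autoImplicit false
open Cfsg

namespace Cfsg.Agent.S2624

/-- For a quadratic form Q on F^n with non-degenerate polar form, F finite and n ≥ 2 even, every non-zero scalar c is the multiplier of some similarity: there is an invertible linear map g with Q(g v) = c·Q(v) for all v. -/
theorem result {F : Type*} [Field F] [Fintype F] {n : ℕ} (hn : 2 ≤ n) (he : Even n) (Q : QuadraticForm F (Fin n → F)) (hQ : (QuadraticMap.polarBilin Q).Nondegenerate) (c : F) (hc : c ≠ 0) : ∃ g : (Fin n → F) ≃ₗ[F] (Fin n → F), ∀ v, Q (g v) = c * Q v := by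
  by_cases h2 : (2 : F) = 0
  · -- characteristic two: every element is a square
    haveI : CharP F 2 := by
      refine CharTwo.of_one_ne_zero_of_two_eq_zero one_ne_zero h2
    obtain ⟨d, hd⟩ : IsSquare c := FiniteField.isSquare_of_char_two (CharP.ringChar_of_prime_eq_zero Nat.prime_two (by exact_mod_cast h2)) c
    have hd0 : d ≠ 0 := by
      rintro rfl
      apply hc
      simpa using hd
    refine ⟨LinearEquiv.smulOfNeZero F _ d hd0, fun v => ?_⟩
    rw [LinearEquiv.smulOfNeZero_apply, QuadraticMap.map_smul, hd, smul_eq_mul]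
  · have hD₁ := Cfsg.Agent.Lib.Helper14.hasDisc_polarBilin Q
    set D₁ := (Matrix.of (fun i j : Fin n => QuadraticMap.polar ⇑Q (Pi.single i 1) (Pi.single j 1))).det
    have hD₁0 : D₁ ≠ 0 := hD₁.ne_zero hQ
    have hDc := hD₁.smul c
    have hfr : Module.finrank F (Fin n → F) = n := by simp
    rw [hfr] at hDc
    obtain ⟨j, hj⟩ := he
    have hsq : IsSquare (c ^ n * D₁ * D₁) := by
      refine ⟨c ^ j * D₁, ?_⟩
      rw [hj]; ring
    obtain ⟨g, hg⟩ := Cfsg.Agent.Lib.Helper14.exists_isometry_of_disc h2 n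
      (c • QuadraticMap.polarBilin Q) (QuadraticMap.polarBilin Q)
      ((Cfsg.Agent.Lib.Helper14.polarBilin_isSymm Q).smul _)
      (Cfsg.Agent.Lib.Helper14.polarBilin_isSymm Q)
      (hDc.nondegenerate (mul_ne_zero (pow_ne_zero _ hc) hD₁0)) hQ hfr hfr _ _ hDc hD₁ hsq
    refine ⟨g, fun v => ?_⟩
    exact Cfsg.Agent.Lib.Helper14.quad_eq_of_polar_eq h2 Q Q c v (g v)
      (by simpa using hg v v)

end Cfsg.Agent.S2624
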