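import Cfsg.Statements.S0752
-- import your own Cfsg.Agent.* helpers here

set_option autoImplicit false
open Cfsg

namespace Cfsg.Agent.S0752

open Module in
theorem aux {F V : Type*} [Field F] [AddCommGroup V] [Module F V] [FiniteDimensional F V]
    (B : LinearMap.BilinForm F V) (hA : B.IsAlt) : ∀ n : ℕ, ∀ W : Submodule F V, finrank F W = n →
    ∃ (m k : ℕ) (e f : Fin m → V) (r : Fin k → V), 2 * m + k = n ∧
      (∀ i, e i ∈ W) ∧ (∀ i, f i ∈ W) ∧ (∀ j, r j ∈ W) ∧
      (∀ i j, B (e i) (f j) = if i = j then 1 else 0) ∧ (∀ i j, B (e i) (e j) = 0) ∧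
      (∀ i j, B (f i) (f j) = 0) ∧ (∀ j, ∀ w ∈ W, B (r j) w = 0) ∧
      W ≤ Submodule.span F (Set.range e ∪ Set.range f ∪ Set.range r) := by
  intro n
  induction n using Nat.strong_induction_on with
  | _ n ih =>
  intro W hW
  have hneg : ∀ x y, B y x = - B x y := fun x y => (LinearMap.IsAlt.neg hA x y).symm
  by_cases hzero : ∀ w ∈ W, ∀ w' ∈ W, B w w' = 0
  · let b := Module.finBasisOfFinrankEq F W hW
    refine ⟨0, n, Fin.elim0, Fin.elim0, fun j => (b j : V), by omega, fun i => i.elim0,
      fun i => i.elim0, fun j => (b j).2, fun i => i.elim0, fun i => i.elim0, fun i => i.elim0,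
      fun j w hw => hzero _ (b j).2 w hw, ?_⟩
    intro w hw
    have h1 : (⟨w, hw⟩ : W) ∈ Submodule.span F (Set.range b) := by
      rw [b.span_eq]; trivial
    have h2 : W.subtype ⟨w, hw⟩ ∈ (Submodule.span F (Set.range b)).map W.subtype :=
      Submodule.mem_map_of_mem h1
    rw [Submodule.map_span, ← Set.range_comp] at h2
    refine Submodule.span_mono ?_ h2
    intro z hz
    exact Or.inr hz
  · push Not at hzero
    obtain ⟨e0, he0, w', hw', hne⟩ := hzero
    obtain ⟨f0, hf0⟩ : ∃ f0, f0 = (B e0 w')⁻¹ • w' := ⟨_, rfl⟩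
    have hf0W : f0 ∈ W := by rw [hf0]; exact W.smul_mem _ hw'
    have hef : B e0 f0 = 1 := by
      rw [hf0, map_smul, smul_eq_mul, inv_mul_cancel₀ hne]
    have hfe : B f0 e0 = -1 := by rw [hneg, hef]
    set W' : Submodule F V := W ⊓ LinearMap.ker (B e0) ⊓ LinearMap.ker (B f0) with hW'
    have hW'mem : ∀ w, w ∈ W' ↔ w ∈ W ∧ B e0 w = 0 ∧ B f0 w = 0 := by
      intro w
      simp [hW', and_assoc]
    set H : Submodule F V := Submodule.span F (Set.range ![e0, f0]) with hH
    have hli : LinearIndependent F ![e0, f0] := by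
      rw [LinearIndependent.pair_iff]
      intro s t hst
      have h1 := congrArg (B e0) hst
      have h2 := congrArg (B f0) hst
      simp only [map_add, map_smul, smul_eq_mul, hA e0, hA f0, hef, hfe, map_zero] at h1 h2
      constructor
      · linear_combination -h2
      · linear_combination h1
    have hHrank : finrank F H = 2 := by
      rw [hH, finrank_span_eq_card hli]; simp
    have hdecomp : ∀ w ∈ W, w - (-(B f0 w)) • e0 - (B e0 w) • f0 ∈ W' := by
      intro w hw
      rw [hW'mem]
      refine ⟨W.sub_mem (W.sub_mem hw (W.smul_mem _ he0)) (W.smul_mem _ hf0W), ?_, ?_⟩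
      · simp only [map_sub, map_smul, smul_eq_mul, hA e0, hef]; ring
      · simp only [map_sub, map_smul, smul_eq_mul, hA f0, hfe]; ring
    have he0H : e0 ∈ H := Submodule.subset_span ⟨0, rfl⟩
    have hf0H : f0 ∈ H := Submodule.subset_span ⟨1, rfl⟩
    have hsup : H ⊔ W' = W := by
      apply le_antisymm
      · apply sup_le
        · rw [hH, Submodule.span_le]
          rintro _ ⟨i, rfl⟩
          fin_cases i
          · exact he0
          · exact hf0W
        · intro w hw
          exact ((hW'mem w).mp hw).1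
      · intro w hw
        have h1 := hdecomp w hw
        have h2 : w = ((-(B f0 w)) • e0 + (B e0 w) • f0) +
            (w - (-(B f0 w)) • e0 - (B e0 w) • f0) := by abel
        rw [h2]
        exact Submodule.add_mem_sup (H.add_mem (H.smul_mem _ he0H) (H.smul_mem _ hf0H)) h1
    have hinf : H ⊓ W' = ⊥ := by
      rw [eq_bot_iff]
      intro w ⟨hwH, hwW'⟩
      rw [SetLike.mem_coe, hH, Submodule.mem_span_range_iff_exists_fun] at hwH
      obtain ⟨c, hc⟩ := hwH
      simp only [Fin.sum_univ_two, Matrix.cons_val_zero, Matrix.cons_val_one] at hc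
      obtain ⟨_, h1, h2⟩ := (hW'mem w).mp hwW'
      rw [← hc] at h1 h2
      simp only [map_add, map_smul, smul_eq_mul, hA e0, hA f0, hef, hfe] at h1 h2
      have c1 : c 1 = 0 := by linear_combination h1
      have c0 : c 0 = 0 := by linear_combination -h2
      rw [Submodule.mem_bot, ← hc, c0, c1]
      simp
    have hrank : finrank F W' + 2 = n := by
      have := Submodule.finrank_sup_add_finrank_inf_eq H W'
      rw [hsup, hinf, finrank_bot, hW, hHrank] at this
      omega
    obtain ⟨m, k, e, f, r, hmk, heW, hfW, hrW, h1, h2, h3, h4, h5⟩ :=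
      ih (finrank F W') (by omega) W' rfl
    refine ⟨m + 1, k, Fin.cons e0 e, Fin.cons f0 f, r, by omega, ?_, ?_, ?_, ?_, ?_, ?_, ?_, ?_⟩
    · intro i
      refine Fin.cases ?_ (fun i => ?_) i
      · exact he0
      · exact ((hW'mem _).mp (heW i)).1
    · intro i
      refine Fin.cases ?_ (fun i => ?_) i
      · exact hf0W
      · exact ((hW'mem _).mp (hfW i)).1
    · intro j
      exact ((hW'mem _).mp (hrW j)).1
    · intro i j
      refine Fin.cases ?_ (fun i => ?_) i <;> refine Fin.cases ?_ (fun j => ?_) j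
      · simp [hef]
      · simp only [Fin.cons_zero, Fin.cons_succ]
        rw [((hW'mem _).mp (hfW j)).2.1, if_neg (Fin.succ_ne_zero j).symm]
      · simp only [Fin.cons_zero, Fin.cons_succ]
        rw [hneg, ((hW'mem _).mp (heW i)).2.2, if_neg (Fin.succ_ne_zero i)]
        simp
      · simp only [Fin.cons_succ, h1, Fin.succ_inj]
    · intro i j
      refine Fin.cases ?_ (fun i => ?_) i <;> refine Fin.cases ?_ (fun j => ?_) j
      · simp [hA e0]
      · simp only [Fin.cons_zero, Fin.cons_succ]
        exact ((hW'mem _).mp (heW j)).2.1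
      · simp only [Fin.cons_zero, Fin.cons_succ]
        rw [hneg, ((hW'mem _).mp (heW i)).2.1, neg_zero]
      · simp only [Fin.cons_succ, h2]
    · intro i j
      refine Fin.cases ?_ (fun i => ?_) i <;> refine Fin.cases ?_ (fun j => ?_) j
      · simp [hA f0]
      · simp only [Fin.cons_zero, Fin.cons_succ]
        exact ((hW'mem _).mp (hfW j)).2.2
      · simp only [Fin.cons_zero, Fin.cons_succ]
        rw [hneg, ((hW'mem _).mp (hfW i)).2.2, neg_zero]
      · simp only [Fin.cons_succ, h3]
    · intro j w hw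
      have hd := hdecomp w hw
      have hre : B (r j) e0 = 0 := by rw [hneg, ((hW'mem _).mp (hrW j)).2.1, neg_zero]
      have hrf : B (r j) f0 = 0 := by rw [hneg, ((hW'mem _).mp (hrW j)).2.2, neg_zero]
      have h6 := h4 j _ hd
      simpa only [map_sub, map_smul, hre, hrf, smul_zero, sub_zero] using h6
    · set S := Submodule.span F (Set.range (Fin.cons e0 e : Fin (m + 1) → V) ∪
        Set.range (Fin.cons f0 f : Fin (m + 1) → V) ∪ Set.range r) with hS
      have hsub : Submodule.span F (Set.range e ∪ Set.range f ∪ Set.range r) ≤ S := by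
        apply Submodule.span_mono
        rintro z ((⟨i, rfl⟩ | ⟨i, rfl⟩) | ⟨j, rfl⟩)
        · exact Or.inl (Or.inl ⟨i.succ, by simp⟩)
        · exact Or.inl (Or.inr ⟨i.succ, by simp⟩)
        · exact Or.inr ⟨j, rfl⟩
      have he0S : e0 ∈ S := Submodule.subset_span (Or.inl (Or.inl ⟨0, by simp⟩))
      have hf0S : f0 ∈ S := Submodule.subset_span (Or.inl (Or.inr ⟨0, by simp⟩))
      intro w hw
      have hd := hsub (h5 (hdecomp w hw))
      have h2' : w = ((-(B f0 w)) • e0 + (B e0 w) • f0) +
            (w - (-(B f0 w)) • e0 - (B e0 w) • f0) := by abel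
      rw [h2']
      exact S.add_mem (S.add_mem (S.smul_mem _ he0S) (S.smul_mem _ hf0S)) hd

/-- Classification of alternating forms: for an alternating bilinear form B on a finite-dimensional space over any field there is a basis indexed by (Fin m ⊕ Fin m) ⊕ Fin k such that B (e_i, f_j) = δ_ij, the e's are pairwise orthogonal, the f's are pairwise orthogonal, and the last k basis vectors are orthogonal to everything (they span the radical). -/
theorem result {F V : Type*} [Field F] [AddCommGroup V] [Module F V] [FiniteDimensional F V] (B : LinearMap.BilinForm F V) (hA : B.IsAlt) : ∃ (m k : ℕ) (b : Module.Basis ((Fin m ⊕ Fin m) ⊕ Fin k) F V), (∀ i j : Fin m, B (b (Sum.inl (Sum.inl i))) (b (Sum.inl (Sum.inr j))) = if i = j then 1 else 0) ∧ (∀ i j : Fin m, B (b (Sum.inl (Sum.inl i))) (b (Sum.inl (Sum.inl j))) = 0) ∧ (∀ i j : Fin m, B (b (Sum.inl (Sum.inr i))) (b (Sum.inl (Sum.inr j))) = 0) ∧ (∀ (j : Fin k) (v : V), B (b (Sum.inr j)) v = 0) := by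
  obtain ⟨m, k, e, f, r, hmk, _, _, _, h1, h2, h3, h4, h5⟩ :=
    aux B hA (Module.finrank F V) ⊤ (finrank_top F V)
  have hspan : ⊤ ≤ Submodule.span F (Set.range (Sum.elim (Sum.elim e f) r)) := by
    rw [Set.Sum.elim_range, Set.Sum.elim_range]
    exact h5
  have hcard : Fintype.card ((Fin m ⊕ Fin m) ⊕ Fin k) = Module.finrank F V := by
    simp only [Fintype.card_sum, Fintype.card_fin]
    omega
  refine ⟨m, k, basisOfTopLeSpanOfCardEqFinrank _ hspan hcard, ?_, ?_, ?_, ?_⟩
  · intro i j
    simp [h1]
  · intro i j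
    simp [h2]
  · intro i j
    simp [h3]
  · intro j v
    simp [h4 j v trivial]

end Cfsg.Agent.S0752
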