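import Cfsg.Statements.S2385
import Cfsg.Agent.Lib.Helper38.SpSSC
import Cfsg.Agent.Lib.Helper45.MonicCount
import Cfsg.Agent.S2389

set_option autoImplicit false
open Cfsg

namespace Cfsg.Agent.S2385

/-- In the symplectic group `Sp_{2n}(q)`, `q` a power of the prime `p`, the number of conjugacy classes of elements of order prime to `p` is `q^n`. -/
theorem result {F : Type*} [Field F] [Fintype F] {q : ℕ} (hq : Fintype.card F = q) (p : ℕ) [Fact p.Prime] [CharP F p] (n : ℕ) :
    Nat.card {c : ConjClasses ↥(Matrix.symplecticGroup (Fin n) F) //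
      ∃ g : ↥(Matrix.symplecticGroup (Fin n) F), ConjClasses.mk g = c ∧ (orderOf g).Coprime p} = q ^ n := by
  classical
  have hfin : Finite ↥(Matrix.symplecticGroup (Fin n) F) := inferInstance
  apply le_antisymm
  · -- upper bound: the upper half of the coefficients of the characteristic polynomial
    have hcard : Nat.card (Fin n → F) = q ^ n := by
      rw [Nat.card_eq_fintype_card, Fintype.card_fun, hq, Fintype.card_fin]
    rw [← hcard]
    apply Nat.card_le_card_of_injective
      (fun c : {c : ConjClasses ↥(Matrix.symplecticGroup (Fin n) F) //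
        ∃ g : ↥(Matrix.symplecticGroup (Fin n) F), ConjClasses.mk g = c ∧ (orderOf g).Coprime p} =>
        fun i : Fin n =>
          ((c.2.choose : ↥(Matrix.symplecticGroup (Fin n) F)) :
            Matrix (Fin n ⊕ Fin n) (Fin n ⊕ Fin n) F).charpoly.coeff (n + i))
    intro c d hcd
    obtain ⟨hc1, hc2⟩ := c.2.choose_spec
    obtain ⟨hd1, hd2⟩ := d.2.choose_spec
    set g := c.2.choose with hg
    set h := d.2.choose with hh
    have hco : ∀ i : ℕ, i < n →
        (g : Matrix (Fin n ⊕ Fin n) (Fin n ⊕ Fin n) F).charpoly.coeff (n + i) =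
        (h : Matrix (Fin n ⊕ Fin n) (Fin n ⊕ Fin n) F).charpoly.coeff (n + i) := by
      intro i hi
      exact congrFun hcd ⟨i, hi⟩
    have hndg : (g : Matrix (Fin n ⊕ Fin n) (Fin n ⊕ Fin n) F).charpoly.natDegree = 2 * n := by
      rw [Matrix.charpoly_natDegree_eq_dim, Fintype.card_sum, Fintype.card_fin, two_mul]
    have hndh : (h : Matrix (Fin n ⊕ Fin n) (Fin n ⊕ Fin n) F).charpoly.natDegree = 2 * n := by
      rw [Matrix.charpoly_natDegree_eq_dim, Fintype.card_sum, Fintype.card_fin, two_mul]
    have hupper : ∀ i : ℕ, n ≤ i →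
        (g : Matrix (Fin n ⊕ Fin n) (Fin n ⊕ Fin n) F).charpoly.coeff i =
        (h : Matrix (Fin n ⊕ Fin n) (Fin n ⊕ Fin n) F).charpoly.coeff i := by
      intro i hi
      rcases lt_trichotomy i (2 * n) with h1 | h1 | h1
      · have := hco (i - n) (by omega)
        rwa [show n + (i - n) = i by omega] at this
      · have h2 := (Matrix.charpoly_monic (g : Matrix (Fin n ⊕ Fin n) (Fin n ⊕ Fin n) F)).coeff_natDegree
        have h3 := (Matrix.charpoly_monic (h : Matrix (Fin n ⊕ Fin n) (Fin n ⊕ Fin n) F)).coeff_natDegree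
        rw [hndg] at h2
        rw [hndh] at h3
        rw [h1, h2, h3]
      · rw [Polynomial.coeff_eq_zero_of_natDegree_lt (by omega),
          Polynomial.coeff_eq_zero_of_natDegree_lt (by omega)]
    have hch : (g : Matrix (Fin n ⊕ Fin n) (Fin n ⊕ Fin n) F).charpoly =
        (h : Matrix (Fin n ⊕ Fin n) (Fin n ⊕ Fin n) F).charpoly := by
      ext i
      by_cases hi : n ≤ i
      · exact hupper i hi
      · have h1 := Cfsg.Agent.Lib.Helper38.SpSS.coeff_symm_of_mem g.2 (i := i)
          (by rw [Fintype.card_fin]; omega)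
        have h2 := Cfsg.Agent.Lib.Helper38.SpSS.coeff_symm_of_mem h.2 (i := i)
          (by rw [Fintype.card_fin]; omega)
        rw [Fintype.card_fin] at h1 h2
        rw [h1, h2]
        exact hupper _ (by omega)
    apply Subtype.ext
    rw [← hc1, ← hd1]
    exact ConjClasses.mk_eq_mk_iff_isConj.2 (Cfsg.Agent.S2389.result p n g h hc2 hd2 hch)
  · -- lower bound: a semisimple element for every monic polynomial of degree `n`
    have hcard : Nat.card {f : Polynomial F // f.Monic ∧ f.natDegree = n} = q ^ n := by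
      rw [Nat.card_congr (Cfsg.Agent.Lib.Helper45.monicEquiv F n), Nat.card_eq_fintype_card,
        Fintype.card_fun, hq, Fintype.card_fin]
    rw [← hcard]
    have hex := fun f : {f : Polynomial F // f.Monic ∧ f.natDegree = n} =>
      Cfsg.Agent.Lib.Helper38.SpSS.exists_ss_of_monic p n f.1 f.2.1 f.2.2
    apply Nat.card_le_card_of_injective
      (fun f : {f : Polynomial F // f.Monic ∧ f.natDegree = n} =>
        (⟨ConjClasses.mk (hex f).choose, (hex f).choose, rfl, (hex f).choose_spec.1⟩ :
          {c : ConjClasses ↥(Matrix.symplecticGroup (Fin n) F) //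
        ∃ g : ↥(Matrix.symplecticGroup (Fin n) F), ConjClasses.mk g = c ∧ (orderOf g).Coprime p}))
    intro f f' hff
    have h1 : ConjClasses.mk (hex f).choose = ConjClasses.mk (hex f').choose :=
      congrArg Subtype.val hff
    have h2 := Cfsg.Agent.Lib.Helper38.SpSS.charpoly_eq_of_isConj
      (ConjClasses.mk_eq_mk_iff_isConj.1 h1)
    obtain ⟨N, hN, hNs⟩ := (hex f).choose_spec.2
    obtain ⟨N', hN', hNs'⟩ := (hex f').choose_spec.2
    rw [hNs, hNs'] at h2
    apply Subtype.ext
    rw [← hN, ← hN']
    exact Cfsg.Agent.Lib.Helper38.SpSS.charpoly_eq_of_quadDet_eq h2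

end Cfsg.Agent.S2385
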