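import Cfsg.Statements.S2330
import Cfsg.Agent.Lib.Helper39.GL2Conj

set_option autoImplicit false
open Cfsg

namespace Cfsg.Agent.S2330

open Cfsg.Agent.Lib.Helper39

/-- scalar matrices in `GL₂`. -/
def scGL {F : Type*} [Field F] (u : Fˣ) : Matrix.GeneralLinearGroup (Fin 2) F :=
  Units.map (Matrix.scalar (Fin 2)).toMonoidHom u

theorem scGL_coe {F : Type*} [Field F] (u : Fˣ) :
    (scGL u : Matrix (Fin 2) (Fin 2) F) = Matrix.scalar (Fin 2) (u : F) := rfl

theorem scGL_conj {F : Type*} [Field F] (u : Fˣ) (c : Matrix.GeneralLinearGroup (Fin 2) F) :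
    c * scGL u * c⁻¹ = scGL u := by
  have h : c * scGL u = scGL u * c := by
    apply Units.ext
    rw [Units.val_mul, Units.val_mul, scGL_coe]
    exact ((Matrix.scalar_commute (u : F) (fun r' => mul_comm _ _) (c : Matrix (Fin 2) (Fin 2) F))).symm
  rw [h, mul_inv_cancel_right]

/-- the parametrisation of the classes. -/
noncomputable def Θ {F : Type*} [Field F] :
    Fˣ ⊕ (F × Fˣ) → ConjClasses (Matrix.GeneralLinearGroup (Fin 2) F)
  | Sum.inl u => ConjClasses.mk (scGL u)
  | Sum.inr (t, d) => ConjClasses.mk (compGL t d)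

theorem Θ_injective {F : Type*} [Field F] : Function.Injective (Θ (F := F)) := by
  rintro (u | ⟨t, d⟩) (u' | ⟨t', d'⟩) h
  · simp only [Θ, ConjClasses.mk_eq_mk_iff_isConj, isConj_iff] at h
    obtain ⟨c, hc⟩ := h
    rw [scGL_conj] at hc
    have := congrArg (fun g : Matrix.GeneralLinearGroup (Fin 2) F =>
      (g : Matrix (Fin 2) (Fin 2) F) 0 0) hc
    simp only [scGL_coe, Matrix.scalar_apply, Matrix.diagonal_apply_eq] at this
    rw [Units.ext this]
  · simp only [Θ, ConjClasses.mk_eq_mk_iff_isConj, isConj_iff] at h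
    obtain ⟨c, hc⟩ := h
    rw [scGL_conj] at hc
    have := congrArg (fun g : Matrix.GeneralLinearGroup (Fin 2) F =>
      (g : Matrix (Fin 2) (Fin 2) F) 1 0) hc
    simp [scGL_coe, compGL_coe, compMat] at this
  · simp only [Θ, ConjClasses.mk_eq_mk_iff_isConj] at h
    rw [isConj_comm, isConj_iff] at h
    obtain ⟨c, hc⟩ := h
    rw [scGL_conj] at hc
    have := congrArg (fun g : Matrix.GeneralLinearGroup (Fin 2) F =>
      (g : Matrix (Fin 2) (Fin 2) F) 1 0) hc
    simp [scGL_coe, compGL_coe, compMat] at this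
  · simp only [Θ, ConjClasses.mk_eq_mk_iff_isConj, isConj_iff] at h
    obtain ⟨c, hc⟩ := h
    have h1 := trace_conj_GL c (compGL t d)
    rw [hc, compGL_coe, compGL_coe, compMat_trace, compMat_trace] at h1
    have h2 : Matrix.GeneralLinearGroup.det (c * compGL t d * c⁻¹) =
        Matrix.GeneralLinearGroup.det (compGL t d) := by
      rw [map_mul, map_mul, map_inv, mul_comm, inv_mul_cancel_left]
    rw [hc] at h2
    have h3 : ∀ (t : F) (d : Fˣ), Matrix.GeneralLinearGroup.det (compGL t d) = d := by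
      intro t d
      apply Units.ext
      rw [Matrix.GeneralLinearGroup.val_det_apply, compGL_coe, compMat_det]
    rw [h3, h3] at h2
    rw [h1, h2]

theorem Θ_surjective {F : Type*} [Field F] : Function.Surjective (Θ (F := F)) := by
  intro C
  obtain ⟨g, rfl⟩ := ConjClasses.exists_rep C
  by_cases hg : IsScalar2 (g : Matrix (Fin 2) (Fin 2) F)
  · have hdet : (g : Matrix (Fin 2) (Fin 2) F).det ≠ 0 := by
      have := (Matrix.GeneralLinearGroup.det g).ne_zero
      rwa [Matrix.GeneralLinearGroup.val_det_apply] at this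
    have h00 : (g : Matrix (Fin 2) (Fin 2) F) 0 0 ≠ 0 := by
      intro h0
      apply hdet
      rw [Matrix.det_fin_two, hg.1, h0]
      simp
    refine ⟨Sum.inl (Units.mk0 _ h00), ?_⟩
    simp only [Θ]
    congr 1
    apply Units.ext
    rw [scGL_coe]
    ext i j
    fin_cases i <;> fin_cases j <;> simp [hg.1, hg.2.1, hg.2.2]
  · refine ⟨Sum.inr ((g : Matrix (Fin 2) (Fin 2) F).trace, Matrix.GeneralLinearGroup.det g), ?_⟩
    simp only [Θ]
    rw [ConjClasses.mk_eq_mk_iff_isConj]
    exact (isConj_compGL g hg).symm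

/-- Over a finite field with q elements, the general linear group GL₂ has exactly q² − 1 conjugacy classes. -/
theorem result {F : Type*} [Field F] [Fintype F] :
    Nat.card (ConjClasses (Matrix.GeneralLinearGroup (Fin 2) F)) = Fintype.card F ^ 2 - 1 := by
  classical
  rw [← Nat.card_congr (Equiv.ofBijective Θ ⟨Θ_injective, Θ_surjective⟩)]
  rw [Nat.card_eq_fintype_card, Fintype.card_sum, Fintype.card_prod, Fintype.card_units]
  have h1 : 1 ≤ Fintype.card F := Fintype.card_pos
  obtain ⟨q, hq⟩ : ∃ q, Fintype.card F = q + 1 := ⟨Fintype.card F - 1, by omega⟩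
  rw [hq]
  simp only [Nat.add_sub_cancel]
  have : (q + 1) ^ 2 = q + (q + 1) * q + 1 := by ring
  omega

end Cfsg.Agent.S2330
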