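import Cfsg.Statements.S2331
import Cfsg.Agent.Lib.Helper39.GL2Conj

set_option autoImplicit false
open Cfsg

namespace Cfsg.Agent.S2331

open Cfsg.Agent.Lib.Helper39

/-- companion matrix of determinant one in `SL₂`. -/
def compSL {F : Type*} [Field F] (t : F) : Matrix.SpecialLinearGroup (Fin 2) F :=
  ⟨compMat t 1, compMat_det t 1⟩

/-- the parametrisation of the classes. -/
def Θ {F : Type*} [Field F] : Unit ⊕ F → ConjClasses (Matrix.SpecialLinearGroup (Fin 2) F)
  | Sum.inl _ => ConjClasses.mk 1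
  | Sum.inr t => ConjClasses.mk (compSL t)

theorem compSL_ne_one {F : Type*} [Field F] (t : F) : compSL t ≠ 1 := by
  intro h
  have := congrArg (fun g : Matrix.SpecialLinearGroup (Fin 2) F =>
    (g : Matrix (Fin 2) (Fin 2) F) 1 0) h
  simp [compSL, compMat] at this

theorem Θ_injective {F : Type*} [Field F] : Function.Injective (Θ (F := F)) := by
  rintro (u | t) (u' | t') h
  · rfl
  · simp only [Θ, ConjClasses.mk_eq_mk_iff_isConj, isConj_one_right] at h
    exact absurd h (compSL_ne_one t')
  · simp only [Θ, ConjClasses.mk_eq_mk_iff_isConj, isConj_one_left] at h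
    exact absurd h (compSL_ne_one t)
  · simp only [Θ, ConjClasses.mk_eq_mk_iff_isConj, isConj_iff] at h
    obtain ⟨c, hc⟩ := h
    have h1 : ((c * compSL t * c⁻¹ : Matrix.SpecialLinearGroup (Fin 2) F) :
        Matrix (Fin 2) (Fin 2) F).trace = (compSL t : Matrix (Fin 2) (Fin 2) F).trace := by
      rw [Matrix.SpecialLinearGroup.coe_mul, Matrix.SpecialLinearGroup.coe_mul,
        Matrix.trace_mul_comm, ← mul_assoc, ← Matrix.SpecialLinearGroup.coe_mul,
        inv_mul_cancel, Matrix.SpecialLinearGroup.coe_one, one_mul]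
    rw [hc] at h1
    simp only [compSL, compMat_trace] at h1
    rw [h1]

theorem Θ_surjective {F : Type*} [Field F] [Fintype F] [CharP F 2] :
    Function.Surjective (Θ (F := F)) := by
  intro C
  obtain ⟨g, rfl⟩ := ConjClasses.exists_rep C
  have hdet : (g : Matrix (Fin 2) (Fin 2) F).det = 1 := g.2
  by_cases hg : IsScalar2 (g : Matrix (Fin 2) (Fin 2) F)
  · refine ⟨Sum.inl (), ?_⟩
    simp only [Θ]
    congr 1
    have h00 : (g : Matrix (Fin 2) (Fin 2) F) 0 0 = 1 := by
      rw [Matrix.det_fin_two, hg.1, ← hg.2.2] at hdet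
      have h2 : (2 : F) = 0 := CharTwo.two_eq_zero
      have : ((g : Matrix (Fin 2) (Fin 2) F) 0 0 - 1) * ((g : Matrix (Fin 2) (Fin 2) F) 0 0 - 1) = 0 := by
        linear_combination hdet + (1 - (g : Matrix (Fin 2) (Fin 2) F) 0 0) * h2
      linear_combination mul_self_eq_zero.mp this
    apply Subtype.ext
    ext i j
    fin_cases i <;> fin_cases j <;> simp [hg.1, hg.2.1, ← hg.2.2, h00]
  · obtain ⟨P, hP, h⟩ := exists_conj_compMat (g : Matrix (Fin 2) (Fin 2) F) hg
    obtain ⟨s, hs⟩ := FiniteField.isSquare_of_char_two (CharP.ringChar_of_prime_eq_zero Nat.prime_two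
      (CharTwo.two_eq_zero (R := F))) (P.det)⁻¹
    refine ⟨Sum.inr (g : Matrix (Fin 2) (Fin 2) F).trace, ?_⟩
    simp only [Θ]
    rw [ConjClasses.mk_eq_mk_iff_isConj, isConj_comm, isConj_iff]
    have hdet' : (s • P).det = 1 := by
      rw [Matrix.det_smul, Fintype.card_fin, pow_two, ← hs, inv_mul_cancel₀ hP]
    set P' : Matrix.SpecialLinearGroup (Fin 2) F := ⟨s • P, hdet'⟩ with hP'
    have h' : g * P' = P' * compSL (g : Matrix (Fin 2) (Fin 2) F).trace := by
      apply Subtype.ext
      rw [Matrix.SpecialLinearGroup.coe_mul, Matrix.SpecialLinearGroup.coe_mul]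
      change (g : Matrix (Fin 2) (Fin 2) F) * (s • P) =
        (s • P) * compMat (g : Matrix (Fin 2) (Fin 2) F).trace 1
      rw [Matrix.mul_smul, Matrix.smul_mul, h, hdet]
    refine ⟨P'⁻¹, ?_⟩
    rw [inv_inv, mul_assoc, h', inv_mul_cancel_left]

/-- Over a finite field with q elements, q even, the special linear group SL₂ has exactly q + 1 conjugacy classes. -/
theorem result {F : Type*} [Field F] [Fintype F] [CharP F 2] :
    Nat.card (ConjClasses (Matrix.SpecialLinearGroup (Fin 2) F)) = Fintype.card F + 1 := by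
  classical
  rw [← Nat.card_congr (Equiv.ofBijective Θ ⟨Θ_injective, Θ_surjective⟩)]
  rw [Nat.card_eq_fintype_card, Fintype.card_sum, Fintype.card_unit, add_comm]

end Cfsg.Agent.S2331
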