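import Cfsg.Statements.S2508
import Mathlib
import Cfsg.Agent.Lib.Helper42.PSL2Class

set_option autoImplicit false
open Cfsg

namespace Cfsg.Agent.S2508

open Matrix Cfsg.Agent.Lib.Helper41 Cfsg.Agent.Lib.Helper42

section
variable {F : Type*} [Field F] [Fintype F] [DecidableEq F]

theorem range_eq (hodd : Fintype.card F % 2 = 1) (h7 : 7 ≤ Fintype.card F) :
    Set.range (fun g : (Matrix.ProjectiveSpecialLinearGroup (Fin 2) F) => (Subgroup.centralizer ({g} : Set (Matrix.ProjectiveSpecialLinearGroup (Fin 2) F))).index) =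
      {1, (Fintype.card F ^ 2 - 1) / 2,
        (Fintype.card F * (Fintype.card F - 1) + Fintype.card F * rootCount (0 : F)) / 2,
        Fintype.card F * (Fintype.card F - 1), Fintype.card F * (Fintype.card F + 1)} := by
  have h2 := two_ne_zero_of_odd hodd
  have h4 : (4 : F) ≠ 0 := by
    have : (4 : F) = 2 * 2 := by norm_num
    rw [this]; exact mul_ne_zero h2 h2
  set q := Fintype.card F with hq
  have hqq : q * (q - 1) + q * 2 = q * (q + 1) := by
    obtain ⟨c, hc⟩ : ∃ c, q = c + 1 := ⟨q - 1, by omega⟩
    rw [hc]; simp only [Nat.add_sub_cancel]; ring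
  have hone : (Subgroup.centralizer ({1} : Set (ProjectiveSpecialLinearGroup (Fin 2) F))).index = 1 := by
    rw [index_centralizer_eq_ncard]
    have : {h : ProjectiveSpecialLinearGroup (Fin 2) F | IsConj 1 h} = {1} := by
      ext h; simp
    rw [this, Set.ncard_singleton]
  have hzero : ∀ g : SpecialLinearGroup (Fin 2) F, Matrix.trace (g : Matrix (Fin 2) (Fin 2) F) = 0 →
      (Subgroup.centralizer ({(QuotientGroup.mk g : ProjectiveSpecialLinearGroup (Fin 2) F)} :
        Set (ProjectiveSpecialLinearGroup (Fin 2) F))).index =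
      (q * (q - 1) + q * rootCount (0 : F)) / 2 := by
    intro g ht
    have ht4 : Matrix.trace (g : Matrix (Fin 2) (Fin 2) F) ^ 2 ≠ 4 := by
      rw [ht]; simpa using h4.symm
    have e1 := index_mk_of_neg_closed h2 g (by
      intro h hh
      apply isConj_of_trace_eq hodd g _ ht4
      rw [Matrix.SpecialLinearGroup.coe_neg, Matrix.trace_neg, trace_eq_of_isConj hh, ht, neg_zero])
    rw [index_of_trace hodd g ht4, ht, ← hq] at e1
    rw [e1]
    omega
  have hgen : ∀ g : SpecialLinearGroup (Fin 2) F, Matrix.trace (g : Matrix (Fin 2) (Fin 2) F) ≠ 0 →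
      Matrix.trace (g : Matrix (Fin 2) (Fin 2) F) ^ 2 ≠ 4 →
      (Subgroup.centralizer ({(QuotientGroup.mk g : ProjectiveSpecialLinearGroup (Fin 2) F)} :
        Set (ProjectiveSpecialLinearGroup (Fin 2) F))).index =
      q * (q - 1) + q * rootCount (Matrix.trace (g : Matrix (Fin 2) (Fin 2) F)) := by
    intro g ht ht4
    rw [index_mk_of_trace_ne_zero h2 g ht, index_of_trace hodd g ht4]
  have hunip : ∀ g : SpecialLinearGroup (Fin 2) F,
      ¬ ((g : Matrix (Fin 2) (Fin 2) F) = 1 ∨ (g : Matrix (Fin 2) (Fin 2) F) = -1) →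
      Matrix.trace (g : Matrix (Fin 2) (Fin 2) F) ^ 2 = 4 →
      (Subgroup.centralizer ({(QuotientGroup.mk g : ProjectiveSpecialLinearGroup (Fin 2) F)} :
        Set (ProjectiveSpecialLinearGroup (Fin 2) F))).index = (q ^ 2 - 1) / 2 := by
    intro g hnc ht4
    have ht : Matrix.trace (g : Matrix (Fin 2) (Fin 2) F) ≠ 0 := by
      intro h
      rw [h] at ht4
      exact h4 (by simpa using ht4.symm)
    rw [index_mk_of_trace_ne_zero h2 g ht]
    apply index_unipotent hodd g (Matrix.trace (g : Matrix (Fin 2) (Fin 2) F) / 2) _ _ hnc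
    · field_simp
      linear_combination ht4
    · field_simp
  ext n
  simp only [Set.mem_range, Set.mem_insert_iff, Set.mem_singleton_iff]
  constructor
  · rintro ⟨g, rfl⟩
    obtain ⟨g, rfl⟩ := QuotientGroup.mk_surjective g
    by_cases hc : (g : Matrix (Fin 2) (Fin 2) F) = 1 ∨ (g : Matrix (Fin 2) (Fin 2) F) = -1
    · left
      have : (QuotientGroup.mk g : ProjectiveSpecialLinearGroup (Fin 2) F) = 1 := by
        by_contra hne
        exact (psl2_mk_ne_one_iff g).1 hne hc
      rw [this, hone]
    · by_cases ht4 : Matrix.trace (g : Matrix (Fin 2) (Fin 2) F) ^ 2 = 4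
      · right; left
        exact hunip g hc ht4
      · by_cases ht : Matrix.trace (g : Matrix (Fin 2) (Fin 2) F) = 0
        · right; right; left
          exact hzero g ht
        · rw [hgen g ht ht4]
          by_cases hr : ∃ a : F, a * (Matrix.trace (g : Matrix (Fin 2) (Fin 2) F) - a) = 1
          · obtain ⟨a, ha⟩ := hr
            right; right; right; right
            rw [rootCount_eq_two_of_root h2 _ a ha ht4, hqq]
          · push Not at hr
            right; right; right; left
            rw [rootCount_eq_zero _ hr, mul_zero, add_zero]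
  · rintro (rfl | rfl | rfl | rfl | rfl)
    · exact ⟨1, hone⟩
    · refine ⟨QuotientGroup.mk (comp' 1 2 one_ne_zero), ?_⟩
      apply hunip
      · rw [comp'_coe]
        rintro (h | h)
        · have := congrFun (congrFun h 0) 0
          simp at this
        · have := congrFun (congrFun h 0) 0
          simp at this
      · rw [trace_comp']; norm_num
    · exact ⟨QuotientGroup.mk (comp' 1 0 one_ne_zero), hzero _ (trace_comp' _ _ _)⟩
    · obtain ⟨t, ht0, hroot⟩ := exists_nonsplit hodd h7
      refine ⟨QuotientGroup.mk (comp' 1 t one_ne_zero), ?_⟩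
      rw [hgen _ (by rw [trace_comp']; exact ht0) _, trace_comp', rootCount_eq_zero t hroot,
        mul_zero, add_zero]
      rw [trace_comp']
      intro h
      apply hroot (t / 2)
      field_simp
      linear_combination h
    · obtain ⟨ζ, hζ⟩ := IsCyclic.exists_generator (α := Fˣ)
      have hord : orderOf ζ = q - 1 := by
        rw [orderOf_eq_card_of_forall_mem_zpowers hζ, Nat.card_eq_fintype_card, Fintype.card_units]
      have hζ4 : (ζ : F) ^ 4 ≠ 1 := by
        intro h
        have h5 : ζ ^ 4 = 1 := Units.ext (by simpa using h)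
        have := Nat.le_of_dvd (by norm_num) (orderOf_dvd_of_pow_eq_one h5)
        omega
      set a : F := (ζ : F) with ha
      have ha0 : a ≠ 0 := Units.ne_zero ζ
      have hroot : a * ((a + a⁻¹) - a) = 1 := by
        field_simp
        ring
      refine ⟨QuotientGroup.mk (comp' 1 (a + a⁻¹) one_ne_zero), ?_⟩
      have ht0 : a + a⁻¹ ≠ 0 := by
        intro h
        apply hζ4
        have h5 : a ^ 2 = -1 := by
          have : a * (a + a⁻¹) = 0 := by rw [h, mul_zero]
          rw [mul_add, mul_inv_cancel₀ ha0] at this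
          linear_combination this
        calc a ^ 4 = (a ^ 2) ^ 2 := by ring
          _ = 1 := by rw [h5]; ring
      have ht4 : (a + a⁻¹) ^ 2 ≠ 4 := by
        intro h
        apply hζ4
        have h5 : (a ^ 2 - 1) ^ 2 = 0 := by
          have : a ^ 2 * (a + a⁻¹) ^ 2 = a ^ 2 * 4 := by rw [h]
          have h6 : a ^ 2 * (a + a⁻¹) ^ 2 = (a ^ 2 + 1) ^ 2 := by
            field_simp
          rw [h6] at this
          linear_combination this
        have h7 : a ^ 2 = 1 := sub_eq_zero.1 (pow_eq_zero_iff (two_ne_zero) |>.1 h5)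
        calc a ^ 4 = (a ^ 2) ^ 2 := by ring
          _ = 1 := by rw [h7]; ring
      rw [hgen _ (by rw [trace_comp']; exact ht0) (by rw [trace_comp']; exact ht4), trace_comp',
        rootCount_eq_two_of_root h2 _ a hroot ht4, hqq]

end

/-- Let F be a finite field with q elements, q odd and q ≥ 7. If q ≡ 1 (mod 4) the conjugacy class sizes of PSL(2,F) are exactly 1, (q² − 1)/2, q(q + 1)/2, q(q − 1) and q(q + 1); if q ≡ 3 (mod 4) they are exactly 1, (q² − 1)/2, q(q − 1)/2, q(q + 1) and q(q − 1). -/
theorem result {F : Type*} [Field F] [Fintype F]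
    (hodd : ¬ 2 ∣ Fintype.card F) (h7 : 7 ≤ Fintype.card F) :
    (Fintype.card F % 4 = 1 →
      Set.range (fun g : (Matrix.ProjectiveSpecialLinearGroup (Fin 2) F) => (Subgroup.centralizer ({g} : Set (Matrix.ProjectiveSpecialLinearGroup (Fin 2) F))).index) =
        {1, (Fintype.card F ^ 2 - 1) / 2, Fintype.card F * (Fintype.card F + 1) / 2,
          Fintype.card F * (Fintype.card F - 1), Fintype.card F * (Fintype.card F + 1)}) ∧
    (Fintype.card F % 4 = 3 →
      Set.range (fun g : (Matrix.ProjectiveSpecialLinearGroup (Fin 2) F) => (Subgroup.centralizer ({g} : Set (Matrix.ProjectiveSpecialLinearGroup (Fin 2) F))).index) =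
        {1, (Fintype.card F ^ 2 - 1) / 2, Fintype.card F * (Fintype.card F - 1) / 2,
          Fintype.card F * (Fintype.card F + 1), Fintype.card F * (Fintype.card F - 1)}) := by
  classical
  have hodd' : Fintype.card F % 2 = 1 := by omega
  have hr := range_eq hodd' h7
  have h2 := two_ne_zero_of_odd hodd'
  have h4 : (4 : F) ≠ 0 := by
    have : (4 : F) = 2 * 2 := by norm_num
    rw [this]; exact mul_ne_zero h2 h2
  have hqq : Fintype.card F * (Fintype.card F - 1) + Fintype.card F * 2 =
      Fintype.card F * (Fintype.card F + 1) := by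
    obtain ⟨c, hc⟩ : ∃ c, Fintype.card F = c + 1 := ⟨Fintype.card F - 1, by omega⟩
    rw [hc]; simp only [Nat.add_sub_cancel]; ring
  constructor
  · intro h1
    obtain ⟨i, hi⟩ : IsSquare (-1 : F) := FiniteField.isSquare_neg_one_iff.2 (by omega)
    have hr0 : rootCount (0 : F) = 2 :=
      rootCount_eq_two_of_root h2 0 i (by linear_combination hi) (by simpa using h4.symm)
    rw [hr, hr0, hqq]
  · intro h3
    have hr0 : rootCount (0 : F) = 0 := by
      apply rootCount_eq_zero
      intro a ha
      have : IsSquare (-1 : F) := ⟨a, by linear_combination ha⟩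
      exact FiniteField.isSquare_neg_one_iff.1 this h3
    rw [hr, hr0, mul_zero, add_zero]
    ext n
    simp only [Set.mem_insert_iff, Set.mem_singleton_iff]
    tauto

end Cfsg.Agent.S2508
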