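import Cfsg.Statements.S1697
import Cfsg.Agent.Lib.Helper40.Fi.FiChain
import Cfsg.Agent.Lib.Helper40.Fi.L10f
import Cfsg.Agent.Lib.Helper40.Fi.F23Low

set_option autoImplicit false
open Cfsg

namespace Cfsg.Agent.S1697

open Cfsg.Agent.Lib.Helper40.PE

theorem hsp : wp F23.s (List.replicate 10 [1, 0, 5, 1, 2, 4, 1, 3, 6]).flatten = 1 :=
  F23.s_B _ (List.mem_append_right _ (by simp))

theorem he1 : wp F23.s (List.replicate 9 [8, 5, 0, 1, 2, 4, 3]).flatten = 1 :=
  F23.s_B _ (List.mem_append_right _ (by simp))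

theorem upper : Finite Cfsg.Spor.Fi23 ∧ Nat.card Cfsg.Spor.Fi23 ≤ 4089470473293004800 := by
  have h9 := card_pre9b F23.s_inv (fun i hi j hj => F23.s_cox i (by omega) j (by omega)) hsp he1
  obtain ⟨h1, h2⟩ := chain_step (L10.cov F23.s_inv F23.s_B (pre F23.s 9) (letters_mem (by decide))) h9
  rw [F23.pre_top] at h1 h2
  have e : Nat.card (⊤ : Subgroup Cfsg.Spor.Fi23) = Nat.card Cfsg.Spor.Fi23 :=
    Nat.card_congr Subgroup.topEquiv.toEquiv
  rw [e] at h2
  exact ⟨Finite.of_equiv _ Subgroup.topEquiv.toEquiv, h2.trans (by norm_num)⟩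

/-- braid relations -/
theorem braid {i j : ℕ} (hi : i < 10) (hj : j < 10) (h : mY i j = 3) : (F23.s i * F23.s j) ^ 3 = 1 := by
  have := F23.s_cox i hi j hj
  rwa [h] at this

/-- a path from the point of the generator `c` to the base point -/
def pth : List ℕ := [1, 2, 3, 1, 4, 2, 5, 0, 1, 3, 7, 4, 2, 1, 0, 5, 9, 7, 4, 2, 1, 0, 3, 1, 2, 4, 7, 9]

/-- the transposition centralised by `⟨a, …, i⟩` -/
def t0w : List ℕ := pth.reverse ++ 0 :: pth

theorem conj_all : ∀ k < 10, ∃ a : Cfsg.Spor.Fi23, F23.s k = a * wp F23.s t0w * a⁻¹ := by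
  have c0 : ∃ a : Cfsg.Spor.Fi23, F23.s 0 = a * wp F23.s t0w * a⁻¹ := by
    refine ⟨wp F23.s pth, ?_⟩
    rw [t0w, wp_append, wp_cons, wp_reverse _ F23.s_inv]
    group
  have c5 := conj_step (F23.s_inv 0) (F23.s_inv 5) (braid (by decide) (by decide) (by decide)) c0
  have c8 := conj_step (F23.s_inv 5) (F23.s_inv 8) (braid (by decide) (by decide) (by decide)) c5
  have c1 := conj_step (F23.s_inv 0) (F23.s_inv 1) (braid (by decide) (by decide) (by decide)) c0
  have c2 := conj_step (F23.s_inv 1) (F23.s_inv 2) (braid (by decide) (by decide) (by decide)) c1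
  have c4 := conj_step (F23.s_inv 2) (F23.s_inv 4) (braid (by decide) (by decide) (by decide)) c2
  have c7 := conj_step (F23.s_inv 4) (F23.s_inv 7) (braid (by decide) (by decide) (by decide)) c4
  have c9 := conj_step (F23.s_inv 7) (F23.s_inv 9) (braid (by decide) (by decide) (by decide)) c7
  have c3 := conj_step (F23.s_inv 1) (F23.s_inv 3) (braid (by decide) (by decide) (by decide)) c1
  have c6 := conj_step (F23.s_inv 3) (F23.s_inv 6) (braid (by decide) (by decide) (by decide)) c3
  intro k hk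
  interval_cases k
  · exact c0
  · exact c1
  · exact c2
  · exact c3
  · exact c4
  · exact c5
  · exact c6
  · exact c7
  · exact c8
  · exact c9

theorem perfect : commutator Cfsg.Spor.Fi23 = ⊤ := by
  have a5 := ab_eq (F23.s_inv 8) (F23.s_inv 5) (braid (by decide) (by decide) (by decide))
  have a0 := ab_eq (F23.s_inv 5) (F23.s_inv 0) (braid (by decide) (by decide) (by decide))
  have a1 := ab_eq (F23.s_inv 0) (F23.s_inv 1) (braid (by decide) (by decide) (by decide))
  have a2 := ab_eq (F23.s_inv 1) (F23.s_inv 2) (braid (by decide) (by decide) (by decide))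
  have a4 := ab_eq (F23.s_inv 2) (F23.s_inv 4) (braid (by decide) (by decide) (by decide))
  have a7 := ab_eq (F23.s_inv 4) (F23.s_inv 7) (braid (by decide) (by decide) (by decide))
  have a9 := ab_eq (F23.s_inv 7) (F23.s_inv 9) (braid (by decide) (by decide) (by decide))
  have a3 := ab_eq (F23.s_inv 1) (F23.s_inv 3) (braid (by decide) (by decide) (by decide))
  have a6 := ab_eq (F23.s_inv 3) (F23.s_inv 6) (braid (by decide) (by decide) (by decide))
  have hx := congrArg Abelianization.of (F23.s_inv 8)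
  have hr := congrArg Abelianization.of he1
  rw [wp_flatten_replicate] at hr
  simp only [wp_cons, wp_nil, mul_one, map_pow, map_mul, map_one] at hr hx
  rw [← a3, ← a4, ← a2, ← a1, ← a0, ← a5] at hr
  have h8 : Abelianization.of (F23.s 8) = 1 := by
    generalize Abelianization.of (F23.s 8) = x at hr hx
    have h2 : x ^ 2 = 1 := by rw [pow_two]; exact hx
    have h63 : x ^ 63 = 1 := by
      have e7 : x * (x * (x * (x * (x * (x * x))))) = x ^ 7 := by
        simp only [pow_succ, pow_zero, one_mul, mul_assoc]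
      rw [e7, ← pow_mul] at hr
      exact hr
    calc x = x ^ 63 * ((x ^ 2) ^ 31)⁻¹ := by group
      _ = 1 := by rw [h63, h2]; simp
  apply perfect_of_ab F23.pre_top
  intro k hk
  interval_cases k
  · rw [← a0, ← a5, h8]
  · rw [← a1, ← a0, ← a5, h8]
  · rw [← a2, ← a1, ← a0, ← a5, h8]
  · rw [← a3, ← a1, ← a0, ← a5, h8]
  · rw [← a4, ← a2, ← a1, ← a0, ← a5, h8]
  · rw [← a5, h8]
  · rw [← a6, ← a3, ← a1, ← a0, ← a5, h8]
  · rw [← a7, ← a4, ← a2, ← a1, ← a0, ← a5, h8]
  · exact h8
  · rw [← a9, ← a7, ← a4, ← a2, ← a1, ← a0, ← a5, h8]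

/-- The presented Fischer group Fi23 is simple of the expected order (that is, it is a simple group of the order of the Fischer group Fi₂₃). -/
theorem result : Cfsg.IsFi23 Cfsg.Spor.Fi23 := by
  obtain ⟨hfin, hub⟩ := upper
  obtain ⟨ρ, hρ⟩ := F23.exists_rho (p := F23P.P) rfl F23P.good
  obtain ⟨hcard, hbot⟩ := order_of_bounds hfin hub (F23P.lower hρ) (by norm_num)
  refine ⟨?_, hcard⟩
  have htrans := F23P.trans hρ
  have hbN : ∀ b ∈ F23P.base, b < F23P.P.N := by decide +kernel
  have hZ := PTab.center_trivial F23P.good hρ hbot hbN F23.pre_top (by decide) (A' := 9)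
    (by decide) F23P.fix0 F23P.mov htrans
  -- `H` centralises the transposition `t0`
  have hc : ∀ h ∈ Hs F23.s F23P.Sw, h * wp F23.s t0w = wp F23.s t0w * h := by
    intro h hh
    induction hh using Subgroup.closure_induction with
    | mem x hx =>
      obtain ⟨w, hw, rfl⟩ := hx
      have key : ∀ w ∈ F23P.Sw, (∀ k ∈ w ++ t0w, k < F23P.P.A) ∧
          (∀ k ∈ t0w ++ w, k < F23P.P.A) ∧
          allL (fun b => Nat.beq (F23P.P.walk (w ++ t0w).reverse b)
            (F23P.P.walk (t0w ++ w).reverse b)) F23P.base = true := by decide +kernel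
      obtain ⟨k1, k2, k3⟩ := key w hw
      have := PTab.wp_eq_of_base F23P.good hρ hbot hbN (w ++ t0w) (t0w ++ w) k1 k2 k3
      rwa [wp_append, wp_append] at this
    | one => simp
    | mul x y _ _ hx hy => rw [mul_assoc, hy, ← mul_assoc, hx, mul_assoc]
    | inv x _ hx =>
      calc x⁻¹ * wp F23.s t0w = x⁻¹ * (wp F23.s t0w * x) * x⁻¹ := by group
        _ = x⁻¹ * (x * wp F23.s t0w) * x⁻¹ := by rw [hx]
        _ = wp F23.s t0w * x⁻¹ := by group
  have hgen := closure_conj_top F23.pre_top conj_all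
  have hcov := L10.cov (s := F23.s) F23.s_inv F23.s_B (Hs F23.s F23P.Sw) (fun w hw => wp_mem_Hs _ hw)
  have hub' := card_quot_le_of_cover (H := Hs F23.s F23P.Sw) (N := 31671) _
    (fun g => hcov g (by rw [F23.pre_top]; trivial))
  have : MulAction.IsPreprimitive Cfsg.Spor.Fi23 (Cfsg.Spor.Fi23 ⧸ Hs F23.s F23P.Sw) :=
    rank3_prim (n1 := 28161) F23P.good hρ (by decide +kernel) hub' (by decide) (by decide)
      F23P.orb0 F23P.orb1 F23P.orb2 [9] [9, 7, 4, 2, 1, 0, 3, 1, 2, 4, 7, 9] (by decide) (by decide)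
      F23P.root1 F23P.root2 (by decide) (by decide)
  have : Nontrivial Cfsg.Spor.Fi23 := by
    apply (Finite.one_lt_card_iff_nontrivial).mp
    rw [hcard]; norm_num
  exact MulAction.IwasawaStructure.isSimpleGroup perfect (iwasawa hc hgen)
    (faithful_of_center hc hgen hZ)

end Cfsg.Agent.S1697
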