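import Mathlib
import Cfsg.Statements.S3377
import Cfsg.Agent.Lib.Helper56.CosetCover

set_option autoImplicit false
open Cfsg

namespace Cfsg.Agent.S3377

open Cfsg.Agent.Lib.Helper56

/-- A group generated by `x, y` with `x^3 = y^5 = (xy)^2 = 1` has at most 60 elements
(coset enumeration over `⟨y⟩`, 12 cosets). -/
theorem card_le_60 {G : Type*} [Group G] (x y : G) (hx : x ^ 3 = 1) (hy : y ^ 5 = 1)
    (hxy : (x * y) ^ 2 = 1) (hgen : Subgroup.closure {x, y} = ⊤) :
    Finite G ∧ Nat.card G ≤ 60 := by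
  have rx : x * x * x = 1 := by simpa only [pow_succ, pow_zero, one_mul, mul_assoc] using hx
  have ry : y * y * y * y * y = 1 := by simpa only [pow_succ, pow_zero, one_mul, mul_assoc] using hy
  have rxy : x * y * x * y = 1 := by simpa only [pow_succ, pow_zero, one_mul, mul_assoc] using hxy
  have ryx : y * x * y * x = 1 := by
    have : x * (y * x * y) = 1 := by simpa only [mul_assoc] using rxy
    have := mul_eq_one_rot this
    rw [← this]
  obtain ⟨q0, hq0⟩ : ∃ q : G ⧸ Subgroup.zpowers y, q = ((1 : G) : G ⧸ Subgroup.zpowers y) := ⟨_, rfl⟩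
  have hy0 : y • q0 = q0 := by
    rw [hq0]
    change ((y * 1 : G) : G ⧸ Subgroup.zpowers y) = _
    rw [QuotientGroup.eq]
    simp
  obtain ⟨q1, e_x_0⟩ : ∃ q, x • q0 = q := ⟨_, rfl⟩
  obtain ⟨q2, e_x_1⟩ : ∃ q, x • q1 = q := ⟨_, rfl⟩
  obtain ⟨q3, e_y_2⟩ : ∃ q, y • q2 = q := ⟨_, rfl⟩
  obtain ⟨q4, e_x_3⟩ : ∃ q, x • q3 = q := ⟨_, rfl⟩
  obtain ⟨q5, e_y_3⟩ : ∃ q, y • q3 = q := ⟨_, rfl⟩
  obtain ⟨q6, e_x_4⟩ : ∃ q, x • q4 = q := ⟨_, rfl⟩
  obtain ⟨q7, e_x_5⟩ : ∃ q, x • q5 = q := ⟨_, rfl⟩
  obtain ⟨q8, e_y_6⟩ : ∃ q, y • q6 = q := ⟨_, rfl⟩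
  obtain ⟨q9, e_y_8⟩ : ∃ q, y • q8 = q := ⟨_, rfl⟩
  obtain ⟨q10, e_x_9⟩ : ∃ q, x • q9 = q := ⟨_, rfl⟩
  obtain ⟨q11, e_x_10⟩ : ∃ q, x • q10 = q := ⟨_, rfl⟩
  have e_y_0 : y • q0 = q0 := by
    have h : (y) • q0 = q0 := hy0
    simpa only [mul_smul] using h
  have e_x_2 : x • q2 = q0 := by
    have h : (x * x * x) • q0 = q0 := by rw [rx, one_smul]
    simpa only [mul_smul, e_x_0, e_x_1] using h
  have e_x_6 : x • q6 = q3 := by
    have h : (x * x * x) • q3 = q3 := by rw [rx, one_smul]
    simpa only [mul_smul, e_x_3, e_x_4] using h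
  have e_x_11 : x • q11 = q9 := by
    have h : (x * x * x) • q9 = q9 := by rw [rx, one_smul]
    simpa only [mul_smul, e_x_9, e_x_10] using h
  have e_y_4 : y • q4 = q1 := by
    have h : (y * x * y * x) • q1 = q1 := by rw [ryx, one_smul]
    simpa only [mul_smul, e_x_1, e_y_2, e_x_3] using h
  have e_y_1 : y • q1 = q2 := by
    have h : (y * x * y * x) • q2 = q2 := by rw [ryx, one_smul]
    simpa only [mul_smul, e_x_2, e_y_0, e_x_0] using h
  have e_y_7 : y • q7 = q6 := by
    have h : (y * x * y * x) • q6 = q6 := by rw [ryx, one_smul]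
    simpa only [mul_smul, e_x_6, e_y_3, e_x_5] using h
  have e_y_5 : y • q5 = q4 := by
    have h : (y * y * y * y * y) • q4 = q4 := by rw [ry, one_smul]
    simpa only [mul_smul, e_y_4, e_y_1, e_y_2, e_y_3] using h
  have e_x_8 : x • q8 = q5 := by
    have h : (x * y * x * y) • q5 = q5 := by rw [rxy, one_smul]
    simpa only [mul_smul, e_y_5, e_x_4, e_y_6] using h
  have e_x_7 : x • q7 = q8 := by
    have h : (x * x * x) • q8 = q8 := by rw [rx, one_smul]
    simpa only [mul_smul, e_x_8, e_x_5] using h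
  have e_y_10 : y • q10 = q7 := by
    have h : (y * x * y * x) • q7 = q7 := by rw [ryx, one_smul]
    simpa only [mul_smul, e_x_7, e_y_8, e_x_9] using h
  have e_y_9 : y • q9 = q10 := by
    have h : (y * y * y * y * y) • q10 = q10 := by rw [ry, one_smul]
    simpa only [mul_smul, e_y_10, e_y_7, e_y_6, e_y_8] using h
  have e_y_11 : y • q11 = q11 := by
    have h : (y * x * y * x) • q11 = q11 := by rw [ryx, one_smul]
    simpa only [mul_smul, e_x_11, e_y_9, e_x_10] using h
  have hL := card_le_of_cover_zpowers y (n := 5) (by norm_num) hy hgen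
    [q0, q1, q2, q3, q4, q5, q6, q7, q8, q9, q10, q11] (by simp [hq0]) (by
      intro t ht q hq
      simp only [List.mem_cons, List.not_mem_nil, or_false] at hq
      rcases ht with rfl | ht
      · rcases hq with h | h | h | h | h | h | h | h | h | h | h | h <;> subst h <;>
          simp [e_x_0, e_x_1, e_x_2, e_x_3, e_x_4, e_x_5, e_x_6, e_x_7, e_x_8, e_x_9, e_x_10, e_x_11]
      · rw [Set.mem_singleton_iff] at ht
        subst ht
        rcases hq with h | h | h | h | h | h | h | h | h | h | h | h <;> subst h <;>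
          simp [e_y_0, e_y_1, e_y_2, e_y_3, e_y_4, e_y_5, e_y_6, e_y_7, e_y_8, e_y_9, e_y_10, e_y_11])
  simpa using hL

/-- A subgroup of `Alt(5)` containing elements of orders 2, 3 and 5 is everything. -/
theorem eq_top_of_orders (R : Subgroup (alternatingGroup (Fin 5))) (a b c : alternatingGroup (Fin 5))
    (ha : a ∈ R) (hb : b ∈ R) (hc : c ∈ R) (oa : orderOf a = 3) (ob : orderOf b = 5)
    (oc : orderOf c = 2) : R = ⊤ := by
  have hcard : Nat.card (alternatingGroup (Fin 5)) = 60 := by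
    rw [nat_card_alternatingGroup]; simp; decide
  have d3 : 3 ∣ Nat.card R := by
    have := orderOf_dvd_natCard (⟨a, ha⟩ : R)
    rwa [Subgroup.orderOf_mk, oa] at this
  have d5 : 5 ∣ Nat.card R := by
    have := orderOf_dvd_natCard (⟨b, hb⟩ : R)
    rwa [Subgroup.orderOf_mk, ob] at this
  have d2 : 2 ∣ Nat.card R := by
    have := orderOf_dvd_natCard (⟨c, hc⟩ : R)
    rwa [Subgroup.orderOf_mk, oc] at this
  have d30 : 30 ∣ Nat.card R := by omega
  have hmul := R.card_mul_index
  rw [hcard] at hmul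
  obtain ⟨k, hk⟩ := d30
  have hidx : R.index = 1 ∨ R.index = 2 := by
    rw [hk] at hmul
    have hk0 : k ≠ 0 := by rintro rfl; simp at hmul
    have hi0 : R.index ≠ 0 := by intro h; rw [h] at hmul; simp at hmul
    have h2 : k * R.index = 2 := by nlinarith
    have : R.index ∣ 2 := ⟨k, by rw [← h2, mul_comm]⟩
    have := Nat.le_of_dvd (by norm_num) this
    omega
  rcases hidx with h | h
  · exact Subgroup.index_eq_one.1 h
  · have hn : R.Normal := Subgroup.normal_of_index_eq_two h
    have hs : IsSimpleGroup (alternatingGroup (Fin 5)) := alternatingGroup.isSimpleGroup (by simp)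
    rcases hn.eq_bot_or_eq_top with h' | h'
    · rw [h'] at hk
      simp at hk
      omega
    · exact h'

def pa : alternatingGroup (Fin 5) := ⟨Equiv.swap 2 3 * Equiv.swap 3 4, by
    rw [Equiv.Perm.mem_alternatingGroup]; decide⟩
def pb : alternatingGroup (Fin 5) :=
  ⟨Equiv.swap 0 2 * Equiv.swap 2 4 * Equiv.swap 4 1 * Equiv.swap 1 3, by
    rw [Equiv.Perm.mem_alternatingGroup]; decide⟩

theorem pa_pow : pa ^ 3 = 1 := by decide
theorem pb_pow : pb ^ 5 = 1 := by decide
theorem pab_pow : (pa * pb) ^ 2 = 1 := by decide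

/-- The alternating group of degree 5 has the presentation ⟨x, y | x³ = 1, y⁵ = 1, (xy)² = 1⟩: the group so presented is isomorphic to Alt(5). -/
theorem result :
    Nonempty (PresentedGroup ({FreeGroup.of (0 : Fin 2) ^ 3, FreeGroup.of (1 : Fin 2) ^ 5,
        (FreeGroup.of (0 : Fin 2) * FreeGroup.of 1) ^ 2} : Set (FreeGroup (Fin 2))) ≃* alternatingGroup (Fin 5)) := by
  set rels : Set (FreeGroup (Fin 2)) := {FreeGroup.of (0 : Fin 2) ^ 3, FreeGroup.of (1 : Fin 2) ^ 5,
        (FreeGroup.of (0 : Fin 2) * FreeGroup.of 1) ^ 2} with hrels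
  have hlift : ∀ r ∈ rels, FreeGroup.lift ![pa, pb] r = 1 := by
    rintro r (rfl | rfl | rfl)
    · simpa using pa_pow
    · simpa using pb_pow
    · simpa using pab_pow
  let φ : PresentedGroup rels →* alternatingGroup (Fin 5) := PresentedGroup.toGroup hlift
  have hφ0 : φ (PresentedGroup.of 0) = pa := PresentedGroup.toGroup.of hlift
  have hφ1 : φ (PresentedGroup.of 1) = pb := PresentedGroup.toGroup.of hlift
  have hx : (PresentedGroup.of 0 : PresentedGroup rels) ^ 3 = 1 :=
    PresentedGroup.one_of_mem (rels := rels) (x := FreeGroup.of (0 : Fin 2) ^ 3) (by simp [hrels])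
  have hy : (PresentedGroup.of 1 : PresentedGroup rels) ^ 5 = 1 :=
    PresentedGroup.one_of_mem (rels := rels) (x := FreeGroup.of (1 : Fin 2) ^ 5) (by simp [hrels])
  have hxy : ((PresentedGroup.of 0 : PresentedGroup rels) * PresentedGroup.of 1) ^ 2 = 1 :=
    PresentedGroup.one_of_mem (rels := rels) (x := (FreeGroup.of (0 : Fin 2) * FreeGroup.of 1) ^ 2)
      (by simp [hrels])
  have hgen : Subgroup.closure {(PresentedGroup.of 0 : PresentedGroup rels), PresentedGroup.of 1} = ⊤ := by
    rw [← PresentedGroup.closure_range_of rels]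
    congr 1
    ext g
    simp only [Set.mem_insert_iff, Set.mem_singleton_iff, Set.mem_range]
    constructor
    · rintro (rfl | rfl)
      · exact ⟨0, rfl⟩
      · exact ⟨1, rfl⟩
    · rintro ⟨i, rfl⟩
      fin_cases i
      · left; rfl
      · right; rfl
  obtain ⟨hfin, hcard⟩ := card_le_60 _ _ hx hy hxy hgen
  have hsurj : Function.Surjective φ := by
    rw [← MonoidHom.range_eq_top]
    apply eq_top_of_orders φ.range pa pb (pa * pb)
    · exact ⟨_, hφ0⟩
    · exact ⟨_, hφ1⟩
    · exact ⟨PresentedGroup.of 0 * PresentedGroup.of 1, by rw [map_mul, hφ0, hφ1]⟩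
    · exact orderOf_eq_prime pa_pow (by decide)
    · have : Fact (Nat.Prime 5) := ⟨by norm_num⟩
      exact orderOf_eq_prime pb_pow (by decide)
    · exact orderOf_eq_prime pab_pow (by decide)
  have hcard' : Nat.card (alternatingGroup (Fin 5)) = 60 := by
    rw [nat_card_alternatingGroup]; simp; decide
  have hbij : Function.Bijective φ := by
    refine ⟨?_, hsurj⟩
    have h1 := Nat.card_le_card_of_surjective φ hsurj
    have h2 : Nat.card (PresentedGroup rels) = Nat.card (alternatingGroup (Fin 5)) := by omega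
    exact ((Nat.bijective_iff_surjective_and_card φ).2 ⟨hsurj, h2⟩).1
  exact ⟨MulEquiv.ofBijective φ hbij⟩

end Cfsg.Agent.S3377
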