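import Mathlib
import Cfsg.Statements.S0802
import Cfsg.Agent.Lib.Helper14.PSL2Sub
import Cfsg.Agent.Lib.Helper14.PSL2CharTwo
import Cfsg.Agent.Lib.Helper14.PSL2Embed
import Cfsg.Agent.S0252

set_option autoImplicit false
open Cfsg

namespace Cfsg.Agent.S0802

open Cfsg.Agent.Lib.Helper14

/-- PSL_2(p^n) has a subgroup isomorphic to A_4 if and only if it is not the case that p = 2 and n is odd. -/
theorem result {F : Type*} [Field F] [Fintype F] (p n : ℕ) [Fact p.Prime] [CharP F p] (hF : Fintype.card F = p ^ n) : (∃ H : Subgroup (Matrix.ProjectiveSpecialLinearGroup (Fin 2) F), Nonempty (H ≃* alternatingGroup (Fin 4))) ↔ ¬ (p = 2 ∧ Odd n) := by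
  constructor
  · rintro ⟨H, ⟨e⟩⟩ ⟨rfl, hn⟩
    have h2 : (2 : F) = 0 := by exact_mod_cast CharP.cast_eq_zero F 2
    let θ : alternatingGroup (Fin 4) →* Matrix.ProjectiveSpecialLinearGroup (Fin 2) F :=
      H.subtype.comp e.symm.toMonoidHom
    have hθ : Function.Injective θ := by
      intro x y hxy
      exact e.symm.injective (Subtype.ext hxy)
    let a₀ : alternatingGroup (Fin 4) := ⟨Equiv.swap 0 1 * Equiv.swap 2 3, by
      rw [Equiv.Perm.mem_alternatingGroup]; decide⟩
    let u₀ : alternatingGroup (Fin 4) := ⟨Equiv.swap 1 2 * Equiv.swap 1 3, by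
      rw [Equiv.Perm.mem_alternatingGroup]; decide⟩
    let b₀ : alternatingGroup (Fin 4) := u₀ * a₀ * u₀⁻¹
    have r1 : a₀ * a₀ = 1 := by decide
    have r2 : b₀ * b₀ = 1 := by decide
    have r3 : a₀ * b₀ = b₀ * a₀ := by decide
    have r4 : u₀ * a₀ = b₀ * u₀ := by decide
    have r5 : u₀ * b₀ = a₀ * b₀ * u₀ := by decide
    have r6 : a₀ ≠ 1 := by decide
    obtain ⟨A, hA⟩ := QuotientGroup.mk_surjective (θ a₀)
    obtain ⟨B, hB⟩ := QuotientGroup.mk_surjective (θ b₀)
    obtain ⟨U, hU⟩ := QuotientGroup.mk_surjective (θ u₀)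
    obtain ⟨c, hc⟩ := exists_cube_root_of_alt_four h2 A B U
      (by
        rintro rfl
        apply r6
        apply hθ
        rw [← hA, map_one]; rfl)
      (by
        apply psl2_mk_injective_char_two h2
        rw [QuotientGroup.mk_mul, hA, ← map_mul, r1, map_one]; rfl)
      (by
        apply psl2_mk_injective_char_two h2
        rw [QuotientGroup.mk_mul, hB, ← map_mul, r2, map_one]; rfl)
      (by
        apply psl2_mk_injective_char_two h2
        rw [QuotientGroup.mk_mul, QuotientGroup.mk_mul, hA, hB, ← map_mul, ← map_mul, r3])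
      (by
        apply psl2_mk_injective_char_two h2
        rw [QuotientGroup.mk_mul, QuotientGroup.mk_mul, hA, hB, hU, ← map_mul, ← map_mul, r4])
      (by
        apply psl2_mk_injective_char_two h2
        rw [QuotientGroup.mk_mul, QuotientGroup.mk_mul, QuotientGroup.mk_mul, hA, hB, hU,
          ← map_mul, ← map_mul, ← map_mul, r5])
    exact no_cube_root_of_odd h2 hF hn c hc
  · intro h
    by_cases hp : p = 2
    · subst hp
      have hn : Even n := by
        rcases Nat.even_or_odd n with h' | h'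
        · exact h'
        · exact absurd ⟨rfl, h'⟩ h
      obtain ⟨k, rfl⟩ := hn
      have : Fintype (GaloisField 2 2) := Fintype.ofFinite _
      have h4 : Fintype.card (GaloisField 2 2) = 4 := by
        rw [← Nat.card_eq_fintype_card, GaloisField.card 2 2 (by norm_num)]
        norm_num
      obtain ⟨f⟩ := exists_ringHom_of_card_pow (K := GaloisField 2 2) (F := F) k (by
        rw [h4, hF, ← two_mul, pow_mul]; norm_num)
      obtain ⟨φ, hφ⟩ := exists_psl2_embedding f
      obtain ⟨e₅⟩ := Cfsg.Agent.S0252.result h4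
      obtain ⟨ι, hι⟩ := exists_alt_four_embedding
      let θ : alternatingGroup (Fin 4) →* Matrix.ProjectiveSpecialLinearGroup (Fin 2) F :=
        φ.comp (e₅.symm.toMonoidHom.comp ι)
      have hθ : Function.Injective θ := hφ.comp (e₅.symm.injective.comp hι)
      exact ⟨θ.range, ⟨(MonoidHom.ofInjective hθ).symm⟩⟩
    · have hodd : Odd (p ^ n) := ((Fact.out : p.Prime).odd_of_ne_two hp).pow
      have hodd' : Fintype.card F % 2 = 1 := by rw [hF]; exact Nat.odd_iff.mp hodd
      have h2 : (2 : F) ≠ 0 := Cfsg.Agent.Lib.Helper41.two_ne_zero_of_odd_card hodd'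
      obtain ⟨V, hV⟩ := exists_klein_psl2 hF hodd
      by_cases hq : (p ^ n) ^ 2 % 16 = 1
      · obtain ⟨e⟩ := normalizer_klein_equiv_perm V hV (psl2_centralizer_klein h2 V hV)
          ((card_normalizer_klein_psl2 hF hodd V hV).1 hq)
        let θ : alternatingGroup (Fin 4) →* Matrix.ProjectiveSpecialLinearGroup (Fin 2) F :=
          (Subgroup.subtype _).comp (e.symm.toMonoidHom.comp (alternatingGroup (Fin 4)).subtype)
        have hθ : Function.Injective θ :=
          (Subgroup.subtype_injective _).comp (e.symm.injective.comp (Subgroup.subtype_injective _))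
        exact ⟨θ.range, ⟨(MonoidHom.ofInjective hθ).symm⟩⟩
      · exact ⟨_, normalizer_klein_equiv_alt V hV (psl2_centralizer_klein h2 V hV)
          ((card_normalizer_klein_psl2 hF hodd V hV).2 hq)⟩

end Cfsg.Agent.S0802
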