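import Mathlib
import Cfsg.Statements.S0803
import Cfsg.Agent.Lib.Helper14.PSL2Sub

set_option autoImplicit false
open Cfsg

namespace Cfsg.Agent.S0803

open Cfsg.Agent.Lib.Helper14

/-- PSL_2(q) has a subgroup isomorphic to S_4 iff q² ≡ 1 (mod 16). -/
theorem result {F : Type*} [Field F] [Fintype F] {q : ℕ} (hF : Fintype.card F = q) : (∃ H : Subgroup (Matrix.ProjectiveSpecialLinearGroup (Fin 2) F), Nonempty (H ≃* Equiv.Perm (Fin 4))) ↔ q ^ 2 % 16 = 1 := by
  constructor
  · rintro ⟨H, ⟨e⟩⟩
    rcases Nat.even_or_odd q with heven | hodd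
    · -- characteristic two: no element of order four
      exfalso
      have h2 : (2 : F) = 0 := by
        have h := Nat.cast_card_eq_zero F
        rw [hF] at h
        obtain ⟨k, hk⟩ := heven
        rw [hk] at h
        push_cast at h
        have h3 : (2 : F) * (k : F) = 0 := by linear_combination h
        rcases mul_eq_zero.mp h3 with h4 | h4
        · exact h4
        · -- then `q = 2k` and `k = 0` in `F`; use the characteristic
          obtain ⟨p, hp⟩ := CharP.exists F
          have hpp : p.Prime := (CharP.char_is_prime_or_zero F p).resolve_right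
            (CharP.char_ne_zero_of_finite F p)
          have : Fact p.Prime := ⟨hpp⟩
          obtain ⟨n, -, hn⟩ := FiniteField.card F p
          have h2q : 2 ∣ p ^ (n : ℕ) := by rw [← hn, hF, hk]; exact ⟨k, by ring⟩
          have h2p : 2 ∣ p := Nat.Prime.dvd_of_dvd_pow Nat.prime_two h2q
          have hp2 : p = 2 := ((Nat.prime_dvd_prime_iff_eq Nat.prime_two hpp).mp h2p).symm
          subst hp2
          exact_mod_cast CharP.cast_eq_zero F 2
      let σ : Equiv.Perm (Fin 4) := finRotate 4
      have hσ4 : σ ^ 4 = 1 := by decide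
      have hσ2 : σ ^ 2 ≠ 1 := by decide
      have h4 : ((e.symm σ : H) : Matrix.ProjectiveSpecialLinearGroup (Fin 2) F) ^ 4 = 1 := by
        rw [← Subgroup.coe_pow, ← map_pow, hσ4, map_one, Subgroup.coe_one]
      have h5 := psl2_char_two_sq_of_pow_four h2 _ h4
      rw [← Subgroup.coe_pow, ← map_pow] at h5
      apply hσ2
      have h6 : e.symm (σ ^ 2) = 1 := Subtype.ext h5
      exact (MulEquiv.map_eq_one_iff e.symm).mp h6
    · rw [← eight_dvd_card_psl2_iff hF hodd]
      have h24 : Nat.card H = 24 := by
        rw [Nat.card_congr e.toEquiv, Nat.card_eq_fintype_card, Fintype.card_perm]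
        rfl
      have := Subgroup.card_subgroup_dvd_card H
      rw [h24] at this
      exact (by norm_num : 8 ∣ 24).trans this
  · intro hq
    have hodd : Odd q := by
      rcases Nat.even_or_odd q with heven | hodd
      · exfalso
        obtain ⟨k, rfl⟩ := heven
        have : (k + k) ^ 2 = 4 * (k * k) := by ring
        rw [this] at hq
        omega
      · exact hodd
    have hodd' : Fintype.card F % 2 = 1 := by rw [hF]; exact Nat.odd_iff.mp hodd
    have h2 : (2 : F) ≠ 0 := Cfsg.Agent.Lib.Helper41.two_ne_zero_of_odd_card hodd'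
    obtain ⟨V, hV⟩ := exists_klein_psl2 hF hodd
    exact ⟨_, normalizer_klein_equiv_perm V hV (psl2_centralizer_klein h2 V hV)
      ((card_normalizer_klein_psl2 hF hodd V hV).1 hq)⟩

end Cfsg.Agent.S0803
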