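import Cfsg.Statements.S2469
import Mathlib
import Cfsg.Agent.Lib.Helper42.PGraphS5
import Cfsg.Agent.Lib.Helper42.PGraphS6

set_option autoImplicit false
open Cfsg

namespace Cfsg.Agent.S2469

open Cfsg.Agent.Lib.Helper42.SpecPSp Cfsg.Agent.Lib.Helper42.PGraphS

section aux
variable {F : Type*} [Field F] [Fintype F]

lemma prime_facts (p : ℕ) [Fact p.Prime] [CharP F p] (r : ℕ) (hr : r.Prime) (hrp : r ≠ p) :
    1 ≤ orderOf ((Fintype.card F : ℕ) : ZMod r) ∧
    (∀ j, r ∣ Fintype.card F ^ j - 1 ↔ orderOf ((Fintype.card F : ℕ) : ZMod r) ∣ j) ∧ (r : F) ≠ 0 := by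
  have hp : p.Prime := Fact.out
  have : Fact r.Prime := ⟨hr⟩
  set q := Fintype.card F with hq
  have hq2 : 2 ≤ q := Fintype.one_lt_card
  have hrq : ¬ r ∣ q := by
    intro h
    obtain ⟨f, hf⟩ : ∃ f, q = p ^ f := by
      obtain ⟨⟨f, _⟩, _, hf⟩ := FiniteField.card F p
      exact ⟨f, hf⟩
    rw [hf] at h
    exact hrp ((Nat.prime_dvd_prime_iff_eq hr hp).mp (hr.dvd_of_dvd_pow h))
  have hq0 : ((q : ℕ) : ZMod r) ≠ 0 := by
    rw [Ne, ZMod.natCast_eq_zero_iff]
    exact hrq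
  refine ⟨?_, ?_, ?_⟩
  · have : ((q : ℕ) : ZMod r) ^ (r - 1) = 1 := ZMod.pow_card_sub_one_eq_one hq0
    exact orderOf_pos_iff.mpr (isOfFinOrder_iff_pow_eq_one.mpr ⟨r - 1, by have := hr.two_le; omega, this⟩)
  · intro j
    rw [orderOf_dvd_iff_pow_eq_one, ← Nat.cast_pow]
    have h1 : 1 ≤ q ^ j := Nat.one_le_pow _ _ (by omega)
    rw [← ZMod.natCast_eq_zero_iff, Nat.cast_sub h1, Nat.cast_one, sub_eq_zero]
  · rw [Ne, CharP.cast_eq_zero_iff F p]
    intro h
    exact hrp ((Nat.prime_dvd_prime_iff_eq hp hr).mp h).symm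

lemma plus_of_half (r : ℕ) (hr : r.Prime) (η : ℕ) (hη : 0 < η)
    (he : 2 * η = orderOf ((Fintype.card F : ℕ) : ZMod r)) : r ∣ Fintype.card F ^ η + 1 := by
  have : Fact r.Prime := ⟨hr⟩
  have h2 : (((Fintype.card F : ℕ) : ZMod r) ^ η) * (((Fintype.card F : ℕ) : ZMod r) ^ η) = 1 := by
    rw [← pow_add, ← two_mul, he, pow_orderOf_eq_one]
  rcases mul_self_eq_one_iff.mp h2 with h3 | h3
  · exfalso
    rw [← orderOf_dvd_iff_pow_eq_one] at h3
    have := Nat.le_of_dvd hη h3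
    omega
  · rw [← ZMod.natCast_eq_zero_iff]
    push_cast
    rw [h3]; ring

lemma of_plus (r : ℕ) (hr : r.Prime) (hr2 : r ≠ 2) (j : ℕ) (h : r ∣ Fintype.card F ^ j + 1) :
    orderOf ((Fintype.card F : ℕ) : ZMod r) ∣ 2 * j ∧ ¬ orderOf ((Fintype.card F : ℕ) : ZMod r) ∣ j := by
  have : Fact r.Prime := ⟨hr⟩
  have h1 : ((Fintype.card F : ℕ) : ZMod r) ^ j = -1 := by
    rw [← ZMod.natCast_eq_zero_iff] at h
    push_cast at h
    exact eq_neg_of_add_eq_zero_left h
  constructor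
  · rw [orderOf_dvd_iff_pow_eq_one, mul_comm, pow_mul, h1]; simp
  · intro h3
    rw [orderOf_dvd_iff_pow_eq_one, h1] at h3
    have h4 : ((2 : ℕ) : ZMod r) = 0 := by
      push_cast
      linear_combination -h3
    rw [ZMod.natCast_eq_zero_iff] at h4
    exact hr2 ((Nat.prime_dvd_prime_iff_eq hr Nat.prime_two).mp h4)

lemma lift_odd (n : ℕ) (hn : 0 < n) (M : ℕ) (hM : Odd M) (g : Cfsg.PSp n F) (hg : orderOf g = M) :
    ∃ Y : Matrix (Fin n ⊕ Fin n) (Fin n ⊕ Fin n) F, adj Y * Y = 1 ∧ ∀ j, Y ^ j = 1 ↔ M ∣ j := by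
  obtain ⟨x, rfl⟩ := QuotientGroup.mk_surjective g
  set X := x.1 with hX
  have hpow : ∀ j, (X ^ j = 1 ∨ X ^ j = -1) ↔ M ∣ j := by
    intro j
    rw [← psp_pow_eq_one_iff hn, ← hg, orderOf_dvd_iff_pow_eq_one]
  refine ⟨X ^ (M + 1), (mem_sp_iff _).mp (pow_mem x.2 _), ?_⟩
  intro j
  rw [← pow_mul]
  constructor
  · intro h
    have h1 := (hpow _).mp (Or.inl h)
    exact Nat.Coprime.dvd_of_dvd_mul_left (by simp) h1
  · rintro ⟨c, rfl⟩
    have : (M + 1) * (M * c) = M * ((M + 1) * c) := by ring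
    rw [this, pow_mul]
    rcases (hpow M).mpr dvd_rfl with h | h
    · rw [h, one_pow]
    · rw [h]; exact Even.neg_one_pow (hM.add_one.mul_right c)

end aux

/-- Adjacency of two odd primes in the prime graph of PSp(2n,q): let F be a finite field of characteristic p with q elements, n ≥ 2 with PSp(2n,F) simple, and let r ≠ s be odd primes different from p dividing the order of PSp(2n,F). Let k, l be the multiplicative orders of q modulo r and s, put η(m) = m for odd m and η(m) = m/2 for even m, and suppose η(k) ≤ η(l). Then PSp(2n,F) has NO element of order r·s if and only if η(k) + η(l) > n and l/k is not an odd integer. -/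
theorem result {F : Type*} [Field F] [Fintype F] (p : ℕ) [Fact p.Prime] [CharP F p] (n : ℕ) (hn : 2 ≤ n) (hsmall : n = 2 → 3 ≤ Fintype.card F)
    (r s : ℕ) (hr : r.Prime) (hs : s.Prime) (hr2 : r ≠ 2) (hs2 : s ≠ 2) (hrp : r ≠ p) (hsp : s ≠ p) (hrs : r ≠ s)
    (hrG : r ∣ Nat.card (Cfsg.PSp n F)) (hsG : s ∣ Nat.card (Cfsg.PSp n F))
    (k l ηk ηl : ℕ) (hk : k = orderOf ((Fintype.card F : ℕ) : ZMod r)) (hl : l = orderOf ((Fintype.card F : ℕ) : ZMod s))
    (hηk : (Odd k ∧ ηk = k) ∨ (Even k ∧ 2 * ηk = k)) (hηl : (Odd l ∧ ηl = l) ∨ (Even l ∧ 2 * ηl = l)) (hkl : ηk ≤ ηl) :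
    (r * s ∉ Set.range (orderOf : Cfsg.PSp n F → ℕ)) ↔ (n < ηk + ηl ∧ ¬ ∃ t : ℕ, Odd t ∧ l = k * t) := by
  classical
  have hp : p.Prime := Fact.out
  have : Fact r.Prime := ⟨hr⟩
  have : Fact s.Prime := ⟨hs⟩
  have hn0 : 0 < n := by omega
  obtain ⟨hk1, hkd, hrF⟩ := prime_facts (F := F) p r hr hrp
  obtain ⟨hl1, hld, hsF⟩ := prime_facts (F := F) p s hs hsp
  rw [← hk] at hk1 hkd
  rw [← hl] at hl1 hld
  have hcop : Nat.Coprime r s := (Nat.coprime_primes hr hs).mpr hrs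
  have hrodd : Odd r := hr.odd_of_ne_two hr2
  have hsodd : Odd s := hs.odd_of_ne_two hs2
  have hηk0 : 0 < ηk := by rcases hηk with ⟨-, he⟩ | ⟨-, he⟩ <;> omega
  have hηl0 : 0 < ηl := by rcases hηl with ⟨-, he⟩ | ⟨-, he⟩ <;> omega
  have hdim : Module.finrank F (Fin n ⊕ Fin n → F) = 2 * n := by
    rw [Module.finrank_fintype_fun_eq_card, Fintype.card_sum, Fintype.card_fin, two_mul]
  constructor
  · -- constructions
    intro hno
    by_contra hcon
    apply hno
    have hX1 : r ∣ Fintype.card F ^ ηk - 1 ∨ r ∣ Fintype.card F ^ ηk + 1 := by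
      rcases hηk with ⟨-, he⟩ | ⟨-, he⟩
      · left; exact (hkd ηk).mpr (by rw [he])
      · right; exact plus_of_half r hr ηk hηk0 (by rw [he, hk])
    have hX2 : s ∣ Fintype.card F ^ ηl - 1 ∨ s ∣ Fintype.card F ^ ηl + 1 := by
      rcases hηl with ⟨-, he⟩ | ⟨-, he⟩
      · left; exact (hld ηl).mpr (by rw [he])
      · right; exact plus_of_half s hs ηl hηl0 (by rw [he, hl])
    by_cases hsum : ηk + ηl ≤ n
    · obtain ⟨t, ht⟩ : ∃ t, n = ηk + (ηl + t) := ⟨n - ηk - ηl, by omega⟩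
      subst ht
      obtain ⟨g, hg⟩ := exists_sum_psp' ηk (ηl + t) (by omega) r s hcop (Or.inr (hrodd.mul hsodd))
        (torus_dvd p ηk hηk0 r hX1) (exists_pad ηl t s (torus_dvd p ηl hηl0 s hX2))
      exact ⟨g, hg⟩
    · have hex : ∃ t : ℕ, Odd t ∧ l = k * t := by
        by_contra h
        exact hcon ⟨by omega, h⟩
      obtain ⟨t, htodd, ht⟩ := hex
      -- `ηl ≤ n`
      have hηln : ηl ≤ n := by
        obtain ⟨g, hg⟩ := exists_prime_orderOf_dvd_card' s hsG
        obtain ⟨Y, hYs, hY⟩ := lift_odd n hn0 s hsodd g hg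
        have h1 := finrank_W_ge s hs2 hsF Y hYs ((hY s).mpr dvd_rfl)
          (fun h => hs.one_lt.ne' (Nat.dvd_one.mp ((hY 1).mp (by rw [pow_one, h])))) ηl
          (by rw [← hl]; exact hηl)
        have h2 := Submodule.finrank_le
          (LinearMap.ker (Matrix.mulVecLin (∑ i ∈ Finset.range s, Y ^ i)))
        rw [hdim] at h2
        omega
      have hrs' : r * s ∣ Fintype.card F ^ ηl - 1 ∨ r * s ∣ Fintype.card F ^ ηl + 1 := by
        rcases hηl with ⟨hlo, he⟩ | ⟨hle, he⟩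
        · left
          apply hcop.mul_dvd_of_dvd_of_dvd
          · exact (hkd ηl).mpr (by rw [he, ht]; exact dvd_mul_right _ _)
          · exact (hld ηl).mpr (by rw [he])
        · right
          have hke : 2 * ηk = k := by
            rcases hηk with ⟨hko, -⟩ | ⟨-, h⟩
            · exfalso
              rw [ht] at hle
              exact (Nat.not_even_iff_odd.mpr (hko.mul htodd)) hle
            · exact h
          have hη : ηl = ηk * t := by
            have : 2 * ηl = 2 * (ηk * t) := by rw [he, ht, ← hke]; ring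
            omega
          apply hcop.mul_dvd_of_dvd_of_dvd
          · have h1 : r ∣ Fintype.card F ^ ηk + 1 := plus_of_half r hr ηk hηk0 (by rw [hke, hk])
            have h2 := Odd.nat_add_dvd_pow_add_pow (Fintype.card F ^ ηk) 1 htodd
            rw [one_pow, ← pow_mul, ← hη] at h2
            exact h1.trans h2
          · exact plus_of_half s hs ηl hηl0 (by rw [he, hl])
      obtain ⟨u, hu⟩ : ∃ u, n = ηl + u := ⟨n - ηl, by omega⟩
      subst hu
      obtain ⟨g, hg⟩ := exists_psp_of_odd (F := F) (ηl + u) hn0 (r * s) (hrodd.mul hsodd)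
        (exists_pad ηl u (r * s) (torus_dvd p ηl hηl0 (r * s) hrs'))
      exact ⟨g, hg⟩
  · -- non-existence
    rintro ⟨hsum, hnot⟩ ⟨g, hg⟩
    obtain ⟨Y, hYs, hY⟩ := lift_odd n hn0 (r * s) (hrodd.mul hsodd) g hg
    have hYrs : Y ^ (r * s) = 1 := (hY _).mpr dvd_rfl
    have hadjpow : ∀ j : ℕ, adj (Y ^ j) * Y ^ j = 1 := by
      intro j
      have h1 : Y ∈ Matrix.symplecticGroup (Fin n) F := (mem_sp_iff _).mpr hYs
      exact (mem_sp_iff _).mp (pow_mem h1 j)
    have hBr1 : Y ^ s ≠ 1 := by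
      intro h
      have h1 := (hY s).mp h
      have h2 : r * s ∣ 1 * s := by rwa [one_mul]
      exact hr.one_lt.ne' (Nat.dvd_one.mp (Nat.dvd_of_mul_dvd_mul_right hs.pos h2))
    have hBs1 : Y ^ r ≠ 1 := by
      intro h
      have h1 := (hY r).mp h
      have h2 : r * s ∣ r * 1 := by rwa [mul_one]
      exact hs.one_lt.ne' (Nat.dvd_one.mp (Nat.dvd_of_mul_dvd_mul_left hr.pos h2))
    set Wr := LinearMap.ker (Matrix.mulVecLin (∑ i ∈ Finset.range r, (Y ^ s) ^ i)) with hWr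
    set Ws := LinearMap.ker (Matrix.mulVecLin (∑ i ∈ Finset.range s, (Y ^ r) ^ i)) with hWs
    have h1 : 2 * ηk ≤ Module.finrank F Wr :=
      finrank_W_ge r hr2 hrF (Y ^ s) (hadjpow s) (by rw [← pow_mul, mul_comm, hYrs]) hBr1 ηk
        (by rw [← hk]; exact hηk)
    have h2 : 2 * ηl ≤ Module.finrank F Ws :=
      finrank_W_ge s hs2 hsF (Y ^ r) (hadjpow r) (by rw [← pow_mul, hYrs]) hBs1 ηl
        (by rw [← hl]; exact hηl)
    by_cases hbot : Wr ⊓ Ws = ⊥
    · have h3 := Submodule.finrank_sup_add_finrank_inf_eq Wr Ws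
      rw [hbot, finrank_bot, add_zero] at h3
      have h4 := Submodule.finrank_le (Wr ⊔ Ws)
      rw [hdim] at h4
      omega
    · obtain ⟨v, hv, hv0⟩ := Submodule.exists_mem_ne_zero_of_ne_bot hbot
      have hvr : (∑ i ∈ Finset.range r, (Y ^ s) ^ i).mulVec v = 0 := by
        have := hv.1
        rwa [SetLike.mem_coe, hWr, LinearMap.mem_ker, Matrix.mulVecLin_apply] at this
      have hvs : (∑ i ∈ Finset.range s, (Y ^ r) ^ i).mulVec v = 0 := by
        have := hv.2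
        rwa [SetLike.mem_coe, hWs, LinearMap.mem_ker, Matrix.mulVecLin_apply] at this
      obtain ⟨D, hD0, hkD, hlD, hD⟩ := caseB r s hr2 hrF hsF Y hYs hYrs v hv0 hvr hvs
      rw [← hk] at hkD
      rw [← hl] at hlD
      rcases hD with hD | ⟨hD, j, hj1, hj2⟩
      · rcases arith1 k l ηk ηl n D hηk hηl hkl hD0 hkD hlD hD with h | h
        · omega
        · exact hnot h
      · obtain ⟨a1, a2⟩ := of_plus (F := F) r hr hr2 j hj1
        obtain ⟨b1, b2⟩ := of_plus (F := F) s hs hs2 j hj2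
        rw [← hk] at a1 a2
        rw [← hl] at b1 b2
        rcases arith2 k l ηk ηl n D j hηk hηl hkl hD0 hkD hlD hD a1 a2 b1 b2 with h | h
        · omega
        · exact hnot h

end Cfsg.Agent.S2469
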