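import Mathlib
import Cfsg.Statements.S2904

set_option autoImplicit false
open Cfsg
open Polynomial

namespace Cfsg.Agent.S2904

/-- value of the `n`-th cyclotomic polynomial at `a`, as a natural number -/
noncomputable def natPhi (n a : ℕ) : ℕ := ((cyclotomic n ℤ).eval (a : ℤ)).natAbs

lemma natPhi_cast (n a : ℕ) (ha : 1 < a) : ((natPhi n a : ℕ) : ℤ) = (cyclotomic n ℤ).eval (a : ℤ) := by
  unfold natPhi
  apply Int.natAbs_of_nonneg
  exact cyclotomic_nonneg n (by exact_mod_cast ha.le)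

lemma dvd_natPhi_iff (n a r : ℕ) :
    r ∣ natPhi n a ↔ (cyclotomic n (ZMod r)).IsRoot (a : ZMod r) := by
  unfold natPhi
  rw [← Int.natCast_dvd, ← ZMod.intCast_zmod_eq_zero_iff_dvd, IsRoot.def]
  have := cyclotomic.eval_apply (a : ℤ) n (Int.castRingHom (ZMod r))
  simp only [eq_intCast, Int.cast_natCast] at this
  rw [this]

lemma cast_pow_sub_one (a d : ℕ) (ha : 1 < a) : ((a ^ d - 1 : ℕ) : ℤ) = (a : ℤ) ^ d - 1 := by
  rw [Nat.cast_sub (Nat.one_le_pow _ _ (by omega))]; push_cast; ring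

lemma natPhi_dvd (n a : ℕ) (ha : 1 < a) : natPhi n a ∣ a ^ n - 1 := by
  rw [← Int.natCast_dvd_natCast, natPhi_cast n a ha, cast_pow_sub_one a n ha]
  have := eval_dvd (x := (a : ℤ)) (cyclotomic.dvd_X_pow_sub_one n ℤ)
  simpa using this

lemma mul_natPhi_dvd (n d a : ℕ) (ha : 1 < a) (hd : d ∈ n.properDivisors) :
    (a ^ d - 1) * natPhi n a ∣ a ^ n - 1 := by
  rw [← Int.natCast_dvd_natCast, Nat.cast_mul, natPhi_cast n a ha, cast_pow_sub_one a n ha,
    cast_pow_sub_one a d ha]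
  have := eval_dvd (x := (a : ℤ)) (X_pow_sub_one_mul_cyclotomic_dvd_X_pow_sub_one_of_dvd ℤ hd)
  simpa using this

lemma lt_natPhi (n a : ℕ) (hn : 1 < n) (ha : 1 < a) : (a - 1) ^ n.totient < natPhi n a :=
  sub_one_pow_totient_lt_natAbs_cyclotomic_eval hn (by omega)

lemma natPhi_le (n a : ℕ) (ha : 1 < a) : natPhi n a ≤ (a + 1) ^ n.totient := by
  have h := cyclotomic_eval_le_add_one_pow_totient (q := (a : ℝ)) (by exact_mod_cast ha) n
  have h2 := cyclotomic.eval_apply (a : ℤ) n (Int.castRingHom ℝ)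
  simp only [eq_intCast, Int.cast_natCast] at h2
  rw [h2, ← natPhi_cast n a ha] at h
  exact_mod_cast h

lemma natPhi_expand_of_dvd (n a r : ℕ) (hr : r.Prime) (hdvd : r ∣ n) :
    natPhi (n * r) a = natPhi n (a ^ r) := by
  unfold natPhi
  rw [← cyclotomic_expand_eq_cyclotomic hr hdvd ℤ, expand_eval]
  push_cast; rfl

lemma natPhi_expand_of_not_dvd (n a r : ℕ) (hr : r.Prime) (hdvd : ¬ r ∣ n) :
    natPhi n (a ^ r) = natPhi (n * r) a * natPhi n a := by
  unfold natPhi
  rw [← Int.natAbs_mul, ← eval_mul, ← cyclotomic_expand_eq_cyclotomic_mul hr hdvd ℤ, expand_eval]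
  push_cast; rfl

/-- structure of a prime divisor of `Φ_n(a)` -/
lemma prim_root_of_dvd (a r k m : ℕ) (hr : r.Prime) (hm : ¬ r ∣ m)
    (h : r ∣ natPhi (r ^ k * m) a) : IsPrimitiveRoot (a : ZMod r) m := by
  haveI : Fact r.Prime := ⟨hr⟩
  haveI : NeZero (m : ZMod r) := ⟨by rwa [Ne, ZMod.natCast_eq_zero_iff]⟩
  rw [dvd_natPhi_iff] at h
  exact isRoot_cyclotomic_prime_pow_mul_iff_of_charP.mp h

lemma dvd_pow_sub_one_iff (a r m j : ℕ) (ha : 1 < a) (h : IsPrimitiveRoot (a : ZMod r) m) :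
    r ∣ a ^ j - 1 ↔ m ∣ j := by
  rw [← h.pow_eq_one_iff_dvd, ← ZMod.natCast_eq_zero_iff, Nat.cast_sub (Nat.one_le_pow _ _ (by omega))]
  push_cast
  rw [sub_eq_zero]

lemma dvd_sub_one_of_prim (a r m : ℕ) (hr : r.Prime) (hm : m ≠ 0) (h : IsPrimitiveRoot (a : ZMod r) m) :
    m ∣ r - 1 := by
  haveI : Fact r.Prime := ⟨hr⟩
  apply h.dvd_of_pow_eq_one
  apply ZMod.pow_card_sub_one_eq_one
  intro h0
  have := h.pow_eq_one
  rw [h0, zero_pow hm] at this
  exact zero_ne_one this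

/-- hypothesis: no primitive prime divisor -/
def NoPPD (a n : ℕ) : Prop :=
  ∀ r : ℕ, r.Prime → r ∣ a ^ n - 1 → ∃ k, 0 < k ∧ k < n ∧ r ∣ a ^ k - 1

lemma stepA (a n r : ℕ) (ha : 1 < a) (hn : 0 < n) (H : NoPPD a n) (hr : r.Prime)
    (h : r ∣ natPhi n a) :
    ∃ k m, n = r ^ (k + 1) * m ∧ ¬ r ∣ m ∧ IsPrimitiveRoot (a : ZMod r) m := by
  obtain ⟨e, m, hm, hnm⟩ := Nat.exists_eq_pow_mul_and_not_dvd hn.ne' r hr.ne_one
  have hprim := prim_root_of_dvd a r e m hr hm (hnm ▸ h)
  cases e with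
  | zero =>
    exfalso
    simp at hnm
    subst hnm
    obtain ⟨k, hk0, hkn, hk⟩ := H r hr (h.trans (natPhi_dvd n a ha))
    rw [dvd_pow_sub_one_iff a r n k ha hprim] at hk
    exact absurd (Nat.le_of_dvd hk0 hk) (by omega)
  | succ k => exact ⟨k, m, hnm, hm, hprim⟩

lemma stepB (a n r s : ℕ) (ha : 1 < a) (hn : 0 < n) (H : NoPPD a n) (hr : r.Prime) (hs : s.Prime)
    (h1 : r ∣ natPhi n a) (h2 : s ∣ natPhi n a) (hne : r ≠ s) : s < r := by
  obtain ⟨k, m, hnm, hm, hprim⟩ := stepA a n r ha hn H hr h1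
  obtain ⟨k', m', hnm', -, -⟩ := stepA a n s ha hn H hs h2
  have hsn : s ∣ n := by rw [hnm']; exact Dvd.dvd.mul_right (dvd_pow_self s (by omega)) _
  have hsm : s ∣ m := by
    rw [hnm] at hsn
    exact (Nat.Coprime.dvd_of_dvd_mul_left
      (Nat.Coprime.pow_right _ ((Nat.coprime_primes hs hr).mpr hne.symm)) hsn)
  have hm0 : m ≠ 0 := by rintro rfl; simp at hnm; omega
  have h3 := dvd_sub_one_of_prim a r m hr hm0 hprim
  have h4 : s ≤ m := Nat.le_of_dvd (Nat.pos_of_ne_zero hm0) hsm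
  have h5 : m ≤ r - 1 := Nat.le_of_dvd (by have := hr.two_le; omega) h3
  have := hr.two_le
  omega

lemma stepC (a n r : ℕ) (ha : 1 < a) (hn : 3 ≤ n) (H : NoPPD a n) (hr : r.Prime)
    (h : r ∣ natPhi n a) : ¬ r ^ 2 ∣ natPhi n a := by
  obtain ⟨k, m, hnm, hm, hprim⟩ := stepA a n r ha (by omega) H hr h
  have hm0 : m ≠ 0 := by rintro rfl; simp at hnm; omega
  set d := r ^ k * m with hd
  have hnd : n = d * r := by rw [hnm, hd]; ring
  have hdpos : 0 < d := Nat.mul_pos (pow_pos hr.pos _) (Nat.pos_of_ne_zero hm0)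
  have hdprop : d ∈ n.properDivisors := by
    rw [Nat.mem_properDivisors]
    exact ⟨⟨r, hnd⟩, by rw [hnd]; nlinarith [hr.two_le]⟩
  have hdiv := mul_natPhi_dvd n d a ha hdprop
  set c := a ^ d with hc
  have hcn : a ^ n = c ^ r := by rw [hnd, pow_mul]
  rw [hcn] at hdiv
  have hc1 : 1 < c := Nat.one_lt_pow hdpos.ne' ha
  have hrc : r ∣ c - 1 := (dvd_pow_sub_one_iff a r m d ha hprim).mpr ⟨r ^ k, by rw [hd]; ring⟩
  have hrc' : ¬ r ∣ c := by
    intro hh
    have h1 : r ∣ c - (c - 1) := Nat.dvd_sub hh hrc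
    have h2 : c - (c - 1) = 1 := by omega
    rw [h2] at h1
    exact hr.one_lt.ne' (Nat.dvd_one.mp h1)
  intro hsq
  rcases hr.eq_two_or_odd' with rfl | hodd
  · have hm1 : m = 1 := Nat.dvd_one.mp (dvd_sub_one_of_prim a 2 m hr hm0 hprim)
    have hk : 1 ≤ k := by
      by_contra hk
      have : k = 0 := by omega
      subst this
      rw [hm1] at hnm
      simp at hnm
      omega
    have hNc : natPhi n a ∣ c + 1 := by
      have h1 : c ^ 2 - 1 = (c - 1) * (c + 1) := by
        obtain ⟨c', hc'⟩ : ∃ c', c = c' + 1 := ⟨c - 1, by omega⟩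
        rw [hc']
        simp
        ring_nf
        omega
      rw [h1] at hdiv
      exact Nat.dvd_of_mul_dvd_mul_left (by omega) hdiv
    have h4 : 4 ∣ c + 1 := by
      have : (2 : ℕ) ^ 2 = 4 := by norm_num
      rw [this] at hsq
      exact hsq.trans hNc
    obtain ⟨b, hb⟩ : ∃ b, c = b ^ 2 := by
      refine ⟨a ^ (2 ^ (k - 1)), ?_⟩
      rw [hc, hd, hm1, ← pow_mul, mul_one]
      congr 1
      obtain ⟨k', rfl⟩ : ∃ k', k = k' + 1 := ⟨k - 1, by omega⟩
      simp [pow_succ]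
    rw [hb] at h4
    have h5 : (b ^ 2 + 1) % 4 = 0 := Nat.mod_eq_zero_of_dvd h4
    have h6 : b % 4 = 0 ∨ b % 4 = 1 ∨ b % 4 = 2 ∨ b % 4 = 3 := by omega
    rcases h6 with h6 | h6 | h6 | h6 <;> simp [Nat.add_mod, Nat.pow_mod, h6] at h5
  · haveI : Fact r.Prime := ⟨hr⟩
    have hlte := padicValNat.pow_sub_pow hodd hc1 hrc hrc' (n := r) hr.ne_zero
    rw [one_pow, padicValNat_self] at hlte
    have h1 : r ^ (padicValNat r (c - 1)) ∣ c - 1 := pow_padicValNat_dvd
    have h2 : r ^ (padicValNat r (c - 1)) * r ^ 2 ∣ c ^ r - 1 := (Nat.mul_dvd_mul h1 hsq).trans hdiv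
    rw [← pow_add] at h2
    have hne : c ^ r - 1 ≠ 0 := by
      have : 1 < c ^ r := Nat.one_lt_pow hr.ne_zero hc1
      omega
    have h3 := (padicValNat_dvd_iff_le hne).mp h2
    omega

lemma le_two_pow_pred (r : ℕ) (hr : 1 ≤ r) : r ≤ 2 ^ (r - 1) := by
  have := Nat.lt_two_pow_self (n := r - 1)
  omega

lemma three_mul_lt (r : ℕ) (hr : 5 ≤ r) : 3 * r < 2 ^ r - 1 := by
  induction r, hr using Nat.le_induction with
  | base => norm_num
  | succ r hr ih =>
    have : 2 ^ (r + 1) = 2 * 2 ^ r := by ring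
    omega

lemma main (a n : ℕ) (ha : 1 < a) (hn : 3 ≤ n) (h6 : ¬ (a = 2 ∧ n = 6)) : ¬ NoPPD a n := by
  intro H
  have hN1 : 1 < natPhi n a :=
    lt_of_le_of_lt (Nat.one_le_pow _ _ (by omega)) (lt_natPhi n a (by omega) ha)
  set r := (natPhi n a).minFac with hrdef
  have hr : r.Prime := Nat.minFac_prime hN1.ne'
  have hrN : r ∣ natPhi n a := Nat.minFac_dvd _
  have huniq : ∀ {s : ℕ}, s.Prime → s ∣ natPhi n a → s = r := by
    intro s hs hsN
    by_contra hne
    have h1 := stepB a n r s ha (by omega) H hr hs hrN hsN (Ne.symm hne)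
    have h2 := stepB a n s r ha (by omega) H hs hr hsN hrN hne
    omega
  have hpow := Nat.eq_prime_pow_of_unique_prime_dvd (by omega) huniq
  have hNr : natPhi n a = r := by
    have hC := stepC a n r ha hn H hr hrN
    generalize (natPhi n a).primeFactorsList.length = j at hpow
    rcases j with _ | _ | j
    · rw [hpow] at hN1; simp at hN1
    · rw [hpow]; simp
    · exfalso; apply hC; rw [hpow]
      exact pow_dvd_pow r (by omega)
  obtain ⟨k, m, hnm, hm, hprim⟩ := stepA a n r ha (by omega) H hr hrN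
  have hm0 : m ≠ 0 := by rintro rfl; simp at hnm; omega
  have hmr := dvd_sub_one_of_prim a r m hr hm0 hprim
  have hlow := lt_natPhi n a (by omega) ha
  rw [hNr] at hlow
  have hφ : r - 1 ≤ n.totient := by
    have h1 : r ∣ n := by rw [hnm]; exact Dvd.dvd.mul_right (dvd_pow_self r (by omega)) _
    have h2 := Nat.totient_dvd_of_dvd h1
    rw [Nat.totient_prime hr] at h2
    exact Nat.le_of_dvd (Nat.totient_pos.mpr (by omega)) h2
  by_cases ha3 : 3 ≤ a
  · have h1 : 2 ^ (r - 1) ≤ (a - 1) ^ n.totient :=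
      calc 2 ^ (r - 1) ≤ 2 ^ n.totient := Nat.pow_le_pow_right (by norm_num) hφ
        _ ≤ (a - 1) ^ n.totient := Nat.pow_le_pow_left (by omega) _
    have h2 := le_two_pow_pred r hr.one_lt.le
    omega
  · have ha2 : a = 2 := by omega
    subst ha2
    have h2r : r ≤ 2 ^ r - 1 := by
      have := Nat.lt_two_pow_self (n := r)
      omega
    cases k with
    | succ k =>
      have h1 : natPhi n 2 = natPhi (r ^ (k + 1) * m) (2 ^ r) := by
        rw [← natPhi_expand_of_dvd _ _ r hr (Dvd.dvd.mul_right (dvd_pow_self r (by omega)) _), hnm]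
        congr 1
        ring
      have hn' : 1 < r ^ (k + 1) * m := by
        have : 1 < r ^ (k + 1) := Nat.one_lt_pow (by omega) hr.one_lt
        have : 1 ≤ m := Nat.pos_of_ne_zero hm0
        nlinarith
      have h2 := lt_natPhi (r ^ (k + 1) * m) (2 ^ r) hn' (Nat.one_lt_pow hr.ne_zero (by norm_num))
      rw [← h1, hNr] at h2
      have h3 : 2 ^ r - 1 ≤ (2 ^ r - 1) ^ (r ^ (k + 1) * m).totient :=
        Nat.le_self_pow (Nat.totient_pos.mpr (by omega)).ne' _
      omega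
    | zero =>
      have hnm' : n = m * r := by rw [hnm]; ring
      have hE := natPhi_expand_of_not_dvd m 2 r hr hm
      rw [← hnm', hNr] at hE
      have hm1 : m ≠ 1 := by
        rintro rfl
        have hp1 := hprim.pow_eq_one
        have h3 : ((2 : ℕ) : ZMod r) = ((1 : ℕ) : ZMod r) := by simpa using hp1
        rw [ZMod.natCast_eq_natCast_iff'] at h3
        have := hr.two_le
        rcases Nat.lt_or_ge 2 r with h | h
        · rw [Nat.mod_eq_of_lt h, Nat.mod_eq_of_lt (by omega)] at h3; omega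
        · have : r = 2 := by omega
          rw [this] at h3; simp at h3
      have hm2 : 1 < m := by omega
      have hlo := lt_natPhi m (2 ^ r) hm2 (Nat.one_lt_pow hr.ne_zero (by norm_num))
      have hhi := natPhi_le m 2 (by norm_num)
      have hφm : 0 < m.totient := Nat.totient_pos.mpr (by omega)
      by_cases hr5 : 5 ≤ r
      · have h1 := three_mul_lt r hr5
        have h2 : (3 * r) ^ m.totient ≤ (2 ^ r - 1) ^ m.totient := Nat.pow_le_pow_left h1.le _
        have h3 : r * 3 ^ m.totient ≤ (3 * r) ^ m.totient := by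
          rw [mul_pow, mul_comm]
          exact Nat.mul_le_mul_left _ (Nat.le_self_pow hφm.ne' _)
        have h4 : r * natPhi m 2 ≤ r * 3 ^ m.totient := Nat.mul_le_mul_left _ hhi
        omega
      · -- r ∈ {2, 3}
        have hr23 : r = 2 ∨ r = 3 := by
          have := hr.two_le
          have h4 : r ≠ 4 := by rintro h; rw [h] at hr; revert hr; decide
          omega
        rcases hr23 with h | h
        · rw [h] at hmr
          have := Nat.le_of_dvd (by norm_num) hmr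
          omega
        · rw [h] at hmr
          have := Nat.le_of_dvd (by norm_num) hmr
          have hm2' : m = 2 := by omega
          apply h6
          refine ⟨rfl, ?_⟩
          rw [hnm', hm2', h]

/-- Zsigmondy's Theorem: for natural numbers a > 1 and n > 1 there is a prime dividing aⁿ − 1 that divides aᵏ − 1 for no natural number 0 < k < n, unless a = 2 and n = 6, or n = 2 and a + 1 is a power of two. -/
theorem result (a n : ℕ) (ha : 1 < a) (hn : 1 < n) (h6 : ¬ (a = 2 ∧ n = 6)) (h2 : ¬ (n = 2 ∧ ∃ m : ℕ, a + 1 = 2 ^ m)) : ∃ r : ℕ, r.Prime ∧ r ∣ a ^ n - 1 ∧ ∀ k : ℕ, 0 < k → k < n → ¬ r ∣ a ^ k - 1 := by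
  by_cases hn3 : 3 ≤ n
  · by_contra hcon
    apply main a n ha hn3 h6
    intro r hr hrd
    by_contra hk
    apply hcon
    refine ⟨r, hr, hrd, ?_⟩
    intro k hk0 hkn hkd
    exact hk ⟨k, hk0, hkn, hkd⟩
  · have hn2 : n = 2 := by omega
    subst hn2
    have hex : ∃ r : ℕ, r.Prime ∧ r ∣ a + 1 ∧ r ≠ 2 := by
      by_contra hcon
      push Not at hcon
      apply h2
      refine ⟨rfl, _, Nat.eq_prime_pow_of_unique_prime_dvd (by omega) (fun {d} hd hdd => hcon d hd hdd)⟩
    obtain ⟨r, hr, hrd, hr2⟩ := hex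
    refine ⟨r, hr, ?_, ?_⟩
    · have h1 : a ^ 2 - 1 = (a - 1) * (a + 1) := by
        obtain ⟨c', hc'⟩ : ∃ c', a = c' + 1 := ⟨a - 1, by omega⟩
        rw [hc']
        simp
        ring_nf
        omega
      rw [h1]
      exact Dvd.dvd.mul_left hrd _
    · intro k hk0 hk2 hkd
      have hk1 : k = 1 := by omega
      subst hk1
      rw [pow_one] at hkd
      have h1 : r ∣ (a + 1) - (a - 1) := Nat.dvd_sub hrd hkd
      have h3 : (a + 1) - (a - 1) = 2 := by omega
      rw [h3] at h1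
      exact hr2 ((Nat.prime_dvd_prime_iff_eq hr Nat.prime_two).mp h1)

end Cfsg.Agent.S2904
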