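import Cfsg.Statements.S2362
import Mathlib
import Cfsg.Agent.Lib.Helper42.SpecO5
import Cfsg.Agent.Lib.Helper42.SpecPSp10
import Cfsg.Agent.Lib.Helper44.StdForms
import Cfsg.Agent.Lib.Helper5.OmegaCenterMat
import Cfsg.Agent.S2469
import Cfsg.Agent.S2904

set_option autoImplicit false
open Cfsg

namespace Cfsg.Agent.S2362

open Cfsg.Agent.Lib.Helper5 Cfsg.Agent.Lib.Helper44 QuadraticMap
open Cfsg.Agent.Lib.Helper42.SpecO Cfsg.Agent.Lib.Helper42.SpecPSp

lemma center_trivial {F : Type*} [Field F] [Fintype F] (h2 : (2 : F) ≠ 0) (m : ℕ) (hm : 1 ≤ m) :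
    Subgroup.center (Cfsg.Omega F (Cfsg.quadFormOdd m F)) = ⊥ := by
  have hZ : Nat.card (Subgroup.center (Cfsg.Omega F (Cfsg.quadFormOdd m F))) = 1 := by
    let i0 : Fin m := ⟨0, by omega⟩
    have := card_center_Omega_eq_one (oddQF m F) (oddQF_nondeg m F h2)
      (e := Pi.single (Sum.inr (Sum.inl i0)) 1) (f := Pi.single (Sum.inr (Sum.inr i0)) 1)
      (w0 := Pi.single (Sum.inl ()) 1)
      (by rw [oddQF_apply]; simp)
      (by rw [oddQF_apply]; simp)
      (by rw [oddQF_polar_single_inl]; simp)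
      (by rw [oddQF_apply]; simp)
      (by rw [oddQF_polar_single_inl]; simp)
      (by rw [oddQF_polar_single_inr]; simp)
      (Or.inr (by
        rintro ⟨g, hg, hg1⟩
        have hdet := det_eq_one_of_mem_Omega _ g hg
        rw [hg1, Matrix.det_neg, Matrix.det_one, mul_one] at hdet
        have hc : Fintype.card (Unit ⊕ (Fin m ⊕ Fin m)) = 2 * m + 1 := by simp; ring
        rw [hc, pow_succ, pow_mul] at hdet
        simp at hdet
        apply h2
        linear_combination -hdet))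
    rwa [oddQF_coe] at this
  exact Subgroup.card_eq_one.1 hZ

/-- the choice of the prime `r` -/
lemma exists_r (q d : ℕ) (hq : Odd q) (hq1 : 1 < q) (hd : 2 ≤ d) :
    ∃ r : ℕ, r.Prime ∧ r ≠ 2 ∧ ¬ r ∣ q ∧
      ((q ^ d % 4 = 1 ∧ r ∣ q ^ d + 1 ∧ r ∣ q ^ (2 * d) - 1 ∧
          ∀ k, 0 < k → k < 2 * d → ¬ r ∣ q ^ k - 1) ∨
       (q ^ d % 4 = 3 ∧ r ∣ q ^ d - 1 ∧ Odd d ∧ ∀ k, 0 < k → k < d → ¬ r ∣ q ^ k - 1)) := by
  have hqd : Odd (q ^ d) := hq.pow
  have h4 : q ^ d % 4 = 1 ∨ q ^ d % 4 = 3 := by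
    obtain ⟨m, hm⟩ := hqd; omega
  have h2q : 2 ∣ q ^ 1 - 1 := by
    obtain ⟨m, hm⟩ := hq
    rw [pow_one, hm]; exact ⟨m, by omega⟩
  have hnq : ∀ (r m : ℕ), r.Prime → 0 < m → r ∣ q ^ m - 1 → ¬ r ∣ q := by
    intro r m hr hm h1 h3
    have h5 : r ∣ q ^ m := dvd_pow h3 (by omega)
    have h6 : 1 ≤ q ^ m := Nat.one_le_pow _ _ (by omega)
    have h7 : r ∣ 1 := by
      have := (Nat.dvd_sub h5 h1)
      rwa [Nat.sub_sub_self h6] at this
    exact hr.one_lt.ne' (Nat.dvd_one.mp h7)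
  rcases h4 with h4 | h4
  · obtain ⟨r, hr, h1, h3⟩ := Cfsg.Agent.S2904.result q (2 * d) hq1 (by omega)
      (by rintro ⟨rfl, -⟩; exact absurd hq (by decide)) (by rintro ⟨h, -⟩; omega)
    refine ⟨r, hr, ?_, hnq r _ hr (by omega) h1, Or.inl ⟨h4, ?_, h1, h3⟩⟩
    · rintro rfl
      exact h3 1 (by omega) (by omega) h2q
    · have h5 : q ^ (2 * d) - 1 = (q ^ d - 1) * (q ^ d + 1) := by
        have h6 : 1 ≤ q ^ d := Nat.one_le_pow _ _ (by omega)
        obtain ⟨t, ht⟩ : ∃ t, q ^ d = t + 1 := ⟨q ^ d - 1, by omega⟩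
        rw [mul_comm 2 d, pow_mul, ht]
        simp only [Nat.add_sub_cancel]
        have : (t + 1) ^ 2 = t * (t + 1 + 1) + 1 := by ring
        rw [this, Nat.add_sub_cancel]
      rw [h5] at h1
      exact (hr.dvd_mul.mp h1).resolve_left (h3 d (by omega) (by omega))
  · have hdo : Odd d := by
      by_contra hne
      rw [Nat.not_odd_iff_even] at hne
      obtain ⟨m, hm⟩ := hne
      have h5 : q ^ d = (q ^ m) ^ 2 := by rw [hm, ← two_mul, mul_comm, pow_mul]
      have h6 : Odd (q ^ m) := hq.pow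
      obtain ⟨t, ht⟩ := h6
      rw [h5, ht] at h4
      have h7 : (2 * t + 1) ^ 2 = 4 * (t * t + t) + 1 := by ring
      rw [h7] at h4
      omega
    obtain ⟨r, hr, h1, h3⟩ := Cfsg.Agent.S2904.result q d hq1 (by omega)
      (by rintro ⟨rfl, -⟩; exact absurd hq (by decide))
      (by rintro ⟨rfl, -⟩; exact absurd hdo (by decide))
    refine ⟨r, hr, ?_, hnq r _ hr (by omega) h1, Or.inr ⟨h4, h1, hdo, h3⟩⟩
    rintro rfl
    exact h3 1 (by omega) (by omega) h2q

/-- Let F be a finite field of odd order and n ≥ 3. The simple orthogonal group PΩ(2n+1, F) (type B_n) and the projective symplectic group PSp(2n, F) (type C_n), which have the same order, do not have the same set of element orders. -/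
theorem result {F : Type*} [Field F] [Fintype F] (hodd : Odd (Fintype.card F)) (n : ℕ) (hn : 3 ≤ n) :
    Set.range (orderOf : Cfsg.POmega F (Cfsg.quadFormOdd n F) → ℕ) ≠ Set.range (orderOf : Cfsg.PSp n F → ℕ) := by
  obtain ⟨d, rfl⟩ : ∃ d, n = d + 1 := ⟨n - 1, by omega⟩
  have hd : 2 ≤ d := by omega
  obtain ⟨p, hchar⟩ := CharP.exists F
  have hp : p.Prime := (CharP.char_is_prime_or_zero F p).resolve_right (CharP.char_ne_zero_of_finite F p)
  have : Fact p.Prime := ⟨hp⟩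
  obtain ⟨f, hf⟩ : ∃ f, Fintype.card F = p ^ f := by
    obtain ⟨⟨f, _⟩, _, hf⟩ := FiniteField.card F p
    exact ⟨f, hf⟩
  have hp2 : p ≠ 2 := by
    rintro rfl
    rw [hf] at hodd
    have hf0 : f ≠ 0 := by
      rintro rfl
      have := Fintype.one_lt_card (α := F)
      rw [hf] at this
      simp at this
    exact absurd hodd (by rw [Nat.not_odd_iff_even]; exact (Nat.even_pow.mpr ⟨even_two, hf0⟩))
  have h2 : (2 : F) ≠ 0 := two_ne_zero_of_char p hp2
  set q := Fintype.card F with hq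
  have hq1 : 1 < q := Fintype.one_lt_card
  obtain ⟨r, hr, hr2, hrq, hcase⟩ := exists_r q d hodd hq1 hd
  have : Fact r.Prime := ⟨hr⟩
  have hrp : r ≠ p := by
    rintro rfl
    apply hrq
    rw [hf]
    apply dvd_pow_self
    rintro rfl
    rw [hf] at hq1
    simp at hq1
  obtain ⟨hk1, hkd, hrF⟩ := Cfsg.Agent.S2469.prime_facts (F := F) p r hr hrp
  rw [← hq] at hk1 hkd
  -- the order `2 r p` occurs in `PSp`
  have hqd_even : 2 ∣ q ^ d + 1 ∧ 2 ∣ q ^ d - 1 := by
    obtain ⟨m, hm⟩ : Odd (q ^ d) := hodd.pow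
    rw [hm]
    exact ⟨⟨m + 1, by ring⟩, ⟨m, by omega⟩⟩
  have hcop2r : Nat.Coprime 2 r := (Nat.coprime_primes Nat.prime_two hr).mpr (Ne.symm hr2)
  have hclog : Nat.clog p (2 * 1) = 1 := Nat.clog_eq_one (by norm_num) (by
    have := hp.two_le; omega)
  have hpsp : ∃ g : Cfsg.PSp (d + 1) F, orderOf g = 2 * r * p := by
    have hex : ∃ M, 2 * r ∣ M ∧ ∃ g : Cfsg.PSp (d + 1) F, orderOf g = M * p := by
      rcases hcase with ⟨-, h1, -, -⟩ | ⟨-, h1, -, -⟩
      · obtain ⟨g, hg⟩ := exists_C_plus (F := F) p hp2 d 1 (by omega) (by omega)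
        rw [hclog, pow_one] at hg
        exact ⟨_, hcop2r.mul_dvd_of_dvd_of_dvd hqd_even.1 h1, g, hg⟩
      · obtain ⟨g, hg⟩ := exists_C_minus (F := F) p hp2 d 1 (by omega) (by omega)
        rw [hclog, pow_one] at hg
        exact ⟨_, hcop2r.mul_dvd_of_dvd_of_dvd hqd_even.2 h1, g, hg⟩
    obtain ⟨M, ⟨c, hc⟩, g, hg⟩ := hex
    have hpos : 0 < orderOf g := orderOf_pos g
    have hc0 : c ≠ 0 := by
      rintro rfl
      rw [hg, hc] at hpos
      simp at hpos
    refine ⟨g ^ c, ?_⟩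
    rw [orderOf_pow_of_dvd hc0 (by rw [hg, hc]; exact ⟨2 * r * p, by ring⟩), hg, hc]
    apply Nat.div_eq_of_eq_mul_left (by omega)
    ring
  intro heq
  obtain ⟨g, hg⟩ := hpsp
  have hmem : 2 * r * p ∈ Set.range (orderOf : Cfsg.POmega F (Cfsg.quadFormOdd (d + 1) F) → ℕ) := by
    rw [heq]; exact ⟨g, hg⟩
  obtain ⟨gbar, hgbar⟩ := hmem
  obtain ⟨g₀, rfl⟩ := QuotientGroup.mk_surjective gbar
  have hZ := center_trivial (F := F) h2 (d + 1) (by omega)
  have hinj : Function.Injective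
      (QuotientGroup.mk' (Subgroup.center (Cfsg.Omega F (Cfsg.quadFormOdd (d + 1) F)))) := by
    rw [injective_iff_map_eq_one]
    intro x hx
    have h3 : x ∈ Subgroup.center (Cfsg.Omega F (Cfsg.quadFormOdd (d + 1) F)) :=
      (QuotientGroup.eq_one_iff x).1 hx
    rw [hZ] at h3
    exact Subgroup.mem_bot.1 h3
  have hord0 : orderOf g₀ = 2 * r * p := by
    rw [← hgbar]
    exact (orderOf_injective _ hinj g₀).symm
  have hord1 : orderOf (g₀ : ↥(Cfsg.isometryGroup F (Cfsg.quadFormOdd (d + 1) F))) = 2 * r * p := by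
    rw [Subgroup.orderOf_coe, hord0]
  have key : ∀ g : ↥(Cfsg.isometryGroup F (Cfsg.quadFormOdd (d + 1) F)),
      g ∈ Cfsg.Omega F (Cfsg.quadFormOdd (d + 1) F) → orderOf g = 2 * r * p → False := by
    have hS := card_sphere_odd (F := F) h2 (d + 1)
    rw [← oddQF_coe] at hS ⊢
    intro g hg hord
    refine no_elt p h2 (oddQF (d + 1) F) (oddQF_nondeg (d + 1) F h2) d hd
      (by simp; ring) hS r hr2 hrp ?_ g hg hord
    rw [← hq]
    rcases hcase with ⟨h4, h1, h3, h5⟩ | ⟨h4, h1, hdo, h5⟩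
    · left
      refine ⟨h4, h1, ?_⟩
      have h6 := (hkd _).mp h3
      have h7 : orderOf ((q : ℕ) : ZMod r) ≤ 2 * d := Nat.le_of_dvd (by omega) h6
      by_contra hne
      exact h5 _ hk1 (by omega) ((hkd _).mpr dvd_rfl)
    · right
      refine ⟨h4, h1, ?_, hdo⟩
      have h6 := (hkd _).mp h1
      have h7 : orderOf ((q : ℕ) : ZMod r) ≤ d := Nat.le_of_dvd (by omega) h6
      by_contra hne
      exact h5 _ hk1 (by omega) ((hkd _).mpr dvd_rfl)
  exact key g₀ g₀.2 hord1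

end Cfsg.Agent.S2362
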