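import Cfsg.Statements.S2472
import Mathlib
import Cfsg.Agent.Lib.Helper42.PGraphS2
import Cfsg.Agent.Lib.Helper42.PGraphS3

set_option autoImplicit false
open Cfsg

namespace Cfsg.Agent.S2472

open Cfsg.Agent.Lib.Helper42.SpecPSp Cfsg.Agent.Lib.Helper42.PGraphS

/-- Adjacency of a prime and the characteristic in the prime graph of PSp(2n,q): let F be a finite field of characteristic p with q elements, n ≥ 2 with PSp(2n,F) simple, and let r ≠ p be an odd prime dividing the order of PSp(2n,F), with k the multiplicative order of q modulo r and η(k) = k for odd k, k/2 for even k. Then PSp(2n,F) has NO element of order r·p if and only if η(k) > n − 1. -/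
theorem result {F : Type*} [Field F] [Fintype F] (p : ℕ) [Fact p.Prime] [CharP F p] (n : ℕ) (hn : 2 ≤ n) (hsmall : n = 2 → 3 ≤ Fintype.card F)
    (r : ℕ) (hr : r.Prime) (hr2 : r ≠ 2) (hrp : r ≠ p) (hrG : r ∣ Nat.card (Cfsg.PSp n F))
    (k ηk : ℕ) (hk : k = orderOf ((Fintype.card F : ℕ) : ZMod r)) (hηk : (Odd k ∧ ηk = k) ∨ (Even k ∧ 2 * ηk = k)) :
    (r * p ∉ Set.range (orderOf : Cfsg.PSp n F → ℕ)) ↔ n - 1 < ηk := by
  classical
  have hp : p.Prime := Fact.out
  have : Fact r.Prime := ⟨hr⟩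
  set q := Fintype.card F with hq
  have hq2 : 2 ≤ q := Fintype.one_lt_card
  have hcop : Nat.Coprime r p := (Nat.coprime_primes hr hp).mpr hrp
  have hrodd : Odd r := hr.odd_of_ne_two hr2
  have hrq : ¬ r ∣ q := by
    intro h
    obtain ⟨f, hf⟩ : ∃ f, q = p ^ f := by
      obtain ⟨⟨f, _⟩, _, hf⟩ := FiniteField.card F p
      exact ⟨f, hf⟩
    rw [hf] at h
    exact hrp ((Nat.prime_dvd_prime_iff_eq hr hp).mp (hr.dvd_of_dvd_pow h))
  have hq0 : ((q : ℕ) : ZMod r) ≠ 0 := by
    rw [Ne, ZMod.natCast_eq_zero_iff]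
    exact hrq
  have hk1 : 1 ≤ k := by
    rw [hk]
    have : ((q : ℕ) : ZMod r) ^ (r - 1) = 1 := ZMod.pow_card_sub_one_eq_one hq0
    exact orderOf_pos_iff.mpr (isOfFinOrder_iff_pow_eq_one.mpr ⟨r - 1, by have := hr.two_le; omega, this⟩)
  have hdvd_iff : ∀ j : ℕ, r ∣ q ^ j - 1 ↔ k ∣ j := by
    intro j
    rw [hk, orderOf_dvd_iff_pow_eq_one, ← Nat.cast_pow]
    have h1 : 1 ≤ q ^ j := Nat.one_le_pow _ _ (by omega)
    rw [← ZMod.natCast_eq_zero_iff, Nat.cast_sub h1, Nat.cast_one, sub_eq_zero]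
  have hrF : (r : F) ≠ 0 := by
    rw [Ne, CharP.cast_eq_zero_iff F p]
    intro h
    exact hrp ((Nat.prime_dvd_prime_iff_eq hp hr).mp h).symm
  have h2F : p = 2 → (2 : F) = 0 := by
    intro h
    have : ((p : ℕ) : F) = 0 := CharP.cast_eq_zero F p
    rw [h] at this
    exact_mod_cast this
  constructor
  · -- construction
    intro hno
    by_contra hcon
    push Not at hcon
    apply hno
    have hη : 0 < ηk := by
      rcases hηk with ⟨-, he⟩ | ⟨-, he⟩ <;> omega
    have hX1 : ∃ X : Matrix (Fin ηk ⊕ Fin ηk) (Fin ηk ⊕ Fin ηk) F,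
        X ∈ Matrix.symplecticGroup (Fin ηk) F ∧ ∀ j, X ^ j = 1 ↔ r ∣ j := by
      rcases hηk with ⟨-, he⟩ | ⟨-, he⟩
      · obtain ⟨X, hX, h1, -⟩ := exists_torus_minus (F := F) p ηk hη
        have hpos : 0 < q ^ ηk - 1 := by
          have : 2 ≤ q ^ ηk := le_trans hq2 (Nat.le_self_pow hη.ne' q)
          omega
        exact exists_of_dvd_torus ηk (q ^ ηk - 1) r hpos ((hdvd_iff ηk).mpr (by rw [he])) ⟨X, hX, h1⟩
      · obtain ⟨X, hX, h1, -⟩ := exists_torus_plus' (F := F) p ηk hη
        refine exists_of_dvd_torus ηk (q ^ ηk + 1) r (by omega) ?_ ⟨X, hX, h1⟩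
        have h2 : (((q : ℕ) : ZMod r) ^ ηk) * (((q : ℕ) : ZMod r) ^ ηk) = 1 := by
          rw [← pow_add, ← two_mul, he, hk, pow_orderOf_eq_one]
        rcases mul_self_eq_one_iff.mp h2 with h3 | h3
        · exfalso
          rw [← orderOf_dvd_iff_pow_eq_one, ← hk] at h3
          have := Nat.le_of_dvd hη h3
          omega
        · rw [← ZMod.natCast_eq_zero_iff]
          push_cast
          rw [h3]; ring
    obtain ⟨t, ht⟩ : ∃ t, n = ηk + (t + 1) := ⟨n - 1 - ηk, by omega⟩
    subst ht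
    have hpar : (2 : F) = 0 ∨ Odd (r * p) := by
      by_cases hp2 : p = 2
      · exact Or.inl (h2F hp2)
      · exact Or.inr (hrodd.mul (hp.odd_of_ne_two hp2))
    obtain ⟨g, hg⟩ := exists_sum_psp' ηk (t + 1) (by omega) r p hcop hpar hX1
      (exists_unip p (t + 1) (by omega))
    exact ⟨g, hg⟩
  · -- non-existence
    rintro hcond ⟨g, hg⟩
    obtain ⟨x, rfl⟩ := QuotientGroup.mk_surjective g
    have hn0 : 0 < n := by omega
    have : Nonempty (Fin n ⊕ Fin n) := ⟨Sum.inl ⟨0, hn0⟩⟩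
    set X := x.1 with hX
    have hpow : ∀ j, (X ^ j = 1 ∨ X ^ j = -1) ↔ r * p ∣ j := by
      intro j
      rw [← psp_pow_eq_one_iff hn0, ← hg, orderOf_dvd_iff_pow_eq_one]
    have hε : X ^ (r * p) = 1 ∨ X ^ (r * p) = -1 := (hpow _).mpr dvd_rfl
    set B := X ^ (p * (r + 1)) with hBdef
    set A := X ^ (r * (p + 1)) with hAdef
    have hBs : adj B * B = 1 := (mem_sp_iff _).mp (pow_mem x.2 _)
    have hAs : adj A * A = 1 := (mem_sp_iff _).mp (pow_mem x.2 _)
    have hB : B ^ r = 1 := by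
      rw [hBdef, ← pow_mul]
      have : p * (r + 1) * r = (r * p) * (r + 1) := by ring
      rw [this, pow_mul]
      rcases hε with h | h
      · rw [h, one_pow]
      · rw [h]; exact Even.neg_one_pow hrodd.add_one
    have hB1 : B ≠ 1 := by
      intro h
      have h1 := (hpow _).mp (Or.inl h)
      rw [mul_comm r p] at h1
      have h2 := Nat.dvd_of_mul_dvd_mul_left hp.pos h1
      have h3 := (Nat.dvd_add_right (dvd_refl r)).mp h2
      exact hr.one_lt.ne' (Nat.dvd_one.mp h3)
    have hA1 : A ≠ 1 := by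
      intro h
      have h1 := (hpow _).mp (Or.inl h)
      have h2 := Nat.dvd_of_mul_dvd_mul_left hr.pos h1
      have h3 := (Nat.dvd_add_right (dvd_refl p)).mp h2
      exact hp.one_lt.ne' (Nat.dvd_one.mp h3)
    have hAp : A ^ p = 1 := by
      rw [hAdef, ← pow_mul]
      have : r * (p + 1) * p = (r * p) * (p + 1) := by ring
      rw [this, pow_mul]
      rcases hε with h | h
      · rw [h, one_pow]
      · rw [h]
        by_cases hp2 : p = 2
        · have : (2 : F) • (1 : Matrix (Fin n ⊕ Fin n) (Fin n ⊕ Fin n) F) = 0 := by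
            rw [h2F hp2, zero_smul]
          rw [two_smul] at this
          rw [neg_eq_of_add_eq_zero_left this, one_pow]
        · exact Even.neg_one_pow (hp.odd_of_ne_two hp2).add_one
    have hN : IsNilpotent (A - 1) :=
      ⟨p, by rw [sub_pow_char_of_commute p (Commute.one_right A), hAp, one_pow, sub_self]⟩
    have hc : Commute B A := (Commute.refl X).pow_pow _ _
    rcases hηk with ⟨hodd, he⟩ | ⟨heven, he⟩
    · have := sp_core_odd r hr2 hrF B A hBs hAs hB hB1 hN hA1 hc (by rw [← hq, ← hk]; exact hodd)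
      rw [← hq, ← hk] at this
      omega
    · have hk2 : 2 ≤ k := by
        obtain ⟨c, hc⟩ := heven
        omega
      have := core' r hrF B (A - 1) hB hB1 hN (sub_ne_zero.mpr hA1)
        (hc.sub_right (Commute.one_right B)) (by rw [← hq, ← hk]; exact hk2)
      rw [← hq, ← hk, Fintype.card_sum, Fintype.card_fin] at this
      omega

end Cfsg.Agent.S2472
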