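import Mathlib
import Cfsg.Statements.S2616
import Cfsg.Agent.Lib.Helper14.WittDecomp

set_option autoImplicit false
open Cfsg

namespace Cfsg.Agent.S2616

open Cfsg.Agent.Lib.Helper14

/-- Standard bases of a non-degenerate quadratic space of even dimension 2m over a finite field: either there is a hyperbolic basis e_i, f_i (Q(e_i) = Q(f_i) = 0, B(e_i, f_j) = δ_ij, the e's pairwise orthogonal and the f's pairwise orthogonal, B the polar form), or there is an elliptic basis: hyperbolic pairs e_i, f_i for i < m − 1 together with x, y orthogonal to them with Q(x) = 1, B(x, y) = 1, Q(y) = ζ where t² + t + ζ has no root in the field. -/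
theorem result {F V : Type*} [Field F] [Finite F] [AddCommGroup V] [Module F V] [FiniteDimensional F V] {m : ℕ} (hm : 1 ≤ m) (hV : Module.finrank F V = 2 * m) (Q : QuadraticForm F V) (hQ : (QuadraticMap.polarBilin Q).Nondegenerate) : (∃ b : Module.Basis (Fin m ⊕ Fin m) F V, (∀ i, Q (b (Sum.inl i)) = 0 ∧ Q (b (Sum.inr i)) = 0) ∧ (∀ i j, QuadraticMap.polar ⇑Q (b (Sum.inl i)) (b (Sum.inr j)) = if i = j then 1 else 0) ∧ (∀ i j, QuadraticMap.polar ⇑Q (b (Sum.inl i)) (b (Sum.inl j)) = 0 ∧ QuadraticMap.polar ⇑Q (b (Sum.inr i)) (b (Sum.inr j)) = 0)) ∨ (∃ (b : Module.Basis ((Fin (m - 1) ⊕ Fin (m - 1)) ⊕ Fin 2) F V) (ζ : F), (∀ t : F, t ^ 2 + t + ζ ≠ 0) ∧ (∀ i, Q (b (Sum.inl (Sum.inl i))) = 0 ∧ Q (b (Sum.inl (Sum.inr i))) = 0) ∧ (∀ i j, QuadraticMap.polar ⇑Q (b (Sum.inl (Sum.inl i))) (b (Sum.inl (Sum.inr j))) = if i = j then 1 else 0) ∧ (∀ i j, QuadraticMap.polar ⇑Q (b (Sum.inl (Sum.inl i))) (b (Sum.inl (Sum.inl j))) = 0 ∧ QuadraticMap.polar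 ⇑Q (b (Sum.inl (Sum.inr i))) (b (Sum.inl (Sum.inr j))) = 0) ∧ (∀ i (k : Fin 2), QuadraticMap.polar ⇑Q (b (Sum.inl (Sum.inl i))) (b (Sum.inr k)) = 0 ∧ QuadraticMap.polar ⇑Q (b (Sum.inl (Sum.inr i))) (b (Sum.inr k)) = 0) ∧ Q (b (Sum.inr 0)) = 1 ∧ QuadraticMap.polar ⇑Q (b (Sum.inr 0)) (b (Sum.inr 1)) = 1 ∧ Q (b (Sum.inr 1)) = ζ) := by
  obtain ⟨k, rfl⟩ : ∃ k, m = k + 1 := ⟨m - 1, by omega⟩
  simp only [Nat.add_one_sub_one]
  obtain ⟨e, f, A, hsys, horth, hA, hnd⟩ := witt_core 2 (by norm_num) k Q hQ (by rw [hV]; ring)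
  rcases core_two Q A hA hnd with ⟨u, hu, w, hw, hQu, hQw, huw⟩ | ⟨x, hx, y, hy, hQx, hxy, hirr⟩
  · left
    have hsys' := hsys.cons hQu hQw huw
      (fun i => ⟨by rw [QuadraticMap.polar_comm]; exact (horth i u hu).1,
        by rw [QuadraticMap.polar_comm]; exact (horth i u hu).2⟩)
      (fun i => ⟨by rw [QuadraticMap.polar_comm]; exact (horth i w hw).1,
        by rw [QuadraticMap.polar_comm]; exact (horth i w hw).2⟩)
    obtain ⟨B, hB⟩ := exists_basis_of_li _ hsys'.linearIndependent (by simp [hV]; ring)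
    refine ⟨B, ?_, ?_, ?_⟩
    · intro i
      simp only [hB, Sum.elim_inl, Sum.elim_inr]
      exact ⟨hsys'.Qe i, hsys'.Qf i⟩
    · intro i j
      simp only [hB, Sum.elim_inl, Sum.elim_inr]
      exact hsys'.ef i j
    · intro i j
      simp only [hB, Sum.elim_inl, Sum.elim_inr]
      exact ⟨hsys'.ee i j, hsys'.ff i j⟩
  · right
    have hmem : ∀ j : Fin 2, ![x, y] j ∈ A := by
      intro j
      fin_cases j
      · exact hx
      · exact hy
    have hli := hsys.linearIndependent_sum ![x, y] (elliptic_pair_li Q x y hQx hxy hirr)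
      (fun i j => horth i _ (hmem j))
    obtain ⟨B, hB⟩ := exists_basis_of_li _ hli (by simp [hV]; ring)
    refine ⟨B, Q y, hirr, ?_, ?_, ?_, ?_, ?_, ?_, ?_⟩
    · intro i
      simp only [hB, Sum.elim_inl, Sum.elim_inr]
      exact ⟨hsys.Qe i, hsys.Qf i⟩
    · intro i j
      simp only [hB, Sum.elim_inl, Sum.elim_inr]
      exact hsys.ef i j
    · intro i j
      simp only [hB, Sum.elim_inl, Sum.elim_inr]
      exact ⟨hsys.ee i j, hsys.ff i j⟩
    · intro i j
      simp only [hB, Sum.elim_inl, Sum.elim_inr]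
      exact horth i _ (hmem j)
    · simpa [hB] using hQx
    · simpa [hB] using hxy
    · simp [hB]

end Cfsg.Agent.S2616
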