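import Mathlib
import Cfsg.Statements.S0791
import Cfsg.Agent.Lib.Helper14.StdDisc
import Cfsg.Agent.Lib.Helper14.NegOne

set_option autoImplicit false
open Cfsg

namespace Cfsg.Agent.S0791

/-- −1 ∈ Ω⁻_2m(q) iff q^m ≡ −1 (mod 4), for q odd and m ≥ 1; for the minus-type form quadFormMinus (m−1) with anisotropic binary part. -/
theorem result {F : Type*} [Field F] [Fintype F] {q : ℕ} (hF : Fintype.card F = q) (hodd : Odd q) (m : ℕ) (hm : 1 ≤ m) (a b : F) (hab : ∀ z₁ z₂ : F, z₁ ^ 2 + a * z₁ * z₂ + b * z₂ ^ 2 = 0 → z₁ = 0 ∧ z₂ = 0) : (∃ g : ↥(Cfsg.isometryGroup F (Cfsg.quadFormMinus (m - 1) F a b)), g ∈ Cfsg.Omega F (Cfsg.quadFormMinus (m - 1) F a b) ∧ ((g : Matrix.GeneralLinearGroup ((Fin (m - 1) ⊕ Fin (m - 1)) ⊕ Fin 2) F) : Matrix ((Fin (m - 1) ⊕ Fin (m - 1)) ⊕ Fin 2) ((Fin (m - 1) ⊕ Fin (m - 1)) ⊕ Fin 2) F) = -1) ↔ q ^ m % 4 = 3 := by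
  have h2 : (2 : F) ≠ 0 := Cfsg.Agent.Lib.Helper44.two_ne_zero_of_odd_card (by rw [hF]; exact hodd)
  have key := Cfsg.Agent.Lib.Helper14.neg_one_mem_Omega_iff h2
    (Cfsg.Agent.Lib.Helper44.minusQF (m - 1) F a b)
    (Cfsg.Agent.Lib.Helper44.minusQF_nondeg (m - 1) F hab)
    (by simp only [Fintype.card_sum, Fintype.card_fin]; exact ⟨m - 1 + 1, by ring⟩) _
    (Cfsg.Agent.Lib.Helper14.hasDisc_polarBilin _)
  rw [Cfsg.Agent.Lib.Helper14.minus_disc_isSquare_iff (m - 1) F h2 hab _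
    (Cfsg.Agent.Lib.Helper14.hasDisc_polarBilin _), Nat.sub_add_cancel hm,
    Cfsg.Agent.Lib.Helper44.isSquare_neg_one_pow_iff hF hodd,
    Cfsg.Agent.Lib.Helper44.minusQF_coe] at key
  rw [key]
  have hodd' : Odd (q ^ m) := hodd.pow
  obtain ⟨j, hj⟩ := hodd'
  omega

end Cfsg.Agent.S0791
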