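import Cfsg.Statements.S0760
import Cfsg.Agent.S0750

set_option autoImplicit false
open Cfsg

namespace Cfsg.Agent.S0760

theorem aux {F V : Type*} [Field F] [Finite F] [AddCommGroup V] [Module F V] [FiniteDimensional F V]
    (Q : QuadraticForm F V) (hQ : (QuadraticMap.polarBilin Q).Nondegenerate) (W₁ W₂ : Submodule F V)
    (h₁ : ∀ w ∈ W₁, Q w = 0) (h₂ : ∀ w ∈ W₂, Q w = 0)
    (hmax₁ : ∀ W : Submodule F V, W₁ ≤ W → (∀ w ∈ W, Q w = 0) → W = W₁)
    (hle : Module.finrank F W₁ ≤ Module.finrank F W₂) :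
    Module.finrank F W₁ = Module.finrank F W₂ := by
  obtain ⟨j, hj⟩ := finrank_le_iff_exists_linearMap.mp hle
  have hinj : Function.Injective (W₂.subtype ∘ₗ j) := by
    intro a b hab
    apply hj
    exact Subtype.ext hab
  set φ := LinearEquiv.ofInjective (W₂.subtype ∘ₗ j) hinj with hφ
  have hφ_apply : ∀ x : W₁, (φ x : V) = (j x : V) := by
    intro x
    rfl
  obtain ⟨g, hgQ, hg⟩ := Cfsg.Agent.S0750.result Q hQ W₁ _ φ (by
    intro x
    rw [hφ_apply, h₁ x x.2, h₂ _ (j x).2])
  have hW := hmax₁ (W₂.comap (g : V →ₗ[F] V)) (by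
    intro w hw
    rw [Submodule.mem_comap]
    have := hg ⟨w, hw⟩
    simp only at this
    rw [LinearEquiv.coe_coe, this, hφ_apply]
    exact (j ⟨w, hw⟩).2) (by
    intro w hw
    rw [Submodule.mem_comap] at hw
    rw [← hgQ w]
    exact h₂ _ hw)
  rw [← hW]
  have : W₂.comap (g : V →ₗ[F] V) = W₂.map (g.symm : V →ₗ[F] V) := by
    rw [Submodule.map_equiv_eq_comap_symm]
    rfl
  rw [this]
  exact LinearEquiv.finrank_map_eq g.symm W₂

/-- Witt index is well defined: if Q is a quadratic form on a finite-dimensional space V over a finite field with non-degenerate polar form, and W₁, W₂ are subspaces on which Q vanishes that are maximal with this property, then W₁ and W₂ have the same dimension, and twice this dimension is at most dim V. -/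
theorem result {F V : Type*} [Field F] [Finite F] [AddCommGroup V] [Module F V] [FiniteDimensional F V] (Q : QuadraticForm F V) (hQ : (QuadraticMap.polarBilin Q).Nondegenerate) (W₁ W₂ : Submodule F V) (h₁ : ∀ w ∈ W₁, Q w = 0) (h₂ : ∀ w ∈ W₂, Q w = 0) (hmax₁ : ∀ W : Submodule F V, W₁ ≤ W → (∀ w ∈ W, Q w = 0) → W = W₁) (hmax₂ : ∀ W : Submodule F V, W₂ ≤ W → (∀ w ∈ W, Q w = 0) → W = W₂) : Module.finrank F W₁ = Module.finrank F W₂ ∧ 2 * Module.finrank F W₁ ≤ Module.finrank F V := by
  constructor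
  · rcases le_total (Module.finrank F W₁) (Module.finrank F W₂) with h | h
    · exact aux Q hQ W₁ W₂ h₁ h₂ hmax₁ h
    · exact (aux Q hQ W₂ W₁ h₂ h₁ hmax₂ h).symm
  · have hle : W₁ ≤ LinearMap.BilinForm.orthogonal (QuadraticMap.polarBilin Q) W₁ := by
      intro w hw
      rw [LinearMap.BilinForm.mem_orthogonal_iff]
      intro n hn
      rw [QuadraticMap.polarBilin_apply_apply, QuadraticMap.polar,
        h₁ _ (W₁.add_mem hn hw), h₁ _ hn, h₁ _ hw]
      simp
    have h1 := Submodule.finrank_mono hle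
    rw [LinearMap.BilinForm.finrank_orthogonal hQ] at h1
    have h2 := Submodule.finrank_le W₁
    omega

end Cfsg.Agent.S0760
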