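import Mathlib
import Cfsg.Statements.S0831
import Cfsg.Agent.Lib.Helper14.StdPlus
import Cfsg.Agent.Lib.Helper14.SingularParity

set_option autoImplicit false
open Cfsg

namespace Cfsg.Agent.S0831

open Cfsg.Agent.Lib.Helper14

/-- The two families of maximal totally singular subspaces of the hyperbolic quadric: for the form Σ x_i y_i on F^(2m), m ≥ 1, and m-dimensional subspaces U, W, X on which it vanishes, the parities of m − dim(U ∩ W), m − dim(W ∩ X) and m − dim(U ∩ X) sum to an even number (so 'even codimension of the intersection' is an equivalence relation), and there exist two such subspaces meeting in codimension 1 (so there are exactly two classes). -/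
theorem result {F : Type*} [Field F] (m : ℕ) (hm : 1 ≤ m) : (∀ U W X : Submodule F (Fin m ⊕ Fin m → F), (Module.finrank F U = m ∧ ∀ w ∈ U, Cfsg.quadFormPlus m F w = 0) → (Module.finrank F W = m ∧ ∀ w ∈ W, Cfsg.quadFormPlus m F w = 0) → (Module.finrank F X = m ∧ ∀ w ∈ X, Cfsg.quadFormPlus m F w = 0) → Even ((m - Module.finrank F ↥(U ⊓ W)) + (m - Module.finrank F ↥(W ⊓ X)) + (m - Module.finrank F ↥(U ⊓ X)))) ∧ ∃ U W : Submodule F (Fin m ⊕ Fin m → F), (Module.finrank F U = m ∧ ∀ w ∈ U, Cfsg.quadFormPlus m F w = 0) ∧ (Module.finrank F W = m ∧ ∀ w ∈ W, Cfsg.quadFormPlus m F w = 0) ∧ Module.finrank F ↥(U ⊓ W) + 1 = m := by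
  classical
  have hQ := plusQ_nondegenerate m F
  have hV := finrank_plus m F
  have conv : ∀ Y : Submodule F (Fin m ⊕ Fin m → F), (∀ w ∈ Y, Cfsg.quadFormPlus m F w = 0) →
      TS (plusQ m F) Y := fun Y hY w hw => by rw [plusQ_apply]; exact hY w hw
  constructor
  · intro U W X hU hW hX
    have ha : Module.finrank F ↥(U ⊓ W) ≤ m := le_of_le_of_eq (Submodule.finrank_mono inf_le_left) hU.1
    have hc : Module.finrank F ↥(W ⊓ X) ≤ m := le_of_le_of_eq (Submodule.finrank_mono inf_le_left) hW.1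
    have hb : Module.finrank F ↥(U ⊓ X) ≤ m := le_of_le_of_eq (Submodule.finrank_mono inf_le_left) hU.1
    have := TS.parity hQ hV (m - Module.finrank F ↥(W ⊓ X)) (conv W hW.2) hW.1 (conv X hX.2) hX.1
      (conv U hU.2) hU.1 (by omega)
    rw [Nat.even_iff] at this ⊢
    omega
  · let x : Fin m ⊕ Fin m → F := Pi.single (Sum.inr ⟨0, hm⟩) 1
    have hx : plusQ m F x = 0 := by
      rw [plusQ_apply]
      simp [Cfsg.quadFormPlus, x]
    have hxM : x ∉ plusM₀ m F := by
      intro h
      have := congrFun (LinearMap.mem_ker.mp h) ⟨0, hm⟩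
      simp [LinearMap.funLeft_apply, x] at this
    obtain ⟨W', hW', hW'd, -, -, hadj, -⟩ :=
      TS.neighbour hQ hV (plusM₀_ts m F) (plusM₀_finrank m F) x hx hxM
    refine ⟨plusM₀ m F, W', ⟨plusM₀_finrank m F, fun w hw => ?_⟩, ⟨hW'd, fun w hw => ?_⟩, hadj⟩
    · rw [← plusQ_apply]; exact plusM₀_ts m F w hw
    · rw [← plusQ_apply]; exact hW' w hw

end Cfsg.Agent.S0831
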