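import Cfsg.Statements.S2824
import Cfsg.Agent.Lib.Helper47.PRed4

set_option autoImplicit false
open Cfsg

namespace Cfsg.Agent.S2824

open Subgroup Cfsg.Agent.Lib.Helper47

/-- Let H be a finite group, p a prime, T a Sylow p-subgroup, L and M subgroups of characteristic p containing T, Y_L the largest p-reduced normal subgroup of L and T₀ = C_T(Y_L). If M·C_H(Y_L) = L·C_H(Y_L), then L* := N_M(T₀) has Y_{L*} = Y_L and L·C_H(Y_L) = L*·C_H(Y_L). -/
theorem result {H : Type*} [Group H] [Finite H] {p : ℕ} [Fact p.Prime] (T : Sylow p H) (L M : Subgroup H) (hTL : (T : Subgroup H) ≤ L) (hTM : (T : Subgroup H) ≤ M) (hL : Subgroup.centralizer (Cfsg.pCore p ↥L : Set ↥L) ≤ Cfsg.pCore p ↥L) (hM : Subgroup.centralizer (Cfsg.pCore p ↥M : Set ↥M) ≤ Cfsg.pCore p ↥M) (T₀ : Subgroup H) (hT₀ : T₀ = (T : Subgroup H) ⊓ Subgroup.centralizer (((Cfsg.largestPReducedOf p L) : Subgroup H) : Set H)) (hfac : M ⊔ Subgroup.centralizer (((Cfsg.largestPReducedOf p L) : Subgroup H) : Set H) = L ⊔ Subgroup.centralizer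 (((Cfsg.largestPReducedOf p L) : Subgroup H) : Set H)) (Ls : Subgroup H) (hLs : Ls = M ⊓ Subgroup.normalizer ((T₀ : Subgroup H) : Set H)) : (Cfsg.largestPReducedOf p Ls) = (Cfsg.largestPReducedOf p L) ∧ L ⊔ Subgroup.centralizer (((Cfsg.largestPReducedOf p L) : Subgroup H) : Set H) = Ls ⊔ Subgroup.centralizer (((Cfsg.largestPReducedOf p L) : Subgroup H) : Set H) := by
  have hY := isPRedIn_largest (p := p) L
  have hstr := largest_structure (charP_iff.mp hL) (isSylowIn_of_sylow T hTL) hY
    (fun V hV => hV.le_largest)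
  set Y := largestPReducedOf p L with hYdef
  set C := centralizer (Y : Set H) with hC
  have hchar := charP_iff.mp hL
  have hCN : C ≤ normalizer (Y : Set H) := centralizer_le_normalizer _
  have hNC : normalizer (Y : Set H) ≤ normalizer (C : Set H) := normalizer_le_normalizer_centralizer Y
  have hMN : M ≤ normalizer (Y : Set H) := by
    calc M ≤ M ⊔ C := le_sup_left
      _ = L ⊔ C := hfac
      _ ≤ _ := sup_le hY.le_normalizer hCN
  have hMCM : M ≤ normalizer ((M ⊓ C : Subgroup H) : Set H) :=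
    le_normalizer_inf le_normalizer (hMN.trans hNC)
  have hT₀' : T₀ = (T : Subgroup H) ⊓ (M ⊓ C) := by
    rw [hT₀]
    apply le_antisymm
    · exact le_inf inf_le_left (le_inf (inf_le_left.trans hTM) inf_le_right)
    · exact le_inf inf_le_left (inf_le_right.trans inf_le_right)
  have hS : IsSylowIn p T₀ (M ⊓ C) :=
    hT₀' ▸ (isSylowIn_of_sylow T hTM).inf_of_normal inf_le_left hMCM
  have hfr := hS.frattini_sup inf_le_left hMCM
  rw [← hLs] at hfr
  have h2 : Ls ⊔ C = M ⊔ C := by
    apply le_antisymm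
    · exact sup_le ((hLs ▸ inf_le_left : Ls ≤ M).trans le_sup_left) le_sup_right
    · apply sup_le _ le_sup_right
      rw [← hfr]
      exact sup_le (inf_le_right.trans le_sup_right) le_sup_left
  have h3 : L ⊔ C = Ls ⊔ C := by rw [h2, hfac]
  refine ⟨?_, h3⟩
  have hTLs : (T : Subgroup H) ≤ Ls := by
    rw [hLs, hT₀]
    exact le_inf hTM (le_normalizer_inf le_normalizer ((hTL.trans hY.le_normalizer).trans hNC))
  have hTSL : IsSylowIn p (T : Subgroup H) L := isSylowIn_of_sylow T hTL
  apply le_antisymm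
  · have hYs := isPRedIn_largest (p := p) Ls
    set Ys := largestPReducedOf p Ls with hYsdef
    have h4 : T₀ ≤ pCoreOf p Ls :=
      le_pCoreOf ((hT₀ ▸ inf_le_left : T₀ ≤ (T : Subgroup H)).trans hTLs) (hLs ▸ inf_le_right)
        hS.isPGroup
    have h5 : Ys ≤ centralizer (T₀ : Set H) :=
      (le_centralizer_comm.mp hYs.pCoreOf_le_centralizer).trans
        (centralizer_le (by exact_mod_cast h4))
    have h6 : Ys ≤ (T : Subgroup H) :=
      hYs.le_pCoreOf.trans (pCoreOf_le_of_isSylowIn (isSylowIn_of_sylow T hTLs))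
    have h7 : pCoreOf p L ≤ T₀ := by
      rw [hT₀]
      exact le_inf (pCoreOf_le_of_isSylowIn hTSL) hY.pCoreOf_le_centralizer
    have h8 : Ys ≤ T₀ := by
      refine le_trans ?_ h7
      refine le_trans ?_ hchar
      exact le_inf (h6.trans hTL) (h5.trans (centralizer_le (by exact_mod_cast h7)))
    rw [hstr.2.2, ← hT₀]
    exact le_OmZ h8 h5 hYs.isElementaryAbelian.2
  · apply largest_le_of_sup_eq _ h3.symm
    exact (hY.le_pCoreOf.trans (pCoreOf_le_of_isSylowIn hTSL)).trans hTLs

end Cfsg.Agent.S2824
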