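import Cfsg.Statements.S1946
import Mathlib
import Cfsg.Agent.Lib.Helper1.FusionSmall
import Cfsg.Agent.Lib.Lead.Residual

set_option autoImplicit false
open Cfsg

namespace Cfsg.Agent.S1946

open scoped Pointwise


/-- Let P be a Sylow p-subgroup of the finite group G. Then G has a normal p-complement if and only if P controls the fusion of its elements of order dividing p (dividing 4 when p = 2): whenever such an element a of P has a G-conjugate g a g⁻¹ in P, that conjugate is already x a x⁻¹ for some x in P. -/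
theorem result {G : Type*} [Group G] [Finite G] {p : ℕ} [Fact p.Prime] (P : Sylow p G) :
    Cfsg.HasNormalPComplement p G ↔
      ∀ a ∈ (P : Subgroup G), (a ^ p = 1 ∨ (p = 2 ∧ a ^ 4 = 1)) → ∀ g : G, g * a * g⁻¹ ∈ (P : Subgroup G) →
        ∃ x ∈ (P : Subgroup G), g * a * g⁻¹ = x * a * x⁻¹ := by
  constructor
  · intro hc a ha _ g hg
    have hK := Cfsg.Agent.Lib.Lead.HasNormalPComplement.isComplement'_pPrimeCore hc P
    have hKn : (Cfsg.pPrimeCore p G).Normal := inferInstance
    have h1 : g ∈ ((Cfsg.pPrimeCore p G : Subgroup G) : Set G) * ((P : Subgroup G) : Set G) := by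
      rw [Subgroup.IsComplement.mul_eq hK]; exact Set.mem_univ g
    obtain ⟨k, hk, x, hx, rfl⟩ := h1
    refine ⟨x, hx, ?_⟩
    have hb : x * a * x⁻¹ ∈ (P : Subgroup G) :=
      (P : Subgroup G).mul_mem ((P : Subgroup G).mul_mem hx ha) ((P : Subgroup G).inv_mem hx)
    have e : k * x * a * (k * x)⁻¹ = k * (x * a * x⁻¹) * k⁻¹ := by group
    rw [e] at hg ⊢
    have h2 : k * (x * a * x⁻¹) * k⁻¹ * (x * a * x⁻¹)⁻¹ ∈ Cfsg.pPrimeCore p G ⊓ (P : Subgroup G) := by
      refine Subgroup.mem_inf.2 ⟨?_, (P : Subgroup G).mul_mem hg ((P : Subgroup G).inv_mem hb)⟩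
      have := (Cfsg.pPrimeCore p G).mul_mem hk
        (hKn.conj_mem _ ((Cfsg.pPrimeCore p G).inv_mem hk) (x * a * x⁻¹))
      simpa [mul_assoc] using this
    rw [hK.disjoint.eq_bot, Subgroup.mem_bot, mul_inv_eq_one] at h2
    exact h2
  · exact Cfsg.Agent.Lib.Helper1.OmegaLemma.hasNormalPComplement_of_controls_small P

end Cfsg.Agent.S1946
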