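import Cfsg.Statements.S2843
import Cfsg.Agent.Lib.Helper47.WClosure

set_option autoImplicit false
open Cfsg

namespace Cfsg.Agent.S2843

open Subgroup Cfsg.Agent.Lib.Helper47

/-- Let Q be a nontrivial large p-subgroup of the finite group H, Q ≤ L ≤ H, and Y a nontrivial p-subgroup of H normalized by L. Let L° be the weak closure of Q in L (generated by the conjugates of Q inside L). Then L° equals the weak closure of Q in L·C_H(Y), and [L°, C_H(Y)] ≤ O_p(L°); in particular C_H(Y) normalizes L°. -/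
theorem result {H : Type*} [Group H] [Finite H] {p : ℕ} [Fact p.Prime] (Q : Subgroup H) (hQp : IsPGroup p ↥Q) (hQ1 : Q ≠ ⊥) (hL : Cfsg.IsLarge Q) (L : Subgroup H) (hQL : Q ≤ L) (Y : Subgroup H) (hYp : IsPGroup p ↥Y) (hY1 : Y ≠ ⊥) (hLY : L ≤ Subgroup.normalizer ((Y : Subgroup H) : Set H)) : Cfsg.weakClosure Q L = Cfsg.weakClosure Q (L ⊔ Subgroup.centralizer ((Y : Subgroup H) : Set H)) ∧ ⁅Cfsg.weakClosure Q L, Subgroup.centralizer ((Y : Subgroup H) : Set H)⁆ ≤ (Cfsg.pCoreOf p (Cfsg.weakClosure Q L)) ∧ Subgroup.centralizer ((Y : Subgroup H) : Set H) ≤ Subgroup.normalizer (((Cfsg.weakClosure Q L) : Subgroup H) : Set H) := by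
  set D := centralizer (Y : Set H) with hD
  have hLD : L ≤ normalizer (D : Set H) := hLY.trans (normalizer_le_normalizer_centralizer Y)
  have hLDY : L ⊔ D ≤ normalizer (Y : Set H) := sup_le hLY (centralizer_le_normalizer _)
  have fact1 : ∀ g : H, cj g Q ≤ L ⊔ D → D ≤ normalizer ((cj g Q : Subgroup H) : Set H) := by
    intro g hg
    exact IsLarge.centralizer_le_normalizer_of (IsLarge.conj hL g) (IsPGroup_cj hQp g) hYp hY1
      (hg.trans hLDY)
  have hDQ : D ≤ normalizer (Q : Set H) := by
    have := fact1 1 (by rw [cj_one]; exact hQL.trans le_sup_left)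
    rwa [cj_one] at this
  set Lc := weakClosure Q L with hLc
  have hLcL : Lc ≤ L := weakClosure_le_self Q L
  refine ⟨?_, ?_, ?_⟩
  · apply le_antisymm (weakClosure_mono le_sup_left)
    apply weakClosure_le
    intro g hg
    obtain ⟨u, hu, hgu⟩ := (IsLarge.wcIn (p := p) hL hQ1).exists_conj hQp (hQL.trans le_sup_left) le_top
      (mem_top g) hg
    obtain ⟨l, hl, d, hd, rfl⟩ := mem_sup_of_le_normalizer' hLD hu
    rw [hgu, cj_mul, cj_eq_self_of_mem_normalizer (hDQ hd)]
    apply cj_le_weakClosure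
    rw [← cj_eq_self_of_mem hl]
    exact cj_mono hQL
  · rw [commutator_comm]
    apply commutator_iSup_le
    · intro g
      have hgL : cj (g : H) Q ≤ L := g.2
      have hDg := fact1 g (hgL.trans le_sup_left)
      have h1 : ⁅D, cj (g : H) Q⁆ ≤ cj (g : H) Q ⊓ D :=
        le_inf (le_normalizer_iff_commutator_le_right.mp hDg)
          (le_normalizer_iff_commutator_le_left.mp (hgL.trans hLD))
      have h2 : cj (g : H) Q ⊓ D ≤ pCoreOf p (Lc ⊓ D) := by
        apply le_pCoreOf (inf_le_inf_right D (cj_le_weakClosure hgL))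
        · exact le_normalizer_inf (inf_le_right.trans hDg) (inf_le_right.trans le_normalizer)
        · exact (IsPGroup_cj hQp _).to_inf_left
      have h3 : pCoreOf p (Lc ⊓ D) ≤ pCoreOf p Lc :=
        pCoreOf_le_pCoreOf_of_normal inf_le_left
          (le_normalizer_inf le_normalizer (hLcL.trans hLD))
      exact (h1.trans h2).trans h3
    · intro g
      exact (cj_le_weakClosure g.2).trans (le_normalizer_pCoreOf Lc)
  · apply le_normalizer_of_cj_le
    intro d hd
    rw [hLc]
    unfold weakClosure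
    rw [cj_iSup]
    apply iSup_le
    intro g
    rw [cj_eq_self_of_mem_normalizer (fact1 g (le_trans g.2 le_sup_left) hd)]
    exact cj_le_weakClosure g.2

end Cfsg.Agent.S2843
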