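import Cfsg.Statements.S2827
import Cfsg.Agent.Lib.Helper47.Comm

set_option autoImplicit false
open Cfsg

namespace Cfsg.Agent.S2827

open Subgroup Cfsg.Agent.Lib.Helper47
open scoped commutatorElement

/-- Let H be a finite p-irreducible group (not p-closed, and O^p(H) lies in every normal subgroup that is not p-closed) and T a Sylow p-subgroup. Then H is generated by the conjugates of T and H = H'·T; O^p(H) ≤ H'; and for every normal subgroup Y of T not contained in O_p(H), O^p(H) = [O^p(H), Y] and O^p(H) is contained in the normal closure of Y in H. -/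
theorem result {H : Type*} [Group H] [Finite H] {p : ℕ} [Fact p.Prime] (hH : Cfsg.IsPIrreducible p H) (T : Sylow p H) : Subgroup.normalClosure ((T : Subgroup H) : Set H) = ⊤ ∧ commutator H ⊔ (T : Subgroup H) = ⊤ ∧ Cfsg.pResidual p H ≤ commutator H ∧ ∀ Y : Subgroup H, Y ≤ (T : Subgroup H) → (T : Subgroup H) ≤ Subgroup.normalizer (Y : Set H) → ¬ Y ≤ Cfsg.pCore p H → ⁅Cfsg.pResidual p H, Y⁆ = Cfsg.pResidual p H ∧ Cfsg.pResidual p H ≤ Subgroup.normalClosure (Y : Set H) := by
  have hKT := pResidual_sup_sylow T
  have hKn : (pResidual p H).Normal := pResidual_normal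
  have ha : normalClosure ((T : Subgroup H) : Set H) = ⊤ := by
    set N := normalClosure ((T : Subgroup H) : Set H) with hN
    have hTN : (T : Subgroup H) ≤ N := le_normalClosure
    have hnc : ¬ IsPClosed p ↥N := by
      intro hc
      have hS : IsSylowIn p (T : Subgroup H) N := isSylowIn_of_sylow T hTN
      have h1 := hS.eq_pCoreOf_of_normal ((isPClosed_subgroup_iff.mp hc) _ hS)
      have h2 : (⊤ : Subgroup H) ≤ normalizer ((T : Subgroup H) : Set H) := by
        rw [h1]
        refine le_trans ?_ (normalizer_le_normalizer_pCoreOf N)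
        rw [normalizer_eq_top]
      exact hH.1 (isPClosed_iff_top.mpr (isPClosed_of_isSylowIn (isSylowIn_top T) h2))
    have h3 := hH.2 N inferInstance hnc
    rw [eq_top_iff, ← hKT]
    exact sup_le h3 hTN
  have hb : commutator H ⊔ (T : Subgroup H) = ⊤ := by
    have hn : (commutator H ⊔ (T : Subgroup H)).Normal := Normal.of_commutator_le _ le_sup_left
    rw [eq_top_iff, ← ha]
    exact normalClosure_le_normal (le_sup_right : (T : Subgroup H) ≤ commutator H ⊔ (T : Subgroup H))
  refine ⟨ha, hb, ?_, ?_⟩
  · apply pResidual_le_of_PQuot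
    rw [← hb]
    apply PQuot_sup _ T.2
    rw [normalizer_eq_top]; exact le_top
  · intro Y hYT hTY hY
    have hYp : IsPGroup p Y := T.2.to_le hYT
    have hd : pResidual p H ≤ normalClosure (Y : Set H) := by
      apply hH.2 _ inferInstance
      intro hc
      apply hY
      have h1 := IsPClosed.le_pCoreOf hc hYp le_normalClosure
      have h2 : pCoreOf p (normalClosure (Y : Set H)) ≤ pCoreOf p (⊤ : Subgroup H) :=
        pCoreOf_le_pCoreOf_of_normal le_top (by rw [normalizer_eq_top])
      rw [pCoreOf_top] at h2
      exact h1.trans h2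
    refine ⟨?_, hd⟩
    set K := pResidual p H with hK
    set R := ⁅K, Y⁆ with hR
    have hRK : R ≤ K := commutator_le_left K Y
    have hTR : (T : Subgroup H) ≤ normalizer (R : Set H) := by
      intro t ht
      apply mem_normalizer_of_cj_eq
      rw [hR, cj_commutator, Normal_cj hKn, cj_eq_self_of_mem_normalizer (hTY ht)]
    have hKR : K ≤ normalizer (R : Set H) := normalizer_commutator_ge_left K Y
    have hn : (R ⊔ Y).Normal := by
      rw [← normalizer_eq_top_iff, eq_top_iff, ← hKT]
      apply sup_le
      · apply le_normalizer_of_cj_le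
        intro k hk
        rw [cj_sup]
        apply sup_le
        · rw [cj_eq_self_of_mem_normalizer (hKR hk)]; exact le_sup_left
        · have := cj_le_sup_commutator (B := Y) (V := Y) (X := K) le_rfl hk
          rwa [commutator_comm] at this
      · intro t ht
        apply mem_normalizer_of_cj_eq
        rw [cj_sup, cj_eq_self_of_mem_normalizer (hTR ht), cj_eq_self_of_mem_normalizer (hTY ht)]
    have h1 : K ≤ R ⊔ Y := hd.trans (normalClosure_le_normal (le_sup_right : Y ≤ R ⊔ Y))
    have h2 : PQuot p K R := (PQuot_sup (normalizer_commutator_ge_right K Y) hYp).mono_left h1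
    have h3 := pResOf_le_of_PQuot h2
    have h4 : pResOf p K = K := by
      rw [hK, ← pResOf_top, pResOf_pResOf]
    rw [h4] at h3
    exact le_antisymm hRK h3

end Cfsg.Agent.S2827
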