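import Cfsg.Statements.S2829
import Cfsg.Agent.Lib.Helper47.PClosed

set_option autoImplicit false
open Cfsg

namespace Cfsg.Agent.S2829

open Subgroup Cfsg.Agent.Lib.Helper47
open scoped commutatorElement

/-- Every strongly p-irreducible finite group is p-irreducible. -/
theorem result {H : Type*} [Group H] [Finite H] {p : ℕ} [Fact p.Prime] (hH : Cfsg.IsStronglyPIrreducible p H) : Cfsg.IsPIrreducible p H := by
  refine ⟨hH.1, fun N hN hnc => hH.2 N hN (fun hle => hnc ?_)⟩
  rw [isPClosed_subgroup_iff]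
  intro T hT
  apply le_normalizer_of_cj_le
  intro n hn x hx
  rw [mem_cj] at hx
  -- x = [n, y] y with y = n⁻¹ x n
  have h1 : ⁅n, n⁻¹ * x * n⁆ ∈ pCoreOf p N := by
    apply pCoreOf_inf_le (H := ⊤) le_top
    refine mem_inf.mpr ⟨?_, ?_⟩
    · rw [pCoreOf_top]
      exact hle (commutator_mem_commutator hn (mem_top _))
    · rw [commutatorElement_def]
      have := hT.le hx
      exact mul_mem (mul_mem (mul_mem hn this) (inv_mem hn)) (inv_mem this)
  have h2 := mul_mem (pCoreOf_le_of_isSylowIn hT h1) hx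
  have h3 : ⁅n, n⁻¹ * x * n⁆ * (n⁻¹ * x * n) = x := by
    rw [commutatorElement_def]; group
  rwa [h3] at h2

end Cfsg.Agent.S2829
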