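import Cfsg.Statements.S3012
-- import your own Cfsg.Agent.* helpers here

set_option autoImplicit false
open Cfsg

namespace Cfsg.Agent.S3012

/-- Let G be a finite group, V a nontrivial elementary abelian 2-subgroup of G satisfying the Sidki pair condition (every odd-order element inverted by an element of V commutes with a nontrivial element of V), and K a normal subgroup of G with V ∩ K = 1. Then the image of V in G/K satisfies the Sidki pair condition in G/K. -/
theorem result {G : Type*} [Group G] [Finite G] (V K : Subgroup G) [K.Normal] (hV : Cfsg.IsElementaryAbelian 2 V) (hV1 : V ≠ ⊥) (hS : Cfsg.IsSidkiPair V) (hVK : V ⊓ K = ⊥) : Cfsg.IsSidkiPair (V.map (QuotientGroup.mk' K)) := by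
  intro hb vb hvb hodd hinv
  obtain ⟨v, hvV, rfl⟩ := hvb
  obtain ⟨h, rfl⟩ := QuotientGroup.mk'_surjective K hb
  have hv2 : v ^ 2 = 1 := hV.2 v hvV
  have hvinv : v⁻¹ = v := by
    rw [inv_eq_iff_mul_eq_one, ← pow_two]; exact hv2
  set y : G := v * h * v⁻¹ * h⁻¹ with hy
  have hyinv : v * y * v⁻¹ = y⁻¹ := by
    have hvv : v * v = 1 := by rw [← pow_two]; exact hv2
    rw [hy]
    simp only [mul_inv_rev, inv_inv, hvinv]
    calc v * (v * h * v * h⁻¹) * v = (v * v) * h * v * h⁻¹ * v := by group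
      _ = h * v * h⁻¹ * v := by rw [hvv, one_mul]
      _ = h * (v * (h⁻¹ * v)) := by group
  have hpos : orderOf y ≠ 0 := (orderOf_pos y).ne'
  obtain ⟨a, m, hm, hn⟩ := Nat.exists_eq_two_pow_mul_odd hpos
  have hy1ord : orderOf (y ^ (2 ^ a)) = m := by
    rw [orderOf_pow_of_dvd (by positivity) (by rw [hn]; exact Dvd.intro _ rfl), hn]
    exact Nat.mul_div_cancel_left _ (by positivity)
  have hy1inv : v * (y ^ (2 ^ a)) * v⁻¹ = (y ^ (2 ^ a))⁻¹ := by
    rw [← conj_pow, hyinv, inv_pow]
  obtain ⟨w, hwV, hw1, hwc⟩ := hS (y ^ (2 ^ a)) v hvV (by rw [hy1ord]; exact hm) hy1inv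
  refine ⟨QuotientGroup.mk' K w, Subgroup.mem_map_of_mem _ hwV, ?_, ?_⟩
  · intro hw
    apply hw1
    have hwK : w ∈ K := by
      rw [← QuotientGroup.eq_one_iff]; exact hw
    have : w ∈ V ⊓ K := ⟨hwV, hwK⟩
    rw [hVK] at this
    exact Subgroup.mem_bot.mp this
  · set π := QuotientGroup.mk' K with hπ
    have hyb : π y = (π h)⁻¹ * (π h)⁻¹ := by
      rw [hy, map_mul, map_mul, map_mul, map_inv, map_inv, hinv]
    have hyb2 : π y = ((π h) ^ 2)⁻¹ := by
      rw [hyb, pow_two, mul_inv_rev]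
    have hc1 : Commute (π w) (π (y ^ (2 ^ a))) := by
      show π w * π (y ^ (2 ^ a)) = π (y ^ (2 ^ a)) * π w
      rw [← map_mul, ← map_mul, hwc]
    have hc2 : Commute (π w) ((π h) ^ (2 ^ (a + 1))) := by
      have : π (y ^ (2 ^ a)) = ((π h) ^ (2 ^ (a + 1)))⁻¹ := by
        rw [map_pow, hyb2, inv_pow, ← pow_mul, pow_succ, mul_comm]
      rw [this] at hc1
      exact (Commute.inv_right_iff).mp hc1
    have hcop : Nat.Coprime (orderOf (π h)) (2 ^ (a + 1)) := by
      apply Nat.Coprime.pow_right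
      exact Nat.coprime_two_right.mpr hodd
    obtain ⟨k, hk⟩ := exists_pow_eq_self_of_coprime hcop.symm
    have : Commute (π w) (π h) := by
      rw [← hk]
      exact hc2.pow_right k
    exact this

end Cfsg.Agent.S3012
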