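import Cfsg.Statements.S3013
-- import your own Cfsg.Agent.* helpers here

set_option autoImplicit false
open Cfsg

namespace Cfsg.Agent.S3013

/-- Let G be a finite group and V a nontrivial elementary abelian 2-subgroup of G satisfying the Sidki pair condition. Let v ∈ V and let x be an element of odd order inverted by v, and put C = C_G(v) ∩ C_G(x), the centralizer of the dihedral subgroup generated by v and x. Then C ∩ V is nontrivial and satisfies the Sidki pair condition inside C: every odd-order element of C inverted by an element of C ∩ V commutes with a nontrivial element of C ∩ V. -/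
theorem result {G : Type*} [Group G] [Finite G] (V : Subgroup G) (hV : Cfsg.IsElementaryAbelian 2 V) (hV1 : V ≠ ⊥) (hS : Cfsg.IsSidkiPair V) (v x : G) (hv : v ∈ V) (hx : Odd (orderOf x)) (hinv : v * x * v⁻¹ = x⁻¹) (C : Subgroup G) (hC : C = Subgroup.centralizer ({v} : Set G) ⊓ Subgroup.centralizer ({x} : Set G)) : C ⊓ V ≠ ⊥ ∧ Cfsg.IsSidkiPair ((C ⊓ V).subgroupOf C) := by
  obtain ⟨hVc, hV2⟩ := hV
  have hcomm : ∀ a ∈ V, ∀ b ∈ V, a * b = b * a := by
    intro a ha b hb
    have := hVc.is_comm.comm ⟨a, ha⟩ ⟨b, hb⟩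
    exact congrArg Subtype.val this
  have memC : ∀ g : G, g ∈ C ↔ (g * v = v * g ∧ g * x = x * g) := by
    intro g
    rw [hC, Subgroup.mem_inf, Subgroup.mem_centralizer_singleton_iff, Subgroup.mem_centralizer_singleton_iff]
  constructor
  · obtain ⟨w, hwV, hw1, hwx⟩ := hS x v hv hx hinv
    intro hbot
    have : w ∈ C ⊓ V := by
      refine ⟨?_, hwV⟩
      exact (memC w).2 ⟨hcomm w hwV v hv, hwx⟩
    rw [hbot, Subgroup.mem_bot] at this
    exact hw1 this
  · intro h u hu hh hinvh
    rw [Subgroup.mem_subgroupOf] at hu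
    obtain ⟨huC, huV⟩ := hu
    have hhC := (memC h).1 h.2
    have huC' := (memC u).1 huC
    have hinvh' : (u : G) * h * (u : G)⁻¹ = (h : G)⁻¹ := by
      have := congrArg Subtype.val hinvh
      simpa using this
    have hoh : Odd (orderOf (h : G)) := by
      rwa [Subgroup.orderOf_coe]
    -- h and x commute
    have hhx : Commute (h : G) x := hhC.2
    have hodd : Odd (orderOf ((h : G) * x)) := by
      have hd : orderOf ((h : G) * x) ∣ orderOf (h : G) * orderOf x := by
        apply orderOf_dvd_of_pow_eq_one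
        rw [hhx.mul_pow, pow_mul, pow_orderOf_eq_one, one_pow, mul_comm (orderOf (h:G)), pow_mul, pow_orderOf_eq_one, one_pow, one_mul]
      exact Odd.of_dvd_nat (hoh.mul hx) hd
    have e1 : v * (h : G) * v⁻¹ = h := by
      rw [← hhC.1]; group
    have e2 : (u : G) * x * (u : G)⁻¹ = x := by
      rw [huC'.2]; group
    have e2' : (u : G) * x⁻¹ * (u : G)⁻¹ = x⁻¹ := by
      calc (u : G) * x⁻¹ * (u : G)⁻¹ = ((u : G) * x * (u : G)⁻¹)⁻¹ := by group
        _ = x⁻¹ := by rw [e2]
    have hinv2 : ((u : G) * v) * ((h : G) * x) * ((u : G) * v)⁻¹ = ((h : G) * x)⁻¹ := by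
      calc ((u : G) * v) * ((h : G) * x) * ((u : G) * v)⁻¹
          = (u : G) * ((v * h * v⁻¹) * (v * x * v⁻¹)) * (u : G)⁻¹ := by group
        _ = (u : G) * ((h : G) * x⁻¹) * (u : G)⁻¹ := by rw [e1, hinv]
        _ = ((u : G) * h * (u : G)⁻¹) * ((u : G) * x⁻¹ * (u : G)⁻¹) := by group
        _ = (h : G)⁻¹ * x⁻¹ := by rw [hinvh', e2']
        _ = ((h : G) * x)⁻¹ := by rw [hhx.eq, mul_inv_rev]
    obtain ⟨w, hwV, hw1, hw⟩ := hS ((h : G) * x) ((u : G) * v) (V.mul_mem huV hv) hodd hinv2
    have hw' : Commute w ((h : G) * x) := hw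
    have hwu : Commute w (u : G) := hcomm w hwV u huV
    -- w commutes with u (h x) u⁻¹ = h⁻¹ x
    have hw2 : Commute w ((h : G)⁻¹ * x) := by
      have : (h : G)⁻¹ * x = (u : G) * ((h : G) * x) * (u : G)⁻¹ := by
        calc (h : G)⁻¹ * x = ((u : G) * h * (u : G)⁻¹) * ((u : G) * x * (u : G)⁻¹) := by rw [hinvh', e2]
          _ = (u : G) * ((h : G) * x) * (u : G)⁻¹ := by group
      rw [this]
      exact (hwu.mul_right hw').mul_right hwu.inv_right
    have hw3 : Commute w (x ^ 2) := by
      have : x ^ 2 = ((h : G) * x) * ((h : G)⁻¹ * x) := by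
        rw [hhx.eq, pow_two]; group
      rw [this]
      exact hw'.mul_right hw2
    have hwx : Commute w x := by
      obtain ⟨k, hk⟩ := hx
      have : x = (x ^ 2) ^ (k + 1) := by
        rw [← pow_mul, show 2 * (k + 1) = orderOf x + 1 by omega, pow_succ, pow_orderOf_eq_one, one_mul]
      rw [this]
      exact hw3.pow_right _
    have hwh : Commute w (h : G) := by
      have : (h : G) = ((h : G) * x) * x⁻¹ := by group
      rw [this]
      exact hw'.mul_right hwx.inv_right
    have hwC : w ∈ C := (memC w).2 ⟨hcomm w hwV v hv, hwx⟩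
    refine ⟨⟨w, hwC⟩, ?_, ?_, ?_⟩
    · rw [Subgroup.mem_subgroupOf]
      exact ⟨hwC, hwV⟩
    · intro h1
      exact hw1 (congrArg Subtype.val h1)
    · apply Subtype.ext
      exact hwh

end Cfsg.Agent.S3013
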