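import Cfsg.Statements.S0081
import Cfsg.Agent.S0051
import Cfsg.Agent.Lib.Helper2.PComplement

set_option autoImplicit false
open Cfsg

namespace Cfsg.Agent.S0081

open scoped commutatorElement

/-- One step: shrink `X ∩ P`. -/
theorem step {p : ℕ} [hp : Fact p.Prime] {G : Type*} [Group G] [Finite G] (P : Subgroup G)
    (hP : IsPGroup p P) (hidx : P.index.Coprime p) (X : Subgroup G) [hX : X.Normal]
    (hXP : X ⊔ P = ⊤) (hNG : ∀ M : Subgroup P, X.subgroupOf P ⊔ M = ⊤ → M = ⊤)
    (hne : X.subgroupOf P ≠ ⊥) :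
    ∃ X' : Subgroup G, X'.Normal ∧ X' ≤ X ∧ X' ⊔ P = ⊤ ∧
      Nat.card (X'.subgroupOf P) < Nat.card (X.subgroupOf P) := by
  classical
  set Y : Subgroup P := X.subgroupOf P with hY
  have hYn : Y.Normal := inferInstance
  have hnil : Group.IsNilpotent P := hP.isNilpotent
  have hsol : Group.IsSolvable P := inferInstance
  set Y₁ : Subgroup P := ⁅Y, Y⁆ with hY₁
  have hY₁n : Y₁.Normal := inferInstance
  have hlt : Y₁ < Y := Group.IsSolvable.commutator_lt_of_ne_bot hne
  let q : P →* P ⧸ Y₁ := QuotientGroup.mk' Y₁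
  have hq : Function.Surjective q := QuotientGroup.mk'_surjective Y₁
  let f : G →* G ⧸ X := QuotientGroup.mk' X
  let π : P ⧸ Y₁ →* G ⧸ X := QuotientGroup.lift Y₁ (f.comp P.subtype) (by
    intro a ha
    have : a ∈ Y := hlt.le ha
    rw [MonoidHom.mem_ker]
    exact (QuotientGroup.eq_one_iff _).mpr this)
  have hπq : ∀ a : P, π (q a) = f a := fun a => rfl
  have hkerπ : ∀ w : P ⧸ Y₁, π w = 1 → ∃ y ∈ Y, q y = w := by
    intro w hw
    obtain ⟨a, rfl⟩ := hq w
    rw [hπq] at hw
    exact ⟨a, (QuotientGroup.eq_one_iff (a : G)).mp hw, rfl⟩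
  let Γ : Subgroup (G × (P ⧸ Y₁)) :=
    (f.comp (MonoidHom.fst G (P ⧸ Y₁))).eqLocus (π.comp (MonoidHom.snd G (P ⧸ Y₁)))
  have hΓ : ∀ z : G × (P ⧸ Y₁), z ∈ Γ ↔ f z.1 = π z.2 := fun z => Iff.rfl
  let pr1 : Γ →* G := (MonoidHom.fst G (P ⧸ Y₁)).comp Γ.subtype
  let pr2 : Γ →* P ⧸ Y₁ := (MonoidHom.snd G (P ⧸ Y₁)).comp Γ.subtype
  have hpr : ∀ z : Γ, f (pr1 z) = π (pr2 z) := fun z => z.2
  have hpr1 : Function.Surjective pr1 := by
    intro g
    have hg : g ∈ X ⊔ P := by rw [hXP]; trivial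
    obtain ⟨x, hx, a, ha, rfl⟩ := Subgroup.mem_sup_of_normal_left.mp hg
    refine ⟨⟨(x * a, q ⟨a, ha⟩), ?_⟩, rfl⟩
    rw [hΓ]
    simp only [map_mul, hπq]
    have hfx : f x = 1 := (QuotientGroup.eq_one_iff x).mpr hx
    rw [hfx, one_mul]
  let W : Subgroup Γ := pr1.ker
  have hWn : W.Normal := inferInstance
  have hext : ∀ z z' : Γ, pr1 z = pr1 z' → pr2 z = pr2 z' → z = z' := by
    intro z z' h1 h2
    exact Subtype.ext (Prod.ext h1 h2)
  have hWcomm : IsMulCommutative W := by
    rw [isMulCommutative_iff]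
    intro a b
    apply Subtype.ext
    apply hext
    · simp only [Subgroup.coe_mul, map_mul]
      rw [MonoidHom.mem_ker.mp a.2, MonoidHom.mem_ker.mp b.2]
    · simp only [Subgroup.coe_mul, map_mul]
      have ha : π (pr2 a) = 1 := by rw [← hpr, MonoidHom.mem_ker.mp a.2, map_one]
      have hb : π (pr2 b) = 1 := by rw [← hpr, MonoidHom.mem_ker.mp b.2, map_one]
      obtain ⟨y, hy, hya⟩ := hkerπ _ ha
      obtain ⟨y', hy', hyb⟩ := hkerπ _ hb
      rw [← hya, ← hyb, ← map_mul, ← map_mul]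
      apply (QuotientGroup.eq).mpr
      have : (y * y')⁻¹ * (y' * y) = ⁅y'⁻¹, y⁻¹⁆ := by
        rw [commutatorElement_def]; group
      rw [this]
      exact Subgroup.commutator_mem_commutator (Y.inv_mem hy') (Y.inv_mem hy)
  have hWp : IsPGroup p W := by
    apply (hP.to_quotient Y₁).of_injective (pr2.comp W.subtype)
    intro a b hab
    apply Subtype.ext
    apply hext
    · rw [MonoidHom.mem_ker.mp a.2, MonoidHom.mem_ker.mp b.2]
    · exact hab
  let U : Subgroup Γ := P.comap pr1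
  have hWU : W ≤ U := by
    intro z hz
    rw [Subgroup.mem_comap, MonoidHom.mem_ker.mp hz]
    exact P.one_mem
  have hUidx : U.index = P.index := Subgroup.index_comap_of_surjective P hpr1
  have hcop : (Nat.card W).Coprime U.index := by
    obtain ⟨n, hn⟩ := IsPGroup.iff_card.mp hWp
    rw [hn, hUidx]
    exact (Nat.Coprime.pow_right n hidx).symm
  let s : P →* Γ :=
    { toFun := fun a => ⟨((a : G), q a), by rw [hΓ]; exact (hπq a).symm⟩
      map_one' := rfl
      map_mul' := fun a b => rfl }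
  let A : Subgroup Γ := s.range
  have hAU : A ≤ U := by
    rintro _ ⟨a, rfl⟩
    exact a.2
  have hAW : A ⊓ W = ⊥ := by
    rw [eq_bot_iff]
    rintro _ ⟨⟨a, rfl⟩, h2⟩
    have h3 : (a : G) = 1 := MonoidHom.mem_ker.mp h2
    have h4 : a = 1 := Subtype.ext h3
    rw [h4, map_one]
    exact Subgroup.one_mem _
  have hWA : W ⊔ A = U := by
    apply le_antisymm (sup_le hWU hAU)
    intro z hz
    have hz' : pr1 z ∈ P := hz
    have h1 : z = (z * (s ⟨pr1 z, hz'⟩)⁻¹) * s ⟨pr1 z, hz'⟩ := by group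
    rw [h1]
    apply Subgroup.mul_mem_sup
    · rw [MonoidHom.mem_ker, map_mul, map_inv]
      exact mul_inv_cancel _
    · exact ⟨_, rfl⟩
  obtain ⟨B, hB⟩ := Cfsg.Agent.S0051.result W U hWU hcop A hAU hAW hWA
  have hBsup := hB.sup_eq_top
  have hBdis := hB.disjoint
  let φ : B →* G := pr1.comp B.subtype
  have hφinj : Function.Injective φ := by
    rw [injective_iff_map_eq_one]
    intro b hb
    have h1 : (b : Γ) ∈ W := hb
    have h2 : (b : Γ) ∈ W ⊓ B := ⟨h1, b.2⟩
    rw [hBdis.eq_bot, Subgroup.mem_bot] at h2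
    exact Subtype.ext h2
  have hφsurj : Function.Surjective φ := by
    intro g
    obtain ⟨z, rfl⟩ := hpr1 g
    have hz : z ∈ W ⊔ B := by rw [hBsup]; trivial
    obtain ⟨w, hw, b, hb, rfl⟩ := Subgroup.mem_sup_of_normal_left.mp hz
    refine ⟨⟨b, hb⟩, ?_⟩
    change pr1 b = pr1 (w * b)
    rw [map_mul, MonoidHom.mem_ker.mp hw, one_mul]
  let e : B ≃* G := MulEquiv.ofBijective φ ⟨hφinj, hφsurj⟩
  let f' : G →* P ⧸ Y₁ := (pr2.comp B.subtype).comp e.symm.toMonoidHom
  have hf' : ∀ g : G, π (f' g) = f g := by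
    intro g
    have h1 : pr1 ((e.symm g : B) : Γ) = g := e.apply_symm_apply g
    have h2 := hpr ((e.symm g : B) : Γ)
    rw [h1] at h2
    exact h2.symm
  have hle : f'.ker ≤ X := by
    intro g hg
    have := hf' g
    rw [MonoidHom.mem_ker.mp hg, map_one] at this
    exact (QuotientGroup.eq_one_iff g).mp this.symm
  -- surjectivity of `f'` on `P`
  have hsurjP : ∀ w : P ⧸ Y₁, ∃ a : P, f' a = w := by
    let Mt : Subgroup (P ⧸ Y₁) := (f'.comp P.subtype).range
    let M : Subgroup P := Mt.comap q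
    have hM : M = ⊤ := by
      apply hNG
      rw [eq_top_iff]
      intro a _
      have h1 : π (q a * (f' a)⁻¹) = 1 := by
        rw [map_mul, map_inv, hf', hπq, mul_inv_cancel]
      obtain ⟨y, hy, hyq⟩ := hkerπ _ h1
      have h2 : a = y * (y⁻¹ * a) := by group
      rw [h2]
      apply Subgroup.mul_mem_sup hy
      rw [Subgroup.mem_comap, map_mul, map_inv, hyq]
      refine ⟨a, ?_⟩
      simp only [MonoidHom.comp_apply, Subgroup.subtype_apply]
      group
    intro w
    obtain ⟨a, rfl⟩ := hq w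
    have : a ∈ M := by rw [hM]; trivial
    obtain ⟨b, hb⟩ := this
    exact ⟨b, hb⟩
  refine ⟨f'.ker, inferInstance, hle, ?_, ?_⟩
  · rw [eq_top_iff]
    intro g _
    obtain ⟨a, ha⟩ := hsurjP (f' g)
    have h1 : g = (g * (a : G)⁻¹) * a := by group
    rw [h1]
    apply Subgroup.mul_mem_sup
    · rw [MonoidHom.mem_ker, map_mul, map_inv, ha, mul_inv_cancel]
    · exact a.2
  · have h1 : (f'.ker).subgroupOf P = (f'.comp P.subtype).ker := rfl
    have h2 : Function.Surjective (f'.comp P.subtype) := hsurjP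
    have h3 : Nat.card (P ⧸ (f'.comp P.subtype).ker) = Nat.card (P ⧸ Y₁) :=
      Nat.card_congr (QuotientGroup.quotientKerEquivOfSurjective _ h2).toEquiv
    have h4 := Subgroup.card_eq_card_quotient_mul_card_subgroup (f'.comp P.subtype).ker
    have h5 := Subgroup.card_eq_card_quotient_mul_card_subgroup Y₁
    rw [h3] at h4
    have h6 : Nat.card (f'.comp P.subtype).ker = Nat.card Y₁ := by
      have h7 : 0 < Nat.card (P ⧸ Y₁) := Nat.card_pos
      exact Nat.eq_of_mul_eq_mul_left h7 (h4.symm.trans h5)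
    rw [h1, h6]
    have h8 := Subgroup.card_le_of_le hlt.le
    rcases h8.lt_or_eq with h9 | h9
    · exact h9
    · exact absurd (Subgroup.eq_of_le_of_card_ge hlt.le h9.ge) hlt.ne

theorem core {p : ℕ} [hp : Fact p.Prime] {G : Type*} [Group G] [Finite G] (P : Subgroup G)
    (hP : IsPGroup p P) (hidx : P.index.Coprime p) (n : ℕ) :
    ∀ X : Subgroup G, X.Normal → X ⊔ P = ⊤ →
      (∀ M : Subgroup P, X.subgroupOf P ⊔ M = ⊤ → M = ⊤) → Nat.card (X.subgroupOf P) = n →
      ∃ K : Subgroup G, K.Normal ∧ K ≤ X ∧ K ⊔ P = ⊤ ∧ K.subgroupOf P = ⊥ := by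
  induction n using Nat.strong_induction_on with
  | _ n ih =>
    intro X hX hXP hNG hn
    by_cases hne : X.subgroupOf P = ⊥
    · exact ⟨X, hX, le_rfl, hXP, hne⟩
    · obtain ⟨X', hX', hle, hX'P, hlt⟩ := step P hP hidx X hXP hNG hne
      obtain ⟨K, h1, h2, h3, h4⟩ := ih _ (hn ▸ hlt) X' hX' hX'P (by
        intro M hM
        apply hNG
        rw [eq_top_iff, ← hM]
        exact sup_le_sup_right (Subgroup.comap_mono hle) M) rfl
      exact ⟨K, h1, h2.trans hle, h3, h4⟩

theorem result {G : Type*} [Group G] [Finite G] {p : ℕ} [Fact p.Prime] (P : Sylow p G) (N : Subgroup G) [N.Normal] (h : N ⊓ (P : Subgroup G) ≤ (frattini P).map (P : Subgroup G).subtype) : Cfsg.HasNormalPComplement p N := by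
  have hp : p.Prime := Fact.out
  set H : Subgroup G := N ⊔ (P : Subgroup G) with hH
  have hPH : (P : Subgroup G) ≤ H := le_sup_right
  have hNH : N ≤ H := le_sup_left
  let PH : Subgroup H := (P : Subgroup G).subgroupOf H
  let X : Subgroup H := N.subgroupOf H
  have hPHp : IsPGroup p PH := P.2.comap_subtype
  have hidx : PH.index.Coprime p := by
    have h1 : PH.index ∣ (P : Subgroup G).index :=
      Dvd.intro _ (Subgroup.relIndex_mul_index hPH)
    exact Nat.Coprime.coprime_dvd_left h1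
      ((Nat.Prime.coprime_iff_not_dvd hp).mpr P.not_dvd_index).symm
  have hXn : X.Normal := inferInstance
  have hXP : X ⊔ PH = ⊤ := by
    rw [← Subgroup.subgroupOf_sup hNH hPH]
    exact Subgroup.subgroupOf_self H
  have hNG : ∀ M : Subgroup PH, X.subgroupOf PH ⊔ M = ⊤ → M = ⊤ := by
    intro M hM
    let ε : PH ≃* (P : Subgroup G) := Subgroup.subgroupOfEquivOfLe hPH
    have h1 : (X.subgroupOf PH).map ε.toMonoidHom ≤ frattini (P : Subgroup G) := by
      rintro _ ⟨a, ha, rfl⟩
      have h2 : ((a : H) : G) ∈ N ⊓ (P : Subgroup G) := ⟨ha, a.2⟩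
      obtain ⟨b, hb, hba⟩ := h h2
      have h3 : ε.toMonoidHom a = b := Subtype.ext hba.symm
      rw [h3]
      exact hb
    have h4 : M.map ε.toMonoidHom ⊔ frattini (P : Subgroup G) = ⊤ := by
      rw [eq_top_iff]
      have h5 := congrArg (Subgroup.map ε.toMonoidHom) hM
      rw [Subgroup.map_sup, Subgroup.map_top_of_surjective _ ε.surjective] at h5
      rw [← h5, sup_comm]
      exact sup_le_sup_left h1 _
    have h6 := frattini_nongenerating h4
    rw [eq_top_iff]
    intro a _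
    have h7 : ε.toMonoidHom a ∈ M.map ε.toMonoidHom := by rw [h6]; trivial
    obtain ⟨b, hb, hba⟩ := h7
    rwa [← ε.injective hba]
  obtain ⟨K, hKn, hKX, hKP, hKbot⟩ := core PH hPHp hidx _ X hXn hXP hNG rfl
  have hKidx : K.index = Nat.card PH := by
    rw [← Subgroup.relIndex_top_right, ← hKP, Subgroup.relIndex_sup_left, Subgroup.relIndex, hKbot,
      Subgroup.index_bot]
  obtain ⟨a, ha⟩ := IsPGroup.iff_card.mp hPHp
  have hKcard : (Nat.card K).Coprime p := by
    have h1 := K.card_mul_index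
    have h2 := PH.card_mul_index
    rw [hKidx] at h1
    have h3 : Nat.card K = PH.index := by
      have h4 : 0 < Nat.card PH := Nat.card_pos
      apply Nat.eq_of_mul_eq_mul_right h4
      rw [h1, ← h2, mul_comm]
    rw [h3]
    exact hidx
  let KG : Subgroup G := K.map H.subtype
  have hKGN : KG ≤ N := by
    rintro _ ⟨k, hk, rfl⟩
    exact hKX hk
  let KN : Subgroup N := KG.subgroupOf N
  have hKNn : KN.Normal := by
    constructor
    intro k hk n
    obtain ⟨k', hk', hkk⟩ := hk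
    refine ⟨(⟨n, hNH n.2⟩ : H) * k' * (⟨n, hNH n.2⟩ : H)⁻¹, hKn.conj_mem k' hk' _, ?_⟩
    simp only [Subgroup.subtype_apply, Subgroup.coe_mul, Subgroup.coe_inv] at hkk ⊢
    rw [hkk]
  have hKNcard : Nat.card KN = Nat.card K := by
    rw [Nat.card_congr (Subgroup.subgroupOfEquivOfLe hKGN).toEquiv]
    exact Subgroup.card_map_of_injective H.subtype_injective
  have hKNidx : KN.index ∣ p ^ a := by
    have h1 : KG.relIndex N * N.relIndex H = KG.relIndex H :=
      Subgroup.relIndex_mul_relIndex KG N H hKGN hNH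
    have h2 : KG.relIndex H = K.index := by
      rw [Subgroup.relIndex]
      congr 1
      exact Subgroup.comap_map_eq_self_of_injective H.subtype_injective K
    rw [← ha, ← hKidx, ← h2]
    exact Dvd.intro _ h1
  obtain ⟨j, -, hj⟩ := (Nat.dvd_prime_pow hp).mp hKNidx
  have hq : IsPGroup p (N ⧸ KN) := IsPGroup.of_card (n := j) hj
  rw [Cfsg.Agent.Lib.Helper2.hasNormalPComplement_iff]
  have h8 := Cfsg.Agent.Lib.Helper2.pResidual_le_of_isPGroup_quotient KN hq
  exact Nat.Coprime.coprime_dvd_left (Subgroup.card_dvd_of_le h8) (hKNcard ▸ hKcard)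

end Cfsg.Agent.S0081
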