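import Cfsg.Statements.S0590
import Mathlib

set_option autoImplicit false
open Cfsg

namespace Cfsg.Agent.S0590

open scoped commutatorElement

/-- Quadratic action on an elementary abelian p-group forces the acting group modulo the kernel of the action to be elementary abelian. -/
theorem result {G : Type*} [Group G] [Finite G] {p : ℕ} [Fact p.Prime] (V H : Subgroup G) (hV : Cfsg.IsElementaryAbelian p V) (hHV : H ≤ Subgroup.normalizer (V : Set G)) (hq : ⁅⁅V, H⁆, H⁆ = ⊥) : ⁅H, H⁆ ≤ Subgroup.centralizer (V : Set G) ∧ ∀ a ∈ H, a ^ p ∈ Subgroup.centralizer (V : Set G) := by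
  constructor
  · rw [← Subgroup.commutator_eq_bot_iff_le_centralizer]
    apply Subgroup.commutator_commutator_eq_bot_of_rotate
    · rw [Subgroup.commutator_comm H V]; exact hq
    · exact hq
  · intro a ha
    rw [Subgroup.mem_centralizer_iff]
    intro v hv
    set u := ⁅a, v⁆ with hu
    have huVH : u ∈ ⁅V, H⁆ := by
      rw [Subgroup.commutator_comm]; exact Subgroup.commutator_mem_commutator ha hv
    have huV : u ∈ V := by
      have h1 : a * v * a⁻¹ ∈ V := (Subgroup.le_normalizer_iff.mp hHV) a ha v hv
      have : u = a * v * a⁻¹ * v⁻¹ := rfl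
      rw [this]; exact mul_mem h1 (inv_mem hv)
    have hua : a * u = u * a := by
      have h1 : ⁅u, a⁆ ∈ ⁅⁅V, H⁆, H⁆ := Subgroup.commutator_mem_commutator huVH ha
      rw [hq, Subgroup.mem_bot, commutatorElement_eq_one_iff_mul_comm] at h1
      exact h1.symm
    have hav : a * v = u * v * a := by
      rw [hu, commutatorElement_def]; group
    have key : ∀ n : ℕ, a ^ n * v = u ^ n * v * a ^ n := by
      intro n
      induction n with
      | zero => simp
      | succ n ih =>
        have hc : Commute a u := hua
        calc a ^ (n + 1) * v = a * (a ^ n * v) := by rw [pow_succ']; group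
          _ = a * (u ^ n * v * a ^ n) := by rw [ih]
          _ = (a * u ^ n) * v * a ^ n := by group
          _ = (u ^ n * a) * v * a ^ n := by rw [(hc.pow_right n).eq]
          _ = u ^ n * (a * v) * a ^ n := by group
          _ = u ^ n * (u * v * a) * a ^ n := by rw [hav]
          _ = u ^ (n + 1) * v * a ^ (n + 1) := by rw [pow_succ, pow_succ']; group
    have := key p
    rw [hV.2 u huV, one_mul] at this
    exact this.symm

end Cfsg.Agent.S0590
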