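import Cfsg.Statements.S0597
import Cfsg.Agent.Lib.Helper62.Subnormal
import Cfsg.Agent.Lib.Helper91.Subnormal
import Cfsg.Agent.S0590

set_option autoImplicit false
open Cfsg

namespace Cfsg.Agent.S0597

open scoped commutatorElement

/-- the subgroup of elements normalizing `W` and acting trivially on `V / W` -/
def stab {G : Type*} [Group G] (V W : Subgroup G) : Subgroup G where
  carrier := {x | x ∈ Subgroup.normalizer (W : Set G) ∧ ∀ v ∈ V, ⁅v, x⁆ ∈ W}
  one_mem' := ⟨one_mem _, fun v _ => by simp⟩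
  mul_mem' := by
    rintro x y ⟨hx, hx'⟩ ⟨hy, hy'⟩
    refine ⟨mul_mem hx hy, fun v hv => ?_⟩
    have : ⁅v, x * y⁆ = ⁅v, x⁆ * (x * ⁅v, y⁆ * x⁻¹) := by
      simp only [commutatorElement_def]; group
    rw [this]
    exact mul_mem (hx' v hv) ((Subgroup.mem_normalizer_iff.mp hx _).mp (hy' v hv))
  inv_mem' := by
    rintro x ⟨hx, hx'⟩
    refine ⟨inv_mem hx, fun v hv => ?_⟩
    have : ⁅v, x⁻¹⁆ = x⁻¹ * (⁅v, x⁆)⁻¹ * x⁻¹⁻¹ := by
      simp only [commutatorElement_def]; group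
    rw [this]
    exact (Subgroup.mem_normalizer_iff.mp (inv_mem hx) _).mp (inv_mem (hx' v hv))

/-- If two subnormal subgroups of a faithful group on an elementary abelian p-group satisfy [V, E₁, E₂] = 1, then their commutator lies in the largest normal p-subgroup. -/
theorem result {G : Type*} [Group G] [Finite G] {p : ℕ} [Fact p.Prime] (V H : Subgroup G) (hV : Cfsg.IsElementaryAbelian p V) (hHV : H ≤ Subgroup.normalizer (V : Set G)) (hf : H ⊓ Subgroup.centralizer (V : Set G) = ⊥) (E₁ E₂ : Subgroup G) (h₁ : E₁ ≤ H) (h₂ : E₂ ≤ H) (hs₁ : (E₁.subgroupOf H).IsSubnormal) (hs₂ : (E₂.subgroupOf H).IsSubnormal) (hc : ⁅⁅V, E₁⁆, E₂⁆ = ⊥) : ⁅E₁, E₂⁆ ≤ (Cfsg.pCore p H).map H.subtype := by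
  set W := ⁅V, E₁⁆ with hW
  set X := ⁅E₁, E₂⁆ with hX
  have hXH : X ≤ H := by
    rw [hX, Subgroup.commutator_le]
    intro a ha b hb
    exact mul_mem (mul_mem (mul_mem (h₁ ha) (h₂ hb)) (inv_mem (h₁ ha))) (inv_mem (h₂ hb))
  have hE₁W : E₁ ≤ Subgroup.normalizer (W : Set G) := Subgroup.normalizer_commutator_ge_right V E₁
  have hE₂W : E₂ ≤ Subgroup.normalizer (W : Set G) := by
    refine le_trans ?_ (Subgroup.centralizer_le_normalizer _)
    rw [Subgroup.le_centralizer_iff, ← Subgroup.commutator_eq_bot_iff_le_centralizer]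
    exact hc
  -- X centralizes W
  have hXW : ⁅X, W⁆ = ⊥ := by
    apply Subgroup.commutator_commutator_eq_bot_of_rotate
    · rw [Subgroup.commutator_comm E₂ W, hc, Subgroup.commutator_bot_left]
    · rw [eq_bot_iff, ← hc]
      apply Subgroup.commutator_mono _ le_rfl
      exact (Subgroup.le_normalizer_iff_commutator_le_left).mp hE₁W
  -- X acts trivially on V / W
  have hXT : X ≤ stab V W := by
    rw [hX, Subgroup.commutator_le]
    intro a ha b hb
    have haT : ∀ a ∈ E₁, a ∈ stab V W := fun a ha =>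
      ⟨hE₁W ha, fun v hv => Subgroup.commutator_mem_commutator hv ha⟩
    have hconjT : b * a⁻¹ * b⁻¹ ∈ stab V W := by
      refine ⟨mul_mem (mul_mem (hE₂W hb) (inv_mem (hE₁W ha))) (inv_mem (hE₂W hb)), fun v hv => ?_⟩
      have hv' : b⁻¹ * v * b⁻¹⁻¹ ∈ V :=
        (Subgroup.le_normalizer_iff.mp hHV) _ (inv_mem (h₂ hb)) v hv
      have e : ⁅v, b * a⁻¹ * b⁻¹⁆ = b * ⁅b⁻¹ * v * b⁻¹⁻¹, a⁻¹⁆ * b⁻¹ := by
        simp only [commutatorElement_def]; group
      rw [e]
      exact (Subgroup.mem_normalizer_iff.mp (hE₂W hb) _).mp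
        (Subgroup.commutator_mem_commutator hv' (inv_mem ha))
    have e : ⁅a, b⁆ = a * (b * a⁻¹ * b⁻¹) := by rw [commutatorElement_def]; group
    rw [e]
    exact mul_mem (haT a ha) hconjT
  have hVX : ⁅V, X⁆ ≤ W := by
    rw [Subgroup.commutator_le]
    intro v hv x hx
    exact (hXT hx).2 v hv
  have hq : ⁅⁅V, X⁆, X⁆ = ⊥ := by
    rw [eq_bot_iff, ← hXW, Subgroup.commutator_comm X W]
    exact Subgroup.commutator_mono hVX le_rfl
  have hpow := (Cfsg.Agent.S0590.result V X hV (hXH.trans hHV) hq).2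
  have hexp : ∀ a ∈ X, a ^ p = 1 := by
    intro a ha
    have : a ^ p ∈ H ⊓ Subgroup.centralizer (V : Set G) :=
      Subgroup.mem_inf.mpr ⟨pow_mem (hXH ha) p, hpow a ha⟩
    rwa [hf, Subgroup.mem_bot] at this
  -- pass to the group H
  set X' : Subgroup H := ⁅E₁.subgroupOf H, E₂.subgroupOf H⁆ with hX'
  have hmap : X'.map H.subtype = X := by
    rw [hX', Subgroup.map_commutator, Subgroup.map_subgroupOf_eq_of_le h₁,
      Subgroup.map_subgroupOf_eq_of_le h₂]
  have hX'p : IsPGroup p X' := by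
    intro x
    refine ⟨1, ?_⟩
    have h1 : ((x : H) : G) ∈ X := by rw [← hmap]; exact ⟨x, x.2, rfl⟩
    have h2 := hexp _ h1
    ext
    simpa using h2
  have hsup := Cfsg.Agent.Lib.Helper62.isSubnormal_sup hs₁ hs₂
  have hX'sn : X'.IsSubnormal :=
    Subgroup.IsSubnormal.step _ _ (Subgroup.commutator_le_sup _ _) hsup
      (Subgroup.normal_subgroupOf_commutator_sup _ _)
  obtain ⟨N, n1, n2, n3⟩ := Cfsg.Agent.Lib.Helper91.exists_normal_of_isSubnormal
    (fun A : Subgroup H => IsPGroup p A)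
    (fun A g h => h.map _)
    (fun M N hM hN h1 _ => IsPGroup.to_sup_of_normal_right' hM hN h1)
    (IsPGroup.of_bot) hX'sn hX'p
  rw [← hmap]
  apply Subgroup.map_mono
  exact n2.trans (le_sSup ⟨n1, n3⟩)

end Cfsg.Agent.S0597
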