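import Cfsg.Statements.S0600
import Mathlib

set_option autoImplicit false
open Cfsg

namespace Cfsg.Agent.S0600

/-- an element of a normal subgroup `D ≥ K` with `D/K` a `p`-group is a product `s * c`. -/
theorem exists_sylow_mul {G : Type*} [Group G] [Finite G] {p : ℕ} [Fact p.Prime]
    (K : Subgroup G) [K.Normal] (N : Subgroup (G ⧸ K)) [N.Normal] (hN : IsPGroup p N)
    (S : Sylow p G) (d : G) (hd : (QuotientGroup.mk d : G ⧸ K) ∈ N) :
    ∃ s ∈ (S : Subgroup G), ∃ c ∈ K, d = s * c := by
  have h1 : N ≤ (S.mapSurjective (QuotientGroup.mk'_surjective K) : Sylow p (G ⧸ K)) :=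
    hN.le_sylow_of_normal _
  have h2 : (QuotientGroup.mk d : G ⧸ K) ∈ (S : Subgroup G).map (QuotientGroup.mk' K) := h1 hd
  obtain ⟨s, hs, hsd⟩ := h2
  refine ⟨s, hs, s⁻¹ * d, ?_, by group⟩
  exact QuotientGroup.eq.mp hsd

/-- A normal elementary abelian p-subgroup generated by the fixed points of the Sylow p-subgroups admits no nontrivial normal p-subgroup of G modulo its centralizer. -/
theorem result {G : Type*} [Group G] [Finite G] {p : ℕ} [Fact p.Prime] (V : Subgroup G) [V.Normal] (hV : Cfsg.IsElementaryAbelian p V) (hgen : V = ⨆ S : Sylow p G, V ⊓ Subgroup.centralizer ((S : Subgroup G) : Set G)) : Cfsg.pCore p (G ⧸ Subgroup.centralizer (V : Set G)) = ⊥ := by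
  unfold Cfsg.pCore
  rw [sSup_eq_bot]
  rintro N ⟨hNn, hNp⟩
  rw [eq_bot_iff]
  intro q hq
  obtain ⟨d, rfl⟩ := QuotientGroup.mk_surjective q
  rw [Subgroup.mem_bot, QuotientGroup.eq_one_iff]
  have key : V ≤ Subgroup.centralizer ({d} : Set G) := by
    rw [hgen]
    apply iSup_le
    intro S v hv
    obtain ⟨s, hs, c, hc, rfl⟩ := exists_sylow_mul _ N hNp S d hq
    rw [Subgroup.mem_centralizer_singleton_iff]
    have h1 : s * v = v * s := (Subgroup.mem_centralizer_iff.mp hv.2) s hs
    have h2 : v * c = c * v := (Subgroup.mem_centralizer_iff.mp hc) v hv.1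
    calc v * (s * c) = (v * s) * c := by group
      _ = (s * v) * c := by rw [h1]
      _ = s * (v * c) := by group
      _ = s * (c * v) := by rw [h2]
      _ = s * c * v := by group
  rw [Subgroup.mem_centralizer_iff]
  intro v hv
  have := key hv
  rw [Subgroup.mem_centralizer_singleton_iff] at this
  exact this

end Cfsg.Agent.S0600
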