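import Cfsg.Statements.S0601
import Cfsg.Agent.Lib.Helper10.Thompson
import Cfsg.Agent.S0600

set_option autoImplicit false
open Cfsg

namespace Cfsg.Agent.S0601

open Cfsg.Agent.Lib.Helper10

theorem pCore_normal {G : Type*} [Group G] (p : ℕ) : (Cfsg.pCore p G).Normal :=
  Subgroup.sSup_normal _ (fun _ h => h.1)

theorem pCore_isPGroup {G : Type*} [Group G] (p : ℕ) : IsPGroup p (Cfsg.pCore p G) :=
  Sylow.sSup_of_normal _ (fun _ h => h.2) (fun _ h => h.1)

/-- the elements of order dividing `p` of an abelian subgroup -/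
def omegaSub {G : Type*} [Group G] (p : ℕ) (T : Subgroup G) (hT : ∀ x ∈ T, ∀ y ∈ T, x * y = y * x) :
    Subgroup G where
  carrier := {x | x ∈ T ∧ x ^ p = 1}
  mul_mem' := by
    rintro x y ⟨hx, hx'⟩ ⟨hy, hy'⟩
    refine ⟨mul_mem hx hy, ?_⟩
    rw [(show Commute x y from hT x hx y hy).mul_pow, hx', hy', one_mul]
  one_mem' := ⟨one_mem _, one_pow _⟩
  inv_mem' := by
    rintro x ⟨hx, hx'⟩
    exact ⟨inv_mem hx, by rw [inv_pow, hx', inv_one]⟩

theorem omegaSub_isEA {G : Type*} [Group G] (p : ℕ) (T : Subgroup G)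
    (hT : ∀ x ∈ T, ∀ y ∈ T, x * y = y * x) : IsElementaryAbelian p (omegaSub p T hT) := by
  rw [isEA_iff]
  exact ⟨fun x hx y hy => hT x hx.1 y hy.1, fun a ha => ha.2⟩

/-- When O_p(G) contains its centralizer, the normal closure of Ω₁(Z(S)) is elementary abelian and G has no nontrivial normal p-subgroup modulo its centralizer. -/
theorem result {G : Type*} [Group G] [Finite G] {p : ℕ} [Fact p.Prime] (hc : Subgroup.centralizer (Cfsg.pCore p G : Set G) ≤ Cfsg.pCore p G) : (⨆ S : Sylow p G, Cfsg.omegaOne p (((S : Subgroup G)) ⊓ Subgroup.centralizer ((S : Subgroup G) : Set G))).Normal ∧ Cfsg.IsElementaryAbelian p (⨆ S : Sylow p G, Cfsg.omegaOne p (((S : Subgroup G)) ⊓ Subgroup.centralizer ((S : Subgroup G) : Set G))) ∧ ∀ D : Subgroup G, D.Normal → Subgroup.centralizer ((⨆ S : Sylow p G, Cfsg.omegaOne p (((S : Subgroup G)) ⊓ Subgroup.centralizer ((S : Subgroup G) : Set G)) : Subgroup G) : Set G) ≤ D → (∃ k : ℕ, (Subgroup.centralizer ((⨆ S : Sylow p G, Cfsg.omegaOne p (((S :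 Subgroup G)) ⊓ Subgroup.centralizer ((S : Subgroup G) : Set G)) : Subgroup G) : Set G)).relIndex D = p ^ k) → D = Subgroup.centralizer ((⨆ S : Sylow p G, Cfsg.omegaOne p (((S : Subgroup G)) ⊓ Subgroup.centralizer ((S : Subgroup G) : Set G)) : Subgroup G) : Set G) := by
  set V := ⨆ S : Sylow p G, Cfsg.omegaOne p (((S : Subgroup G)) ⊓ Subgroup.centralizer ((S : Subgroup G) : Set G)) with hVdef
  have hVn : V.Normal := by
    have hmap : ∀ g : G, V.map (MulAut.conj g).toMonoidHom ≤ V := by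
      intro g
      rw [hVdef, Subgroup.map_iSup]
      apply iSup_le
      intro S
      refine le_trans ?_ (le_iSup (fun S : Sylow p G => Cfsg.omegaOne p (((S : Subgroup G)) ⊓ Subgroup.centralizer ((S : Subgroup G) : Set G))) (g • S))
      unfold Cfsg.omegaOne
      rw [MonoidHom.map_closure, Subgroup.closure_le]
      rintro _ ⟨x, ⟨⟨hxS, hxC⟩, hxp⟩, rfl⟩
      apply Subgroup.subset_closure
      refine ⟨Subgroup.mem_inf.mpr ⟨?_, ?_⟩, ?_⟩
      · rw [Sylow.coe_subgroup_smul]
        exact ⟨x, hxS, rfl⟩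
      · rw [Subgroup.mem_centralizer_iff]
        intro y hy
        rw [SetLike.mem_coe, Sylow.coe_subgroup_smul] at hy
        obtain ⟨z, hz, rfl⟩ := hy
        have h1 : z * x = x * z := (Subgroup.mem_centralizer_iff.mp hxC) z hz
        show (MulAut.conj g) z * (MulAut.conj g) x = (MulAut.conj g) x * (MulAut.conj g) z
        rw [← map_mul, ← map_mul, h1]
      · show ((MulAut.conj g) x) ^ p = 1
        rw [← map_pow, hxp, map_one]
    constructor
    intro n hn g
    have := hmap g ⟨n, hn, rfl⟩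
    simpa [MulAut.conj_apply] using this
  have hOn := pCore_normal (G := G) p
  have hOp := pCore_isPGroup (G := G) p
  set O := Cfsg.pCore p G with hO
  set T := O ⊓ Subgroup.centralizer (O : Set G) with hT
  have hTc : ∀ x ∈ T, ∀ y ∈ T, x * y = y * x := fun x hx y hy =>
    (Subgroup.mem_centralizer_iff.mp hy.2) x hx.1
  have hVE : V ≤ omegaSub p T hTc := by
    rw [hVdef]
    apply iSup_le
    intro S
    unfold Cfsg.omegaOne
    rw [Subgroup.closure_le]
    rintro x ⟨⟨hxS, hxC⟩, hxp⟩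
    have hOS : O ≤ (S : Subgroup G) := hOp.le_sylow_of_normal S
    have h1 : x ∈ Subgroup.centralizer (O : Set G) :=
      Subgroup.centralizer_le (by exact_mod_cast hOS) hxC
    exact ⟨Subgroup.mem_inf.mpr ⟨hc h1, h1⟩, hxp⟩
  refine ⟨hVn, IsEA.mono (omegaSub_isEA p T hTc) hVE, ?_⟩
  intro D hDn hCD ⟨k, hk⟩
  apply le_antisymm _ hCD
  set K := Subgroup.centralizer (V : Set G) with hK
  have hKn : K.Normal := inferInstance
  set N := D.map (QuotientGroup.mk' K) with hN
  have hNn : N.Normal := hDn.map _ (QuotientGroup.mk'_surjective K)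
  have hNp : IsPGroup p N := by
    apply IsPGroup.of_card (n := k)
    rw [← hk, hN, ← Subgroup.relIndex_ker, QuotientGroup.ker_mk']
  intro d hd
  have hdN : (QuotientGroup.mk d : G ⧸ K) ∈ N := ⟨d, hd, rfl⟩
  have key : V ≤ Subgroup.centralizer ({d} : Set G) := by
    conv_lhs => rw [hVdef]
    apply iSup_le
    intro S
    have hle : Cfsg.omegaOne p (((S : Subgroup G)) ⊓ Subgroup.centralizer ((S : Subgroup G) : Set G)) ≤ V :=
      le_iSup (fun S : Sylow p G => Cfsg.omegaOne p (((S : Subgroup G)) ⊓ Subgroup.centralizer ((S : Subgroup G) : Set G))) S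
    obtain ⟨s, hs, c, hcK, rfl⟩ := Cfsg.Agent.S0600.exists_sylow_mul K N hNp S d hdN
    have hgen : ∀ x, x ∈ (((S : Subgroup G)) ⊓ Subgroup.centralizer ((S : Subgroup G) : Set G)) ∧ x ^ p = 1 →
        x ∈ Subgroup.centralizer ({s * c} : Set G) := by
      rintro x ⟨⟨hxS, hxC⟩, hxp⟩
      have hxV : x ∈ V := hle (Subgroup.subset_closure ⟨⟨hxS, hxC⟩, hxp⟩)
      rw [Subgroup.mem_centralizer_singleton_iff]
      have h1 : s * x = x * s := (Subgroup.mem_centralizer_iff.mp hxC) s hs
      have h2 : x * c = c * x := (Subgroup.mem_centralizer_iff.mp hcK) x hxV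
      calc x * (s * c) = (x * s) * c := by group
        _ = (s * x) * c := by rw [h1]
        _ = s * (x * c) := by group
        _ = s * (c * x) := by rw [h2]
        _ = s * c * x := by group
    unfold Cfsg.omegaOne
    rw [Subgroup.closure_le]
    exact hgen
  rw [hK, Subgroup.mem_centralizer_iff]
  intro v hv
  have := key hv
  rw [Subgroup.mem_centralizer_singleton_iff] at this
  exact this

end Cfsg.Agent.S0601
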