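import Cfsg.Statements.S0604
import Cfsg.Agent.Lib.Helper10.Thompson

set_option autoImplicit false
open Cfsg

namespace Cfsg.Agent.S0604

open Cfsg.Agent.Lib.Helper10 Pointwise

/-- The Thompson subgroup of G is the join of the Thompson subgroups of its Sylow p-subgroups. -/
theorem result {G : Type*} [Group G] [Finite G] {p : ℕ} [Fact p.Prime] : Cfsg.thompsonSubgroup p G = ⨆ S : Sylow p G, Cfsg.thompsonSubgroupOf p (S : Subgroup G) := by
  apply le_antisymm
  · conv_lhs => unfold thompsonSubgroup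
    apply sSup_le
    intro A hA
    obtain ⟨S, hS⟩ := (IsEA.isPGroup hA.1).exists_le_sylow
    exact (le_thompsonSubgroupOf hA hS).trans (le_iSup (fun S : Sylow p G => Cfsg.thompsonSubgroupOf p (S : Subgroup G)) S)
  · apply iSup_le
    intro S
    obtain ⟨A₀, hA₀⟩ := exists_maxEA (G := G) p
    obtain ⟨S₀, hS₀⟩ := (IsEA.isPGroup hA₀.1).exists_le_sylow
    obtain ⟨g, hg⟩ := MulAction.exists_smul_eq G S₀ S
    have h1 : MulAut.conj g • A₀ ≤ (S : Subgroup G) := by
      rw [← hg, Sylow.coe_subgroup_smul]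
      exact Subgroup.pointwise_smul_le_pointwise_smul_iff.mpr hS₀
    exact thompsonSubgroupOf_le (maxEA_conj hA₀ g) h1

end Cfsg.Agent.S0604
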