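import Cfsg.Statements.S0606
import Cfsg.Agent.Lib.Helper10.Thompson

set_option autoImplicit false
open Cfsg

namespace Cfsg.Agent.S0606

open Cfsg.Agent.Lib.Helper10

/-- Elementary abelian p-subgroups of maximal order are best offenders on any normal elementary abelian p-subgroup. -/
theorem result {G : Type*} [Group G] [Finite G] {p : ℕ} [Fact p.Prime] (V : Subgroup G) [V.Normal] (hV : Cfsg.IsElementaryAbelian p V) (A : Subgroup G) (hA : A ∈ Cfsg.maxElementaryAbelianSubgroups p G) : Cfsg.IsBestOffenderOn p V A := by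
  have hA' := isEA_iff.mp hA.1
  refine ⟨?_, ?_, ?_⟩
  · intro B hB
    set C := V ⊓ Subgroup.centralizer (B : Set G) with hC
    have hEA : IsElementaryAbelian p (B ⊔ C) := by
      apply IsEA.sup (IsEA.mono hA.1 hB) (IsEA.mono hV inf_le_left)
      intro b hb c hc
      exact (Subgroup.mem_centralizer_iff.mp hc.2) b hb
    have h1 := card_mul_card_le B C
    have h2 : Nat.card (B ⊔ C : Subgroup G) ≤ Nat.card A := hA.2 _ hEA
    have h3 : B ⊓ C ≤ V ⊓ Subgroup.centralizer (A : Set G) := by
      intro x hx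
      refine Subgroup.mem_inf.mpr ⟨hx.2.1, ?_⟩
      rw [Subgroup.mem_centralizer_iff]
      intro a ha
      exact hA'.1 a ha x (hB hx.1)
    have h4 : Nat.card (B ⊓ C : Subgroup G) ≤ Nat.card (V ⊓ Subgroup.centralizer (A : Set G) : Subgroup G) :=
      Subgroup.card_le_of_le h3
    calc Nat.card B * Nat.card C ≤ Nat.card (B ⊔ C : Subgroup G) * Nat.card (B ⊓ C : Subgroup G) := h1
      _ ≤ Nat.card A * Nat.card (V ⊓ Subgroup.centralizer (A : Set G) : Subgroup G) := Nat.mul_le_mul h2 h4
  · have : ⁅A, A⁆ = ⊥ := by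
      rw [Subgroup.commutator_self_eq_bot_iff]; exact hA.1.1
    rw [this]; exact bot_le
  · intro a ha
    rw [hA'.2 a ha]; exact one_mem _

end Cfsg.Agent.S0606
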