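import Cfsg.Statements.S0608
import Cfsg.Agent.Lib.Helper48.FFT3

set_option autoImplicit false
open Cfsg

namespace Cfsg.Agent.S0608

open Cfsg.Agent.Lib.Helper48

/-- With trivial p'-core, Thompson factorizability is equivalent to J(G) centralizing the subgroup generated by all Ω₁(Z(S)), S Sylow. -/
theorem result {G : Type*} [Group G] [Finite G] {p : ℕ} [Fact p.Prime] (hO : Cfsg.pPrimeCore p G = ⊥) : Cfsg.IsThompsonFactorizable p G ↔ Cfsg.thompsonSubgroup p G ≤ Subgroup.centralizer ((⨆ S : Sylow p G, Cfsg.omegaOne p (((S : Subgroup G)) ⊓ Subgroup.centralizer ((S : Subgroup G) : Set G)) : Subgroup G) : Set G) := by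
  constructor
  · intro hf
    rw [Cfsg.Agent.S0604.result (G := G) (p := p)]
    refine iSup_le fun S => ?_
    rw [Subgroup.le_centralizer_iff]
    refine iSup_le fun T => ?_
    unfold Cfsg.omegaOne
    rw [Subgroup.closure_le]
    rintro z ⟨hz, hzp⟩
    obtain ⟨hzT, hzC⟩ := Subgroup.mem_inf.mp hz
    obtain ⟨g, rfl⟩ := MulAction.exists_smul_eq G S T
    obtain ⟨x, hx, c, hc, n, hn, hg⟩ := hf S g⁻¹
    rw [hO, Subgroup.mem_bot] at hx
    subst hx
    rw [one_mul] at hg
    have hg' : g = n⁻¹ * c⁻¹ := by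
      rw [← inv_inv g, hg]
      group
    have hmem : ∀ y : G, y ∈ ((g • S : Sylow p G) : Subgroup G) ↔ g⁻¹ * y * g ∈ (S : Subgroup G) := by
      intro y
      rw [Sylow.coe_subgroup_smul, Subgroup.mem_pointwise_smul_iff_inv_smul_mem]
      simp [MulAut.smul_def, MulAut.conj_apply]
    have hz'S : g⁻¹ * z * g ∈ (S : Subgroup G) := (hmem z).mp hzT
    have hz'C : g⁻¹ * z * g ∈ Subgroup.centralizer ((S : Subgroup G) : Set G) := by
      rw [Subgroup.mem_centralizer_iff]
      intro s hs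
      have h1 : g * s * g⁻¹ ∈ ((g • S : Sylow p G) : Subgroup G) := by
        rw [hmem]
        have : g⁻¹ * (g * s * g⁻¹) * g = s := by group
        rw [this]
        exact hs
      have h2 := Subgroup.mem_centralizer_iff.mp hzC _ h1
      calc s * (g⁻¹ * z * g) = g⁻¹ * ((g * s * g⁻¹) * z) * g := by group
        _ = g⁻¹ * z * g * s := by rw [h2]; group
    have hz'O : g⁻¹ * z * g ∈ Cfsg.omegaOne p ((S : Subgroup G) ⊓
        Subgroup.centralizer ((S : Subgroup G) : Set G)) := by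
      apply Subgroup.subset_closure
      refine ⟨Subgroup.mem_inf.mpr ⟨hz'S, hz'C⟩, ?_⟩
      have : g⁻¹ * z * g = g⁻¹ * z * g⁻¹⁻¹ := by group
      rw [this, conj_pow, hzp]
      group
    have hcz := Subgroup.mem_centralizer_iff.mp hc _ hz'O
    have hzz : z = g * (g⁻¹ * z * g) * g⁻¹ := by group
    generalize g⁻¹ * z * g = z' at hzz hcz hz'C
    have hzn : z = n⁻¹ * z' * n := by
      rw [hzz, hg']
      calc n⁻¹ * c⁻¹ * z' * (n⁻¹ * c⁻¹)⁻¹ = n⁻¹ * (c⁻¹ * (z' * c)) * n := by group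
        _ = n⁻¹ * z' * n := by rw [hcz]; group
    change z ∈ Subgroup.centralizer _
    rw [Subgroup.mem_centralizer_iff]
    intro j hj
    have hjn : n * j * n⁻¹ ∈ Cfsg.thompsonSubgroupOf p (S : Subgroup G) :=
      (Subgroup.mem_normalizer_iff.mp hn j).mp hj
    have hjS : n * j * n⁻¹ ∈ (S : Subgroup G) := Subgroup.map_subtype_le _ hjn
    have h3 := Subgroup.mem_centralizer_iff.mp hz'C _ hjS
    rw [hzn]
    calc j * (n⁻¹ * z' * n) = n⁻¹ * ((n * j * n⁻¹) * z') * n := by group
      _ = n⁻¹ * z' * n * j := by rw [h3]; group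
  · intro h
    exact isThompsonFactorizable_of_le h

end Cfsg.Agent.S0608
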