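import Cfsg.Statements.S0096
import Cfsg.Agent.Lib.Helper2.Class2

set_option autoImplicit false
open Cfsg

namespace Cfsg.Agent.S0096

open Cfsg.Agent.Lib.Helper2 Subgroup
open scoped commutatorElement

/-- For odd p, in a p-group of class at most two the elements of order dividing p generate a subgroup of exponent dividing p. -/
theorem result {P : Type*} [Group P] [Finite P] {p : ℕ} [Fact p.Prime] (hp : p ≠ 2) (hP : IsPGroup p P) (h2 : ⁅commutator P, (⊤ : Subgroup P)⁆ = ⊥) (g : P) (hg : g ∈ Subgroup.closure {x : P | x ^ p = 1}) : g ^ p = 1 := by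
  have hpp : p.Prime := Fact.out
  have hcen : commutator P ≤ center P := Subgroup.commutator_top_right_eq_bot_iff_le_center.mp h2
  have hcomm : ∀ a b t : P, Commute ⁅a, b⁆ t := by
    intro a b t
    have h1 : ⁅a, b⁆ ∈ center P := hcen (by
      rw [commutator_def]; exact Subgroup.commutator_mem_commutator (mem_top a) (mem_top b))
    exact ((mem_center_iff.mp h1) t).symm
  induction hg using Subgroup.closure_induction with
  | mem x hx => exact hx
  | one => exact one_pow p
  | mul x y _ _ hx hy =>
    have hc : ⁅y, x⁆ ^ p = 1 := by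
      rw [← commutator_pow_left_class2 (hcomm y x y), hy, commutatorElement_one_left]
    rw [mul_pow_prime_class2 hpp hp (hcomm y x x) (hcomm y x y) hc, hx, hy, one_mul]
  | inv x _ hx => rw [inv_pow, hx, inv_one]

end Cfsg.Agent.S0096
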