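import Cfsg.Statements.S0123
import Cfsg.Agent.Lib.Helper29.ClassThree
import Cfsg.Agent.Lib.Helper24.PGroup
import Cfsg.Agent.S0096
import Cfsg.Agent.S0124

set_option autoImplicit false
open Cfsg
open scoped commutatorElement

namespace Cfsg.Agent.S0123

/-- For a p-group of small class relative to p (class ≤ 2 with p odd, or class ≤ 3 with p > 3) whose derived subgroup is generated by elements of order dividing p, the p-th power map is multiplicative. -/
theorem result {R : Type*} [Group R] [Finite R] {p : ℕ} [Fact p.Prime] (hR : IsPGroup p R) (hcl : (p ≠ 2 ∧ ⁅commutator R, (⊤ : Subgroup R)⁆ = ⊥) ∨ (3 < p ∧ ⁅⁅commutator R, (⊤ : Subgroup R)⁆, (⊤ : Subgroup R)⁆ = ⊥)) (hder : commutator R ≤ Subgroup.closure {x : R | x ^ p = 1}) (x y : R) : (x * y) ^ p = x ^ p * y ^ p := by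
  have hpp : p.Prime := Fact.out
  rcases hcl with ⟨hp2, h2⟩ | ⟨h3, hcl⟩
  · have hcen : ∀ a b c : R, Commute ⁅a, b⁆ c := by
      intro a b c
      have h1 : ⁅a, b⁆ ∈ commutator R := by
        rw [commutator_def]
        exact Subgroup.commutator_mem_commutator (Subgroup.mem_top a) (Subgroup.mem_top b)
      have h3 : ⁅⁅a, b⁆, c⁆ ∈ ⁅commutator R, (⊤ : Subgroup R)⁆ :=
        Subgroup.commutator_mem_commutator h1 (Subgroup.mem_top c)
      rw [h2, Subgroup.mem_bot] at h3
      exact commutatorElement_eq_one_iff_commute.1 h3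
    have h1 : ⁅y, x⁆ ∈ commutator R := by
      rw [commutator_def]
      exact Subgroup.commutator_mem_commutator (Subgroup.mem_top y) (Subgroup.mem_top x)
    have h4 : ⁅y, x⁆ ^ p = 1 := Cfsg.Agent.S0096.result hp2 hR h2 _ (hder h1)
    rw [Cfsg.Agent.Lib.Helper24.mul_pow_of_commute x y (hcen _ _ _) (hcen _ _ _) p]
    obtain ⟨j, hj⟩ : p ∣ p.choose 2 := hpp.dvd_choose_self (by norm_num)
      (lt_of_le_of_ne hpp.two_le (Ne.symm hp2))
    rw [hj, pow_mul, h4]; simp
  · exact Cfsg.Agent.Lib.Helper29.mul_pow_of_class_three hcl hpp h3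
      (fun g hg => Cfsg.Agent.S0124.result h3 hR hcl g (hder hg)) x y

end Cfsg.Agent.S0123
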