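import Mathlib
import Cfsg.Statements.S5106
import Cfsg.Agent.S5088
import Cfsg.Agent.Lib.Helper84.FusionSat2

set_option autoImplicit false
open Cfsg

namespace Cfsg.Agent.S5106

open Cfsg.FusionSystem Cfsg.Agent.Lib.Helper84
open scoped commutatorElement

theorem result {Ω : Type*} [Group Ω] {S : Subgroup Ω} [Finite S] (p : ℕ) [Fact p.Prime] (hS : IsPGroup p S) (F : Cfsg.FusionSystem S) (hF : F.IsSaturated p) (R : Subgroup Ω) (hRS : R ≤ S) : F.IsNormal R ↔ ∀ (P : Subgroup Ω) (hPR : P ≤ R) (φ : P →* Ω), φ ∈ F.Hom P → ∃ α ∈ F.autGroup R, ∀ x : P, ((α (Subgroup.inclusion hPR x) : R) : Ω) = φ x := by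
  constructor
  · intro hn P hPR φ hφ
    obtain ⟨ψ, hψ, h1, h2⟩ := hn.2 P φ hφ
    refine ⟨restrictEquiv ψ (F.injective_of_mem hψ) le_sup_right h2, ?_, fun x => ?_⟩
    · rw [mem_autGroup_iff F hRS]
      exact mor_restrictEquiv F hψ le_sup_right h2
    · rw [← h1 x]
      rfl
  · intro hext
    rw [Cfsg.Agent.S5088.result p hS F hF R]
    have hfin : Finite R := finite_of_le hRS
    have hRp : IsPGroup p R := hS.to_le hRS
    have hnil : Group.IsNilpotent R := hRp.isNilpotent
    refine ⟨Group.nilpotencyClass R,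
      fun i => (Subgroup.upperCentralSeries R i).map R.subtype, ?_, ?_, ?_, ?_⟩
    · simp
    · simp only [Fin.val_last]
      rw [Subgroup.upperCentralSeries_nilpotencyClass, ← MonoidHom.range_eq_map,
        Subgroup.range_subtype]
    · intro i j hij
      exact Subgroup.map_mono (Subgroup.upperCentralSeries_mono R hij)
    · intro i
      constructor
      · refine ⟨(Subgroup.map_subtype_le _).trans hRS, fun T hT φ hφ x => ?_⟩
        have hTR : T ≤ R := hT.trans (Subgroup.map_subtype_le _)
        obtain ⟨α, -, hα⟩ := hext T hTR φ hφ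
        rw [← hα x]
        obtain ⟨y, hy, hyx⟩ := hT x.2
        have hy' : y = Subgroup.inclusion hTR x := Subtype.ext hyx
        rw [← hy']
        refine ⟨α y, ?_, rfl⟩
        have hchar : (Subgroup.upperCentralSeries R (i.succ : ℕ)).Characteristic := inferInstance
        exact Subgroup.characteristic_iff_map_le.1 hchar α ⟨y, hy, rfl⟩
      · rw [Subgroup.commutator_le]
        rintro g hg _ ⟨z, hz, rfl⟩
        refine ⟨⁅(⟨g, hg⟩ : R), z⁆, ?_, rfl⟩
        have hz' : z ∈ Subgroup.upperCentralSeries R ((i.castSucc : ℕ) + 1) := by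
          simpa using hz
        have := Subgroup.mem_upperCentralSeries_succ_iff.1 hz' ⟨g, hg⟩
        rw [← commutatorElement_inv]
        exact Subgroup.inv_mem _ this

end Cfsg.Agent.S5106
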