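import Cfsg.Statements.S5301
import Cfsg.Agent.S5080
import Cfsg.Agent.S5082
import Cfsg.Agent.Lib.Helper88.FusAutSystem

set_option autoImplicit false
universe u
open Cfsg

namespace Cfsg.Agent.S5301

open Cfsg.FusionSystem Cfsg.Agent.Lib.Helper84 Cfsg.Agent.Lib.Helper88

theorem result {Ω : Type u} [Group Ω] {S : Subgroup Ω} [Finite S] (p : ℕ) [Fact p.Prime] (hS : IsPGroup p S)
    (F : Cfsg.FusionSystem S) (hF : F.IsSaturated p)
    (hcl : ∀ P : Subgroup Ω, F.IsFullyNormalized P → F.IsCentric P → F.IsRadical p P →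
      ∃ R : Sylow p ↥(F.autGroup P), (R : Subgroup ↥(F.autGroup P)).Normal) :
    F.IsNormal S := by
  apply isNormal_top_of_le
  apply Cfsg.Agent.S5082.result p hS F hF
  rintro P (rfl | hE)
  · rw [autGroup_autSystem]
  · exfalso
    have hrad := Cfsg.Agent.S5080.result p hS F hF P hE
    obtain ⟨hc, hn, hnorm, E, hdvd, -, -⟩ := hE
    obtain ⟨R, hR⟩ := hcl P hn hc hrad
    have hfin : Finite (F.autGroup P) := finite_autGroup F hc.1
    have h1 : (R : Subgroup (F.autGroup P)) ≤ pCore p (F.autGroup P) := le_sSup ⟨hR, R.2⟩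
    have h2 : (R : Subgroup (F.autGroup P)) ≤ (Inn P).subgroupOf (F.autGroup P) := by
      intro x hx
      show (x : MulAut P) ∈ Inn P
      rw [← hrad.2]
      exact ⟨x, h1 hx, rfl⟩
    have h3 := Subgroup.index_dvd_of_le h2
    have h4 : p ∣ ((Inn P).subgroupOf (F.autGroup P)).index := by
      rw [Subgroup.index_eq_card]; exact hdvd
    exact R.not_dvd_index (h4.trans h3)

end Cfsg.Agent.S5301
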