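import Cfsg.Statements.S0058
import Cfsg.Agent.Lib.Helper52.QuotAction
import Cfsg.Agent.Lib.Helper52.Commutators
import Cfsg.Agent.S0022
import Cfsg.Agent.S0023

set_option autoImplicit false
open Cfsg

namespace Cfsg.Agent.S0058

open Cfsg.Agent.Lib.Helper52 Subgroup
open scoped commutatorElement

theorem aux {G : Type*} [Group G] [Finite G] (A : Subgroup G)
    [IsMulCommutative A] (hA : ¬ IsCyclic A) (n : ℕ) : ∀ (K : Subgroup G), Nat.card K = n →
    A ≤ Subgroup.normalizer (K : Set G) → (Nat.card A).Coprime (Nat.card K) →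
    (⨆ a ∈ {a : G | a ∈ A ∧ a ≠ 1}, K ⊓ Subgroup.centralizer {a}) = K := by
  induction n using Nat.strong_induction_on with
  | _ n ih =>
  intro K hn hAK hcop
  have hHK : (⨆ a ∈ {a : G | a ∈ A ∧ a ≠ 1}, K ⊓ Subgroup.centralizer {a}) ≤ K :=
    iSup₂_le fun a _ => inf_le_left
  have hsolA : Group.IsSolvable A := Group.isSolvable_of_comm (fun a b => mul_comm' a b)
  -- proper invariant subgroups lie in `H`
  have hprop : ∀ L : Subgroup G, L ≤ K → L ≠ K → A ≤ normalizer (L : Set G) →
      L ≤ (⨆ a ∈ {a : G | a ∈ A ∧ a ≠ 1}, K ⊓ Subgroup.centralizer {a}) := by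
    intro L hLK hne hAL
    have hlt : Nat.card L < n := by
      rw [← hn]
      exact Set.Finite.card_lt_card (Set.toFinite _) (SetLike.coe_ssubset_coe.2 (lt_of_le_of_ne hLK hne))
    have h1 := ih _ hlt L rfl hAL (hcop.coprime_dvd_right (Subgroup.card_dvd_of_le hLK))
    conv_lhs => rw [← h1]
    exact iSup₂_mono fun a _ => inf_le_inf_right _ hLK
  have hcent : ∀ a ∈ A, a ≠ 1 → K ⊓ centralizer {a} ≤
      (⨆ a ∈ {a : G | a ∈ A ∧ a ≠ 1}, K ⊓ Subgroup.centralizer {a}) := by
    intro a ha ha1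
    exact le_iSup₂_of_le (f := fun a (_ : a ∈ {a : G | a ∈ A ∧ a ≠ 1}) => K ⊓ Subgroup.centralizer {a})
      a ⟨ha, ha1⟩ le_rfl
  have hAH : A ≤ normalizer ((⨆ a ∈ {a : G | a ∈ A ∧ a ≠ 1}, K ⊓ Subgroup.centralizer {a} : Subgroup G) : Set G) := by
    rw [le_normalizer_iff]
    intro b hb
    have : (⨆ a ∈ {a : G | a ∈ A ∧ a ≠ 1}, K ⊓ Subgroup.centralizer {a}) ≤
        (⨆ a ∈ {a : G | a ∈ A ∧ a ≠ 1}, K ⊓ Subgroup.centralizer {a}).comap (MulAut.conj b).toMonoidHom := by
      refine iSup₂_le fun a ha x hx => ?_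
      rw [mem_comap]
      apply hcent a ha.1 ha.2
      rw [mem_inf] at hx ⊢
      refine ⟨(mem_normalizer_iff.1 (hAK hb) x).1 hx.1, ?_⟩
      have h1 := mem_centralizer_singleton_iff.1 hx.2
      have h2 : a * b = b * a := congrArg Subtype.val (mul_comm' (⟨a, ha.1⟩ : A) ⟨b, hb⟩)
      rw [mem_centralizer_singleton_iff]
      simp only [MulEquiv.coe_toMonoidHom, MulAut.conj_apply]
      have h3 : b⁻¹ * a = a * b⁻¹ := by
        rw [inv_mul_eq_iff_eq_mul, ← mul_assoc, ← h2, mul_assoc, mul_inv_cancel, mul_one]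
      calc b * x * b⁻¹ * a = b * x * (b⁻¹ * a) := by group
        _ = b * (x * a) * b⁻¹ := by rw [h3]; group
        _ = (b * a) * x * b⁻¹ := by rw [h1]; group
        _ = a * (b * x * b⁻¹) := by rw [← h2]; group
    intro k hk
    exact this hk
  generalize (⨆ a ∈ {a : G | a ∈ A ∧ a ≠ 1}, K ⊓ Subgroup.centralizer {a}) = H at *
  by_contra hne
  have hidx : (H.subgroupOf K).index ≠ 1 := by
    intro h
    rw [index_eq_one, subgroupOf_eq_top] at h
    exact hne (le_antisymm hHK h)
  have hp : ((H.subgroupOf K).index.minFac).Prime := Nat.minFac_prime hidx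
  have hpd : (H.subgroupOf K).index.minFac ∣ (H.subgroupOf K).index := Nat.minFac_dvd _
  generalize (H.subgroupOf K).index.minFac = p at hp hpd
  have : Fact p.Prime := ⟨hp⟩
  obtain ⟨P, hP⟩ := Cfsg.Agent.S0023.result A K hAK hcop (Or.inl hsolA) p
  have hPK : (P : Subgroup K).map K.subtype = K := by
    by_contra hPne
    have h1 := hprop _ (map_subtype_le _) hPne hP
    have h2 : (P : Subgroup K) ≤ H.subgroupOf K := by
      intro x hx
      exact h1 (mem_map_of_mem _ hx)
    have h3 := index_dvd_of_le h2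
    exact P.not_dvd_index (hpd.trans h3)
  have hKp : IsPGroup p K := by
    have htop : (P : Subgroup K) = ⊤ := by
      rw [eq_top_iff]
      intro x _
      have hx : (x : G) ∈ (P : Subgroup K).map K.subtype := by rw [hPK]; exact x.2
      obtain ⟨y, hy, hyx⟩ := hx
      have : y = x := Subtype.ext hyx
      exact this ▸ hy
    intro x
    obtain ⟨k, hk⟩ := P.2 ⟨x, htop ▸ mem_top x⟩
    exact ⟨k, by simpa [Subtype.ext_iff] using hk⟩
  have hKbot : K ≠ ⊥ := by
    rintro rfl
    exact hne (le_antisymm hHK bot_le)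
  have hKK : ⁅K, K⁆ ≤ H :=
    hprop _ (le_normalizer_iff_commutator_le_left.1 le_normalizer)
      (commutator_ne_of_isPGroup p hKp hKp le_normalizer hKbot) (le_normalizer_commutator hAK hAK)
  have hKH : K ≤ normalizer (H : Set G) := by
    rw [le_normalizer_iff]
    intro k hk h hh
    have : k * h * k⁻¹ = ⁅k, h⁆ * h := by simp [commutatorElement_def]
    rw [this]
    exact mul_mem (hKK (commutator_mem_commutator hk (hHK hh))) hh
  have hnorm : (H.subgroupOf K).Normal := (normal_subgroupOf_iff_le_normalizer hHK).2 hKH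
  let act := quotAction (N := H) hAK hAH
  have hcomm : ∀ x y : K ⧸ H.subgroupOf K, x * y = y * x := by
    intro x y
    induction x using QuotientGroup.induction_on with
    | H a =>
    induction y using QuotientGroup.induction_on with
    | H b =>
    rw [← QuotientGroup.mk_mul, ← QuotientGroup.mk_mul, QuotientGroup.eq]
    rw [mem_subgroupOf]
    apply hKK
    have : (((a * b)⁻¹ * (b * a) : K) : G) = ⁅(b:G)⁻¹, (a:G)⁻¹⁆ := by
      simp [commutatorElement_def, mul_assoc]
    rw [this]
    exact commutator_mem_commutator (inv_mem b.2) (inv_mem a.2)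
  have hfpf : ∀ a : A, a ≠ 1 → ∀ v : K ⧸ H.subgroupOf K, a • v = v → v = 1 := by
    intro a ha v hv
    induction v using QuotientGroup.induction_on with
    | H k =>
    have hza : zpowers (a : G) ≤ A := zpowers_le.2 a.2
    have hfix : ∀ x ∈ zpowers (a : G), x * k * x⁻¹ * (k:G)⁻¹ ∈ H := by
      rintro x ⟨m, rfl⟩
      have h1 : (a ^ m) • (QuotientGroup.mk k : K ⧸ H.subgroupOf K) = QuotientGroup.mk k := by
        have : a ∈ MulAction.stabilizer A (QuotientGroup.mk k : K ⧸ H.subgroupOf K) := hv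
        exact zpow_mem this m
      rw [quotAction_smul_mk, QuotientGroup.eq_iff_div_mem, mem_subgroupOf] at h1
      simpa [div_eq_mul_inv] using h1
    obtain ⟨c, hc, hkc⟩ := Cfsg.Agent.S0022.result (zpowers (a:G)) K (hza.trans hAK)
      (hcop.coprime_dvd_left (card_dvd_of_le hza)) (Or.inl inferInstance) H hHK hKH (hza.trans hAH) k k.2 hfix
    have hcH : c ∈ H := by
      apply hcent a a.2 (fun h => ha (Subtype.ext h))
      refine mem_inf.2 ⟨(mem_inf.1 hc).1, ?_⟩
      exact centralizer_le (by simp) (mem_inf.1 hc).2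
    have hkH : (k : G) ∈ H := by
      have := mul_mem hcH (inv_mem hkc)
      simpa using this
    exact (QuotientGroup.eq_one_iff _).2 hkH
  let _ : CommGroup A := { (inferInstance : Group A) with mul_comm := fun a b => mul_comm' a b }
  obtain ⟨r, c, d, hr, hc, hd, hcd⟩ := exists_rank_two (A := A) hA
  have hsub := subsingleton_of_fpf' hcomm hfpf c d (mul_comm' c d) r hr hc hd hcd
  apply hne
  apply le_antisymm hHK
  intro k hk
  have : (QuotientGroup.mk ⟨k, hk⟩ : K ⧸ H.subgroupOf K) = 1 := Subsingleton.elim _ _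
  have h2 := (QuotientGroup.eq_one_iff (N := H.subgroupOf K) (⟨k, hk⟩ : K)).1 this
  exact h2

/-- Generation by centralisers: when a noncyclic abelian group A normalises K with coprime orders, K is generated by the fixed-point subgroups of the nonidentity elements of A. -/
theorem result {G : Type*} [Group G] [Finite G] (A K : Subgroup G)
    [IsMulCommutative A] (hA : ¬ IsCyclic A) (hAK : A ≤ Subgroup.normalizer (K : Set G)) (hcop : (Nat.card A).Coprime (Nat.card K)) :
    (⨆ a ∈ {a : G | a ∈ A ∧ a ≠ 1}, K ⊓ Subgroup.centralizer {a}) = K :=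
  aux A hA _ K rfl hAK hcop

end Cfsg.Agent.S0058
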