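import Cfsg.Statements.S3736
import Cfsg.Agent.Lib.Helper62.CoprimeBar
import Cfsg.Agent.Lib.Helper62.Conj
import Cfsg.Agent.Lib.Helper21.Layer
import Cfsg.Agent.Lib.Helper22.CoprimeP
import Cfsg.Agent.S0027

set_option autoImplicit false
open Cfsg

namespace Cfsg.Agent.S3736

open Cfsg.Agent.Lib.Helper62 Cfsg.Agent.Lib.Helper24
open scoped commutatorElement

/-- The Hall–Higman reduction for a minimal non-trivial action. Let B, A and P be subgroups of a finite group with P a p-group, B normalizing P, and A a normal subgroup of B of order prime to p. Suppose A does not centralize P but centralizes every proper B-invariant subgroup of P. Then [P, A] = P; P is elementary abelian or special; B acts irreducibly on P/Φ(P), that is, the only B-invariant subgroups of P containing Φ(P) are Φ(P) and P; and if p is odd then every element of P has order dividing p. -/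
theorem result {X : Type*} [Group X] [Finite X] {p : ℕ} [Fact p.Prime] (B A P : Subgroup X) (hP : IsPGroup p P) (hBP : B ≤ Subgroup.normalizer (P : Set X)) (hAB : A ≤ B) (hAn : B ≤ Subgroup.normalizer (A : Set X)) (hAp : (Nat.card A).Coprime p) (hnt : ⁅P, A⁆ ≠ ⊥) (hmin : ∀ U : Subgroup X, U < P → B ≤ Subgroup.normalizer (U : Set X) → ⁅U, A⁆ = ⊥) : ⁅P, A⁆ = P ∧ (Cfsg.IsElementaryAbelian p P ∨ Cfsg.IsSpecial p ↥P) ∧ (∀ U : Subgroup X, (frattini ↥P).map P.subtype ≤ U → U ≤ P → B ≤ Subgroup.normalizer (U : Set X) → U = (frattini ↥P).map P.subtype ∨ U = P) ∧ (p ≠ 2 → ∀ x ∈ P, x ^ p = 1) := by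
  have hAP : A ≤ Subgroup.normalizer (P : Set X) := hAB.trans hBP
  have hcop : (Nat.card A).Coprime (Nat.card P) := coprime_card_of_isPGroup hAp hP
  have hsolv : Group.IsSolvable ↥P := by
    have := hP.isNilpotent
    infer_instance
  have hle : ⁅P, A⁆ ≤ P := Subgroup.le_normalizer_iff_commutator_le_left.1 hAP
  have hP0 : P ≠ ⊥ := by
    rintro rfl
    exact hnt (Subgroup.commutator_bot_left A)
  -- (1)
  have hPA : ⁅P, A⁆ = P := by
    by_contra hne
    have h1 := hmin _ (lt_of_le_of_ne hle hne)
      ((le_inf hBP hAn).trans (normalizer_inf_le_normalizer_commutator P A))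
    rw [Cfsg.Agent.S0027.result A P hAP hcop (Or.inr hsolv)] at h1
    exact hnt h1
  set C : Subgroup X := P ⊓ Subgroup.centralizer (A : Set X) with hC
  have hminC : ∀ U : Subgroup X, U < P → B ≤ Subgroup.normalizer (U : Set X) → U ≤ C := by
    intro U hU hBU
    exact le_inf hU.le (Subgroup.commutator_eq_bot_iff_le_centralizer.mp (hmin U hU hBU))
  rw [map_subtype_frattini hP]
  set Φ : Subgroup X := frat p P with hΦ
  have hΦlt : Φ < P := frat_lt hP hP0
  have hNΦ : Subgroup.normalizer (P : Set X) ≤ Subgroup.normalizer (Φ : Set X) :=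
    normalizer_le_normalizer_frat p P
  have hΦC : Φ ≤ C := hminC Φ hΦlt (hBP.trans hNΦ)
  have hCΦ : C ≤ Φ := inf_centralizer_le_of_commutator_eq A P Φ hAP hcop
    (Subgroup.le_normalizer.trans hNΦ) (hAP.trans hNΦ) (commutator_le_frat p P) hPA
  have hΦZ : Φ ≤ Subgroup.centralizer (P : Set X) :=
    le_centralizer_of_commutator_eq hPA (Subgroup.le_normalizer.trans hNΦ) (hΦC.trans inf_le_right)
  -- commutators and `p`-th powers are central
  have hcc : ∀ u ∈ P, ∀ v ∈ P, ∀ w ∈ P, Commute ⁅u, v⁆ w := by
    intro u hu v hv w hw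
    have := hΦZ (commutator_le_frat p P (Subgroup.commutator_mem_commutator hu hv))
    rw [Subgroup.mem_centralizer_iff] at this
    exact (this w hw).symm
  have hpc : ∀ u ∈ P, ∀ w ∈ P, Commute (u ^ p) w := by
    intro u hu w hw
    have := hΦZ (pow_mem_frat p hu)
    rw [Subgroup.mem_centralizer_iff] at this
    exact (this w hw).symm
  refine ⟨hPA, ?_, ?_, ?_⟩
  · -- elementary abelian or special
    by_cases hab : ⁅P, P⁆ = ⊥
    · left
      have hcomm : IsMulCommutative ↥P := by
        rw [Subgroup.commutator_eq_bot_iff_le_centralizer] at hab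
        exact ⟨⟨fun a b => Subtype.ext ((Subgroup.mem_centralizer_iff.mp (hab b.2) a a.2))⟩⟩
      refine ⟨hcomm, ?_⟩
      have h1 := (Cfsg.Agent.S0055.result A P hAP hcop).1
      rw [hPA, ← hC, inf_eq_left.mpr (inf_le_left : C ≤ P)] at h1
      intro a ha
      have h2 := hΦC (pow_mem_frat p ha)
      rw [hC, h1, Subgroup.mem_bot] at h2
      exact h2
    · right
      set Z : Subgroup X := P ⊓ Subgroup.centralizer (P : Set X) with hZ
      have hZlt : Z < P := by
        refine lt_of_le_of_ne inf_le_left ?_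
        intro h
        apply hab
        rw [Subgroup.commutator_eq_bot_iff_le_centralizer]
        exact h.ge.trans inf_le_right
      have hBZ : B ≤ Subgroup.normalizer (Z : Set X) :=
        Cfsg.Agent.Lib.Helper22.le_normalizer_inf_centralizer hBP hBP
      have hZC : Z ≤ C := hminC Z hZlt hBZ
      have hN' : Subgroup.normalizer (P : Set X) ≤
          Subgroup.normalizer ((⁅P, P⁆ : Subgroup X) : Set X) :=
        le_trans (le_inf le_rfl le_rfl) (normalizer_inf_le_normalizer_commutator P P)
      have hCD : C ≤ ⁅P, P⁆ := inf_centralizer_le_of_commutator_eq A P ⁅P, P⁆ hAP hcop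
        (Subgroup.le_normalizer.trans hN') (hAP.trans hN') le_rfl hPA
      have hΦZ' : Φ ≤ Z := le_inf hΦlt.le hΦZ
      have e1 : Φ = Z := le_antisymm hΦZ' (hZC.trans hCΦ)
      have e2 : ⁅P, P⁆ = Z :=
        le_antisymm ((commutator_le_frat p P).trans hΦZ') (hZC.trans hCD)
      refine ⟨hP, ?_, ?_⟩
      · apply Subgroup.map_injective P.subtype_injective
        rw [map_subtype_frattini hP, Cfsg.Agent.Lib.Helper21.map_subtype_center]
        exact e1
      · apply Subgroup.map_injective P.subtype_injective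
        rw [Subgroup.map_subtype_commutator, Cfsg.Agent.Lib.Helper21.map_subtype_center]
        exact e2
  · intro U hΦU hUP hBU
    rcases eq_or_lt_of_le hUP with h | h
    · exact Or.inr h
    · exact Or.inl (le_antisymm ((hminC U h hBU).trans hCΦ) hΦU)
  · intro hp2
    set Ω : Subgroup X := Subgroup.closure {x | x ∈ P ∧ x ^ p = 1} with hΩ
    have hΩP : Ω ≤ P := by
      rw [hΩ, Subgroup.closure_le]
      exact fun x hx => hx.1
    have hBΩ : B ≤ Subgroup.normalizer (Ω : Set X) := by
      refine le_trans ?_ (Subgroup.normalizer_le_normalizer_closure _)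
      intro b hb
      rw [Subgroup.mem_set_normalizer_iff]
      intro x
      have h1 := Subgroup.mem_normalizer_iff.mp (hBP hb) x
      have h2 : (b * x * b⁻¹) ^ p = 1 ↔ x ^ p = 1 := by
        rw [conj_pow, conj_eq_one_iff]
      simp only [Set.mem_ofPred_eq, h1, h2]
    have hΩeq : Ω = P := by
      by_contra hne
      have h1 := hminC Ω (lt_of_le_of_ne hΩP hne) hBΩ
      apply hnt
      rw [Subgroup.commutator_eq_bot_iff_le_centralizer]
      apply le_centralizer_of_centralizes_omega p hp2 A hAp P hP hAP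
      intro x hx hxp
      exact (h1 (Subgroup.subset_closure ⟨hx, hxp⟩)).2
    intro x hx
    rw [← hΩeq, hΩ] at hx
    have : x ∈ P ∧ x ^ p = 1 := by
      induction hx using Subgroup.closure_induction with
      | mem x hx => exact hx
      | one => exact ⟨P.one_mem, one_pow p⟩
      | mul x y _ _ ihx ihy =>
        refine ⟨P.mul_mem ihx.1 ihy.1, ?_⟩
        rw [mul_pow_prime_of_commute p hp2 x y (hcc _ ihy.1 _ ihx.1 _ ihx.1)
          (hcc _ ihy.1 _ ihx.1 _ ihy.1) (hpc _ ihy.1 _ ihx.1), ihx.2, ihy.2, one_mul]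
      | inv x _ ih => exact ⟨P.inv_mem ih.1, by rw [inv_pow, ih.2, inv_one]⟩
    exact this.2

end Cfsg.Agent.S3736
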