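import Cfsg.Statements.S0121
import Mathlib

set_option autoImplicit false
open Cfsg

namespace Cfsg.Agent.S0121

/-- A p'-automorphism of a p-group acting trivially on a critical subgroup is trivial. -/
theorem result {G : Type*} [Group G] [Finite G] {p : ℕ} [Fact p.Prime] (hG : IsPGroup p G) (H : Subgroup G) (hH : H.Characteristic) (h1 : (frattini H).map H.subtype ≤ Subgroup.centralizer (H : Set G)) (h2 : ⁅H, (⊤ : Subgroup G)⁆ ≤ H ⊓ Subgroup.centralizer (H : Set G)) (h3 : Subgroup.centralizer (H : Set G) ≤ H) (a : MulAut G) (ha : Nat.Coprime (orderOf a) p) (h : ∀ x ∈ H, a x = x) : a = 1 := by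
  have hN : H.Normal := inferInstance
  ext x
  -- c = x⁻¹ * a x centralizes H
  have hc : x⁻¹ * a x ∈ Subgroup.centralizer (H : Set G) := by
    rw [Subgroup.mem_centralizer_iff]
    intro y hy
    have hy' : y ∈ H := hy
    have e1 : a (x * y * x⁻¹) = x * y * x⁻¹ := h _ (hN.conj_mem y hy' x)
    rw [map_mul, map_mul, map_inv, h y hy'] at e1
    -- a x * y * (a x)⁻¹ = x * y * x⁻¹
    have e2 : a x * y = x * y * x⁻¹ * a x := by
      rw [← e1]; group
    calc y * (x⁻¹ * a x) = x⁻¹ * (x * y * x⁻¹ * a x) := by group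
      _ = x⁻¹ * (a x * y) := by rw [e2]
      _ = x⁻¹ * a x * y := by group
  have hcH : x⁻¹ * a x ∈ H := h3 hc
  set c := x⁻¹ * a x with hcdef
  have hac : a c = c := h c hcH
  have hax : a x = x * c := by rw [hcdef]; group
  have hpow : ∀ k : ℕ, (a ^ k) x = x * c ^ k := by
    intro k
    induction k with
    | zero => simp
    | succ k ih =>
      rw [pow_succ', MulAut.mul_apply, ih, map_mul, map_pow, hac, hax, pow_succ', mul_assoc]
  have h4 := hpow (orderOf a)
  rw [pow_orderOf_eq_one, MulAut.one_apply] at h4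
  have h5 : c ^ orderOf a = 1 := by
    have := h4.symm
    simpa using this
  obtain ⟨k, hk⟩ := hG c
  have h6 : orderOf c ∣ orderOf a := orderOf_dvd_of_pow_eq_one h5
  have h7 : orderOf c ∣ p ^ k := orderOf_dvd_of_pow_eq_one hk
  have h8 : orderOf c = 1 := Nat.Coprime.eq_one_of_dvd
    (Nat.Coprime.coprime_dvd_left h6 (Nat.Coprime.pow_right k ha)) h7
  rw [orderOf_eq_one_iff] at h8
  rw [hax, h8, mul_one, MulAut.one_apply]

end Cfsg.Agent.S0121
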