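import Cfsg.Statements.S0120
import Cfsg.Agent.S0093
import Cfsg.Agent.S0121
import Cfsg.Agent.Lib.Helper2.Class2
import Cfsg.Agent.Lib.Helper2.TransferBasic

set_option autoImplicit false
open Cfsg

namespace Cfsg.Agent.S0120

open scoped commutatorElement
open Cfsg.Agent.Lib.Helper2

/-- For odd p, a p'-automorphism of a p-group acting trivially on the elements of order dividing p is trivial. -/
theorem result {G : Type*} [Group G] [Finite G] {p : ℕ} [Fact p.Prime] (hp : p ≠ 2) (hG : IsPGroup p G) (a : MulAut G) (ha : Nat.Coprime (orderOf a) p) (h : ∀ x : G, x ^ p = 1 → a x = x) : a = 1 := by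
  have hpp : p.Prime := Fact.out
  obtain ⟨H, hH, h1, h2, h3⟩ := Cfsg.Agent.S0093.result hG
  apply Cfsg.Agent.S0121.result hG H hH h1 h2 h3 a ha
  have hcomm : ∀ u ∈ H, ∀ v ∈ H, ⁅u, v⁆ ∈ Subgroup.centralizer (H : Set G) := by
    intro u hu v _
    exact (h2 (Subgroup.commutator_mem_commutator hu (Subgroup.mem_top v))).2
  have hpow : ∀ u ∈ H, u ^ p ∈ Subgroup.centralizer (H : Set G) := by
    intro u hu
    apply h1
    have := pow_p_mem_frattini (hG.to_subgroup H) ⟨u, hu⟩
    exact Subgroup.mem_map.mpr ⟨_, this, rfl⟩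
  have hcen : ∀ c ∈ Subgroup.centralizer (H : Set G), ∀ u ∈ H, Commute c u := by
    intro c hc u hu
    exact ((Subgroup.mem_centralizer_iff.mp hc) u hu).symm
  have hcp : ∀ u ∈ H, ∀ v ∈ H, ⁅u, v⁆ ^ p = 1 := by
    intro u hu v hv
    rw [← commutator_pow_left_class2 (hcen _ (hcomm u hu v hv) u hu) p,
      commutatorElement_eq_one_iff_commute]
    exact hcen _ (hpow u hu) v hv
  have key : ∀ n : ℕ, ∀ x ∈ H, x ^ (p ^ n) = 1 → a x = x := by
    intro n
    induction n with
    | zero =>
      intro x _ hx
      rw [pow_zero, pow_one] at hx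
      rw [hx, map_one]
    | succ n ih =>
      intro x hx hxp
      have hax : a x ∈ H := Cfsg.Agent.S0093.char_mem hH a hx
      set y := x⁻¹ * a x with hy
      have hyH : y ∈ H := H.mul_mem (H.inv_mem hx) hax
      have haxy : a x = x * y := by rw [hy]; group
      have e1 : a (x ^ p) = x ^ p := by
        apply ih _ (H.pow_mem hx p)
        rw [← pow_mul, ← pow_succ']
        exact hxp
      have e2 : (x * y) ^ p = x ^ p * y ^ p :=
        mul_pow_prime_class2 hpp hp (hcen _ (hcomm y hyH x hx) x hx) (hcen _ (hcomm y hyH x hx) y hyH)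
          (hcp y hyH x hx)
      have e3 : y ^ p = 1 := by
        rw [map_pow, haxy, e2] at e1
        simpa using e1
      have hay : a y = y := h y e3
      have hpw : ∀ k : ℕ, (a ^ k) x = x * y ^ k := by
        intro k
        induction k with
        | zero => simp
        | succ k ih =>
          rw [pow_succ', MulAut.mul_apply, ih, map_mul, map_pow, hay, haxy, pow_succ', mul_assoc]
      have h4 := hpw (orderOf a)
      rw [pow_orderOf_eq_one, MulAut.one_apply] at h4
      have h5 : y ^ orderOf a = 1 := by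
        have := h4.symm
        simpa using this
      have h6 : y = 1 := eq_one_of_pow_eq_one_of_coprime h5 e3 ha
      rw [haxy, h6, mul_one]
  intro x hx
  obtain ⟨k, hk⟩ := hG x
  exact key k x hx hk

end Cfsg.Agent.S0120
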