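import Mathlib
import Cfsg.Statements.S5185
import Cfsg.Agent.Lib.Helper30.AutElemAb
import Cfsg.Agent.Lib.Helper5.SL2SylowP
import Cfsg.Agent.Lib.Helper5.GLSylowP

set_option autoImplicit false
open Cfsg

universe u

namespace Cfsg.Agent.S5185

open Matrix

/-- A group with a strongly `p`-embedded subgroup has no normal Sylow `p`-subgroup. -/
theorem not_normal_of_stronglyPEmbedded {X : Type*} [Group X] [Finite X] (p : ℕ) [Fact p.Prime]
    (E : Subgroup X) (hE : Cfsg.IsStronglyPEmbedded p E) (P₀ : Sylow p X)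
    (hn : (P₀ : Subgroup X).Normal) : False := by
  obtain ⟨hdvd, hne, P, hP⟩ := hE
  have hsub : Subsingleton (Sylow p X) := (Sylow.unique_of_normal P₀ hn).instSubsingleton
  have hPP : P = P₀ := Subsingleton.elim _ _
  subst hPP
  apply hne
  rw [eq_top_iff]
  refine le_trans ?_ hP
  have hrank : ¬ PRankLE p (1 - 1) (P : Subgroup X) := by
    intro h
    have hdvd' : p ∣ Nat.card (P : Subgroup X) := by
      exact P.dvd_card_of_dvd_card hdvd
    obtain ⟨x, hx⟩ := exists_prime_orderOf_dvd_card' p hdvd'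
    have h1 := h (Subgroup.zpowers x) inferInstance (by
      intro a ha
      obtain ⟨k, rfl⟩ := Subgroup.mem_zpowers_iff.mp ha
      have hxp : x ^ p = 1 := by
        have := pow_orderOf_eq_one x
        rwa [hx] at this
      rw [← zpow_natCast, ← _root_.zpow_mul, mul_comm, _root_.zpow_mul, zpow_natCast, hxp,
        _root_.one_zpow])
    rw [Nat.card_zpowers, hx] at h1
    have := (Fact.out (p := p.Prime)).one_lt
    simp at h1
    omega
  have h2 : Subgroup.normalizer ((P : Subgroup X) : Set X) ≤ kGeneratedCore p 1 (P : Subgroup X) := by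
    unfold kGeneratedCore
    exact le_iSup (fun Q : {Q : Subgroup X // Q ≤ (P : Subgroup X) ∧ ¬ PRankLE p (1 - 1) Q} =>
      Subgroup.normalizer ((Q : Subgroup X) : Set X)) ⟨(P : Subgroup X), le_rfl, hrank⟩
  refine le_trans ?_ h2
  rw [Subgroup.normalizer_eq_top]

theorem mem_range_toGL_of_pElement (p : ℕ) [Fact p.Prime] (g : GL (Fin 2) (ZMod p)) (k : ℕ)
    (hg : g ^ (p ^ k) = 1) :
    g ∈ (Matrix.SpecialLinearGroup.toGL : SpecialLinearGroup (Fin 2) (ZMod p) →* GL (Fin 2) (ZMod p)).range := by
  have hp : p.Prime := Fact.out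
  have h1 : (Matrix.GeneralLinearGroup.det g) ^ (p ^ k) = 1 := by
    rw [← map_pow, hg, map_one]
  have h2 : (Matrix.GeneralLinearGroup.det g) ^ (p - 1) = 1 := ZMod.units_pow_card_sub_one_eq_one p _
  have h3 : orderOf (Matrix.GeneralLinearGroup.det g) = 1 := by
    have hco : Nat.Coprime (p ^ k) (p - 1) := by
      apply Nat.Coprime.pow_left
      have : Nat.Coprime (p - 1) p := by
        have h := Nat.coprime_self_sub_right (n := p) (m := 1) hp.one_lt.le
        rw [Nat.coprime_comm]
        exact h.mpr (Nat.coprime_one_right p)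
      exact this.symm
    exact Nat.eq_one_of_dvd_coprimes hco (orderOf_dvd_of_pow_eq_one h1) (orderOf_dvd_of_pow_eq_one h2)
  have h4 : Matrix.GeneralLinearGroup.det g = 1 := orderOf_eq_one_iff.mp h3
  have h5 : (g : Matrix (Fin 2) (Fin 2) (ZMod p)).det = 1 := by
    have := congrArg Units.val h4
    simpa using this
  exact ⟨⟨(g : Matrix (Fin 2) (Fin 2) (ZMod p)), h5⟩, by ext; rfl⟩

theorem exists_sl2_of_two_sylows {Γ : Type*} [Group Γ] (p : ℕ) [Fact p.Prime]
    (φ : Γ ≃* GL (Fin 2) (ZMod p)) (A : Subgroup Γ) (P₁ P₂ : Sylow p A) (hne : P₁ ≠ P₂) :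
    ∃ K : Subgroup ↥A, Nonempty (↥K ≃* SpecialLinearGroup (Fin 2) (ZMod p)) := by
  have hp : p.Prime := Fact.out
  have hfinΓ : Finite Γ := Finite.of_equiv _ φ.symm.toEquiv
  obtain ⟨j, hj⟩ : ∃ j : SpecialLinearGroup (Fin 2) (ZMod p) →* Γ,
      j = φ.symm.toMonoidHom.comp Matrix.SpecialLinearGroup.toGL := ⟨_, rfl⟩
  have hjinj : Function.Injective j := by
    rw [hj]
    exact φ.symm.injective.comp Matrix.SpecialLinearGroup.toGL_injective
  -- p-elements lie in the range of j
  have hrange : ∀ x : Γ, ∀ k : ℕ, x ^ (p ^ k) = 1 → x ∈ j.range := by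
    intro x k hx
    have h1 : (φ x) ^ (p ^ k) = 1 := by rw [← map_pow, hx, map_one]
    obtain ⟨s, hs⟩ := mem_range_toGL_of_pElement p (φ x) k h1
    refine ⟨s, ?_⟩
    rw [hj]
    show φ.symm (Matrix.SpecialLinearGroup.toGL s) = x
    rw [hs, MulEquiv.symm_apply_apply]
  have key : ∀ P : Sylow p A, (P : Subgroup A) ≠ ⊥ →
      ∃ S : Sylow p (SpecialLinearGroup (Fin 2) (ZMod p)),
        (S : Subgroup _).map j = (P : Subgroup A).map A.subtype := by
    intro P hP
    have hPp : IsPGroup p ((P : Subgroup A).map A.subtype) := P.isPGroup'.map _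
    have hle : (P : Subgroup A).map A.subtype ≤ j.range := by
      intro x hx
      obtain ⟨k, hk⟩ := hPp ⟨x, hx⟩
      have hk' : x ^ (p ^ k) = 1 := by
        have := congrArg Subtype.val hk
        simpa using this
      exact hrange x k hk'
    have hR : IsPGroup p (((P : Subgroup A).map A.subtype).comap j) :=
      hPp.comap_of_injective j hjinj
    obtain ⟨S, hS⟩ := hR.exists_le_sylow
    have hmap : (((P : Subgroup A).map A.subtype).comap j).map j = (P : Subgroup A).map A.subtype := by
      rw [Subgroup.map_comap_eq, inf_eq_right.mpr hle]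
    have hRne : ((P : Subgroup A).map A.subtype).comap j ≠ ⊥ := by
      intro h
      rw [h, Subgroup.map_bot] at hmap
      apply hP
      exact (Subgroup.map_eq_bot_iff_of_injective _ A.subtype_injective).mp hmap.symm
    -- card S divides p
    have hScard : Nat.card S ∣ p := by
      have h1 : IsPGroup p ((S : Subgroup _).map
          (Matrix.SpecialLinearGroup.toGL : SpecialLinearGroup (Fin 2) (ZMod p) →* GL (Fin 2) (ZMod p))) :=
        S.isPGroup'.map _
      obtain ⟨T, hT⟩ := h1.exists_le_sylow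
      have h2 := Cfsg.Agent.Lib.Helper5.card_sylow_char_GL (F := ZMod p) p 2 T
      have h3 := Subgroup.card_dvd_of_le hT
      rw [Subgroup.card_map_of_injective Matrix.SpecialLinearGroup.toGL_injective] at h3
      have h4 : Nat.card (T : Subgroup (GL (Fin 2) (ZMod p))) = p := by
        rw [show Nat.card (T : Subgroup (GL (Fin 2) (ZMod p))) = Nat.card T from rfl, h2, ZMod.card]
        norm_num
      rw [h4] at h3
      exact h3
    have hRcard : Nat.card (((P : Subgroup A).map A.subtype).comap j : Subgroup _) ≠ 1 := by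
      intro h
      exact hRne (Subgroup.card_eq_one.mp h)
    have hRS : ((P : Subgroup A).map A.subtype).comap j = (S : Subgroup _) := by
      apply Subgroup.eq_of_le_of_card_ge hS
      have h1 := Subgroup.card_dvd_of_le hS
      have h2 := (Nat.dvd_prime hp).mp (h1.trans hScard)
      rcases h2 with h2 | h2
      · exact absurd h2 hRcard
      · rw [h2]
        exact Nat.le_of_dvd hp.pos hScard
    exact ⟨S, by rw [← hRS, hmap]⟩
  have hne1 : (P₁ : Subgroup A) ≠ ⊥ := by
    intro h
    apply hne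
    have := P₁.is_maximal' P₂.isPGroup' (by rw [h]; exact bot_le)
    exact Sylow.ext this.symm
  have hne2 : (P₂ : Subgroup A) ≠ ⊥ := by
    intro h
    apply hne
    have := P₂.is_maximal' P₁.isPGroup' (by rw [h]; exact bot_le)
    exact Sylow.ext this
  obtain ⟨S₁, hS₁⟩ := key P₁ hne1
  obtain ⟨S₂, hS₂⟩ := key P₂ hne2
  have hS12 : S₁ ≠ S₂ := by
    intro h
    apply hne
    rw [h, hS₂] at hS₁
    exact Sylow.ext (Subgroup.map_injective A.subtype_injective hS₁.symm)
  have htop := Cfsg.Agent.Lib.Helper5.sl2_sylow_sup_eq_top p S₁ S₂ hS12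
  have hjA : j.range ≤ A := by
    rw [MonoidHom.range_eq_map, ← htop, Subgroup.map_sup, hS₁, hS₂]
    exact sup_le (Subgroup.map_subtype_le _) (Subgroup.map_subtype_le _)
  exact ⟨j.range.subgroupOf A,
    ⟨(Subgroup.subgroupOfEquivOfLe hjA).trans (MonoidHom.ofInjective hjinj).symm⟩⟩

theorem result {Ω : Type u} [Group Ω] {S : Subgroup Ω} [Finite S] (p : ℕ) [Fact p.Prime] (hS : IsPGroup p S)
    (F : Cfsg.FusionSystem S) (hF : F.IsSaturated p) (H : Subgroup Ω) (hH : F.IsEssential p H) (hcard : Nat.card H = p ^ 2) :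
    Cfsg.IsElementaryAbelian p H ∧
      ∃ K : Subgroup ↥(F.autGroup H), Nonempty (↥K ≃* Matrix.SpecialLinearGroup (Fin 2) (ZMod p)) := by
  have hp : p.Prime := Fact.out
  obtain ⟨_, _, hN, E, hE⟩ := hH
  have hfinH : Finite H := Nat.finite_of_card_ne_zero (by rw [hcard]; exact (pow_pos hp.pos 2).ne')
  have hfinAut : Finite (MulAut H) :=
    Finite.of_injective (fun e : MulAut H => (e : H → H)) DFunLike.coe_injective
  -- two distinct Sylow subgroups
  have htwo : ∃ P₁ P₂ : Sylow p (F.autGroup H), P₁ ≠ P₂ := by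
    by_contra hcon
    push Not at hcon
    have hsub : Subsingleton (Sylow p (F.autGroup H)) := ⟨hcon⟩
    obtain ⟨P₀⟩ : Nonempty (Sylow p (F.autGroup H)) := Sylow.nonempty
    have hn : (P₀ : Subgroup (F.autGroup H)).Normal := Sylow.normal_of_subsingleton P₀
    have hsurj := QuotientGroup.mk'_surjective ((Inn H).subgroupOf (F.autGroup H))
    apply not_normal_of_stronglyPEmbedded p E hE (P₀.mapSurjective hsurj)
    rw [Sylow.coe_mapSurjective]
    exact hn.map _ hsurj
  obtain ⟨P₁, P₂, hne⟩ := htwo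
  have hcommH : IsMulCommutative H := IsPGroup.isMulCommutative_of_card_eq_prime_sq hcard
  have hncyc : ¬ IsCyclic H := by
    intro hc
    -- MulAut H is commutative, so every subgroup is normal
    have hcomm : ∀ a b : MulAut H, a * b = b * a := by
      intro a b
      apply (IsCyclic.mulAutMulEquiv H).injective
      rw [map_mul, map_mul, mul_comm]
    have hn : (P₁ : Subgroup (F.autGroup H)).Normal := by
      constructor
      intro n hn g
      have : g * n * g⁻¹ = n := by
        apply Subtype.ext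
        show (g : MulAut H) * n * (g : MulAut H)⁻¹ = n
        rw [hcomm (g : MulAut H) n, mul_assoc, mul_inv_cancel, mul_one]
      rw [this]; exact hn
    have := (Sylow.unique_of_normal P₁ hn).instSubsingleton
    exact hne (Subsingleton.elim _ _)
  have hexp : ∀ x : H, x ^ p = 1 := by
    intro x
    have h1 : orderOf x ∣ p ^ 2 := hcard ▸ orderOf_dvd_natCard x
    obtain ⟨k, hk, hk'⟩ := (Nat.dvd_prime_pow hp).mp h1
    have hk2 : k ≠ 2 := by
      intro h
      apply hncyc
      apply isCyclic_of_orderOf_eq_card x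
      rw [hk', h, hcard]
    have hk1 : k ≤ 1 := by omega
    have h2 : orderOf x ∣ p := by
      rw [hk']
      calc p ^ k ∣ p ^ 1 := pow_dvd_pow p hk1
        _ = p := pow_one p
    exact orderOf_dvd_iff_pow_eq_one.mp h2
  refine ⟨⟨hcommH, ?_⟩, ?_⟩
  · intro a ha
    have := hexp ⟨a, ha⟩
    have h2 := congrArg Subtype.val this
    simpa using h2
  · obtain ⟨φ⟩ := Cfsg.Agent.Lib.Helper30.nonempty_mulAut_equiv_GL' H p 2
      (fun x y => mul_comm' x y) hexp hcard
    exact exists_sl2_of_two_sylows p φ (F.autGroup H) P₁ P₂ hne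

end Cfsg.Agent.S5185
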