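import Cfsg.Statements.S0944
import Cfsg.Agent.Lib.Helper3.Eigen
import Cfsg.Agent.Lib.Helper74.CharMore

set_option autoImplicit false
open Cfsg

namespace Cfsg.Agent.S0944

open Cfsg.Agent.Lib.Helper74

/-- The value of a character at an element of square one is an integer congruent to the degree
modulo 2. -/
theorem value_of_sq_eq_one {G : Type*} [Group G] [Finite G] {χ : G → ℂ} (hχ : IsCharacter G χ)
    (u : G) (hu : u ^ 2 = 1) :
    ∃ n : ℤ, χ u = (n : ℂ) ∧ (2 : ℤ) ∣ (Cfsg.charDegree χ : ℤ) - n := by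
  obtain ⟨d, ρ, rfl⟩ := hχ
  obtain ⟨b, μ, h1, -, h3⟩ := Cfsg.Agent.Lib.Helper3.exists_eigen ρ u
  have hμ : ∀ i, μ i = 1 ∨ μ i = -1 := by
    intro i
    have h2 : μ i ^ 2 = 1 := by
      obtain ⟨k, hk⟩ := orderOf_dvd_of_pow_eq_one hu
      rw [hk, pow_mul, h1, one_pow]
    exact sq_eq_one_iff.1 h2
  have hs : ∀ i, ∃ s : ℤ, μ i = (s : ℂ) ∧ (2 : ℤ) ∣ 1 - s := by
    intro i
    rcases hμ i with h | h
    · exact ⟨1, by simp [h], by simp⟩
    · exact ⟨-1, by simp [h], by norm_num⟩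
  choose s hs1 hs2 using hs
  refine ⟨∑ i, s i, ?_, ?_⟩
  · have := h3 1
    simp only [zpow_one] at this
    rw [this]
    push_cast
    exact Finset.sum_congr rfl fun i _ => hs1 i
  · rw [charDegree_rep]
    have : ((d : ℕ) : ℤ) - ∑ i, s i = ∑ i, (1 - s i) := by
      rw [Finset.sum_sub_distrib]
      simp
    rw [this]
    exact Finset.dvd_sum fun i _ => hs2 i

/-- Let χ be an irreducible character of the finite group G and u an involution. Then χ u is a rational integer n with n ≡ χ 1 (mod 2). -/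
theorem result {G : Type*} [Group G] [Finite G] (χ : Cfsg.IrrCharacter G) (u : G) (hu : orderOf u = 2) : ∃ n : ℤ, (χ : G → ℂ) u = (n : ℂ) ∧ (2 : ℤ) ∣ (Cfsg.charDegree (χ : G → ℂ) : ℤ) - n := by
  exact value_of_sq_eq_one (IsIrrCharacter.isCharacter χ.2) u (by rw [← hu]; exact pow_orderOf_eq_one u)

end Cfsg.Agent.S0944
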