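import Cfsg.Statements.S4479
import Cfsg.Agent.S0942
import Cfsg.Agent.Lib.Lead.Cores
import Cfsg.Agent.Lib.Helper74.KleinFour
import Cfsg.Agent.Lib.Helper78.WeakOrth

set_option autoImplicit false
set_option linter.style.haveILetI false
set_option linter.unusedSectionVars false
open Cfsg

namespace Cfsg.Agent.S4479

open Cfsg.Agent.Lib.Helper74 Cfsg.Agent.Lib.Helper78
open scoped ComplexConjugate

section common

variable {G : Type*} [Group G] [Finite G] (M : Ideal Cfsg.AlgInt) (hM : Cfsg.IsPModular 2 M)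
  (P : Sylow 2 G) [hK : IsKleinFour (P : Subgroup G)]
  (hone : ∀ s t : G, orderOf s = 2 → orderOf t = 2 → IsConj s t)

include hK in
/-- odd order elements of `C(J)` lie in `O(C(J))` -/
theorem mem_centralizerPPrimeCore {J : G} (hJ : J ∈ (P : Subgroup G)) (hJ1 : J ≠ 1) {y : G}
    (hyJ : y * J = J * y) (hy : Odd (orderOf y)) : y ∈ centralizerPPrimeCore 2 J := by
  obtain ⟨K, hKn, hKodd, -, hKmem⟩ := klein_centralizer_complement P hJ hJ1
  have hle : K ≤ pPrimeCore 2 (Subgroup.centralizer ({J} : Set G)) :=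
    Cfsg.Agent.Lib.Lead.le_pPrimeCore hKn (Nat.coprime_two_right.2 hKodd)
  refine ⟨⟨y, Subgroup.mem_centralizer_singleton_iff.2 hyJ⟩, hle (hKmem _ ?_), rfl⟩
  rw [← Subgroup.orderOf_coe]
  exact hy

include hM hK hone in
/-- characters of the principal block are constant on the elements of even order -/
theorem value_of_even {J : G} (hJ : J ∈ (P : Subgroup G)) (hJ1 : J ≠ 1) (χ : IrrCharacter G)
    (hχ : χ ∈ principalBlock M G) {w : G} (hw : Even (orderOf w)) :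
    (χ : G → ℂ) w = (χ : G → ℂ) J := by
  haveI : Fact (Nat.Prime 2) := ⟨Nat.prime_two⟩
  have hJJ : J * J = 1 := klein_mul_self P hJ
  have hJo : orderOf J = 2 := orderOf_eq_prime (by rw [pow_two]; exact hJJ) hJ1
  have hodd := klein_half_order_odd P hw
  have hpos := orderOf_pos w
  have hz : orderOf (w ^ (orderOf w / 2)) = 2 := by
    obtain ⟨m, hm⟩ := hw
    have hm2 : orderOf w / 2 = m := by omega
    rw [hm2, orderOf_pow_of_dvd (by omega) (Dvd.intro _ (by omega : m * 2 = orderOf w))]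
    apply Nat.div_eq_of_eq_mul_left (by omega)
    omega
  obtain ⟨g, hg⟩ := isConj_iff.1 (hone _ J hz hJo)
  -- replace `w` by its conjugate
  obtain ⟨w', hw'⟩ : ∃ w', w' = g * w * g⁻¹ := ⟨_, rfl⟩
  have hχw : (χ : G → ℂ) w = (χ : G → ℂ) w' := by
    rw [hw']; exact (irr_isClassFunction χ w g).symm
  have hpow : w' ^ (orderOf w / 2) = J := by rw [hw', conj_pow, hg]
  have hcomm : w' * J = J * w' := by rw [← hpow, ← pow_succ', ← pow_succ]
  have hyJ : (J * w') * J = J * (J * w') := by rw [mul_assoc, hcomm]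
  have hyodd : Odd (orderOf (J * w')) := by
    have h1 : (J * w') ^ (orderOf w / 2) = 1 := by
      have hc : Commute J w' := hcomm.symm
      rw [hc.mul_pow, hpow]
      obtain ⟨r, hr⟩ := hodd
      rw [hr, pow_succ, pow_mul, pow_two, hJJ, one_pow, one_mul, hJJ]
    exact Odd.of_dvd_nat hodd (orderOf_dvd_of_pow_eq_one h1)
  have h942 := Cfsg.Agent.S0942.result 2 M hM J ⟨1, by simpa using hJo⟩ (J * w')
    (mem_centralizerPPrimeCore P hJ hJ1 hyJ hyodd) χ hχ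
  rw [← mul_assoc, hJJ, one_mul] at h942
  rw [hχw, h942]

include hM hK hone in
/-- The column of `J` in the principal block, paired with an arbitrary column. -/
theorem psi_eq {J : G} (hJ : J ∈ (P : Subgroup G)) (hJ1 : J ≠ 1) (w : G) :
    ∑ᶠ χ ∈ principalBlock M G, (χ : G → ℂ) J * (χ : G → ℂ) w =
      if Even (orderOf w) then ∑ᶠ χ ∈ principalBlock M G, (χ : G → ℂ) J ^ 2 else 0 := by
  haveI := Fintype.ofFinite G
  have hJJ : J * J = 1 := klein_mul_self P hJ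
  have hJo : orderOf J = 2 := orderOf_eq_prime (by rw [pow_two]; exact hJJ) hJ1
  split_ifs with hw
  · refine finsum_mem_congr rfl fun χ hχ => ?_
    rw [value_of_even M hM P hone hJ hJ1 χ hχ hw, pow_two]
  · have h1 := weak_block_orthogonality hM (isPBlock_principalBlock (G := G)) w J
      (by rwa [← even_iff_two_dvd]) (by rw [hJo])
    rw [← h1]
    refine finsum_mem_congr rfl fun χ _ => ?_
    have hJinv : J⁻¹ = J := inv_eq_of_mul_eq_one_left hJJ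
    rw [← irr_inv, hJinv, mul_comm]

/-- the double sum of an irreducible character over pairs of conjugates of `J` -/
theorem double_sum [Fintype G] (J : G) (χ : IrrCharacter G) :
    ∑ x : G, ∑ y : G, classInd J x * classInd J y * (χ : G → ℂ) (x * y) =
      ((Subgroup.centralizer ({J} : Set G)).index : ℂ) ^ 2 * (χ : G → ℂ) J ^ 2 / (χ : G → ℂ) 1 := by
  have h1 := omega_conv χ.2 (classInd J) (classInd_isClassFunction J)
  rw [omega_classInd (irr_isClassFunction χ)] at h1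
  unfold omega centralChar at h1
  rw [sum_conv_mul] at h1
  have h0 := irr_one_ne_zero χ
  field_simp at h1
  field_simp
  linear_combination h1

include hM hK hone in
theorem core_identity {J : G} (hJ : J ∈ (P : Subgroup G)) (hJ1 : J ≠ 1) :
    ((Subgroup.centralizer ({J} : Set G)).index : ℂ) ^ 2 *
      ∑ᶠ χ ∈ principalBlock M G, (χ : G → ℂ) J ^ 3 / (χ : G → ℂ) 1 =
    (∑ᶠ χ ∈ principalBlock M G, (χ : G → ℂ) J ^ 2) *
      (Nat.card {uv : G × G // orderOf uv.1 = 2 ∧ orderOf uv.2 = 2 ∧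
        Even (orderOf (uv.1 * uv.2))} : ℂ) := by
  classical
  haveI := Fintype.ofFinite G
  have hJJ : J * J = 1 := klein_mul_self P hJ
  have hJo : orderOf J = 2 := orderOf_eq_prime (by rw [pow_two]; exact hJJ) hJ1
  have hind : ∀ x : G, classInd J x = if orderOf x = 2 then 1 else 0 := by
    intro x
    unfold classInd
    have : IsConj J x ↔ orderOf x = 2 := by
      constructor
      · intro h
        obtain ⟨g, rfl⟩ := isConj_iff.1 h
        rw [orderOf_conj', hJo]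
      · intro h; exact hone J x hJo h
    simp only [this]
  set c₀ := ∑ᶠ χ ∈ principalBlock M G, (χ : G → ℂ) J ^ 2 with hc₀
  have hL : ((Subgroup.centralizer ({J} : Set G)).index : ℂ) ^ 2 *
      ∑ᶠ χ ∈ principalBlock M G, (χ : G → ℂ) J ^ 3 / (χ : G → ℂ) 1
      = ∑ x : G, ∑ y : G, classInd J x * classInd J y *
          ∑ᶠ χ ∈ principalBlock M G, (χ : G → ℂ) J * (χ : G → ℂ) (x * y) := by
    rw [finsum_mem_irr, Finset.mul_sum]
    have hxy : ∀ x y : G, classInd J x * classInd J y *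
        ∑ᶠ χ ∈ principalBlock M G, (χ : G → ℂ) J * (χ : G → ℂ) (x * y)
        = ∑ χ : IrrCharacter G, if χ ∈ principalBlock M G then
            (χ : G → ℂ) J * (classInd J x * classInd J y * (χ : G → ℂ) (x * y)) else 0 := by
      intro x y
      rw [finsum_mem_irr, Finset.mul_sum]
      refine Finset.sum_congr rfl fun χ _ => ?_
      split_ifs <;> ring
    simp only [hxy]
    rw [Finset.sum_congr rfl (fun x _ => Finset.sum_comm), Finset.sum_comm]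
    refine Finset.sum_congr rfl fun χ _ => ?_
    split_ifs with h
    · simp only [← Finset.mul_sum]
      rw [double_sum]
      ring
    · simp
  rw [hL]
  simp only [psi_eq M hM P hone hJ hJ1, ← hc₀]
  rw [Nat.card_eq_fintype_card, Fintype.card_subtype, Finset.card_filter, Nat.cast_sum,
    Finset.mul_sum, Fintype.sum_prod_type]
  refine Finset.sum_congr rfl fun x _ => Finset.sum_congr rfl fun y _ => ?_
  rw [hind, hind]
  by_cases h1 : orderOf x = 2 <;> by_cases h2 : orderOf y = 2 <;>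
    by_cases h3 : Even (orderOf (x * y)) <;> simp [h1, h2, h3]

end common

/-- expansion of a sum over a principal block with four explicitly given members -/
theorem finsum_block4 {G : Type*} [Group G] [Finite G] (M : Ideal Cfsg.AlgInt)
    (χ₁ χ₂ χ₃ : Cfsg.IrrCharacter G)
    (hB : Cfsg.principalBlock M G = {χ : Cfsg.IrrCharacter G | (χ : G → ℂ) = (fun _ => 1) ∨ χ = χ₁ ∨
      χ = χ₂ ∨ χ = χ₃})
    (hdist : (χ₁ : G → ℂ) ≠ (fun _ => 1) ∧ (χ₂ : G → ℂ) ≠ (fun _ => 1) ∧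
      (χ₃ : G → ℂ) ≠ (fun _ => 1) ∧ χ₁ ≠ χ₂ ∧ χ₁ ≠ χ₃ ∧ χ₂ ≠ χ₃) (f : IrrCharacter G → ℂ) :
    ∑ᶠ χ ∈ principalBlock M G, f χ = f (trivIrr G) + f χ₁ + f χ₂ + f χ₃ := by
  classical
  obtain ⟨h1, h2, h3, h12, h13, h23⟩ := hdist
  have ht : ∀ χ : IrrCharacter G, (χ : G → ℂ) = (fun _ => 1) ↔ χ = trivIrr G := by
    intro χ
    constructor
    · intro h; exact Subtype.ext h
    · intro h; rw [h]; rfl
  have hset : principalBlock M G = ↑({trivIrr G, χ₁, χ₂, χ₃} : Finset (IrrCharacter G)) := by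
    rw [hB]
    ext χ
    simp [ht]
  rw [hset, finsum_mem_coe_finset, Finset.sum_insert, Finset.sum_insert, Finset.sum_insert,
    Finset.sum_singleton]
  · ring
  · simpa using h23
  · simp only [Finset.mem_insert, Finset.mem_singleton, not_or]
    exact ⟨h12, h13⟩
  · simp only [Finset.mem_insert, Finset.mem_singleton, not_or]
    refine ⟨fun h => h1 ((ht χ₁).2 h.symm), fun h => h2 ((ht χ₂).2 h.symm),
      fun h => h3 ((ht χ₃).2 h.symm)⟩

/-- the numerical data extracted from the character theory -/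
theorem data {G : Type*} [Group G] [Finite G] (M : Ideal Cfsg.AlgInt) (hM : Cfsg.IsPModular 2 M) (g₀ : ℕ) (hg₀ : Odd g₀) (hG : Nat.card G = 4 * g₀) (hnc : ¬ ∃ N : Subgroup G, N.Normal ∧ Nat.card N = g₀) (P : Sylow 2 G) (J : G) (hJ : J ∈ (P : Subgroup G)) (hJ2 : orderOf J = 2) (χ₁ χ₂ χ₃ : Cfsg.IrrCharacter G) (ε₁ ε₂ ε₃ : ℤ) (hB : Cfsg.principalBlock M G = {χ : Cfsg.IrrCharacter G | (χ : G → ℂ) = (fun _ => 1) ∨ χ = χ₁ ∨ χ = χ₂ ∨ χ = χ₃}) (hdist : (χ₁ : G → ℂ) ≠ (fun _ => 1) ∧ (χ₂ : G → ℂ) ≠ (fun _ => 1) ∧ (χ₃ : G → ℂ) ≠ (fun _ => 1) ∧ χ₁ ≠ χ₂ ∧ χ₁ ≠ χ₃ ∧ χ₂ ≠ χ₃) (hval : (χ₁ : G → ℂ) J = ε₁ ∧ (χ₂ : G → ℂ) J = ε₂ ∧ (χ₃ : G → ℂ) J = ε₃) :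
    ∃ k r : ℕ, 0 < k ∧ 0 < r ∧ Nat.card G = k * Nat.card (Subgroup.centralizer ({J} : Set G)) ∧
      Nat.card (Subgroup.centralizer ({J} : Set G))
        = r * Nat.card (Subgroup.centralizer ((P : Subgroup G) : Set G)) ∧
      (k : ℚ) ^ 2 * (1 + (ε₁ : ℚ) ^ 3 / (Cfsg.charDegree (χ₁ : G → ℂ) : ℚ)
        + (ε₂ : ℚ) ^ 3 / (Cfsg.charDegree (χ₂ : G → ℂ) : ℚ)
        + (ε₃ : ℚ) ^ 3 / (Cfsg.charDegree (χ₃ : G → ℂ) : ℚ))
        = (1 + (ε₁ : ℚ) ^ 2 + (ε₂ : ℚ) ^ 2 + (ε₃ : ℚ) ^ 2) * (k * (2 * (r : ℚ) ^ 2)) ∧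
      1 + (ε₁ : ℚ) * (Cfsg.charDegree (χ₁ : G → ℂ) : ℚ) + (ε₂ : ℚ) * (Cfsg.charDegree (χ₂ : G → ℂ) : ℚ)
        + (ε₃ : ℚ) * (Cfsg.charDegree (χ₃ : G → ℂ) : ℚ) = 0 := by
  classical
  obtain ⟨hK, hone⟩ := klein_of_no_complement g₀ hg₀ hG hnc P
  haveI := hK
  have hJ1 : J ≠ 1 := by rintro rfl; simp at hJ2
  obtain ⟨hv1, hv2, hv3⟩ := hval
  have hcore := core_identity M hM P hone hJ hJ1
  rw [klein_total_count P hone hJ hJ1, finsum_block4 M χ₁ χ₂ χ₃ hB hdist,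
    finsum_block4 M χ₁ χ₂ χ₃ hB hdist] at hcore
  have hpsi := psi_eq M hM P hone hJ hJ1 1
  rw [if_neg (by simp), finsum_block4 M χ₁ χ₂ χ₃ hB hdist] at hpsi
  simp only [hv1, hv2, hv3, irr_one_eq] at hcore hpsi
  have ht : ∀ g : G, (trivIrr G : G → ℂ) g = 1 := fun g => rfl
  have htd : ((charDegree (trivIrr G : G → ℂ) : ℕ) : ℂ) = 1 := by rw [← irr_one_eq]; rfl
  simp only [ht, htd] at hcore hpsi
  have hle : Subgroup.centralizer ((P : Subgroup G) : Set G) ≤ Subgroup.centralizer ({J} : Set G) :=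
    Subgroup.centralizer_le (by
      intro x hx
      rw [Set.mem_singleton_iff] at hx
      rw [hx]; exact hJ)
  refine ⟨(Subgroup.centralizer ({J} : Set G)).index,
    (Subgroup.centralizer ((P : Subgroup G) : Set G)).relIndex (Subgroup.centralizer ({J} : Set G)),
    Nat.pos_of_ne_zero Subgroup.index_ne_zero_of_finite, ?_,
    (Subgroup.index_mul_card _).symm, ?_, ?_, ?_⟩
  · apply Nat.pos_of_ne_zero
    exact Subgroup.index_ne_zero_of_finite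
  · rw [Subgroup.relIndex, ← Nat.card_congr (Subgroup.subgroupOfEquivOfLe hle).toEquiv,
      Subgroup.index_mul_card]
  · have := hcore
    push_cast at this
    norm_num at this ⊢
    exact_mod_cast this
  · have := hpsi
    norm_num at this ⊢
    exact_mod_cast this

/-- pure algebra -/
theorem algebra (k r cP x₁ x₂ x₃ e₁ e₂ e₃ : ℚ) (hk : 0 < k) (hr : 0 < r) (hcP : 0 < cP)
    (hx₁ : 0 < x₁) (hx₂ : 0 < x₂) (hx₃ : 0 < x₃) (he₁ : e₁ * e₁ = 1) (he₂ : e₂ * e₂ = 1)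
    (he₃ : e₃ * e₃ = 1)
    (hA : k ^ 2 * (1 + e₁ ^ 3 / x₁ + e₂ ^ 3 / x₂ + e₃ ^ 3 / x₃)
      = (1 + e₁ ^ 2 + e₂ ^ 2 + e₃ ^ 2) * (k * (2 * r ^ 2)))
    (hB : 1 + e₁ * x₁ + e₂ * x₂ + e₃ * x₃ = 0) :
    k * ((x₁ + e₁) * (x₂ + e₂) * (x₃ + e₃)) = 8 * r ^ 2 * (x₁ * x₂ * x₃) := by
  have h3 : ∀ e : ℚ, e * e = 1 → e ^ 3 = e := by
    intro e he
    calc e ^ 3 = e * e * e := by ring
      _ = e := by rw [he, one_mul]
  have h2 : ∀ e : ℚ, e * e = 1 → e ^ 2 = 1 := by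
    intro e he
    rw [pow_two, he]
  rw [h3 e₁ he₁, h3 e₂ he₂, h3 e₃ he₃, h2 e₁ he₁, h2 e₂ he₂, h2 e₃ he₃] at hA
  have hA' : k * (x₁ * x₂ * x₃ + e₁ * x₂ * x₃ + e₂ * x₁ * x₃ + e₃ * x₁ * x₂)
      = 8 * r ^ 2 * (x₁ * x₂ * x₃) := by
    field_simp at hA
    linear_combination hA
  rw [← hA']
  have : (x₁ + e₁) * (x₂ + e₂) * (x₃ + e₃)
      = x₁ * x₂ * x₃ + e₁ * x₂ * x₃ + e₂ * x₁ * x₃ + e₃ * x₁ * x₂ := by
    linear_combination (e₁ * e₂ * e₃) * hB - (e₂ * e₃ * x₁) * he₁ - (e₁ * e₃ * x₂) * he₂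
      - (e₁ * e₂ * x₃) * he₃
  rw [this]

/-- An order formula from the principal 2-block. Let G be a finite group of order 4·g₀ with g₀ odd having no normal 2-complement (no normal subgroup of order g₀); let P be a Sylow 2-subgroup, J an involution of P, and fix a maximal ideal M of the algebraic integers containing 2. Suppose the principal 2-block consists of the principal character and three further distinct characters χ₁, χ₂, χ₃ of degrees x₁, x₂, x₃, with χ_i(J) = ε_i = ±1. Then, writing c(J) and c(P) for the orders of the centralizers of J and of P, the order of G equals 8·α·c(J)³/c(P)² with α = x₁x₂x₃ / ((x₁ + ε₁)(x₂ + ε₂)(x₃ + ε₃)). -/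
theorem result {G : Type*} [Group G] [Finite G] (M : Ideal Cfsg.AlgInt) (hM : Cfsg.IsPModular 2 M) (g₀ : ℕ) (hg₀ : Odd g₀) (hG : Nat.card G = 4 * g₀) (hnc : ¬ ∃ N : Subgroup G, N.Normal ∧ Nat.card N = g₀) (P : Sylow 2 G) (J : G) (hJ : J ∈ (P : Subgroup G)) (hJ2 : orderOf J = 2) (χ₁ χ₂ χ₃ : Cfsg.IrrCharacter G) (ε₁ ε₂ ε₃ : ℤ) (hB : Cfsg.principalBlock M G = {χ : Cfsg.IrrCharacter G | (χ : G → ℂ) = (fun _ => 1) ∨ χ = χ₁ ∨ χ = χ₂ ∨ χ = χ₃}) (hdist : (χ₁ : G → ℂ) ≠ (fun _ => 1) ∧ (χ₂ : G → ℂ) ≠ (fun _ => 1) ∧ (χ₃ : G → ℂ) ≠ (fun _ => 1) ∧ χ₁ ≠ χ₂ ∧ χ₁ ≠ χ₃ ∧ χ₂ ≠ χ₃) (hε : (ε₁ = 1 ∨ ε₁ = -1) ∧ (ε₂ = 1 ∨ ε₂ = -1) ∧ (ε₃ = 1 ∨ ε₃ = -1)) (hval : (χ₁ : G → ℂ) J = ε₁ ∧ (χ₂ : G → ℂ) J = ε₂ ∧ (χ₃ : G → ℂ) J = ε₃) : (Nat.card G : ℚ) = 8 * (((Cfsg.charDegree (χ₁ : G → ℂ) : ℚ) * Cfsg.charDegree (χ₂ : G → ℂ) * Cfsg.charDegree (χ₃ : G → ℂ)) / ((Cfsg.charDegree (χ₁ : G → ℂ) + ε₁) * (Cfsg.charDegree (χ₂ :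 G → ℂ) + ε₂) * (Cfsg.charDegree (χ₃ : G → ℂ) + ε₃))) * (Nat.card (Subgroup.centralizer ({J} : Set G)) : ℚ) ^ 3 / (Nat.card (Subgroup.centralizer ((P : Subgroup G) : Set G)) : ℚ) ^ 2 := by
  obtain ⟨k, r, hk, hr, hGk, hJr, hA, hBB⟩ :=
    data M hM g₀ hg₀ hG hnc P J hJ hJ2 χ₁ χ₂ χ₃ ε₁ ε₂ ε₃ hB hdist hval
  have hsq : ∀ e : ℤ, (e = 1 ∨ e = -1) → (e : ℚ) * (e : ℚ) = 1 := by
    rintro e (rfl | rfl) <;> norm_num
  have hcP : (0 : ℚ) < (Nat.card (Subgroup.centralizer ((P : Subgroup G) : Set G)) : ℚ) := by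
    exact_mod_cast Nat.card_pos
  have hx : ∀ χ : IrrCharacter G, (0 : ℚ) < (charDegree (χ : G → ℂ) : ℚ) := by
    intro χ
    exact_mod_cast irr_charDegree_pos χ
  have hkq : (0 : ℚ) < k := by exact_mod_cast hk
  have hrq : (0 : ℚ) < r := by exact_mod_cast hr
  have halg := algebra k r _ _ _ _ ε₁ ε₂ ε₃ hkq hrq hcP (hx χ₁) (hx χ₂) (hx χ₃) (hsq _ hε.1)
    (hsq _ hε.2.1) (hsq _ hε.2.2) hA hBB
  rw [hGk, hJr]
  push_cast
  set cP := (Nat.card (Subgroup.centralizer ((P : Subgroup G) : Set G)) : ℚ)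
  set x₁ := (charDegree (χ₁ : G → ℂ) : ℚ)
  set x₂ := (charDegree (χ₂ : G → ℂ) : ℚ)
  set x₃ := (charDegree (χ₃ : G → ℂ) : ℚ)
  have hD : (x₁ + ε₁) * (x₂ + ε₂) * (x₃ + ε₃) ≠ 0 := by
    intro h0
    rw [h0, mul_zero] at halg
    have : 0 < 8 * (r : ℚ) ^ 2 * (x₁ * x₂ * x₃) := by
      have := hx χ₁; have := hx χ₂; have := hx χ₃
      positivity
    linarith
  have hXD : x₁ * x₂ * x₃ / ((x₁ + ε₁) * (x₂ + ε₂) * (x₃ + ε₃)) = (k : ℚ) / (8 * (r : ℚ) ^ 2) := by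
    rw [div_eq_div_iff hD (by positivity)]
    linear_combination -halg
  rw [hXD]
  field_simp

end Cfsg.Agent.S4479
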