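import Cfsg.Statements.S0948
import Cfsg.Agent.S4479
import Cfsg.Agent.S0944
import Cfsg.Agent.Lib.Helper74.KleinFour2
import Cfsg.Agent.Lib.Helper3.Table

set_option autoImplicit false
set_option linter.style.haveILetI false
set_option linter.unusedSectionVars false
open Cfsg

namespace Cfsg.Agent.S0948

open Cfsg.Agent.Lib.Helper74 Cfsg.Agent.Lib.Helper78
open scoped ComplexConjugate

section

variable {G : Type*} [Group G] [Finite G] (M : Ideal Cfsg.AlgInt) (hM : Cfsg.IsPModular 2 M)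
  (P : Sylow 2 G) [hK : IsKleinFour (P : Subgroup G)]
  (hone : ∀ s t : G, orderOf s = 2 → orderOf t = 2 → IsConj s t)

include hM hK hone in
/-- The squares of the values at an involution of the principal block characters add up to 4. -/
theorem sum_sq_eq_four {J : G} (hJ : J ∈ (P : Subgroup G)) (hJ1 : J ≠ 1) :
    ∑ᶠ χ ∈ principalBlock M G, (χ : G → ℂ) J ^ 2 = 4 := by
  classical
  haveI := Fintype.ofFinite G
  have hP := pmod_isPrime hM
  set c₀ := ∑ᶠ χ ∈ principalBlock M G, (χ : G → ℂ) J ^ 2 with hc₀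
  have h1 : ∑ w : G, ∑ᶠ χ ∈ principalBlock M G, (χ : G → ℂ) J * (χ : G → ℂ) w
      = c₀ * (Nat.card {w : G // Even (orderOf w)} : ℂ) := by
    simp only [Cfsg.Agent.S4479.psi_eq M hM P hone hJ hJ1, ← hc₀]
    rw [Nat.card_eq_fintype_card, Fintype.card_subtype, Finset.card_filter, Nat.cast_sum,
      Finset.mul_sum]
    refine Finset.sum_congr rfl fun w _ => ?_
    split_ifs <;> simp
  have h2 : ∑ w : G, ∑ᶠ χ ∈ principalBlock M G, (χ : G → ℂ) J * (χ : G → ℂ) w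
      = (Nat.card G : ℂ) := by
    simp only [finsum_mem_irr]
    rw [Finset.sum_comm]
    have hsum : ∀ χ : IrrCharacter G, ∑ w : G, (χ : G → ℂ) w
        = if χ = trivIrr G then (Nat.card G : ℂ) else 0 := by
      intro χ
      have := classInner_irr χ (trivIrr G)
      unfold classInner at this
      have hG0 : (Nat.card G : ℂ) ≠ 0 := by exact_mod_cast Nat.card_pos.ne'
      have h3 : ∑ w : G, (χ : G → ℂ) w = ∑ w : G, (χ : G → ℂ) w * conj ((trivIrr G : G → ℂ) w) := by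
        refine Finset.sum_congr rfl fun w _ => ?_
        have : (trivIrr G : G → ℂ) w = 1 := rfl
        rw [this]; simp
      rw [h3]
      split_ifs with h
      · rw [if_pos h] at this
        field_simp at this
        exact this
      · rw [if_neg h] at this
        rcases mul_eq_zero.1 this with h4 | h4
        · exact absurd (inv_eq_zero.1 h4) hG0
        · exact h4
    rw [Finset.sum_eq_single (trivIrr G)]
    · rw [Finset.sum_congr rfl (fun w _ => if_pos (trivIrr_mem_principalBlock hP)),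
        ← Finset.mul_sum, hsum, if_pos rfl]
      have : (trivIrr G : G → ℂ) J = 1 := rfl
      rw [this, one_mul]
    · intro χ _ hne
      by_cases hχ : χ ∈ principalBlock M G
      · rw [Finset.sum_congr rfl (fun w _ => if_pos hχ), ← Finset.mul_sum, hsum, if_neg hne,
          mul_zero]
      · rw [Finset.sum_congr rfl (fun w _ => if_neg hχ)]
        simp
    · intro h; exact absurd (Finset.mem_univ _) h
  have h3 := klein_even_count P hone
  rw [h1] at h2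
  have h4 : (4 : ℂ) * (Nat.card {w : G // Even (orderOf w)} : ℂ) = (Nat.card G : ℂ) := by
    exact_mod_cast h3
  have h5 : (Nat.card {w : G // Even (orderOf w)} : ℂ) ≠ 0 := by
    intro h0
    rw [h0, mul_zero] at h4
    have : (Nat.card G : ℂ) ≠ 0 := by exact_mod_cast Nat.card_pos.ne'
    exact this h4.symm
  apply mul_right_cancel₀ h5
  rw [h2, h4]

include hM hK in
/-- characters of the principal block do not vanish at involutions -/
theorem value_ne_zero {J : G} (hJ : J ∈ (P : Subgroup G)) (χ : IrrCharacter G)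
    (hχ : χ ∈ principalBlock M G) : (χ : G → ℂ) J ≠ 0 := by
  intro h0
  have h1 := hχ J
  unfold centralChar at h1
  rw [h0] at h1
  simp only [mul_one, div_one, mul_zero, zero_div, sub_zero] at h1
  rw [memLocalIdeal_natCast_iff hM] at h1
  haveI : Fact (Nat.Prime 2) := ⟨Nat.prime_two⟩
  have h2 : (Subgroup.centralizer ({J} : Set G)).index ∣ (P : Subgroup G).index :=
    Subgroup.index_dvd_of_le (klein_le_centralizer P hJ)
  exact P.not_dvd_index (h1.trans h2)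

include hK hone in
/-- congruence modulo 4 between the degree and the value at an involution -/
theorem four_dvd {J : G} (hJ : J ∈ (P : Subgroup G)) (hJ1 : J ≠ 1) (χ : IrrCharacter G) (n : ℤ)
    (hn : (χ : G → ℂ) J = n) : (4 : ℤ) ∣ (charDegree (χ : G → ℂ) : ℤ) - n := by
  classical
  haveI := Fintype.ofFinite (P : Subgroup G)
  have hJo : orderOf J = 2 := orderOf_eq_prime (by rw [pow_two]; exact klein_mul_self P hJ) hJ1
  have hres : IsCharacter (P : Subgroup G) (fun x : (P : Subgroup G) => (χ : G → ℂ) x) :=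
    IsCharacter.restrict (IsIrrCharacter.isCharacter χ.2) _
  obtain ⟨N, hN⟩ := Cfsg.Agent.Lib.Helper3.IsCharacter.classInner_eq_natCast hres
    (IsIrrCharacter.isCharacter (isIrrCharacter_one (G := (P : Subgroup G))))
  unfold classInner at hN
  have hcard : Nat.card (P : Subgroup G) = 4 := IsKleinFour.card_four
  rw [hcard] at hN
  have hval : ∀ x : (P : Subgroup G), (χ : G → ℂ) x * conj (1 : ℂ)
      = if x = 1 then ((charDegree (χ : G → ℂ) : ℕ) : ℂ) else (n : ℂ) := by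
    intro x
    split_ifs with hx
    · rw [hx, ← irr_one_eq]; simp
    · have hx1 : (x : G) ≠ 1 := fun h => hx (Subtype.ext h)
      have hxo : orderOf (x : G) = 2 :=
        orderOf_eq_prime (by rw [pow_two]; exact klein_mul_self P x.2) hx1
      obtain ⟨g, hg⟩ := isConj_iff.1 (hone J x hJo hxo)
      rw [← hg, irr_isClassFunction χ, hn]; simp
  rw [Finset.sum_congr rfl (fun x _ => hval x), Finset.sum_ite, Finset.sum_const, Finset.sum_const,
    Finset.filter_eq' , if_pos (Finset.mem_univ _), Finset.card_singleton] at hN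
  have hc3 : (Finset.univ.filter fun x : (P : Subgroup G) => ¬ x = 1).card = 3 := by
    have h1 := Finset.card_filter_add_card_filter_not (s := (Finset.univ : Finset (P : Subgroup G)))
      (fun x => x = 1)
    rw [Finset.filter_eq', if_pos (Finset.mem_univ _), Finset.card_singleton, Finset.card_univ,
      ← Nat.card_eq_fintype_card, hcard] at h1
    omega
  rw [hc3] at hN
  have h5 : ((charDegree (χ : G → ℂ) : ℕ) : ℂ) + 3 * (n : ℂ) = 4 * (N : ℂ) := by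
    simp only [one_smul, nsmul_eq_mul] at hN
    push_cast at hN
    linear_combination 4 * hN
  have h6 : ((charDegree (χ : G → ℂ) : ℕ) : ℤ) + 3 * n = 4 * (N : ℤ) := by exact_mod_cast h5
  exact ⟨N - n, by linarith⟩

include hM hK hone in
theorem finish {J : G} (hJ : J ∈ (P : Subgroup G)) (hJ1 : J ≠ 1) (ζ₂ ζ₃ ζ₄ : IrrCharacter G) (ε : ℤ)
    (hε : ε = 1 ∨ ε = -1)
    (hB : Cfsg.principalBlock M G = {χ : Cfsg.IrrCharacter G | (χ : G → ℂ) = (fun _ => 1) ∨ χ = ζ₂ ∨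
      χ = ζ₃ ∨ χ = ζ₄})
    (hdist : (ζ₂ : G → ℂ) ≠ (fun _ => 1) ∧ (ζ₃ : G → ℂ) ≠ (fun _ => 1) ∧
      (ζ₄ : G → ℂ) ≠ (fun _ => 1) ∧ ζ₂ ≠ ζ₃ ∧ ζ₂ ≠ ζ₄ ∧ ζ₃ ≠ ζ₄)
    (h2 : (ζ₂ : G → ℂ) J = ((1 : ℤ) : ℂ)) (h3 : (ζ₃ : G → ℂ) J = (ε : ℂ))
    (h4 : (ζ₄ : G → ℂ) J = ((-1 : ℤ) : ℂ)) :
    ∃ ζ₂ ζ₃ ζ₄ : Cfsg.IrrCharacter G, ∃ ε : ℤ, (ε = 1 ∨ ε = -1) ∧ (ζ₂ : G → ℂ) ≠ (fun _ => 1) ∧ (ζ₃ : G → ℂ) ≠ (fun _ => 1) ∧ ζ₂ ≠ ζ₃ ∧ ζ₂ ≠ ζ₄ ∧ ζ₃ ≠ ζ₄ ∧ Cfsg.principalBlock M G = {χ : Cfsg.IrrCharacter G | (χ : G → ℂ) = (fun _ => 1) ∨ χ = ζ₂ ∨ χ = ζ₃ ∨ χ = ζ₄} ∧ (∀ z : G, orderOf z = 2 → (ζ₂ : G → ℂ) z = 1 ∧ (ζ₃ : G → ℂ) z = (ε : ℂ) ∧ (ζ₄ : G → ℂ) z = -1) ∧ (4 : ℤ) ∣ (Cfsg.charDegree (ζ₂ : G → ℂ) : ℤ) - 1 ∧ (4 : ℤ) ∣ (Cfsg.charDegree (ζ₃ : G → ℂ) : ℤ) - ε ∧ (4 : ℤ) ∣ (Cfsg.charDegree (ζ₄ : G → ℂ) : ℤ) + 1 ∧ ∀ y : G, Odd (orderOf y) → 1 + (ζ₂ : G → ℂ) y + (ε : ℂ) * (ζ₃ : G → ℂ) y - (ζ₄ : G → ℂ) y = 0 := by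
  have hJo : orderOf J = 2 := orderOf_eq_prime (by rw [pow_two]; exact klein_mul_self P hJ) hJ1
  refine ⟨ζ₂, ζ₃, ζ₄, ε, hε, hdist.1, hdist.2.1, hdist.2.2.2.1, hdist.2.2.2.2.1, hdist.2.2.2.2.2, hB,
    ?_, ?_, ?_, ?_, ?_⟩
  · intro z hz
    obtain ⟨g, rfl⟩ := isConj_iff.1 (hone J z hJo hz)
    rw [irr_isClassFunction ζ₂, irr_isClassFunction ζ₃, irr_isClassFunction ζ₄, h2, h3, h4]
    simp
  · exact four_dvd P hone hJ hJ1 ζ₂ 1 h2
  · exact four_dvd P hone hJ hJ1 ζ₃ ε h3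
  · have := four_dvd P hone hJ hJ1 ζ₄ (-1) h4
    simpa using this
  · intro y hy
    have hpsi := Cfsg.Agent.S4479.psi_eq M hM P hone hJ hJ1 y
    rw [if_neg (Nat.not_even_iff_odd.2 hy), Cfsg.Agent.S4479.finsum_block4 M ζ₂ ζ₃ ζ₄ hB hdist,
      h2, h3, h4] at hpsi
    have ht : ∀ g : G, (trivIrr G : G → ℂ) g = 1 := fun g => rfl
    rw [ht, ht] at hpsi
    push_cast at hpsi
    linear_combination hpsi

end

/-- Let the finite group G have a Sylow 2-subgroup P that is a Klein four-group, suppose all involutions of G are conjugate, and fix a maximal ideal M of the algebraic integers containing 2. Then the principal block consists of exactly four irreducible characters, the principal character and ζ₂, ζ₃, ζ₄, and there is a sign ε such that for every involution z: ζ₂ z = 1, ζ₃ z = ε, ζ₄ z = -1; moreover ζ₂ 1 ≡ 1, ζ₃ 1 ≡ ε, ζ₄ 1 ≡ -1 (mod 4), and 1 + ζ₂ y + ε ζ₃ y - ζ₄ y = 0 for every y of odd order. -/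
theorem result {G : Type*} [Group G] [Finite G] (M : Ideal Cfsg.AlgInt) (hM : Cfsg.IsPModular 2 M) (P : Sylow 2 G) (hP : IsKleinFour (P : Subgroup G)) (hone : ∀ s t : G, orderOf s = 2 → orderOf t = 2 → IsConj s t) : ∃ ζ₂ ζ₃ ζ₄ : Cfsg.IrrCharacter G, ∃ ε : ℤ, (ε = 1 ∨ ε = -1) ∧ (ζ₂ : G → ℂ) ≠ (fun _ => 1) ∧ (ζ₃ : G → ℂ) ≠ (fun _ => 1) ∧ ζ₂ ≠ ζ₃ ∧ ζ₂ ≠ ζ₄ ∧ ζ₃ ≠ ζ₄ ∧ Cfsg.principalBlock M G = {χ : Cfsg.IrrCharacter G | (χ : G → ℂ) = (fun _ => 1) ∨ χ = ζ₂ ∨ χ = ζ₃ ∨ χ = ζ₄} ∧ (∀ z : G, orderOf z = 2 → (ζ₂ : G → ℂ) z = 1 ∧ (ζ₃ : G → ℂ) z = (ε : ℂ) ∧ (ζ₄ : G → ℂ) z = -1) ∧ (4 : ℤ) ∣ (Cfsg.charDegree (ζ₂ : G → ℂ) : ℤ) - 1 ∧ (4 : ℤ) ∣ (Cfsg.charDegree (ζ₃ : G → ℂ) : ℤ) - ε ∧ (4 : ℤ) ∣ (Cfsg.charDegree (ζ₄ : G → ℂ) : ℤ) + 1 ∧ ∀ y : G, Odd (orderOf y) → 1 + (ζ₂ : G → ℂ) y + (ε : ℂ) * (ζ₃ : G → ℂ) y - (ζ₄ : G → ℂ) y = 0 := by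
  classical
  haveI := hP
  haveI := Fintype.ofFinite G
  have hPr := pmod_isPrime hM
  obtain ⟨J, hJ, hJ1, -⟩ := klein_exists_other P (Subgroup.one_mem _)
  have hJo : orderOf J = 2 := orderOf_eq_prime (by rw [pow_two]; exact klein_mul_self P hJ) hJ1
  have hn : ∀ χ : IrrCharacter G, ∃ n : ℤ, (χ : G → ℂ) J = (n : ℂ) := fun χ => by
    obtain ⟨n, hn, -⟩ := Cfsg.Agent.S0944.result χ J hJo
    exact ⟨n, hn⟩
  choose n hn using hn
  set T := Finset.univ.filter (fun χ : IrrCharacter G => χ ∈ principalBlock M G) with hT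
  have hsum : ∑ χ ∈ T, (n χ) ^ 2 = 4 := by
    have h1 := sum_sq_eq_four M hM P hone hJ hJ1
    rw [finsum_mem_irr, ← Finset.sum_filter] at h1
    simp only [hn] at h1
    exact_mod_cast h1
  have htT : trivIrr G ∈ T := by
    rw [hT, Finset.mem_filter]
    exact ⟨Finset.mem_univ _, trivIrr_mem_principalBlock hPr⟩
  have hnt : n (trivIrr G) = 1 := by
    have : (trivIrr G : G → ℂ) J = 1 := rfl
    rw [hn] at this
    exact_mod_cast this
  have hsum' : ∑ χ ∈ T.erase (trivIrr G), (n χ) ^ 2 = 3 := by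
    rw [← Finset.add_sum_erase T _ htT, hnt] at hsum
    linarith
  have hn0 : ∀ χ ∈ T.erase (trivIrr G), n χ ≠ 0 := by
    intro χ hχ h0
    have hχB : χ ∈ principalBlock M G := by
      have := Finset.mem_of_mem_erase hχ
      rw [hT, Finset.mem_filter] at this
      exact this.2
    apply value_ne_zero M hM P hJ χ hχB
    rw [hn, h0]; simp
  have hpm : ∀ χ ∈ T.erase (trivIrr G), n χ = 1 ∨ n χ = -1 := by
    intro χ hχ
    have h1 : (n χ) ^ 2 ≤ 3 := by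
      rw [← hsum']
      exact Finset.single_le_sum (f := fun χ => (n χ) ^ 2) (fun i _ => sq_nonneg _) hχ
    have h2 : n χ ≤ 1 := by nlinarith
    have h3 : -1 ≤ n χ := by nlinarith
    have h4 := hn0 χ hχ
    omega
  have hcard : (T.erase (trivIrr G)).card = 3 := by
    have h1 : ∑ χ ∈ T.erase (trivIrr G), (n χ) ^ 2 = ∑ χ ∈ T.erase (trivIrr G), (1 : ℤ) := by
      refine Finset.sum_congr rfl fun χ hχ => ?_
      rcases hpm χ hχ with h | h <;> rw [h] <;> norm_num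
    rw [hsum', Finset.sum_const, nsmul_eq_mul, mul_one] at h1
    exact_mod_cast h1.symm
  obtain ⟨a, b, c, hab, hac, hbc, hT'⟩ := Finset.card_eq_three.1 hcard
  have hmem : ∀ χ : IrrCharacter G, χ ∈ principalBlock M G ↔
      (χ = trivIrr G ∨ χ = a ∨ χ = b ∨ χ = c) := by
    intro χ
    have h1 : χ ∈ T ↔ χ ∈ principalBlock M G := by rw [hT, Finset.mem_filter]; simp
    rw [← h1, ← Finset.insert_erase htT, hT']
    simp
  have ht : ∀ χ : IrrCharacter G, (χ : G → ℂ) = (fun _ => 1) ↔ χ = trivIrr G := by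
    intro χ
    constructor
    · intro h; exact Subtype.ext h
    · intro h; rw [h]; rfl
  have hne : ∀ χ ∈ T.erase (trivIrr G), (χ : G → ℂ) ≠ (fun _ => 1) := by
    intro χ hχ h
    exact (Finset.ne_of_mem_erase hχ) ((ht χ).1 h)
  have ha : a ∈ T.erase (trivIrr G) := by rw [hT']; simp
  have hb : b ∈ T.erase (trivIrr G) := by rw [hT']; simp
  have hc : c ∈ T.erase (trivIrr G) := by rw [hT']; simp
  -- the degree relation
  have hBabc : Cfsg.principalBlock M G = {χ : Cfsg.IrrCharacter G | (χ : G → ℂ) = (fun _ => 1) ∨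
      χ = a ∨ χ = b ∨ χ = c} := by
    ext χ
    rw [hmem, Set.mem_ofPred_eq, ht]
  have hrel : 1 + n a * (charDegree (a : G → ℂ) : ℤ) + n b * (charDegree (b : G → ℂ) : ℤ)
      + n c * (charDegree (c : G → ℂ) : ℤ) = 0 := by
    have hpsi := Cfsg.Agent.S4479.psi_eq M hM P hone hJ hJ1 1
    rw [if_neg (by simp), Cfsg.Agent.S4479.finsum_block4 M a b c hBabc
      ⟨hne a ha, hne b hb, hne c hc, hab, hac, hbc⟩] at hpsi
    simp only [hn, irr_one_eq, hnt] at hpsi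
    have htd : ((charDegree (trivIrr G : G → ℂ) : ℕ) : ℂ) = 1 := by rw [← irr_one_eq]; rfl
    rw [htd] at hpsi
    have : ((1 + n a * (charDegree (a : G → ℂ) : ℤ) + n b * (charDegree (b : G → ℂ) : ℤ)
      + n c * (charDegree (c : G → ℂ) : ℤ) : ℤ) : ℂ) = 0 := by
      push_cast
      linear_combination hpsi
    exact_mod_cast this
  have pa : (1 : ℤ) ≤ (charDegree (a : G → ℂ) : ℤ) := by exact_mod_cast irr_charDegree_pos a
  have pb : (1 : ℤ) ≤ (charDegree (b : G → ℂ) : ℤ) := by exact_mod_cast irr_charDegree_pos b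
  have pc : (1 : ℤ) ≤ (charDegree (c : G → ℂ) : ℤ) := by exact_mod_cast irr_charDegree_pos c
  have hperm : ∀ x y z : IrrCharacter G, (∀ χ : IrrCharacter G,
      (χ = a ∨ χ = b ∨ χ = c) ↔ (χ = x ∨ χ = y ∨ χ = z)) →
      Cfsg.principalBlock M G = {χ : Cfsg.IrrCharacter G | (χ : G → ℂ) = (fun _ => 1) ∨
      χ = x ∨ χ = y ∨ χ = z} := by
    intro x y z h
    ext χ
    rw [hmem, Set.mem_ofPred_eq, ht, h]
  rcases hpm a ha with ea | ea <;> rcases hpm b hb with eb | eb <;> rcases hpm c hc with ec | ec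
  · exfalso; rw [ea, eb, ec] at hrel; linarith
  · exact finish M hM P hone hJ hJ1 a b c 1 (Or.inl rfl) (hperm a b c (fun χ => Iff.rfl))
      ⟨hne a ha, hne b hb, hne c hc, hab, hac, hbc⟩ (by rw [hn, ea]) (by rw [hn, eb]) (by rw [hn, ec])
  · exact finish M hM P hone hJ hJ1 a c b 1 (Or.inl rfl) (hperm a c b (fun χ => by tauto))
      ⟨hne a ha, hne c hc, hne b hb, hac, hab, hbc.symm⟩ (by rw [hn, ea]) (by rw [hn, ec])
      (by rw [hn, eb])
  · exact finish M hM P hone hJ hJ1 a b c (-1) (Or.inr rfl) (hperm a b c (fun χ => Iff.rfl))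
      ⟨hne a ha, hne b hb, hne c hc, hab, hac, hbc⟩ (by rw [hn, ea]) (by rw [hn, eb]) (by rw [hn, ec])
  · exact finish M hM P hone hJ hJ1 b c a 1 (Or.inl rfl) (hperm b c a (fun χ => by tauto))
      ⟨hne b hb, hne c hc, hne a ha, hbc, hab.symm, hac.symm⟩ (by rw [hn, eb]) (by rw [hn, ec])
      (by rw [hn, ea])
  · exact finish M hM P hone hJ hJ1 b a c (-1) (Or.inr rfl) (hperm b a c (fun χ => by tauto))
      ⟨hne b hb, hne a ha, hne c hc, hab.symm, hbc, hac⟩ (by rw [hn, eb]) (by rw [hn, ea])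
      (by rw [hn, ec])
  · exact finish M hM P hone hJ hJ1 c a b (-1) (Or.inr rfl) (hperm c a b (fun χ => by tauto))
      ⟨hne c hc, hne a ha, hne b hb, hac.symm, hbc.symm, hab⟩ (by rw [hn, ec]) (by rw [hn, ea])
      (by rw [hn, eb])
  · exfalso; rw [ea, eb, ec] at hrel; linarith

end Cfsg.Agent.S0948
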