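import Cfsg.Statements.S3278
import Cfsg.Agent.Lib.Helper29.KleinCent
import Cfsg.Agent.Lib.Helper74.KleinFour
import Cfsg.Agent.Lib.Helper78.DefectZero
import Cfsg.Agent.S0948
import Cfsg.Agent.S4479
import Cfsg.Agent.S0494

set_option autoImplicit false
open Cfsg

namespace Cfsg.Agent.S3278

/-- arithmetic bound extracted from the order formula -/
theorem bound (n c d₂ d₃ d₄ : ℕ) (ε : ℤ) (hε : ε = 1 ∨ ε = -1) (hc : 0 < c)
    (h3 : (4 : ℤ) ∣ (d₃ : ℤ) - ε) (h4 : (4 : ℤ) ∣ (d₄ : ℤ) + 1)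
    (h : (n : ℚ) = 8 * (((d₂ : ℚ) * d₃ * d₄) / ((d₂ + ((1 : ℤ) : ℚ)) * (d₃ + (ε : ℚ)) * (d₄ + ((-1 : ℤ) : ℚ)))) *
      (c : ℚ) ^ 3 / (c : ℚ) ^ 2) : n < 18 * c := by
  have hd4 : 3 ≤ d₄ := by omega
  have hcq : (0 : ℚ) < c := by exact_mod_cast hc
  have hd4q : (3 : ℚ) ≤ d₄ := by exact_mod_cast hd4
  have hd2q : (0 : ℚ) ≤ d₂ := by positivity
  have e1 : (c : ℚ) ^ 3 / (c : ℚ) ^ 2 = c := by field_simp
  have a2 : (d₂ : ℚ) / (d₂ + 1) < 1 := by
    rw [div_lt_one (by linarith)]; linarith
  have a2' : 0 ≤ (d₂ : ℚ) / (d₂ + 1) := by positivity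
  have a4 : (d₄ : ℚ) / (d₄ - 1) ≤ 3 / 2 := by
    rw [div_le_div_iff₀ (by linarith) (by norm_num)]; linarith
  have a4' : 0 ≤ (d₄ : ℚ) / (d₄ - 1) := div_nonneg (by linarith) (by linarith)
  have a3 : (d₃ : ℚ) / (d₃ + ε) ≤ 3 / 2 ∧ 0 ≤ (d₃ : ℚ) / (d₃ + ε) := by
    rcases hε with rfl | rfl
    · have hd3q : (0 : ℚ) ≤ d₃ := by positivity
      push_cast
      refine ⟨?_, by positivity⟩
      rw [div_le_div_iff₀ (by linarith) (by norm_num)]; linarith
    · have hd3 : 3 ≤ d₃ := by omega
      have hd3q : (3 : ℚ) ≤ d₃ := by exact_mod_cast hd3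
      push_cast
      refine ⟨?_, div_nonneg (by linarith) (by linarith)⟩
      rw [div_le_div_iff₀ (by linarith) (by norm_num)]; linarith
  have e2 : ((d₂ : ℚ) * d₃ * d₄) / ((d₂ + ((1 : ℤ) : ℚ)) * (d₃ + (ε : ℚ)) * (d₄ + ((-1 : ℤ) : ℚ)))
      = ((d₂ : ℚ) / (d₂ + 1)) * ((d₃ : ℚ) / (d₃ + ε)) * ((d₄ : ℚ) / (d₄ - 1)) := by
    push_cast
    rw [div_mul_div_comm, div_mul_div_comm]
    ring_nf
  rw [mul_div_assoc, e1, e2] at h
  have b1 : ((d₃ : ℚ) / (d₃ + ε)) * ((d₄ : ℚ) / (d₄ - 1)) ≤ 3 / 2 * (3 / 2) :=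
    mul_le_mul a3.1 a4 a4' (by norm_num)
  have b0 : 0 ≤ ((d₃ : ℚ) / (d₃ + ε)) * ((d₄ : ℚ) / (d₄ - 1)) := mul_nonneg a3.2 a4'
  have hlt : (n : ℚ) < 18 * c := by
    rw [h]
    have b2 : ((d₂ : ℚ) / (d₂ + 1)) * ((d₃ : ℚ) / (d₃ + ε)) * ((d₄ : ℚ) / (d₄ - 1)) < 9 / 4 := by
      rw [mul_assoc]
      calc ((d₂ : ℚ) / (d₂ + 1)) * (((d₃ : ℚ) / (d₃ + ε)) * ((d₄ : ℚ) / (d₄ - 1)))
          ≤ ((d₂ : ℚ) / (d₂ + 1)) * (3 / 2 * (3 / 2)) := mul_le_mul_of_nonneg_left b1 a2'
        _ < 1 * (3 / 2 * (3 / 2)) := mul_lt_mul_of_pos_right a2 (by norm_num)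
        _ = 9 / 4 := by norm_num
    nlinarith
  exact_mod_cast hlt


/-- Let G be a finite simple group with an involution x such that a Sylow 2-subgroup of C_G(x) is a Klein four-group which is normal in C_G(x). Then G is isomorphic to the alternating group of degree 5 (that is, to PSL(2, 5)). -/
theorem result {G : Type*} [Group G] [Finite G] [IsSimpleGroup G] (x : G) (hx : orderOf x = 2)
    (S₀ : Subgroup G) (hle : S₀ ≤ Subgroup.centralizer ({x} : Set G)) (hK : IsKleinFour ↥S₀)
    (hodd : ¬ 2 ∣ S₀.relIndex (Subgroup.centralizer ({x} : Set G))) (hn : (S₀.subgroupOf (Subgroup.centralizer ({x} : Set G))).Normal) :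
    Nonempty (G ≃* ↥(alternatingGroup (Fin 5))) := by
  classical
  have hfact : Fact (Nat.Prime 2) := ⟨Nat.prime_two⟩
  obtain ⟨P, hP⟩ := Cfsg.Agent.Lib.Helper29.KleinCent.exists_sylow_eq hx hle hK hodd hn
  have hxx : x * x = 1 := by rw [← pow_two, ← hx]; exact pow_orderOf_eq_one x
  have hx1 : x ≠ 1 := by rintro rfl; simp at hx
  have hxC : x ∈ Subgroup.centralizer ({x} : Set G) := Subgroup.mem_centralizer_singleton_iff.mpr rfl
  have hxS : x ∈ S₀ := Cfsg.Agent.Lib.Helper29.KleinCent.two_elt_mem hodd hn hxC (k := 1)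
    (by rw [pow_one, pow_two]; exact hxx)
  have hxP : x ∈ (P : Subgroup G) := by rw [hP]; exact hxS
  have hKP : IsKleinFour (P : Subgroup G) := by rw [hP]; exact hK
  have hP4 : Nat.card (P : Subgroup G) = 4 := IsKleinFour.card_four
  -- the order of `G`
  obtain ⟨g₀, hg₀def⟩ : ∃ g₀, g₀ = (P : Subgroup G).index := ⟨_, rfl⟩
  have hG : Nat.card G = 4 * g₀ := by
    rw [hg₀def, ← hP4]; exact ((P : Subgroup G).card_mul_index).symm
  have hg₀ : Odd g₀ := by
    rw [← Nat.not_even_iff_odd, even_iff_two_dvd, hg₀def]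
    exact P.not_dvd_index
  -- `G` is not commutative
  have hcen : Subgroup.center G = ⊥ := by
    rcases (inferInstance : (Subgroup.center G).Normal).eq_bot_or_eq_top with h | h
    · exact h
    · exfalso
      have hnz : (Subgroup.zpowers x).Normal := by
        constructor
        intro a ha g
        have : g * a * g⁻¹ = a := by
          have hg : a ∈ Subgroup.center G := by rw [h]; trivial
          rw [Subgroup.mem_center_iff.mp hg g]; group
        rw [this]; exact ha
      rcases hnz.eq_bot_or_eq_top with h2 | h2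
      · exact hx1 (Subgroup.zpowers_eq_bot.1 h2)
      · have h3 : Nat.card (Subgroup.zpowers x) = 2 := by rw [Nat.card_zpowers, hx]
        rw [h2, Subgroup.card_top, hG] at h3
        omega
  have hnc : ¬ ∃ N : Subgroup G, N.Normal ∧ Nat.card N = g₀ := by
    rintro ⟨N, hN, hNc⟩
    rcases hN.eq_bot_or_eq_top with h | h
    · rw [h, Subgroup.card_bot] at hNc
      have hPtop : (P : Subgroup G) = ⊤ := by
        apply Subgroup.eq_top_of_card_eq
        rw [hP4, hG, ← hNc]
      have : x ∈ Subgroup.center G := by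
        rw [Subgroup.mem_center_iff]
        intro g
        have hg : g ∈ (P : Subgroup G) := by rw [hPtop]; trivial
        exact Cfsg.Agent.Lib.Helper29.KleinCent.klein_comm hKP hg hxP
      rw [hcen] at this
      exact hx1 (Subgroup.mem_bot.1 this)
    · rw [h, Subgroup.card_top, hG] at hNc
      have : g₀ ≠ 0 := by rintro rfl; simp at hg₀
      omega
  obtain ⟨-, hone⟩ := Cfsg.Agent.Lib.Helper74.klein_of_no_complement g₀ hg₀ hG hnc P
  obtain ⟨M, hM⟩ := Cfsg.Agent.Lib.Helper78.exists_isPModular 2 Nat.prime_two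
  obtain ⟨ζ₂, ζ₃, ζ₄, ε, hε, h21, h31, h23, h24, h34, hB, hval, -, hd3, hd4, -⟩ :=
    Cfsg.Agent.S0948.result M hM P hKP hone
  obtain ⟨hv2, hv3, hv4⟩ := hval x hx
  have h41 : (ζ₄ : G → ℂ) ≠ (fun _ => 1) := by
    intro h
    rw [h] at hv4
    norm_num at hv4
  have hformula := Cfsg.Agent.S4479.result M hM g₀ hg₀ hG hnc P x hxP hx ζ₂ ζ₃ ζ₄ 1 ε (-1) hB
    ⟨h21, h31, h41, h23, h24, h34⟩ ⟨Or.inl rfl, hε, Or.inr rfl⟩
    ⟨by rw [hv2]; norm_num, hv3, by rw [hv4]; norm_num⟩
  -- `C(x) = C(P)`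
  have hCC : Subgroup.centralizer ((P : Subgroup G) : Set G) = Subgroup.centralizer ({x} : Set G) := by
    apply le_antisymm
    · exact Subgroup.centralizer_le (Set.singleton_subset_iff.2 hxP)
    · intro c hc
      have hcN : c ∈ Subgroup.normalizer ((P : Subgroup G) : Set G) := by
        rw [hP]
        apply Subgroup.mem_normalizer_fintype
        intro s hs
        have := hn.conj_mem ⟨s, hle hs⟩ (by rw [Subgroup.mem_subgroupOf]; exact hs) ⟨c, hc⟩
        rw [Subgroup.mem_subgroupOf] at this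
        simpa using this
      have hcx : c * x * c⁻¹ = x := by
        rw [Subgroup.mem_centralizer_singleton_iff.mp hc]; group
      rw [Subgroup.mem_centralizer_iff]
      intro y hy
      have := Cfsg.Agent.Lib.Helper74.klein_centralizes_of_fix P hcN hxP hx1 hcx y hy
      rw [mul_inv_eq_iff_eq_mul] at this
      exact this.symm
  rw [hCC] at hformula
  obtain ⟨c, hcdef⟩ : ∃ c, c = Nat.card (Subgroup.centralizer ({x} : Set G)) := ⟨_, rfl⟩
  rw [← hcdef] at hformula
  have hcpos : 0 < c := by rw [hcdef]; exact Nat.card_pos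
  have hlt : Nat.card G < 18 * c := bound _ c _ _ _ ε hε hcpos hd3 hd4 hformula
  -- the normalizer of `P`
  have hCN : Subgroup.centralizer ((P : Subgroup G) : Set G) ≤
      Subgroup.normalizer ((P : Subgroup G) : Set G) := Subgroup.centralizer_le_normalizer _
  have hNnC : ¬ Subgroup.normalizer ((P : Subgroup G) : Set G) ≤
      Subgroup.centralizer ((P : Subgroup G) : Set G) := by
    intro hN
    apply hnc
    refine ⟨(MonoidHom.transferSylow P hN).ker, inferInstance, ?_⟩
    have h1 := (MonoidHom.ker_transferSylow_isComplement' P hN).card_mul_card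
    rw [hG, hP4] at h1
    omega
  obtain ⟨r, hrdef⟩ : ∃ r, r = (Subgroup.centralizer ((P : Subgroup G) : Set G)).relIndex
      (Subgroup.normalizer ((P : Subgroup G) : Set G)) := ⟨_, rfl⟩
  obtain ⟨m, hmdef⟩ : ∃ m, m = Nat.card (Subgroup.normalizer ((P : Subgroup G) : Set G)) := ⟨_, rfl⟩
  obtain ⟨n, hndef⟩ : ∃ n, n = (Subgroup.normalizer ((P : Subgroup G) : Set G)).index := ⟨_, rfl⟩
  have hm : m = c * r := by
    rw [hmdef, hcdef, hrdef, ← hCC]
    rw [← Subgroup.relIndex_bot_left, ← Subgroup.relIndex_bot_left]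
    exact (Subgroup.relIndex_mul_relIndex ⊥ _ _ bot_le hCN).symm
  have hGn : Nat.card G = m * n := by
    rw [hmdef, hndef]; exact (Subgroup.card_mul_index _).symm
  have h4c : 4 ∣ c := by
    rw [hcdef, ← hP4, ← hCC]
    apply Subgroup.card_dvd_of_le
    intro a ha
    rw [Subgroup.mem_centralizer_iff]
    intro b hb
    exact Cfsg.Agent.Lib.Helper29.KleinCent.klein_comm hKP hb ha
  have hr1 : r ≠ 1 := by
    intro h
    rw [hrdef, Subgroup.relIndex_eq_one] at h
    exact hNnC h
  have hr0 : r ≠ 0 := by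
    intro h
    rw [h, mul_zero] at hm
    have : 0 < m := by rw [hmdef]; exact Nat.card_pos
    omega
  have hr2 : r ≠ 2 := by
    intro h
    obtain ⟨c', rfl⟩ := h4c
    rw [hm, h, hG] at hGn
    obtain ⟨k, rfl⟩ := hg₀
    have : 2 * k + 1 = 2 * (c' * n) := by nlinarith
    omega
  have hr3 : 3 ≤ r := by omega
  have hm12 : 12 ≤ m := by
    obtain ⟨c', rfl⟩ := h4c
    have : 1 ≤ c' := by omega
    rw [hm]; nlinarith
  have hn6 : n < 6 := by
    by_contra hcon
    push Not at hcon
    have : 18 * c ≤ Nat.card G := by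
      rw [hGn, hm]
      calc 18 * c = c * 3 * 6 := by ring
        _ ≤ c * r * n := Nat.mul_le_mul (Nat.mul_le_mul_left _ hr3) hcon
    omega
  -- the coset action
  have hdvd : Nat.card G ∣ n.factorial := by
    have hker : (MulAction.toPermHom G (G ⧸ Subgroup.normalizer ((P : Subgroup G) : Set G))).ker = ⊥ := by
      rcases (MonoidHom.normal_ker (MulAction.toPermHom G
        (G ⧸ Subgroup.normalizer ((P : Subgroup G) : Set G)))).eq_bot_or_eq_top with h | h
      · exact h
      · exfalso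
        rw [← Subgroup.normalCore_eq_ker] at h
        have h1 : Subgroup.normalizer ((P : Subgroup G) : Set G) = ⊤ :=
          top_le_iff.1 (h ▸ Subgroup.normalCore_le _)
        have h2 : (P : Subgroup G).Normal := Subgroup.normalizer_eq_top_iff.1 h1
        rcases h2.eq_bot_or_eq_top with h3 | h3
        · rw [h3, Subgroup.card_bot] at hP4; omega
        · apply hNnC
          rw [hCC]
          intro g _
          have hg : g ∈ (P : Subgroup G) := by rw [h3]; trivial
          rw [Subgroup.mem_centralizer_singleton_iff]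
          exact Cfsg.Agent.Lib.Helper29.KleinCent.klein_comm hKP hg hxP
    have hinj : Function.Injective (MulAction.toPermHom G
        (G ⧸ Subgroup.normalizer ((P : Subgroup G) : Set G))) :=
      (MonoidHom.ker_eq_bot_iff _).1 hker
    have := Subgroup.card_dvd_of_injective _ hinj
    rwa [Nat.card_perm, ← Subgroup.index_eq_card, ← hndef] at this
  have h60 : Nat.card G = 60 := by
    rw [hGn] at hdvd
    have h8 : ¬ 8 ∣ m * n := by
      rw [← hGn, hG]
      obtain ⟨k, rfl⟩ := hg₀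
      omega
    have hn0 : 0 < n := by
      rcases Nat.eq_zero_or_pos n with h | h
      · rw [h, mul_zero] at hGn
        have : 0 < Nat.card G := Nat.card_pos
        omega
      · exact h
    rw [hGn]
    interval_cases n
    · have := Nat.le_of_dvd (by norm_num) hdvd
      simp at this; omega
    · have := Nat.le_of_dvd (by norm_num) hdvd
      simp [Nat.factorial] at this; omega
    · have := Nat.le_of_dvd (by norm_num [Nat.factorial]) hdvd
      simp [Nat.factorial] at this; omega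
    · have := Nat.le_of_dvd (by norm_num [Nat.factorial]) hdvd
      simp [Nat.factorial] at this; omega
    · have h5 : m ∣ 24 := by
        have : m * 5 ∣ 24 * 5 := by simpa [Nat.factorial] using hdvd
        exact Nat.dvd_of_mul_dvd_mul_right (by norm_num) this
      have hle24 := Nat.le_of_dvd (by norm_num) h5
      interval_cases m <;> omega
  exact Cfsg.Agent.S0494.result h60

end Cfsg.Agent.S3278
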