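import Cfsg.Statements.S0391
import Cfsg.Agent.Lib.Helper92.GolayCount
import Cfsg.Agent.Lib.Helper7.LeechNorm

set_option autoImplicit false
open Cfsg

namespace Cfsg.Agent.S0391

/-- Nonzero lattice vectors have sum of squares ≥ 32 (no vectors of customary norm 2). -/
theorem result (x : Cfsg.GolayPt → ℤ) (hx : x ∈ Cfsg.leechLattice) (h0 : x ≠ 0) : 32 ≤ Cfsg.sqNorm x := by
  apply Cfsg.Agent.Lib.Helper7.leech_min_norm _ ((Cfsg.Agent.Lib.Helper7.mem_leechLattice_iff x).1 hx) h0
  intro c hc hne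
  have hcard : c.card ≠ 0 := fun h => hne (Finset.card_eq_zero.1 h)
  rcases Cfsg.Agent.Lib.Helper92.card_of_mem_supports hc with h | h | h | h | h <;> omega

end Cfsg.Agent.S0391
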