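import Cfsg.Statements.S5592
import Cfsg.Agent.S0391

set_option autoImplicit false
open Cfsg

namespace Cfsg.Agent.S5592

theorem sqNorm_sub (x y : Cfsg.GolayPt → ℤ) :
    Cfsg.sqNorm (x - y) = Cfsg.sqNorm x - 2 * Cfsg.dotInt x y + Cfsg.sqNorm y := by
  unfold Cfsg.sqNorm Cfsg.dotInt
  rw [Finset.mul_sum, ← Finset.sum_sub_distrib, ← Finset.sum_add_distrib]
  refine Finset.sum_congr rfl fun i _ => ?_
  simp only [Pi.sub_apply]
  ring

theorem sqNorm_add (x y : Cfsg.GolayPt → ℤ) :
    Cfsg.sqNorm (x + y) = Cfsg.sqNorm x + 2 * Cfsg.dotInt x y + Cfsg.sqNorm y := by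
  unfold Cfsg.sqNorm Cfsg.dotInt
  rw [Finset.mul_sum, ← Finset.sum_add_distrib, ← Finset.sum_add_distrib]
  refine Finset.sum_congr rfl fun i _ => ?_
  simp only [Pi.add_apply]
  ring

theorem sqNorm_two_smul (z : Cfsg.GolayPt → ℤ) :
    Cfsg.sqNorm (2 • z) = 4 * Cfsg.sqNorm z := by
  unfold Cfsg.sqNorm
  rw [Finset.mul_sum]
  refine Finset.sum_congr rfl fun i _ => ?_
  simp only [Pi.smul_apply, smul_eq_mul]
  ring

/-- In the Leech lattice (integer coordinates, sum of squares equal to 8 times the customary norm, so the shortest non-zero vectors have sum of squares 32): if two distinct vectors of sum of squares at most 64 are congruent modulo twice the lattice, then either they are negatives of each other, or both have sum of squares 64 and they are orthogonal. -/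
theorem result (x y : Cfsg.GolayPt → ℤ) (hx : x ∈ Cfsg.leechLattice) (hy : y ∈ Cfsg.leechLattice) (hxy : x ≠ y) (hxn : Cfsg.sqNorm x ≤ 64) (hyn : Cfsg.sqNorm y ≤ 64) (hc : (∃ z ∈ Cfsg.leechLattice, x - y = 2 • z)) :
    x = -y ∨ (Cfsg.sqNorm x = 64 ∧ Cfsg.sqNorm y = 64 ∧ Cfsg.dotInt x y = 0) := by
  obtain ⟨z, hz, hxyz⟩ := hc
  by_cases hneg : x = -y
  · exact Or.inl hneg
  right
  have hz0 : z ≠ 0 := by
    rintro rfl
    apply hxy
    simpa [sub_eq_zero] using hxyz
  have hzy : z + y ∈ Cfsg.leechLattice := add_mem hz hy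
  have hxyz' : x + y = 2 • (z + y) := by
    have : x = 2 • z + y := by rw [← hxyz]; abel
    rw [this, smul_add, two_smul ℕ y]; abel
  have hzy0 : z + y ≠ 0 := by
    intro h
    apply hneg
    rw [h, smul_zero] at hxyz'
    exact eq_neg_of_add_eq_zero_left hxyz'
  have h1 := Cfsg.Agent.S0391.result z hz hz0
  have h2 := Cfsg.Agent.S0391.result (z + y) hzy hzy0
  have e1 := sqNorm_sub x y
  have e2 := sqNorm_add x y
  rw [hxyz, sqNorm_two_smul] at e1
  rw [hxyz', sqNorm_two_smul] at e2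
  refine ⟨by omega, by omega, by omega⟩

end Cfsg.Agent.S5592
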