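import Cfsg.Statements.S0089
import Cfsg.Agent.S0088

set_option autoImplicit false
open Cfsg

namespace Cfsg.Agent.S0089

/-- When all Sylow subgroups are abelian, the derived subgroup meets the centre trivially. -/
theorem result {G : Type*} [Group G] [Finite G] (h : ∀ p : ℕ, p.Prime → ∀ P : Sylow p G, IsMulCommutative P) : commutator G ⊓ Subgroup.center G = ⊥ := by
  rw [eq_bot_iff]
  rintro z ⟨hz', hz⟩
  rw [Subgroup.mem_bot]
  by_contra hz1
  have hord : orderOf z ≠ 1 := by rwa [Ne, orderOf_eq_one_iff]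
  obtain ⟨p, hp, hpd⟩ := Nat.exists_prime_and_dvd hord
  haveI : Fact p.Prime := ⟨hp⟩
  obtain ⟨k, hk⟩ := hpd
  set w := z ^ k with hw
  have hwo : orderOf w = p := by
    have hpos : 0 < orderOf z := orderOf_pos z
    have hk0 : k ≠ 0 := by
      rintro rfl
      rw [mul_zero] at hk
      omega
    have := orderOf_pow_of_dvd (x := z) hk0 (Dvd.intro_left p hk.symm)
    rw [hw, this, hk, Nat.mul_div_cancel _ (Nat.pos_of_ne_zero hk0)]
  have hpw : IsPGroup p (Subgroup.zpowers w) := by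
    apply IsPGroup.of_card (n := 1)
    rw [Nat.card_zpowers, hwo, pow_one]
  obtain ⟨P, hP⟩ := hpw.exists_le_sylow
  have hwP : w ∈ (P : Subgroup G) := hP (Subgroup.mem_zpowers w)
  have h1 := Cfsg.Agent.S0088.result (P : Subgroup G) (h p hp P) P.card_coprime_index
  have h2 : w ∈ (P : Subgroup G) ⊓ commutator G ⊓ Subgroup.center G :=
    ⟨⟨hwP, Subgroup.pow_mem _ hz' k⟩, Subgroup.pow_mem _ hz k⟩
  rw [h1, Subgroup.mem_bot] at h2
  rw [h2, orderOf_one] at hwo
  exact hp.one_lt.ne hwo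

end Cfsg.Agent.S0089
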