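import Cfsg.Statements.S0075
import Cfsg.Agent.Lib.Helper2.PComplement

set_option autoImplicit false
open Cfsg

namespace Cfsg.Agent.S0075

open Cfsg.Agent.Lib.Helper2 Subgroup
open scoped commutatorElement

theorem commutator_le_pResidual_of_abelian_sylow {G : Type*} [Group G] [Finite G] {p : ℕ} [Fact p.Prime]
    (T : Sylow p G) (hT : IsMulCommutative T) : commutator G ≤ Cfsg.pResidual p G := by
  rw [← Subgroup.Normal.quotient_commutative_iff_commutator_le]
  refine ⟨⟨fun a b => ?_⟩⟩
  induction a using QuotientGroup.induction_on with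
  | H a =>
  induction b using QuotientGroup.induction_on with
  | H b =>
    have ha : a ∈ Cfsg.pResidual p G ⊔ (T : Subgroup G) := by
      rw [pResidual_sup_sylow]; exact mem_top a
    have hb : b ∈ Cfsg.pResidual p G ⊔ (T : Subgroup G) := by
      rw [pResidual_sup_sylow]; exact mem_top b
    rw [Subgroup.mem_sup_of_normal_left] at ha hb
    obtain ⟨k1, hk1, t1, ht1, rfl⟩ := ha
    obtain ⟨k2, hk2, t2, ht2, rfl⟩ := hb
    have e1 : ((k1 : G) : G ⧸ Cfsg.pResidual p G) = 1 := (QuotientGroup.eq_one_iff k1).mpr hk1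
    have e2 : ((k2 : G) : G ⧸ Cfsg.pResidual p G) = 1 := (QuotientGroup.eq_one_iff k2).mpr hk2
    have e3 : t1 * t2 = t2 * t1 := congrArg Subtype.val (hT.is_comm.comm (⟨t1, ht1⟩ : T) ⟨t2, ht2⟩)
    simp only [QuotientGroup.mk_mul, e1, e2, one_mul]
    rw [← QuotientGroup.mk_mul, ← QuotientGroup.mk_mul, e3]

/-- For an abelian Sylow p-subgroup T, its intersection with the subgroup generated by the elements of order prime to p is the commutator of T with its normalizer. -/
theorem result {G : Type*} [Group G] [Finite G] {p : ℕ} [Fact p.Prime] (T : Sylow p G) (hT : IsMulCommutative T) : (T : Subgroup G) ⊓ Cfsg.pResidual p G = ⁅(T : Subgroup G), Subgroup.normalizer (T : Set G)⁆ := by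
  apply le_antisymm
  · have h1 : Cfsg.pResidual p G ≤ (T : Subgroup G).transferFocal.ker :=
      pResidual_le_ker (T.2.to_quotient _) _
    have h2 : (T : Subgroup G) ⊓ Cfsg.pResidual p G ≤ (T : Subgroup G).focalSubgroup := by
      rw [← Subgroup.ker_transferFocal_inf_eq_focalSubgroup T, inf_comm]
      exact inf_le_inf_right _ h1
    refine h2.trans ?_
    rw [Subgroup.focalSubgroup_def, Subgroup.closure_le]
    rintro g ⟨hgT, x, hx, u, rfl⟩
    have h3 : (u⁻¹)⁻¹ * x⁻¹ * u⁻¹ ∈ T := by
      have : (u⁻¹)⁻¹ * x⁻¹ * u⁻¹ = x⁻¹ * ⁅x, u⁆ := by rw [commutatorElement_def]; group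
      rw [this]
      exact (T : Subgroup G).mul_mem ((T : Subgroup G).inv_mem hx) hgT
    obtain ⟨n, hn, hn'⟩ := T.conj_eq_normalizer_conj_of_mem x⁻¹ u⁻¹ ((T : Subgroup G).inv_mem hx) h3
    have h4 : ⁅x, u⁆ = ⁅x, n⁻¹⁆ := by
      rw [commutatorElement_def, commutatorElement_def, inv_inv]
      rw [inv_inv] at hn'
      rw [mul_assoc, mul_assoc, ← mul_assoc u, hn']
      group
    rw [h4]
    exact Subgroup.commutator_mem_commutator hx (Subgroup.inv_mem _ hn)
  · apply le_inf
    · rw [Subgroup.commutator_le]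
      intro t ht n hn
      rw [commutatorElement_def]
      have : n * t⁻¹ * n⁻¹ ∈ (T : Subgroup G) :=
        (mem_normalizer_iff.mp hn t⁻¹).mp ((T : Subgroup G).inv_mem ht)
      have h2 := (T : Subgroup G).mul_mem ht this
      convert h2 using 1
      group
    · refine le_trans ?_ (commutator_le_pResidual_of_abelian_sylow T hT)
      rw [commutator_def]
      exact Subgroup.commutator_mono le_top le_top

end Cfsg.Agent.S0075
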