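import Cfsg.Statements.S3282
import Cfsg.Agent.Lib.Helper75.BSW14

set_option autoImplicit false
open Cfsg

namespace Cfsg.Agent.S3282

/-- The abstract form of the Brauer–Suzuki–Wall Theorem. Let G be a finite group with an involution t and an abelian subgroup K of H = C_G(t) containing t, such that H = K⟨s⟩ for an involution s ∉ K with C_K(s) = ⟨t⟩ and s inverting every element of K, K ∩ K^g = 1 for every g outside H, and all involutions of G conjugate. Then G has a subgroup Q, of order q say, with |G| = q(q+1)(q−1)/2, C_G(x) = Q for every non-identity x ∈ Q, N_G(Q) = QD for an abelian subgroup D of order (q−1)/2 meeting Q trivially, and for every nontrivial subgroup X of D, N_G(X) = N_G(D) = D⟨u⟩ for some involution u ∉ D inverting D. -/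
theorem result {G : Type*} [Group G] [Finite G] (t : G) (ht : orderOf t = 2)
    (K : Subgroup G) (hKab : IsMulCommutative ↥K) (hKH : K ≤ Subgroup.centralizer ({t} : Set G)) (htK : t ∈ K)
    (s : G) (hs : orderOf s = 2) (hsH : s ∈ Subgroup.centralizer ({t} : Set G)) (hsK : s ∉ K)
    (hH : K ⊔ Subgroup.zpowers s = Subgroup.centralizer ({t} : Set G)) (hCK : K ⊓ Subgroup.centralizer ({s} : Set G) = Subgroup.zpowers t)
    (hinv : ∀ x ∈ K, s * x * s⁻¹ = x⁻¹)
    (hTI : ∀ g : G, g ∉ Subgroup.centralizer ({t} : Set G) → K ⊓ K.map (MulAut.conj g).toMonoidHom = ⊥)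
    (hconj : ∀ x y : G, orderOf x = 2 → orderOf y = 2 → IsConj x y) :
    ∃ Q D : Subgroup G, 2 * Nat.card G = Nat.card ↥Q * (Nat.card ↥Q + 1) * (Nat.card ↥Q - 1) ∧
      (∀ x ∈ Q, x ≠ 1 → Subgroup.centralizer ({x} : Set G) = Q) ∧
      IsMulCommutative ↥D ∧ 2 * Nat.card ↥D + 1 = Nat.card ↥Q ∧ Q ⊓ D = ⊥ ∧
      Subgroup.normalizer (Q : Set G) = Q ⊔ D ∧
      ∀ X : Subgroup G, X ≤ D → X ≠ ⊥ →
        Subgroup.normalizer (X : Set G) = Subgroup.normalizer (D : Set G) ∧
        ∃ u : G, orderOf u = 2 ∧ u ∉ D ∧ (∀ d ∈ D, u * d * u⁻¹ = d⁻¹) ∧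
          Subgroup.normalizer (D : Set G) = D ⊔ Subgroup.zpowers u := by
    classical
  have := Fintype.ofFinite G
  have hs' : s⁻¹ = s := Cfsg.Agent.Lib.Helper75.inv_of_orderOf_two hs
  have hss : s * s = 1 := Cfsg.Agent.Lib.Helper75.mul_self_of_orderOf_two hs
  have hinv' : ∀ x ∈ K, s * x * s = x⁻¹ := by
    intro x hx
    have := hinv x hx
    rwa [hs'] at this
  let L : Subgroup G :=
    { carrier := {g | g ∈ K ∨ g * s ∈ K}
      one_mem' := Or.inl K.one_mem
      mul_mem' := by
        rintro a b (ha | ha) (hb | hb)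
        · exact Or.inl (K.mul_mem ha hb)
        · right
          rw [mul_assoc]
          exact K.mul_mem ha hb
        · right
          have e : a * b * s = (a * s) * (s * b * s) := by
            calc a * b * s = a * (s * s) * b * s := by rw [hss, mul_one]
              _ = _ := by group
          rw [e, hinv' b hb]
          exact K.mul_mem ha (K.inv_mem hb)
        · left
          have e : a * b = (a * s) * (s * (b * s) * s) := by
            calc a * b = a * (s * s) * b * (s * s) := by rw [hss, mul_one, mul_one]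
              _ = _ := by group
          rw [e, hinv' _ hb]
          exact K.mul_mem ha (K.inv_mem hb)
      inv_mem' := by
        rintro a (ha | ha)
        · exact Or.inl (K.inv_mem ha)
        · right
          have e : a⁻¹ * s = (s * (a * s) * s)⁻¹ := by
            rw [mul_inv_rev, mul_inv_rev, mul_inv_rev, hs']
            calc a⁻¹ * s = (s * s) * a⁻¹ * s := by rw [hss, one_mul]
              _ = _ := by group
          rw [e, hinv' _ ha, inv_inv]
          exact ha }
  have hL : K ⊔ Subgroup.zpowers s ≤ L := by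
    apply sup_le
    · intro k hk
      exact Or.inl hk
    · rw [Subgroup.zpowers_le]
      right
      rw [hss]
      exact K.one_mem
  have h : Cfsg.Agent.Lib.Helper75.BSW t s K :=
    { ht := ht
      comm := fun x hx y hy => congrArg Subtype.val (hKab.is_comm.comm ⟨x, hx⟩ ⟨y, hy⟩)
      cen := fun x hx => Cfsg.Agent.Lib.Helper75.BSW.mem_cen.1 (hKH hx)
      htK := htK
      hs := hs
      hst := Cfsg.Agent.Lib.Helper75.BSW.mem_cen.1 hsH
      hsK := hsK
      hH := by
        intro g hg
        have h1 : g ∈ Subgroup.centralizer ({t} : Set G) :=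
          Cfsg.Agent.Lib.Helper75.BSW.mem_cen.2 hg
        rw [← hH] at h1
        exact hL h1
      hCK := by
        intro x hx hxs
        have h1 : x ∈ K ⊓ Subgroup.centralizer ({s} : Set G) :=
          Subgroup.mem_inf.2 ⟨hx, Cfsg.Agent.Lib.Helper75.BSW.mem_cen.2 hxs⟩
        rw [hCK] at h1
        exact (Cfsg.Agent.Lib.Helper75.BSW.mem_zpowers_invol ht).1 h1
      hinv := hinv
      hTI := by
        intro g x hx hgx hx1
        by_contra hg
        have h1 := hTI g (fun e => hg (Cfsg.Agent.Lib.Helper75.BSW.mem_cen.1 e))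
        have h2 : g * x * g⁻¹ ∈ K ⊓ K.map (MulAut.conj g).toMonoidHom := by
          rw [Subgroup.mem_inf]
          exact ⟨hgx, Subgroup.mem_map.2 ⟨x, hx, rfl⟩⟩
        rw [h1, Subgroup.mem_bot] at h2
        apply hx1
        have := congrArg (fun z => g⁻¹ * z * g) h2
        simpa [mul_assoc] using this
      conj := hconj }
  exact h.concl


end Cfsg.Agent.S3282
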