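import Cfsg.Statements.S1230
import Cfsg.Agent.Lib.Helper19.BSW3
import Cfsg.Agent.Lib.Helper19.ZassCore
import Cfsg.Agent.S1229

set_option autoImplicit false
open Cfsg

namespace Cfsg.Agent.S1230

/-- Let G be a finite group with a Sylow 2-subgroup T that is neither cyclic nor normal, such that the centralizer of every involution is an elementary abelian 2-group. Then G ≅ PSL(2,F) for a finite field F with |F| = |T|. -/
theorem result {G : Type*} [Group G] [Finite G] (T : Sylow 2 G) (hnc : ¬ IsCyclic (T : Subgroup G)) (hnn : ¬ (T : Subgroup G).Normal) (hC : ∀ t : G, orderOf t = 2 → IsMulCommutative (Subgroup.centralizer ({t} : Set G)) ∧ ∀ c ∈ Subgroup.centralizer ({t} : Set G), c ^ 2 = 1) : ∃ (F : Type) (_ : Field F) (_ : Fintype F), Fintype.card F = Nat.card T ∧ Nonempty (G ≃* Matrix.ProjectiveSpecialLinearGroup (Fin 2) F) := by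
  open Cfsg.Agent.Lib.Helper19 in
  have h : BSW T := ⟨hnc, hnn, hC⟩
  obtain ⟨h3t, hfix3, hreg⟩ := Cfsg.Agent.S1229.result T hnc hnn hC
  obtain ⟨u, hu1, hu2, huH⟩ := h.exists_invol_not_mem
  obtain ⟨s, hs, hs1, -, -⟩ := h.exists_central
  have smk : ∀ a g : G, a • (QuotientGroup.mk g : G ⧸ Hn T) = QuotientGroup.mk (a * g) := by
    intro a g
    rw [MulAction.Quotient.smul_mk, smul_eq_mul]
  have fixiff : ∀ d g : G, d • (QuotientGroup.mk g : G ⧸ Hn T) = QuotientGroup.mk g ↔ g⁻¹ * d * g ∈ Hn T := by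
    intro d g
    rw [smk, QuotientGroup.eq]
    have e : (d * g)⁻¹ * g = (g⁻¹ * d * g)⁻¹ := by group
    rw [e, inv_mem_iff]
  have k1 : ∀ g : G, (QuotientGroup.mk g : G ⧸ Hn T) = QuotientGroup.mk 1 ↔ g ∈ Hn T := by
    intro g
    rw [QuotientGroup.eq, mul_one, inv_mem_iff]
  have hp10 : (QuotientGroup.mk u : G ⧸ Hn T) ≠ QuotientGroup.mk 1 := fun hh => huH ((k1 u).mp hh)
  have fc : ∀ n : G, n • (QuotientGroup.mk 1 : G ⧸ Hn T) = QuotientGroup.mk 1 ↔ n ∈ Hn T := by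
    intro n
    rw [smk, mul_one, k1]
  have hTfree : ∀ t ∈ (T : Subgroup G), t • (QuotientGroup.mk u : G ⧸ Hn T) = QuotientGroup.mk u → t = 1 := by
    intro t ht htu
    obtain ⟨t₀, -, huniq⟩ := hreg _ _ hp10 hp10
    rw [huniq t ⟨ht, htu⟩, huniq 1 ⟨one_mem _, one_smul _ _⟩]
  have hsp : s • (QuotientGroup.mk u : G ⧸ Hn T) ≠ QuotientGroup.mk u := fun hh => hs1 (hTfree s hs hh)
  have hsp0 : s • (QuotientGroup.mk u : G ⧸ Hn T) ≠ QuotientGroup.mk 1 := by
    intro hh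
    rw [← (fc s).mpr (BSW.T_le_normalizer hs)] at hh
    exact hp10 (smul_left_cancel s hh)
  have hfaith : FaithfulSMul G (G ⧸ Hn T) := by
    refine ⟨fun {g₁ g₂} hg => ?_⟩
    have hall : ∀ x : G ⧸ Hn T, (g₂⁻¹ * g₁) • x = x := by
      intro x
      rw [mul_smul, hg x, inv_smul_smul]
    have := hfix3 (g₂⁻¹ * g₁) _ _ _ hp10.symm hsp0.symm hsp.symm (hall _) (hall _) (hall _)
    exact (inv_mul_eq_one.mp this).symm
  have hgen : Subgroup.closure (((T : Subgroup G) : Set G) ∪ (Dn T u : Set G) ∪ {u}) = ⊤ := by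
    rw [eq_top_iff]
    intro g _
    have hT : ∀ t ∈ (T : Subgroup G), t ∈ Subgroup.closure (((T : Subgroup G) : Set G) ∪ (Dn T u : Set G) ∪ {u}) :=
      fun t ht => Subgroup.subset_closure (Or.inl (Or.inl ht))
    have hD : ∀ t ∈ Dn T u, t ∈ Subgroup.closure (((T : Subgroup G) : Set G) ∪ (Dn T u : Set G) ∪ {u}) :=
      fun t ht => Subgroup.subset_closure (Or.inl (Or.inr ht))
    have hU : u ∈ Subgroup.closure (((T : Subgroup G) : Set G) ∪ (Dn T u : Set G) ∪ {u}) :=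
      Subgroup.subset_closure (Or.inr rfl)
    have hH : ∀ n ∈ Hn T, n ∈ Subgroup.closure (((T : Subgroup G) : Set G) ∪ (Dn T u : Set G) ∪ {u}) := by
      intro n hn
      obtain ⟨d, hd, t, ht, rfl⟩ := h.H_eq_DT hu2 huH hn
      exact mul_mem (hD d hd) (hT t ht)
    by_cases hg : g ∈ Hn T
    · exact hH g hg
    · obtain ⟨t, ht, htu⟩ := h.T_trans hu1 hu2 huH hg
      have e1 : g = (t * u) * (g⁻¹ * (t * u))⁻¹ := by group
      rw [e1]
      exact mul_mem (mul_mem (hT t ht) hU) (inv_mem (hH _ htu))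
  obtain ⟨F, iF, iFt, hcard, ⟨e1⟩⟩ := zassenhaus_core (X := G ⧸ Hn T) (T : Subgroup G) (Dn T u) u
    (QuotientGroup.mk 1) (QuotientGroup.mk u) hp10
    (fun a ha b hb => h.T_comm ha hb)
    (fun t ht => (fc t).mpr (BSW.T_le_normalizer ht))
    (fun x hx => by
      obtain ⟨t, ⟨ht, htx⟩, -⟩ := hreg _ x hp10 hx
      exact ⟨t, ht, htx⟩)
    hTfree
    (fun c hc d hd => h.D_comm hu1 hu2 huH hc hd)
    (fun d hd => (fc d).mpr (mem_Dn_iff.mp hd).1)
    (fun d hd => (fixiff d u).mpr (mem_Dn_iff.mp hd).2)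
    (fun d hd t ht => h.T_conj_mem (mem_Dn_iff.mp hd).1 ht)
    s hs hs1
    (fun t ht ht1 => h.D_trans hu2 huH hs hs1 ht ht1)
    (by rw [smk, mul_one])
    (by rw [smk, hu2])
    (fun d hd => h.D_inverted hu1 hu2 huH hd)
    hgen h3t
  have heven : Even (Fintype.card F) := by
    rw [hcard, ← h.card_D hu2 huH]
    exact (h.D_odd huH).add_one
  classical
  obtain ⟨e2⟩ := nonempty_PGL_mulEquiv_PSL (F := F) heven
  exact ⟨F, iF, iFt, hcard, ⟨e1.trans e2⟩⟩

end Cfsg.Agent.S1230
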