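import Cfsg.Statements.S1011
import Cfsg.Agent.Lib.Helper17.Ord504
import Cfsg.Agent.S1230

set_option autoImplicit false
open Cfsg

namespace Cfsg.Agent.S1011

open Cfsg.Agent.Lib.Helper17 Cfsg.Agent.Lib.Helper17.Ord504

/-- A simple group of order 504 is isomorphic to the projective special linear group of dimension 2 over the field with 8 elements. -/
theorem result {G : Type*} [Group G] [Finite G] [IsSimpleGroup G] (h : Nat.card G = 504) {F : Type*} [Field F] [Fintype F] (hF : Fintype.card F = 8) : Nonempty (G ≃* Matrix.ProjectiveSpecialLinearGroup (Fin 2) F) := by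
  have : Fact (Nat.Prime 2) := ⟨by norm_num⟩
  obtain ⟨T⟩ : Nonempty (Sylow 2 G) := inferInstance
  have hT8 : Nat.card ↥(T : Subgroup G) = 8 := by
    have := (sylow_card_index T (a := 3) (m := 63) (by rw [h]; norm_num) (by norm_num)).1
    rw [this]; norm_num
  have hnc : ¬ IsCyclic ↥(T : Subgroup G) := by
    intro hc
    obtain ⟨g, hg⟩ := hc.exists_ofOrder_eq_natCard
    rw [hT8] at hg
    exact (orderOf_ne h (g : G)).2 ((Subgroup.orderOf_coe g).trans hg)
  have hnn : ¬ (T : Subgroup G).Normal := by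
    intro hn
    rcases normal_card _ hn with h1 | h1
    · rw [hT8] at h1; omega
    · rw [hT8, h] at h1; omega
  have hC : ∀ t : G, orderOf t = 2 → IsMulCommutative (Subgroup.centralizer ({t} : Set G)) ∧
      ∀ c ∈ Subgroup.centralizer ({t} : Set G), c ^ 2 = 1 := by
    intro t ht
    have hsq := fun c hc => sq_eq_one h t c ht hc
    refine ⟨⟨⟨fun a b => Subtype.ext ?_⟩⟩, hsq⟩
    have ha := hsq a.1 a.2
    have hb := hsq b.1 b.2
    have hab := hsq (a.1 * b.1) (mul_mem a.2 b.2)
    rw [sq] at ha hb hab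
    show a.1 * b.1 = b.1 * a.1
    calc a.1 * b.1 = (a.1 * b.1)⁻¹ := (inv_eq_of_mul_eq_one_left hab).symm
      _ = b.1⁻¹ * a.1⁻¹ := mul_inv_rev _ _
      _ = b.1 * a.1 := by rw [inv_eq_of_mul_eq_one_left ha, inv_eq_of_mul_eq_one_left hb]
  obtain ⟨F', _, _, hF', ⟨e⟩⟩ := Cfsg.Agent.S1230.result T hnc hnn hC
  have e2 : F' ≃+* F := FiniteField.ringEquivOfCardEq (by rw [hF', hT8, hF])
  obtain ⟨e3⟩ := nonempty_psl_equiv (n := Fin 2) e2
  exact ⟨e.trans e3⟩

end Cfsg.Agent.S1011
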