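import Cfsg.Statements.S0018
import Mathlib
import Cfsg.Agent.S0017
import Cfsg.Agent.Lib.Helper1.Cores
import Cfsg.Agent.Lib.Helper1.Tools

set_option autoImplicit false
open Cfsg

namespace Cfsg.Agent.S0018


/-- A finite solvable group whose Sylow p-subgroups are abelian has p-length one: a Sylow p-subgroup together with the largest normal subgroup of order prime to p generates a normal subgroup. -/
theorem result {G : Type*} [Group G] [Finite G] [Group.IsSolvable G]
    (p : ℕ) [Fact p.Prime] (P : Sylow p G) (hP : IsMulCommutative P) :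
    ((P : Subgroup G) ⊔ Cfsg.pPrimeCore p G).Normal := by
  have hp : p.Prime := Fact.out
  set O := Cfsg.pPrimeCore p G with hO
  have hOn : O.Normal := Cfsg.Agent.Lib.Helper1.pPrimeCore_normal p
  let f := QuotientGroup.mk' O
  have hf : Function.Surjective f := QuotientGroup.mk'_surjective O
  have hker : f.ker = O := QuotientGroup.ker_mk' O
  have h1 : Cfsg.pPrimeCore p (G ⧸ O) = ⊥ := by
    rw [eq_bot_iff]
    apply sSup_le
    rintro N ⟨hNn, hNc⟩
    have h2 : N.comap f ≤ O := Cfsg.Agent.Lib.Helper1.le_pPrimeCore (hNn.comap f) (by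
      rw [Cfsg.Agent.Lib.Helper1.card_comap_of_surjective hf, hker]
      exact Nat.Coprime.mul_left hNc (Cfsg.Agent.Lib.Helper1.pPrimeCore_coprime hp))
    rw [← Subgroup.map_comap_eq_self_of_surjective hf N]
    refine (Subgroup.map_mono h2).trans ?_
    rw [le_bot_iff, Subgroup.map_eq_bot_iff, hker]
  have h3 := Cfsg.Agent.S0017.result (G := G ⧸ O) p h1
  have h4 : Cfsg.pCore p (G ⧸ O) ≤ (P : Subgroup G).map f :=
    Cfsg.Agent.Lib.Helper1.pCore_le_sylow (P.mapSurjective hf)
  have h5 : (P : Subgroup G).map f ≤ Subgroup.centralizer (((P : Subgroup G).map f : Subgroup (G ⧸ O)) : Set (G ⧸ O)) := by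
    rw [Subgroup.le_centralizer_iff_isMulCommutative]
    refine ⟨⟨?_⟩⟩
    rintro ⟨_, x, hx, rfl⟩ ⟨_, y, hy, rfl⟩
    apply Subtype.ext
    change f x * f y = f y * f x
    have h6 : (⟨x, hx⟩ : P) * ⟨y, hy⟩ = ⟨y, hy⟩ * ⟨x, hx⟩ := hP.is_comm.comm _ _
    have h7 : x * y = y * x := congrArg Subtype.val h6
    rw [← map_mul, ← map_mul, h7]
  have h6 : (P : Subgroup G).map f = Cfsg.pCore p (G ⧸ O) :=
    le_antisymm ((h5.trans (Subgroup.centralizer_le h4)).trans h3) h4
  have h7 : (P : Subgroup G) ⊔ O = ((P : Subgroup G).map f).comap f := by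
    rw [Subgroup.comap_map_eq, hker]
  rw [h7, h6]
  exact (Cfsg.Agent.Lib.Helper1.pCore_normal p).comap f

end Cfsg.Agent.S0018
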