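import Cfsg.Statements.S3779
import Cfsg.Agent.S0033
import Cfsg.Agent.Lib.Helper6.HKK.G
import Cfsg.Agent.Lib.Helper6.HKK.P23
import Cfsg.Agent.Lib.Helper6.HKK.II
import Cfsg.Agent.Lib.Helper6.HKK.B8a
import Cfsg.Agent.Lib.Helper6.HKK.B8d
import Cfsg.Agent.Lib.Helper6.HKK.B8e
import Cfsg.Agent.Lib.Helper6.HKK.B9
import Cfsg.Agent.Lib.Helper6.HKK.C1

set_option autoImplicit false
open Cfsg

namespace Cfsg.Agent.S3779

open Cfsg.Agent.Lib.Helper6.HKK in
/-- the reduction of the group statement to the statement on graded systems in Lie rings -/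
theorem key {G : Type*} [Group G] [Finite G] {p : ℕ} (hp : p.Prime) (α : MulAut G) (hα : orderOf α = p)
    (hfpf : ∀ g : G, α g = g → g = 1) (h : ℕ)
    (hG : ∀ (S : GS p (LH p (LG G))) (X : LH p (LG G)) (l : List (LH p (LG G))),
      S.Hom X → (∀ Y ∈ l, S.Hom Y) → l.length = h → lnb X l = 0) :
    (⊤ : Subgroup G).lowerCentralSeries h = ⊥ := by
  haveI : Fact p.Prime := ⟨hp⟩
  have hαp : α ^ p = 1 := by rw [← hα]; exact pow_orderOf_eq_one α
  have hnil : Group.IsNilpotent G := by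
    refine Cfsg.Agent.S0033.result α ?_ p hp hα
    intro g hg
    exact hfpf g hg
  have hl := lie_fpf p (phi G α) (phi_lie α) (phi_pow α p hαp) (phi_sum α p hαp hfpf)
    (LG_tor p (card_fpf α p hαp hfpf)) h hG
  exact Gm_eq_bot hnil h (Gm_le_of_lnb h hl)

/-- Let G be a finite group with an automorphism of prime order p fixing only the identity. Then G is nilpotent; if p = 2 then G is abelian, if p = 3 then G has class at most 2, and in general the class of G is at most ξ = 1 + (p−1) + (p−1)² + ⋯ + (p−1)^(n−1) with n = 2^(p−1) − 1 (the Higman–Kreknin–Kostrikin bound). -/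
theorem result {G : Type*} [Group G] [Finite G] {p : ℕ} (hp : p.Prime) (α : MulAut G) (hα : orderOf α = p) (hfpf : ∀ g : G, α g = g → g = 1) : (p = 2 → (⊤ : Subgroup G).lowerCentralSeries 1 = ⊥) ∧ (p = 3 → (⊤ : Subgroup G).lowerCentralSeries 2 = ⊥) ∧ (⊤ : Subgroup G).lowerCentralSeries (Finset.sum (Finset.range (2 ^ (p - 1) - 1)) (fun i => (p - 1) ^ i)) = ⊥ := by
  haveI : Fact p.Prime := ⟨hp⟩
  refine ⟨?_, ?_, ?_⟩
  · rintro rfl
    exact key hp α hα hfpf 1 (fun S => Cfsg.Agent.Lib.Helper6.HKK.thm2 S)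
  · rintro rfl
    exact key hp α hα hfpf 2 (fun S => Cfsg.Agent.Lib.Helper6.HKK.thm3 S)
  · exact key hp α hα hfpf _ (fun S => Cfsg.Agent.Lib.Helper6.HKK.thmG p S)

end Cfsg.Agent.S3779
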