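import Cfsg.Statements.S1530
import Cfsg.Agent.Lib.Helper26.Glue
import Cfsg.Agent.S1529
set_option autoImplicit false
open Cfsg

namespace Cfsg.Agent.S1530

open Cfsg.Agent.Lib.Helper26 Cfsg.Agent.Lib.Helper3

/-- the arithmetic core -/
theorem arith {dψ a x n T : ℤ} (hd : 0 < dψ) (ha : 0 ≤ a) (hn : 0 ≤ n) (hT : 2 * a * dψ ^ 2 < T)
    (h : dψ ^ 2 * (1 + a ^ 2 - n) = x ^ 2 * T - 2 * a * dψ ^ 2 * x + a ^ 2 * dψ ^ 2) :
    (x = 0 ∧ n = 1) ∨ (x ≠ 0 ∧ n = 0) := by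
  by_cases hx : x = 0
  · left
    refine ⟨hx, ?_⟩
    subst hx
    have h1 : dψ ^ 2 * (1 - n) = 0 := by linarith
    have h2 : dψ ^ 2 ≠ 0 := by positivity
    have := (mul_eq_zero.1 h1).resolve_left h2
    omega
  · right
    refine ⟨hx, ?_⟩
    have hx2 : 1 ≤ x ^ 2 := by
      have : 0 < x ^ 2 := by positivity
      omega
    have hxx : 0 ≤ x ^ 2 - x := by
      rcases lt_or_ge x 0 with h0 | h0
      · nlinarith
      · have : 1 ≤ x := by omega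
        nlinarith
    have h1 : 0 < x ^ 2 * (T - 2 * a * dψ ^ 2) := by
      apply mul_pos <;> linarith
    have h2 : 0 ≤ 2 * a * dψ ^ 2 * (x ^ 2 - x) := by positivity
    have h3 : 0 < dψ ^ 2 * (1 - n) := by nlinarith
    have h4 : 0 < dψ ^ 2 := by positivity
    have h5 : 0 < 1 - n := by
      by_contra hcon
      have : 1 - n ≤ 0 := by omega
      nlinarith
    omega

theorem general {N : Type*} [Group N] [Fintype N] {G : Type*} [Group G] [Fintype G]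
    (S₀ : Finset (N → ℂ)) (χ : N → ℂ) (hirr : ∀ ξ ∈ S₀, IsIrrCharacter N ξ)
    (hχ : IsIrrCharacter N χ) (hχS : χ ∉ S₀) (d : (N → ℂ) → ℕ)
    (hd : ∀ ξ ∈ insert χ S₀, ξ 1 = (d ξ : ℂ)) (τ : (N → ℂ) → (G → ℂ))
    (hτ : IsLinearIsometryOn (zspanOn (↑(insert χ S₀) : Set (N → ℂ)) {1}ᶜ) τ)
    (hτ1 : ∀ α ∈ zspanOn (↑(insert χ S₀) : Set (N → ℂ)) {1}ᶜ, τ α 1 = 0)
    (hcoh : IsCoherent (↑S₀ : Set (N → ℂ)) {1}ᶜ τ) (ψ : N → ℂ) (hψ : ψ ∈ S₀)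
    (hdvd : d ψ ∣ d χ) (hlt : 2 * d ψ * d χ < ∑ ξ ∈ S₀, d ξ ^ 2) :
    IsCoherent (↑(insert χ S₀) : Set (N → ℂ)) {1}ᶜ τ := by
  classical
  obtain ⟨⟨α₀, hα₀, hα₀ne⟩, τ₀, hτ₀, hagree⟩ := hcoh
  obtain ⟨a, ha⟩ := hdvd
  set S : Set (N → ℂ) := ↑(insert χ S₀) with hSdef
  have hS₀S : (↑S₀ : Set (N → ℂ)) ⊆ S := by
    intro ξ hξ; rw [hSdef]; exact_mod_cast Finset.mem_insert_of_mem hξ
  have hχmem : χ ∈ S := by rw [hSdef]; exact_mod_cast Finset.mem_insert_self χ S₀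
  have hSeq : S = ↑S₀ ∪ {χ} := by rw [hSdef, Finset.coe_insert, Set.union_singleton]
  have hdχ : χ 1 = (d χ : ℂ) := hd χ (Finset.mem_insert_self _ _)
  have hdS : ∀ ξ ∈ S₀, ξ 1 = (d ξ : ℂ) := fun ξ h => hd ξ (Finset.mem_insert_of_mem h)
  have hdpos : ∀ ξ ∈ S₀, 0 < d ξ := by
    intro ξ hξ
    obtain ⟨n, hn0, hn⟩ := irr_degree (hirr ξ hξ)
    have : (d ξ : ℂ) = n := by rw [← hdS ξ hξ, hn]
    have : d ξ = n := by exact_mod_cast this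
    omega
  have hS₀gen : ∀ ξ ∈ (↑S₀ : Set (N → ℂ)), IsGeneralizedCharacter N ξ :=
    fun ξ h => gen_of_irr (hirr ξ h)
  have hχξ : ∀ ξ ∈ S₀, classInner χ ξ = 0 := by
    intro ξ hξ
    apply classInner_irr_ne hχ (hirr ξ hξ)
    rintro rfl; exact hχS hξ
  have hmemS₀ : ∀ ξ ∈ S₀, ξ ∈ zspan (↑S₀ : Set (N → ℂ)) := fun ξ h => mem_zspan h
  -- β
  have hβ1 : χ ∈ zspan S := mem_zspan hχmem
  have hβ2 : ((a : ℤ) • ψ) ∈ zspan S := zspan_zsmul _ (mem_zspan (hS₀S hψ))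
  have hβ : (χ - (a : ℤ) • ψ) ∈ zspanOn S {1}ᶜ :=
    mem_zspanOn_one.2 ⟨zspan_sub hβ1 hβ2, by
      simp [hdχ, hdS ψ hψ, ha, mul_comm]⟩
  set B := τ (χ - (a : ℤ) • ψ) with hB
  have hBgen : IsGeneralizedCharacter G B := iso_gen hτ hβ
  have hstar_gen : ∀ ξ ∈ S₀, IsGeneralizedCharacter G (τ₀ ξ) := fun ξ h => iso_gen hτ₀ (hmemS₀ ξ h)
  have hcex : ∀ ξ, ∃ n : ℤ, ξ ∈ S₀ → classInner B (τ₀ ξ) = n := by
    intro ξ
    by_cases hξ : ξ ∈ S₀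
    · obtain ⟨n, hn⟩ := gen_inner_int hBgen (hstar_gen ξ hξ)
      exact ⟨n, fun _ => hn⟩
    · exact ⟨0, fun h => absurd h hξ⟩
  choose c hc using hcex
  have horthn : ∀ ξ ∈ S₀, ∀ ξ' ∈ S₀, classInner (τ₀ ξ) (τ₀ ξ') = if ξ = ξ' then 1 else 0 := by
    intro ξ hξ ξ' hξ'
    rw [iso_inner hτ₀ (hmemS₀ ξ hξ) (hmemS₀ ξ' hξ'), classInner_irr (hirr ξ hξ) (hirr ξ' hξ')]
  set x : ℤ := c ψ + a with hx
  -- relation (*)
  have hstar : ∀ ξ ∈ S₀, (d ψ : ℤ) * c ξ = (d ξ : ℤ) * x - (if ξ = ψ then (a : ℤ) * d ψ else 0) := by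
    intro ξ hξ
    have hγ1 : ((d ψ : ℤ) • ξ) ∈ zspan (↑S₀ : Set (N → ℂ)) := zspan_zsmul _ (hmemS₀ ξ hξ)
    have hγ2 : ((d ξ : ℤ) • ψ) ∈ zspan (↑S₀ : Set (N → ℂ)) := zspan_zsmul _ (hmemS₀ ψ hψ)
    have hγ : ((d ψ : ℤ) • ξ - (d ξ : ℤ) • ψ) ∈ zspanOn (↑S₀ : Set (N → ℂ)) {1}ᶜ :=
      mem_zspanOn_one.2 ⟨zspan_sub hγ1 hγ2, by simp [hdS ξ hξ, hdS ψ hψ, mul_comm]⟩
    have h1 : classInner B (τ₀ ((d ψ : ℤ) • ξ - (d ξ : ℤ) • ψ)) =
        classInner (χ - (a : ℤ) • ψ) ((d ψ : ℤ) • ξ - (d ξ : ℤ) • ψ) := by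
      rw [hagree _ hγ, hB, iso_inner hτ hβ (zspanOn_mono _ hS₀S hγ)]
    rw [iso_sub hτ₀ (isZMod_zspan _) hγ1 hγ2, iso_zsmul hτ₀ _ (hmemS₀ ξ hξ),
      iso_zsmul hτ₀ _ (hmemS₀ ψ hψ)] at h1
    simp only [classInner_sub_left, classInner_sub_right, classInner_zsmul_left,
      classInner_zsmul_right, hc ξ hξ, hc ψ hψ, hχξ ξ hξ, hχξ ψ hψ,
      classInner_irr_self (hirr ψ hψ), classInner_irr (hirr ψ hψ) (hirr ξ hξ)] at h1
    by_cases hξψ : ξ = ψ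
    · subst hξψ
      simp only [if_true]
      rw [hx]; ring
    · rw [if_neg hξψ]
      rw [if_neg (Ne.symm hξψ)] at h1
      have h2 : ((d ψ : ℤ) * c ξ - (d ξ : ℤ) * c ψ : ℂ) = ((a : ℤ) * (d ξ : ℤ) : ℂ) := by
        push_cast at h1 ⊢
        linear_combination h1
      have h3 : (d ψ : ℤ) * c ξ - (d ξ : ℤ) * c ψ = (a : ℤ) * (d ξ : ℤ) := by exact_mod_cast h2
      rw [hx]; linarith
  -- Δ
  set P : G → ℂ := ∑ ξ ∈ S₀, c ξ • τ₀ ξ with hP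
  set Δ : G → ℂ := B - P with hΔ
  have hPgen : IsGeneralizedCharacter G P := gen_sum _ _ fun ξ hξ => gen_zsmul (hstar_gen ξ hξ) _
  have hΔgen : IsGeneralizedCharacter G Δ := gen_sub hBgen hPgen
  have hPξ : ∀ ξ ∈ S₀, classInner P (τ₀ ξ) = c ξ := by
    intro ξ hξ
    rw [hP, classInner_sum_left, Finset.sum_eq_single ξ]
    · rw [classInner_zsmul_left, horthn ξ hξ ξ hξ, if_pos rfl, mul_one]
    · intro ξ' hξ' hne
      rw [classInner_zsmul_left, horthn ξ' hξ' ξ hξ, if_neg hne, mul_zero]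
    · intro h; exact absurd hξ h
  have hΔorth : ∀ ξ ∈ S₀, classInner Δ (τ₀ ξ) = 0 := by
    intro ξ hξ
    rw [hΔ, classInner_sub_left, hc ξ hξ, hPξ ξ hξ, sub_self]
  have hΔP : classInner Δ P = 0 := by
    rw [hP, classInner_sum_right]
    apply Finset.sum_eq_zero
    intro ξ hξ
    rw [classInner_zsmul_right, hΔorth ξ hξ, mul_zero]
  have hBP : classInner B P = ((∑ ξ ∈ S₀, c ξ ^ 2 : ℤ) : ℂ) := by
    rw [hP, classInner_sum_right]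
    push_cast
    apply Finset.sum_congr rfl
    intro ξ hξ
    rw [classInner_zsmul_right, hc ξ hξ]; ring
  obtain ⟨n, hn⟩ := gen_norm_nat hΔgen
  have hBB : classInner B B = 1 + (a : ℂ) ^ 2 := by
    rw [hB, iso_inner hτ hβ hβ]
    simp only [classInner_sub_left, classInner_sub_right, classInner_zsmul_left,
      classInner_zsmul_right, classInner_irr_self hχ, classInner_irr_self (hirr ψ hψ), hχξ ψ hψ]
    rw [gen_inner_comm (gen_of_irr (hirr ψ hψ)) (gen_of_irr hχ), hχξ ψ hψ]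
    push_cast; ring
  have hnorm : (1 + (a : ℤ) ^ 2 : ℤ) = n + ∑ ξ ∈ S₀, c ξ ^ 2 := by
    have h1 : classInner B B = classInner Δ Δ + classInner B P := by
      have e1 : B = Δ + P := by rw [hΔ]; abel
      have e2 : classInner B Δ = classInner Δ Δ := by
        conv_lhs => rw [e1]
        rw [classInner_add_left, gen_inner_comm hPgen hΔgen, hΔP, add_zero]
      conv_lhs => rw [e1]
      rw [classInner_add_right, ← e1, e2]
    rw [hBB, hn, hBP] at h1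
    exact_mod_cast h1
  set T : ℤ := ∑ ξ ∈ S₀, (d ξ : ℤ) ^ 2 with hT
  have hTlt : 2 * (a : ℤ) * (d ψ : ℤ) ^ 2 < T := by
    have : ((2 * d ψ * d χ : ℕ) : ℤ) < ((∑ ξ ∈ S₀, d ξ ^ 2 : ℕ) : ℤ) := by exact_mod_cast hlt
    rw [ha] at this
    push_cast at this
    rw [hT]; linarith
  have hsumsq : (d ψ : ℤ) ^ 2 * ∑ ξ ∈ S₀, c ξ ^ 2 =
      x ^ 2 * T - 2 * a * (d ψ : ℤ) ^ 2 * x + (a : ℤ) ^ 2 * (d ψ : ℤ) ^ 2 := by
    rw [Finset.mul_sum]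
    have h1 : ∀ ξ ∈ S₀, (d ψ : ℤ) ^ 2 * c ξ ^ 2 = x ^ 2 * (d ξ : ℤ) ^ 2 -
        (if ξ = ψ then 2 * a * (d ψ : ℤ) ^ 2 * x - (a : ℤ) ^ 2 * (d ψ : ℤ) ^ 2 else 0) := by
      intro ξ hξ
      have h2 := hstar ξ hξ
      have h3 : (d ψ : ℤ) ^ 2 * c ξ ^ 2 = ((d ψ : ℤ) * c ξ) ^ 2 := by ring
      rw [h3, h2]
      by_cases hξψ : ξ = ψ
      · subst hξψ; simp only [if_true]; ring
      · simp only [if_neg hξψ]; ring
    rw [Finset.sum_congr rfl h1, Finset.sum_sub_distrib, ← Finset.mul_sum, Finset.sum_ite_eq' S₀ ψ,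
      if_pos hψ]
    ring
  have hdψpos : (0 : ℤ) < d ψ := by exact_mod_cast hdpos ψ hψ
  have harith := arith (dψ := d ψ) (a := a) (x := x) (n := n) (T := T) hdψpos (by positivity)
    (by positivity) hTlt (by
      have : (1 + (a : ℤ) ^ 2 - n) = ∑ ξ ∈ S₀, c ξ ^ 2 := by linarith
      rw [this, hsumsq])
  have h0τ₀ : ∀ θ ∈ zspan (↑S₀ : Set (N → ℂ)), θ 1 = 0 → τ₀ θ 1 = 0 := by
    intro θ hθ h1
    have hm : θ ∈ zspanOn (↑S₀ : Set (N → ℂ)) {1}ᶜ := mem_zspanOn_one.2 ⟨hθ, h1⟩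
    rw [hagree θ hm]; exact hτ1 θ (zspanOn_mono _ hS₀S hm)
  obtain ⟨hpm, hdeg, -, -⟩ := Cfsg.Agent.S1529.signs (↑S₀ : Set (N → ℂ)) hirr τ₀ hτ₀ h0τ₀
  rcases harith with ⟨hx0, hn1⟩ | ⟨hx0, hn0⟩
  swap
  · -- contradiction
    exfalso
    have hΔ0 : Δ = 0 := by
      apply classInner_self_eq_zero
      rw [hn]; exact_mod_cast hn0
    have hBeq : B = P := by rw [hΔ] at hΔ0; exact sub_eq_zero.1 hΔ0
    have hB1 : B 1 = 0 := hτ1 _ hβ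
    have hψ1 : τ₀ ψ 1 ≠ 0 := by
      rcases hpm ψ hψ with h | h
      · exact IsIrrCharacter.apply_one_ne_zero h
      · have := IsIrrCharacter.apply_one_ne_zero h
        intro h0; apply this; simp [h0]
    have h1 : ((d ψ : ℂ)) ^ 2 * P 1 = τ₀ ψ 1 * ((x * T - a * (d ψ : ℤ) ^ 2 : ℤ) : ℂ) := by
      rw [hP, Finset.sum_apply, Finset.mul_sum]
      have h2 : ∀ ξ ∈ S₀, ((d ψ : ℂ)) ^ 2 * (c ξ • τ₀ ξ) 1 = τ₀ ψ 1 * ((x * (d ξ : ℤ) ^ 2 -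
          (if ξ = ψ then (a : ℤ) * (d ψ : ℤ) ^ 2 else 0) : ℤ) : ℂ) := by
        intro ξ hξ
        have h3 := hdeg ξ hξ ψ hψ
        rw [hdS ξ hξ, hdS ψ hψ] at h3
        have h4 : ((d ψ : ℂ)) * (c ξ : ℂ) = (((d ξ : ℤ) * x - (if ξ = ψ then (a : ℤ) * d ψ else 0) : ℤ) : ℂ) := by
          rw [← hstar ξ hξ]; push_cast; ring
        rw [Pi.smul_apply, zsmul_eq_mul]
        by_cases hξψ : ξ = ψ
        · subst hξψ
          simp only [if_true] at h4 ⊢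
          push_cast at h4 ⊢
          linear_combination (d ξ : ℂ) * τ₀ ξ 1 * h4
        · simp only [if_neg hξψ] at h4 ⊢
          push_cast at h4 ⊢
          linear_combination (d ψ : ℂ) * τ₀ ξ 1 * h4 + (d ξ : ℂ) * x * h3
      rw [Finset.sum_congr rfl h2, ← Finset.mul_sum]
      congr 1
      rw [← Int.cast_sum, Finset.sum_sub_distrib, ← Finset.mul_sum, Finset.sum_ite_eq' S₀ ψ, if_pos hψ]
    rw [← hBeq, hB1, mul_zero] at h1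
    have h2 : ((x * T - a * (d ψ : ℤ) ^ 2 : ℤ) : ℂ) = 0 := (mul_eq_zero.1 h1.symm).resolve_left hψ1
    have h3 : x * T - a * (d ψ : ℤ) ^ 2 = 0 := by exact_mod_cast h2
    have ha0 : (0 : ℤ) ≤ a * (d ψ : ℤ) ^ 2 := by positivity
    rcases lt_or_gt_of_ne hx0 with hneg | hpos
    · have : x ≤ -1 := by omega
      nlinarith
    · have : 1 ≤ x := by omega
      nlinarith
  · -- the good case
    have hcξ : ∀ ξ ∈ S₀, c ξ = if ξ = ψ then -(a : ℤ) else 0 := by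
      intro ξ hξ
      have h1 := hstar ξ hξ
      rw [hx0, mul_zero, zero_sub] at h1
      by_cases hξψ : ξ = ψ
      · simp only [if_pos hξψ] at h1 ⊢
        have : (d ψ : ℤ) * c ξ = (d ψ : ℤ) * (-(a : ℤ)) := by linarith
        exact mul_left_cancel₀ hdψpos.ne' this
      · simp only [if_neg hξψ] at h1 ⊢
        have : (d ψ : ℤ) * c ξ = (d ψ : ℤ) * 0 := by linarith
        exact mul_left_cancel₀ hdψpos.ne' this
    have hPeq : P = -((a : ℤ) • τ₀ ψ) := by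
      rw [hP, Finset.sum_eq_single ψ]
      · rw [hcξ ψ hψ, if_pos rfl, neg_smul]
      · intro ξ hξ hne
        rw [hcξ ξ hξ, if_neg hne, zero_smul]
      · intro h; exact absurd hψ h
    have hBeq : B = Δ - (a : ℤ) • τ₀ ψ := by
      rw [hΔ, hPeq]; abel
    have hΔnorm : classInner Δ Δ = 1 := by rw [hn]; exact_mod_cast hn1
    -- isometry on zspan {χ}
    let σ' : (N → ℂ) → (G → ℂ) := fun θ => classInner θ χ • Δ
    have hσ'k : ∀ k : ℤ, σ' (k • χ) = k • Δ := by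
      intro k
      show classInner (k • χ) χ • Δ = k • Δ
      rw [classInner_zsmul_left, classInner_irr_self hχ, mul_one, Int.cast_smul_eq_zsmul]
    have hmemχ : ∀ θ ∈ zspan ({χ} : Set (N → ℂ)), ∃ k : ℤ, θ = k • χ := by
      intro θ hθ
      obtain ⟨k, hk⟩ := Submodule.mem_span_singleton.1 hθ
      exact ⟨k, hk.symm⟩
    have hσ' : IsLinearIsometryOn (zspan ({χ} : Set (N → ℂ))) σ' := by
      refine ⟨?_, ?_, ?_, ?_⟩
      · intro θ _ θ' _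
        show classInner (θ + θ') χ • Δ = classInner θ χ • Δ + classInner θ' χ • Δ
        rw [classInner_add_left, add_smul]
      · intro θ _ k
        show classInner (k • θ) χ • Δ = k • (classInner θ χ • Δ)
        rw [classInner_zsmul_left, mul_smul, Int.cast_smul_eq_zsmul]
      · intro θ hθ θ' hθ'
        obtain ⟨k, rfl⟩ := hmemχ θ hθ
        obtain ⟨k', rfl⟩ := hmemχ θ' hθ'
        rw [hσ'k, hσ'k]
        simp only [classInner_zsmul_left, classInner_zsmul_right, hΔnorm, classInner_irr_self hχ]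
      · intro θ hθ
        obtain ⟨k, rfl⟩ := hmemχ θ hθ
        rw [hσ'k]; exact gen_zsmul hΔgen k
    obtain ⟨τ₁, hτ₁, key⟩ := glue (X := (↑S₀ : Set (N → ℂ))) (Y := {χ}) hS₀gen
      (fun η hη => by rw [Set.mem_singleton_iff.1 hη]; exact gen_of_irr hχ)
      (fun ξ hξ η hη => by
        rw [Set.mem_singleton_iff.1 hη, gen_inner_comm (gen_of_irr (hirr ξ hξ)) (gen_of_irr hχ)]
        exact hχξ ξ hξ) hτ₀ hσ'
      (fun ξ hξ η hη => by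
        rw [Set.mem_singleton_iff.1 hη]
        have : σ' χ = Δ := by simpa using hσ'k 1
        rw [this, gen_inner_comm (hstar_gen ξ hξ) hΔgen]
        exact hΔorth ξ hξ)
    rw [← hSeq] at hτ₁
    refine ⟨⟨α₀, zspanOn_mono _ hS₀S hα₀, hα₀ne⟩, τ₁, hτ₁, ?_⟩
    intro θ hθ
    obtain ⟨hθs, hθ1⟩ := mem_zspanOn_one.1 hθ
    rw [hSeq] at hθs
    obtain ⟨θ₀, hθ₀, b, hb, rfl⟩ := mem_zspan_union.1 hθs
    obtain ⟨k, rfl⟩ := hmemχ b hb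
    rw [key θ₀ hθ₀ _ hb, hσ'k]
    have hψz : ((k * a) • ψ) ∈ zspan (↑S₀ : Set (N → ℂ)) := zspan_zsmul _ (hmemS₀ ψ hψ)
    have hpiece : (θ₀ + (k * a) • ψ) ∈ zspanOn (↑S₀ : Set (N → ℂ)) {1}ᶜ :=
      mem_zspanOn_one.2 ⟨zspan_add hθ₀ hψz, by
        have : θ₀ 1 + (k : ℂ) * χ 1 = 0 := by simpa using hθ1
        rw [hdχ, ha] at this
        rw [Pi.add_apply, Pi.smul_apply, zsmul_eq_mul, hdS ψ hψ]
        push_cast at this ⊢
        linear_combination this⟩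
    have hsplit : θ₀ + k • χ = (θ₀ + (k * a) • ψ) + k • (χ - (a : ℤ) • ψ) := by module
    have hZS := isZMod_zspanOn S ({1}ᶜ : Set N)
    rw [hsplit, iso_add hτ (zspanOn_mono _ hS₀S hpiece) (hZS.zsmul _ hβ), iso_zsmul hτ _ hβ,
      ← hagree _ hpiece, iso_add hτ₀ hθ₀ hψz, iso_zsmul hτ₀ _ (hmemS₀ ψ hψ), ← hB, hBeq]
    module

theorem result {G : Type*} [Group G] [Fintype G] (N : Subgroup G) [Fintype N] (S₀ : Finset (N → ℂ)) (χ : N → ℂ) (hirr : ∀ ξ ∈ S₀, Cfsg.IsIrrCharacter N ξ) (hχ : Cfsg.IsIrrCharacter N χ) (hχS : χ ∉ S₀) (d : (N → ℂ) → ℕ) (hd : ∀ ξ ∈ insert χ S₀, ξ 1 = (d ξ : ℂ)) (τ : (N → ℂ) → (G → ℂ)) (hτ : Cfsg.IsLinearIsometryOn (Cfsg.zspanOn (↑(insert χ S₀) : Set (N → ℂ)) {1}ᶜ) τ) (hτ1 : ∀ α ∈ Cfsg.zspanOn (↑(insert χ S₀) : Set (N → ℂ)) {1}ᶜ, τ α 1 = 0) (hcoh : Cfsg.IsCoherent (↑S₀ : Set (N → ℂ)) {1}ᶜ τ) (ψ : N → ℂ) (hψ : ψ ∈ S₀) (hdvd : d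 ψ ∣ d χ) (hlt : 2 * d ψ * d χ < ∑ ξ ∈ S₀, d ξ ^ 2) : Cfsg.IsCoherent (↑(insert χ S₀) : Set (N → ℂ)) {1}ᶜ τ :=
  general S₀ χ hirr hχ hχS d hd τ hτ hτ1 hcoh ψ hψ hdvd hlt

end Cfsg.Agent.S1530
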