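import Cfsg.Statements.S2530
import Mathlib

set_option autoImplicit false
open Cfsg

namespace Cfsg.Agent.S2530

section abstract
variable {G : Type*} [Group G] (s : ℕ → G)

/-- `F k j = s (k+j-1) * ... * s (k+1) * s k` -/
def F (k : ℕ) : ℕ → G
  | 0 => 1
  | j+1 => s (k + j) * F k j

lemma F_zero (k : ℕ) : F s k 0 = 1 := rfl
lemma F_succ (k j : ℕ) : F s k (j+1) = s (k + j) * F s k j := rfl

lemma F1 (k j : ℕ) : F s k (j+1) = F s (k+1) j * s k := by
  induction j with
  | zero => simp [F]
  | succ j ih =>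
    rw [F_succ, ih, F_succ s (k+1) j, mul_assoc]
    have : k + (j + 1) = k + 1 + j := by omega
    rw [this]

variable (N : ℕ) (hsq : ∀ i < N, s i * s i = 1)
  (hbraid : ∀ i, i + 1 < N → s i * s (i+1) * s i = s (i+1) * s i * s (i+1))
  (hcomm : ∀ i j, i + 2 ≤ j → j < N → s i * s j = s j * s i)

include hcomm in
lemma F2 (i k j : ℕ) (h1 : i + 2 ≤ k) (h2 : k + j ≤ N) : s i * F s k j = F s k j * s i := by
  induction j with
  | zero => simp [F]
  | succ j ih =>
    rw [F_succ, ← mul_assoc, hcomm i (k+j) (by omega) (by omega), mul_assoc, ih (by omega), mul_assoc]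

include hcomm in
lemma F2' (i k j : ℕ) (h1 : k + j + 1 ≤ i) (h2 : i < N) : s i * F s k j = F s k j * s i := by
  induction j with
  | zero => simp [F]
  | succ j ih =>
    rw [F_succ, ← mul_assoc, ← hcomm (k+j) i (by omega) h2, mul_assoc, ih (by omega), mul_assoc]

include hcomm hbraid in
lemma F3 (i k j : ℕ) (h1 : k ≤ i) (h2 : i + 1 < k + j) (h3 : k + j ≤ N) :
    F s k j * s (i+1) = s i * F s k j := by
  induction j with
  | zero => omega
  | succ j ih =>
    by_cases hc : i + 1 < k + j
    · rw [F_succ, mul_assoc, ih hc (by omega), ← mul_assoc, ← hcomm i (k+j) (by omega) (by omega), mul_assoc]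
    · obtain ⟨j', rfl⟩ : ∃ j', j = j' + 1 := ⟨j - 1, by omega⟩
      have e1 : k + (j' + 1) = i + 1 := by omega
      have e2 : k + j' = i := by omega
      rw [F_succ, F_succ, e1, e2]
      have hc' := F2' s N hcomm (i+1) k j' (by omega) (by omega)
      calc s (i+1) * (s i * F s k j') * s (i+1) = s (i+1) * s i * (F s k j' * s (i+1)) := by group
        _ = s (i+1) * s i * (s (i+1) * F s k j') := by rw [hc']
        _ = (s (i+1) * s i * s (i+1)) * F s k j' := by group
        _ = (s i * s (i+1) * s i) * F s k j' := by rw [hbraid i (by omega)]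
        _ = s i * (s (i+1) * (s i * F s k j')) := by group

/-- the subgroup generated by the first `n` generators -/
def P (n : ℕ) : Subgroup G := Subgroup.closure (s '' Set.Iio n)

lemma s_mem_P {n i : ℕ} (h : i < n) : s i ∈ P s n := Subgroup.subset_closure ⟨i, h, rfl⟩

lemma P_succ_subset (n : ℕ) (hsq : ∀ i < n + 1, s i * s i = 1)
    (hbraid : ∀ i, i + 1 < n + 1 → s i * s (i+1) * s i = s (i+1) * s i * s (i+1))
    (hcomm : ∀ i j, i + 2 ≤ j → j < n + 1 → s i * s j = s j * s i) (g : G) (hg : g ∈ P s (n+1)) :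
    ∃ p ∈ P s n, ∃ k j, k + j = n + 1 ∧ g = p * F s k j := by
  have key : ∀ x : G, (∃ p ∈ P s n, ∃ k j, k + j = n + 1 ∧ x = p * F s k j) → ∀ i < n + 1,
      ∃ p ∈ P s n, ∃ k j, k + j = n + 1 ∧ x * s i = p * F s k j := by
    rintro x ⟨p, hp, k, j, hkj, rfl⟩ i hi
    rcases lt_trichotomy (i + 1) k with h | h | h
    · refine ⟨p * s i, (P s n).mul_mem hp (s_mem_P s (by omega)), k, j, hkj, ?_⟩
      rw [mul_assoc, mul_assoc, F2 s (n+1) hcomm i k j (by omega) (by omega)]
    · subst h
      refine ⟨p, hp, i, j + 1, by omega, ?_⟩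
      rw [F1, mul_assoc]
    · rcases Nat.lt_or_ge k i with h' | h'
      · obtain ⟨i', rfl⟩ : ∃ i', i = i' + 1 := ⟨i - 1, by omega⟩
        refine ⟨p * s i', (P s n).mul_mem hp (s_mem_P s (by omega)), k, j, hkj, ?_⟩
        rw [mul_assoc, mul_assoc, F3 s (n+1) hbraid hcomm i' k j (by omega) (by omega) (by omega)]
      · obtain rfl : i = k := by omega
        obtain ⟨j', rfl⟩ : ∃ j', j = j' + 1 := ⟨j - 1, by omega⟩
        refine ⟨p, hp, i + 1, j', by omega, ?_⟩
        rw [F1, mul_assoc, mul_assoc, hsq i hi, mul_one]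
  unfold P at hg
  induction hg using Subgroup.closure_induction_right with
  | one => exact ⟨1, (P s n).one_mem, n + 1, 0, rfl, by simp [F]⟩
  | mul_right x hx y hy ih =>
    obtain ⟨i, hi, rfl⟩ := hy
    exact key x ih i hi
  | mul_inv_cancel x hx y hy ih =>
    obtain ⟨i, hi, rfl⟩ := hy
    have : (s i)⁻¹ = s i := inv_eq_of_mul_eq_one_left (hsq i hi)
    rw [this]
    exact key x ih i hi

lemma card_bound (n : ℕ) (hsq : ∀ i < n, s i * s i = 1)
    (hbraid : ∀ i, i + 1 < n → s i * s (i+1) * s i = s (i+1) * s i * s (i+1))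
    (hcomm : ∀ i j, i + 2 ≤ j → j < n → s i * s j = s j * s i) :
    ((P s n : Subgroup G) : Set G).Finite ∧ ((P s n : Subgroup G) : Set G).ncard ≤ (n+1).factorial := by
  induction n with
  | zero =>
    have : P s 0 = ⊥ := by simp [P]
    rw [this]
    simp
  | succ n ih =>
    obtain ⟨hfin, hcard⟩ := ih (fun i hi => hsq i (by omega)) (fun i hi => hbraid i (by omega))
      (fun i j h1 h2 => hcomm i j h1 (by omega))
    have hsub : ((P s (n+1) : Subgroup G) : Set G) ⊆
        (fun q : G × ℕ => q.1 * F s q.2 (n + 1 - q.2)) '' (((P s n : Subgroup G) : Set G) ×ˢ (Set.Iic (n+1))) := by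
      intro g hg
      obtain ⟨p, hp, k, j, hkj, rfl⟩ := P_succ_subset s n hsq hbraid hcomm g hg
      refine ⟨(p, k), ⟨hp, by simp only [Set.mem_Iic]; omega⟩, ?_⟩
      have : n + 1 - k = j := by omega
      simp only [this]
    have hfin2 : (((P s n : Subgroup G) : Set G) ×ˢ (Set.Iic (n+1))).Finite := hfin.prod (Set.finite_Iic _)
    refine ⟨(hfin2.image _).subset hsub, ?_⟩
    calc ((P s (n+1) : Subgroup G) : Set G).ncard
        ≤ ((fun q : G × ℕ => q.1 * F s q.2 (n + 1 - q.2)) '' (((P s n : Subgroup G) : Set G) ×ˢ (Set.Iic (n+1)))).ncard :=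
          Set.ncard_le_ncard hsub (hfin2.image _)
      _ ≤ (((P s n : Subgroup G) : Set G) ×ˢ (Set.Iic (n+1))).ncard := Set.ncard_image_le hfin2
      _ = ((P s n : Subgroup G) : Set G).ncard * (Set.Iic (n+1)).ncard := Set.ncard_prod
      _ ≤ (n+1).factorial * (n+2) := by
          apply Nat.mul_le_mul hcard
          have : (Set.Iic (n+1) : Set ℕ) = ((Finset.Iic (n+1) : Finset ℕ) : Set ℕ) := by simp
          rw [this, Set.ncard_coe_finset]
          simp
      _ = (n+1+1).factorial := by
          rw [Nat.factorial_succ (n+1)]; ring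

end abstract

section swaps

lemma swap_liftable (n : ℕ) : (CoxeterMatrix.A n).IsLiftable
    (fun i : Fin n => (Equiv.swap i.castSucc i.succ : Equiv.Perm (Fin (n+1)))) := by
  intro i j
  show (Equiv.swap i.castSucc i.succ * Equiv.swap j.castSucc j.succ : Equiv.Perm (Fin (n+1))) ^
    (if i = j then 1 else (if (j : ℕ) + 1 = i ∨ (i : ℕ) + 1 = j then 3 else 2)) = 1
  split_ifs with h1 h2
  · subst h1; simp
  · have hthree : ∀ a b c : Fin (n+1), a ≠ b → a ≠ c → b ≠ c → (Equiv.swap a b * Equiv.swap a c) ^ 3 = 1 := by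
      intro a b c hab hac hbc
      have := (Equiv.Perm.isThreeCycle_swap_mul_swap_same hab hac hbc).orderOf
      rw [← this]; exact pow_orderOf_eq_one _
    rcases h2 with h2 | h2
    · -- j + 1 = i
      have e : j.succ = i.castSucc := by ext; simp [h2]
      rw [e, Equiv.swap_comm j.castSucc i.castSucc]
      apply hthree
      · intro h; have := congrArg Fin.val h; simp at this
      · intro h; have := congrArg Fin.val h; simp at this; omega
      · intro h; have := congrArg Fin.val h; simp at this; omega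
    · have e : i.succ = j.castSucc := by ext; simp [h2]
      rw [e, Equiv.swap_comm i.castSucc j.castSucc]
      apply hthree
      · intro h; have := congrArg Fin.val h; simp at this; omega
      · intro h; have := congrArg Fin.val h; simp at this
      · intro h; have := congrArg Fin.val h; simp at this; omega
  · have hij : (i : ℕ) ≠ j := fun h => h1 (Fin.ext h)
    push Not at h2
    have hd : Equiv.Perm.Disjoint (Equiv.swap i.castSucc i.succ) (Equiv.swap j.castSucc j.succ) := by
      apply Equiv.Perm.disjoint_swap_swap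
      simp only [List.nodup_cons, List.mem_cons, List.not_mem_nil, or_false, not_or, List.nodup_nil, and_true,
        not_false_eq_true]
      refine ⟨⟨?_, ?_, ?_⟩, ⟨?_, ?_⟩, ?_⟩ <;>
      · intro h; have := congrArg Fin.val h; simp at this <;> omega
    have hc := hd.commute
    rw [hc.mul_pow]
    simp [pow_two]

end swaps

theorem result (n : ℕ) :
    ∃ cs : CoxeterSystem (CoxeterMatrix.A n) (Equiv.Perm (Fin (n + 1))), ∀ i : Fin n, cs.simple i = Equiv.swap i.castSucc i.succ := by
  classical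
  set M := CoxeterMatrix.A n with hM
  let cs0 := M.toCoxeterSystem
  let φ : M.Group →* Equiv.Perm (Fin (n+1)) := cs0.lift ⟨_, swap_liftable n⟩
  have hφ : ∀ i, φ (cs0.simple i) = Equiv.swap i.castSucc i.succ := fun i =>
    cs0.lift_apply_simple (swap_liftable n) i
  -- surjectivity
  have hsurj : Function.Surjective φ := by
    rw [← MonoidHom.mrange_eq_top, eq_top_iff, ← Equiv.Perm.mclosure_swap_castSucc_succ n, Submonoid.closure_le]
    rintro _ ⟨i, rfl⟩
    exact ⟨cs0.simple i, hφ i⟩
  -- the bound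
  let s : ℕ → M.Group := fun i => if h : i < n then cs0.simple ⟨i, h⟩ else 1
  have hs : ∀ i (h : i < n), s i = cs0.simple ⟨i, h⟩ := fun i h => dif_pos h
  have hsq : ∀ i < n, s i * s i = 1 := by
    intro i hi
    rw [hs i hi]; exact cs0.simple_mul_simple_self _
  have hbraid : ∀ i, i + 1 < n → s i * s (i+1) * s i = s (i+1) * s i * s (i+1) := by
    intro i hi
    have h3 := cs0.simple_mul_simple_pow ⟨i, by omega⟩ ⟨i+1, hi⟩
    have hM3 : M ⟨i, by omega⟩ ⟨i+1, hi⟩ = 3 := by
      show (if (⟨i, _⟩ : Fin n) = ⟨i+1, hi⟩ then 1 else (if (i + 1) + 1 = i ∨ i + 1 = i + 1 then 3 else 2)) = 3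
      rw [if_neg (by simp), if_pos (Or.inr rfl)]
    rw [hM3, ← hs i (by omega), ← hs (i+1) hi] at h3
    have ha := hsq i (by omega)
    have hb := hsq (i+1) hi
    have hainv : (s i)⁻¹ = s i := inv_eq_of_mul_eq_one_left ha
    have hbinv : (s (i+1))⁻¹ = s (i+1) := inv_eq_of_mul_eq_one_left hb
    have h3' : s i * s (i+1) * s i * (s (i+1) * s i * s (i+1)) = 1 := by
      simpa [pow_succ, mul_assoc] using h3
    rw [eq_inv_of_mul_eq_one_left h3', mul_inv_rev, mul_inv_rev, hainv, hbinv, mul_assoc]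
  have hcomm : ∀ i j, i + 2 ≤ j → j < n → s i * s j = s j * s i := by
    intro i j hij hj
    have h2 := cs0.simple_mul_simple_pow ⟨i, by omega⟩ ⟨j, hj⟩
    have hM2 : M ⟨i, by omega⟩ ⟨j, hj⟩ = 2 := by
      show (if (⟨i, _⟩ : Fin n) = ⟨j, hj⟩ then 1 else (if j + 1 = i ∨ i + 1 = j then 3 else 2)) = 2
      rw [if_neg (by simp; omega), if_neg (by omega)]
    rw [hM2, ← hs i (by omega), ← hs j hj] at h2
    have ha := hsq i (by omega)
    have hb := hsq j hj
    have hainv : (s i)⁻¹ = s i := inv_eq_of_mul_eq_one_left ha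
    have hbinv : (s j)⁻¹ = s j := inv_eq_of_mul_eq_one_left hb
    have h2' : s i * s j * (s i * s j) = 1 := by
      simpa [pow_succ, mul_assoc] using h2
    rw [eq_inv_of_mul_eq_one_left h2', mul_inv_rev, hainv, hbinv]
  obtain ⟨hfin, hcard⟩ := card_bound s n hsq hbraid hcomm
  have htop : P s n = ⊤ := by
    rw [eq_top_iff, ← cs0.subgroup_closure_range_simple, Subgroup.closure_le]
    rintro _ ⟨i, rfl⟩
    rw [← hs i.1 i.2]
    exact s_mem_P s i.2
  rw [htop] at hfin hcard
  have hfinite : Finite M.Group := Set.finite_univ_iff.mp (by simpa using hfin)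
  have hcard' : Nat.card M.Group ≤ Nat.card (Equiv.Perm (Fin (n+1))) := by
    rw [Nat.card_eq_fintype_card (α := Equiv.Perm (Fin (n+1))), Fintype.card_perm, Fintype.card_fin]
    simpa [Set.ncard_univ] using hcard
  have hbij := hsurj.bijective_of_nat_card_le hcard'
  refine ⟨cs0.map (MulEquiv.ofBijective φ hbij), fun i => ?_⟩
  rw [CoxeterSystem.map_simple]
  exact hφ i

end Cfsg.Agent.S2530
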