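import Cfsg.Statements.S4207
import Mathlib

set_option autoImplicit false
open Cfsg

namespace Cfsg.Agent.S4207

/-- a group of order `p ^ r` is generated by `r` elements -/
theorem exists_gen {Q : Type*} [Group Q] [Finite Q] {p : ℕ} [hp : Fact p.Prime] {r : ℕ}
    (hQ : Nat.card Q = p ^ r) : ∃ x : Fin r → Q, Subgroup.closure (Set.range x) = ⊤ := by
  have step : ∀ s : ℕ, ∃ x : Fin s → Q, Subgroup.closure (Set.range x) = ⊤ ∨
      p ^ s ≤ Nat.card (Subgroup.closure (Set.range x)) := by
    intro s
    induction s with
    | zero => exact ⟨Fin.elim0, Or.inr (by simp)⟩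
    | succ s ih =>
      obtain ⟨x, hx⟩ := ih
      by_cases htop : Subgroup.closure (Set.range x) = ⊤
      · refine ⟨Fin.cons 1 x, Or.inl ?_⟩
        rw [eq_top_iff, ← htop]
        apply Subgroup.closure_mono
        rintro _ ⟨i, rfl⟩
        exact ⟨i.succ, by simp⟩
      · have hx' := hx.resolve_left htop
        obtain ⟨y, hy⟩ : ∃ y, y ∉ Subgroup.closure (Set.range x) := by
          by_contra hcon
          push Not at hcon
          exact htop (eq_top_iff.mpr (fun z _ => hcon z))
        refine ⟨Fin.cons y x, Or.inr ?_⟩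
        have hlt : Subgroup.closure (Set.range x) <
            Subgroup.closure (Set.range (Fin.cons y x : Fin (s + 1) → Q)) := by
          refine lt_of_le_of_ne ?_ ?_
          · apply Subgroup.closure_mono
            rintro _ ⟨i, rfl⟩
            exact ⟨i.succ, by simp⟩
          · intro h
            apply hy
            rw [h]
            exact Subgroup.subset_closure ⟨0, by simp⟩
        obtain ⟨a, _, hCa⟩ := (Nat.dvd_prime_pow hp.out).mp
          (hQ ▸ Subgroup.card_subgroup_dvd_card (Subgroup.closure (Set.range x)))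
        obtain ⟨b, _, hCb⟩ := (Nat.dvd_prime_pow hp.out).mp
          (hQ ▸ Subgroup.card_subgroup_dvd_card
            (Subgroup.closure (Set.range (Fin.cons y x : Fin (s + 1) → Q))))
        have hcl : Nat.card (Subgroup.closure (Set.range x)) <
            Nat.card (Subgroup.closure (Set.range (Fin.cons y x : Fin (s + 1) → Q))) :=
          lt_of_le_of_ne (Subgroup.card_le_of_le hlt.le)
            (fun e => hlt.ne (Subgroup.eq_of_le_of_card_ge hlt.le e.ge))
        rw [hCa, hCb] at hcl
        have hab : a < b := (Nat.pow_lt_pow_iff_right hp.out.one_lt).mp hcl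
        have hsa : s ≤ a := (Nat.pow_le_pow_iff_right hp.out.one_lt).mp (hCa ▸ hx')
        rw [hCb]
        exact Nat.pow_le_pow_right hp.out.pos (by omega)
  obtain ⟨x, hx⟩ := step r
  refine ⟨x, hx.elim id (fun h => ?_)⟩
  apply Subgroup.eq_top_of_card_eq
  exact le_antisymm (Subgroup.card_le_card_group _) (hQ ▸ h)

theorem closure_eq_top_of_mk {P : Type*} [Group P] [Finite P] {r : ℕ} (y : Fin r → P)
    (h : Subgroup.closure (Set.range (fun i => (y i : P ⧸ frattini P))) = ⊤) :
    Subgroup.closure (Set.range y) = ⊤ := by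
  apply frattini_nongenerating
  have h1 : (Subgroup.closure (Set.range y)).map (QuotientGroup.mk' (frattini P)) = ⊤ := by
    rw [MonoidHom.map_closure, ← Set.range_comp]
    exact h
  have h2 := Subgroup.comap_map_eq (QuotientGroup.mk' (frattini P)) (Subgroup.closure (Set.range y))
  rw [h1, Subgroup.comap_top, QuotientGroup.ker_mk'] at h2
  exact h2.symm

theorem card_dvd_of_free {A Ω : Type*} [Group A] [MulAction A Ω]
    (h : ∀ b : Ω, MulAction.stabilizer A b = ⊥) : Nat.card A ∣ Nat.card Ω := by
  rw [Nat.card_congr (MulAction.selfEquivOrbitsQuotientProd h), Nat.card_prod]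
  exact dvd_mul_left _ _

theorem card_frattini {P : Type*} [Group P] [Finite P] {p n r : ℕ} [hp : Fact p.Prime]
    (hP : Nat.card P = p ^ n) (hr : (frattini P).index = p ^ r) :
    r ≤ n ∧ Nat.card (frattini P) = p ^ (n - r) := by
  have h1 := (frattini P).card_mul_index
  rw [hP, hr] at h1
  have hrn : r ≤ n := by
    have : p ^ r ∣ p ^ n := Dvd.intro_left _ h1
    exact (Nat.pow_dvd_pow_iff_le_right hp.out.one_lt).mp this
  refine ⟨hrn, ?_⟩
  have h2 : p ^ n = p ^ (n - r) * p ^ r := by rw [← pow_add]; congr 1; omega
  rw [h2] at h1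
  exact Nat.eq_of_mul_eq_mul_right (pow_pos hp.out.pos r) h1

/-- the number of lifts of a tuple -/
theorem card_lifts {P : Type*} [Group P] [Finite P] (N : Subgroup P) {r : ℕ} (x : Fin r → P) :
    Nat.card {y : Fin r → P // ∀ i, (y i : P ⧸ N) = (x i : P ⧸ N)} = Nat.card N ^ r := by
  have e : {y : Fin r → P // ∀ i, (y i : P ⧸ N) = (x i : P ⧸ N)} ≃ (Fin r → N) :=
    { toFun := fun y i => ⟨(x i)⁻¹ * y.1 i, QuotientGroup.eq.mp (y.2 i).symm⟩
      invFun := fun z => ⟨fun i => x i * z i, fun i => by
        symm
        rw [QuotientGroup.eq]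
        simp⟩
      left_inv := fun y => by
        apply Subtype.ext
        funext i
        simp
      right_inv := fun z => by
        funext i
        apply Subtype.ext
        simp }
  rw [Nat.card_congr e, Nat.card_fun]
  simp


/-- Let `P` be a group of order `p^n` whose Frattini subgroup has index `p^r`. Then any group of automorphisms of `P` each of which induces the identity on the Frattini quotient has order dividing `p^(r(n-r))`; in particular it is a `p`-group. -/
theorem result {P : Type*} [Group P] [Finite P] {p n r : ℕ} [Fact p.Prime] (hP : Nat.card P = p ^ n) (hr : (frattini P).index = p ^ r) (A : Subgroup (MulAut P)) (hA : ∀ α ∈ A, ∀ x : P, α x * x⁻¹ ∈ frattini P) : Nat.card A ∣ p ^ (r * (n - r)) := by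
  classical
  obtain ⟨hrn, hΦ⟩ := card_frattini hP hr
  have hQ : Nat.card (P ⧸ frattini P) = p ^ r := by rw [← hr]; rfl
  obtain ⟨xbar, hxbar⟩ := exists_gen hQ
  choose x hx using fun i => QuotientGroup.mk_surjective (xbar i)
  let Ω := {y : Fin r → P // ∀ i, (y i : P ⧸ frattini P) = (x i : P ⧸ frattini P)}
  have hgen : ∀ y : Ω, Subgroup.closure (Set.range y.1) = ⊤ := by
    intro y
    apply closure_eq_top_of_mk
    have : (fun i => (y.1 i : P ⧸ frattini P)) = xbar := by
      funext i
      rw [y.2 i, hx i]
    rw [this, hxbar]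
  let _ : MulAction A Ω :=
    { smul := fun α y => ⟨fun i => α.1 (y.1 i), fun i => by
        rw [← y.2 i]
        symm
        rw [QuotientGroup.eq]
        have h1 := hA α.1 α.2 (y.1 i)
        have h2 : (frattini P).Normal := inferInstance
        have := h2.conj_mem _ h1 (y.1 i)⁻¹
        simpa [mul_assoc] using this⟩
      one_smul := fun y => by
        apply Subtype.ext
        funext i
        rfl
      mul_smul := fun α β y => by
        apply Subtype.ext
        funext i
        rfl }
  have hfree : ∀ y : Ω, MulAction.stabilizer A y = ⊥ := by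
    intro y
    rw [eq_bot_iff]
    intro α hα
    rw [MulAction.mem_stabilizer_iff] at hα
    rw [Subgroup.mem_bot]
    apply Subtype.ext
    have h1 : ∀ i, α.1 (y.1 i) = y.1 i := fun i => congrFun (congrArg Subtype.val hα) i
    have h2 : (α.1 : P ≃* P).toMonoidHom = MonoidHom.id P := by
      apply MonoidHom.eq_of_eqOn_dense (hgen y)
      rintro _ ⟨i, rfl⟩
      exact h1 i
    ext z
    exact DFunLike.congr_fun h2 z
  have := card_dvd_of_free hfree
  have hcard : Nat.card Ω = p ^ (r * (n - r)) := by
    rw [card_lifts, hΦ, ← pow_mul, mul_comm]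
  rwa [hcard] at this

end Cfsg.Agent.S4207
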