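import Cfsg.Statements.S2086
import Cfsg.Agent.Lib.Helper6.StSL.ARITH
import Cfsg.Agent.Lib.Helper6.StSL.B1
import Cfsg.Agent.Lib.Helper6.StSL.B3
import Cfsg.Agent.Lib.Helper6.StSL.B4
import Cfsg.Agent.Lib.Helper6.StSL.B5
import Cfsg.Agent.Lib.Helper6.StSL.B6
import Cfsg.Agent.Lib.Helper6.StSL.B7
import Cfsg.Agent.Lib.Helper6.StSL.B8
import Cfsg.Agent.Lib.Helper6.StSL.B9
import Cfsg.Agent.Lib.Helper66.SchurBasic
import Cfsg.Agent.S2117
import Cfsg.Agent.S0248

set_option autoImplicit false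
open Cfsg

namespace Cfsg.Agent.S2086

open Cfsg.Agent.Lib.Helper6.StSL

/-- Schur multipliers of the linear groups: for n ≥ 2 and a field F with q elements (q ≥ 4 when n = 2), apart from the five exceptional pairs (n, q) = (2, 4), (2, 9), (3, 2), (3, 4), (4, 2), the Schur multiplier of PSL_n(F) is cyclic of order gcd(n, q − 1); here the Schur multiplier is described through stem extensions, as in the definitions. -/
theorem result {F : Type*} [Field F] [Fintype F] {q : ℕ} (hF : Fintype.card F = q) (n : ℕ) (hn : 2 ≤ n) (h2 : n = 2 → 4 ≤ q) (hexc : (n, q) ∉ ({(2, 4), (2, 9), (3, 2), (3, 4), (4, 2)} : Set (ℕ × ℕ))) : Cfsg.HasCyclicSchurMultiplier (Matrix.ProjectiveSpecialLinearGroup (Fin n) F) (Nat.gcd n (q - 1)) := by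
  subst hF
  simp only [Set.mem_insert_iff, Set.mem_singleton_iff, Prod.mk.injEq, not_or, not_and] at hexc
  obtain ⟨e1, e2, e3, e4, e5⟩ := hexc
  rcases Nat.lt_or_ge n 3 with h3 | h3
  · obtain rfl : n = 2 := by omega
    refine hasSchur_PSL le_rfl (sl2_perfect (h2 rfl)) ?_
    exact (Cfsg.Agent.Lib.Helper66.hasCyclicSchurMultiplier_one_iff).1
      (Cfsg.Agent.S2117.result (e1 rfl) (e2 rfl))
  · refine hasSchur_PSL hn (Cfsg.Agent.S0248.result n h3) ?_
    intro Γ _ _ σ hσ
    have key : ∃ S : StSys n F Γ, Compat S σ := by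
      rcases Nat.lt_or_ge n 5 with h5 | h5
      · rcases Nat.lt_or_ge n 4 with h4 | h4
        · obtain rfl : n = 3 := by omega
          have hc := exists_cube_ne (K := F) (e3 rfl) (e4 rfl)
          exact stSys_three hc hσ.1 hσ.2.1 (commL_three hc hσ.1 hσ.2.1)
        · obtain rfl : n = 4 := by omega
          refine stSys_of_commL le_rfl hσ.1 hσ.2.1 ?_
          rcases two_ne_or_exists_sq_ne (K := F) (e5 rfl) with h | h
          · exact commL_four_odd h hσ.1 hσ.2.1
          · exact commL_four_sq h hσ.1 hσ.2.1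
      · exact stSys_of_commL (by omega) hσ.1 hσ.2.1 (commL_five h5 hσ.1 hσ.2.1)
    obtain ⟨S, hS⟩ := key
    exact ker_eq_bot_of_stSys h3 hσ S hS

end Cfsg.Agent.S2086
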