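import Cfsg.Statements.S2401
import Cfsg.Agent.Lib.Helper6.StSL.STD
import Cfsg.Agent.Lib.Helper6.StSL.GEN
import Cfsg.Agent.Lib.Helper6.StSL.A9

set_option autoImplicit false
open Cfsg

namespace Cfsg.Agent.S2401

open Cfsg.Agent.Lib.Helper6.StSL

/-- the index set of the generators -/
abbrev Idx (n : ℕ) := {ij : Fin n × Fin n // ij.1 ≠ ij.2}

/-- the Steinberg relators -/
def rels (n : ℕ) (K : Type*) [Field K] : Set (FreeGroup (Idx n × K)) :=
  {g : FreeGroup ({ij : Fin n × Fin n // ij.1 ≠ ij.2} × K) | ∃ (a : {ij : Fin n × Fin n // ij.1 ≠ ij.2}) (t u : K),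
      g = FreeGroup.of (a, t) * FreeGroup.of (a, u) * (FreeGroup.of (a, t + u))⁻¹} ∪
    {g | ∃ (a b : {ij : Fin n × Fin n // ij.1 ≠ ij.2}) (t u : K), a.1.1 ≠ b.1.2 ∧ a.1.2 ≠ b.1.1 ∧
      g = FreeGroup.of (a, t) * FreeGroup.of (b, u) * (FreeGroup.of (a, t))⁻¹ * (FreeGroup.of (b, u))⁻¹} ∪
    {g | ∃ (a b : {ij : Fin n × Fin n // ij.1 ≠ ij.2}) (h : a.1.1 ≠ b.1.2) (t u : K), a.1.2 = b.1.1 ∧
      g = FreeGroup.of (a, t) * FreeGroup.of (b, u) * (FreeGroup.of (a, t))⁻¹ * (FreeGroup.of (b, u))⁻¹ *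
        (FreeGroup.of (⟨(a.1.1, b.1.2), h⟩, t * u))⁻¹}

variable {n : ℕ} {K : Type*} [Field K]

theorem rel_add (a : Idx n) (t u : K) :
    (PresentedGroup.of (a, t) : PresentedGroup (rels n K)) * PresentedGroup.of (a, u)
      = PresentedGroup.of (a, t + u) := by
  have h : FreeGroup.of (a, t) * FreeGroup.of (a, u) * (FreeGroup.of (a, t + u))⁻¹ ∈ rels n K :=
    Or.inl (Or.inl ⟨a, t, u, rfl⟩)
  have h1 := PresentedGroup.one_of_mem h
  rw [map_mul, map_mul, map_inv] at h1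
  exact mul_inv_eq_one.mp h1

theorem rel_comm (a b : Idx n) (h1 : a.1.1 ≠ b.1.2) (h2 : a.1.2 ≠ b.1.1) (t u : K) :
    (PresentedGroup.of (a, t) : PresentedGroup (rels n K)) * PresentedGroup.of (b, u)
      = PresentedGroup.of (b, u) * PresentedGroup.of (a, t) := by
  have h : FreeGroup.of (a, t) * FreeGroup.of (b, u) * (FreeGroup.of (a, t))⁻¹ *
      (FreeGroup.of (b, u))⁻¹ ∈ rels n K := Or.inl (Or.inr ⟨a, b, t, u, h1, h2, rfl⟩)
  have h3 := PresentedGroup.one_of_mem h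
  rw [map_mul, map_mul, map_mul, map_inv, map_inv] at h3
  have h4 := mul_inv_eq_one.mp h3
  exact mul_inv_eq_iff_eq_mul.mp h4

theorem rel_mulc (a b : Idx n) (h1 : a.1.1 ≠ b.1.2) (h2 : a.1.2 = b.1.1) (t u : K) :
    (PresentedGroup.of (a, t) : PresentedGroup (rels n K)) * PresentedGroup.of (b, u)
      * (PresentedGroup.of (a, t))⁻¹ * (PresentedGroup.of (b, u))⁻¹
      = PresentedGroup.of (⟨(a.1.1, b.1.2), h1⟩, t * u) := by
  have h : FreeGroup.of (a, t) * FreeGroup.of (b, u) * (FreeGroup.of (a, t))⁻¹ *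
      (FreeGroup.of (b, u))⁻¹ * (FreeGroup.of (⟨(a.1.1, b.1.2), h1⟩, t * u))⁻¹ ∈ rels n K :=
    Or.inr ⟨a, b, h1, t, u, h2, rfl⟩
  have h3 := PresentedGroup.one_of_mem h
  rw [map_mul, map_mul, map_mul, map_mul, map_inv, map_inv, map_inv] at h3
  exact mul_inv_eq_one.mp h3

/-- the tautological Steinberg system of the presented group -/
noncomputable def sys (n : ℕ) (K : Type*) [Field K] : StSys n K (PresentedGroup (rels n K)) where
  x i j t := if h : i ≠ j then PresentedGroup.of (⟨(i, j), h⟩, t) else 1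
  add i j hij t u := by
    rw [dif_pos hij, dif_pos hij, dif_pos hij]
    exact rel_add _ t u
  comm i j k l hij hkl hjk hil t u := by
    rw [dif_pos hij, dif_pos hkl]
    exact rel_comm _ _ hil hjk t u
  mulc i j l hij hjl hil t u := by
    rw [dif_pos hij, dif_pos hjl, dif_pos hil]
    exact rel_mulc ⟨(i, j), hij⟩ ⟨(j, l), hjl⟩ hil rfl t u

theorem sys_x {i j : Fin n} (hij : i ≠ j) (t : K) :
    (sys n K).x i j t = PresentedGroup.of (⟨(i, j), hij⟩, t) :=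
  dif_pos hij

theorem lift_rels (r : FreeGroup (Idx n × K)) (hr : r ∈ rels n K) :
    FreeGroup.lift (fun p : Idx n × K => (tv p.1.1.1 p.1.1.2 p.2 : SLn n K)) r = 1 := by
  rcases hr with (⟨a, t, u, rfl⟩ | ⟨a, b, t, u, h1, h2, rfl⟩) | ⟨a, b, h1, t, u, h2, rfl⟩
  · simp only [map_mul, map_inv, FreeGroup.lift_apply_of]
    rw [tv_add a.2, mul_inv_cancel]
  · simp only [map_mul, map_inv, FreeGroup.lift_apply_of]
    rw [tv_comm a.2 b.2 h2 h1, mul_inv_cancel_right, mul_inv_cancel]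
  · simp only [map_mul, map_inv, FreeGroup.lift_apply_of]
    obtain ⟨⟨i, j⟩, hij⟩ := a
    obtain ⟨⟨k, l⟩, hkl⟩ := b
    simp only at h1 h2 hij hkl ⊢
    subst h2
    rw [tv_mulc hij hkl h1, mul_inv_cancel]

/-- the natural map to `SL_n` -/
noncomputable def phi (n : ℕ) (K : Type*) [Field K] : PresentedGroup (rels n K) →* SLn n K :=
  PresentedGroup.toGroup (f := fun p : Idx n × K => (tv p.1.1.1 p.1.1.2 p.2 : SLn n K)) lift_rels

theorem phi_of (a : Idx n) (t : K) : phi n K (PresentedGroup.of (a, t)) = tv a.1.1 a.1.2 t :=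
  PresentedGroup.toGroup.of _

theorem compat : Compat (sys n K) (phi n K) := by
  intro i j hij t
  rw [sys_x hij, phi_of]

theorem gens_top : Subgroup.closure (sys n K).gens = ⊤ := by
  rw [eq_top_iff, ← PresentedGroup.closure_range_of (rels n K)]
  apply Subgroup.closure_mono
  rintro _ ⟨⟨⟨⟨i, j⟩, hij⟩, t⟩, rfl⟩
  refine ⟨i, j, t, hij, ?_⟩
  exact (sys_x hij t).symm

theorem phi_surjective : Function.Surjective (phi n K) := by
  rw [← MonoidHom.range_eq_top, eq_top_iff, ← closure_tv, Subgroup.closure_le]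
  rintro _ ⟨i, j, t, hij, rfl⟩
  exact ⟨PresentedGroup.of (⟨(i, j), hij⟩, t), phi_of _ _⟩

/-- The Steinberg presentation of `SL_n` over a finite field for `n ≥ 3`: the group generated by symbols `x_ij(t)` (`i ≠ j`, `t` in the field) subject to `x_ij(t) x_ij(u) = x_ij(t + u)` and, for `i ≠ l`, `x_ij(t) x_kl(u) x_ij(t)⁻¹ x_kl(u)⁻¹ = x_il(tu)` if `j = k` and `= 1` if `j ≠ k`, is isomorphic to `SL_n` by an isomorphism sending `x_ij(t)` to the elementary matrix `1 + t E_ij`. -/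
theorem result {K : Type*} [Field K] [Finite K] (n : ℕ) (hn : 3 ≤ n) :
    ∃ e : PresentedGroup
        ({g : FreeGroup ({ij : Fin n × Fin n // ij.1 ≠ ij.2} × K) | ∃ (a : {ij : Fin n × Fin n // ij.1 ≠ ij.2}) (t u : K),
            g = FreeGroup.of (a, t) * FreeGroup.of (a, u) * (FreeGroup.of (a, t + u))⁻¹} ∪
          {g | ∃ (a b : {ij : Fin n × Fin n // ij.1 ≠ ij.2}) (t u : K), a.1.1 ≠ b.1.2 ∧ a.1.2 ≠ b.1.1 ∧
            g = FreeGroup.of (a, t) * FreeGroup.of (b, u) * (FreeGroup.of (a, t))⁻¹ * (FreeGroup.of (b, u))⁻¹} ∪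
          {g | ∃ (a b : {ij : Fin n × Fin n // ij.1 ≠ ij.2}) (h : a.1.1 ≠ b.1.2) (t u : K), a.1.2 = b.1.1 ∧
            g = FreeGroup.of (a, t) * FreeGroup.of (b, u) * (FreeGroup.of (a, t))⁻¹ * (FreeGroup.of (b, u))⁻¹ *
              (FreeGroup.of (⟨(a.1.1, b.1.2), h⟩, t * u))⁻¹}) ≃* Matrix.SpecialLinearGroup (Fin n) K,
      ∀ (a : {ij : Fin n × Fin n // ij.1 ≠ ij.2}) (t : K), ((e (PresentedGroup.of (a, t)) : Matrix (Fin n) (Fin n) K)) = Matrix.transvection a.1.1 a.1.2 t := by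
  refine ⟨MulEquiv.ofBijective (phi n K)
    ⟨injective_of_stSys hn (sys n K) compat gens_top, phi_surjective⟩, fun a t => ?_⟩
  show ((phi n K (PresentedGroup.of (a, t)) : SLn n K) : Matrix (Fin n) (Fin n) K) = _
  rw [phi_of, tv_coe a.2]

end Cfsg.Agent.S2401
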