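import Cfsg.Statements.S3335
import Cfsg.Agent.S2530

set_option autoImplicit false
open Cfsg

namespace Cfsg.Agent.S3335

open Equiv

section basic
variable {Γ : Type*} [Group Γ]

theorem pow_swap {a b : Γ} {m : ℕ} (h : (a * b) ^ m = 1) : (b * a) ^ m = 1 := by
  have : b * a = b * (a * b) * b⁻¹ := by group
  rw [this, conj_pow, h]; group

theorem inv_mul_pow {a b : Γ} {m : ℕ} (hb : b ^ 2 = 1) (h : (a * b) ^ m = 1) :
    (a⁻¹ * b) ^ m = 1 := by
  have hb' : b⁻¹ = b := by
    rw [inv_eq_iff_mul_eq_one, ← pow_two]; exact hb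
  have : a⁻¹ * b = (b * a)⁻¹ := by rw [mul_inv_rev, hb']
  rw [this, inv_pow, pow_swap h, inv_one]

/-- the homomorphism from `{±1}` determined by an element of order dividing 2. -/
def unitsHom (a : Γ) (ha : a * a = 1) : ℤˣ →* Γ where
  toFun u := if u = 1 then 1 else a
  map_one' := by simp
  map_mul' u v := by
    have hne : (-1 : ℤˣ) ≠ 1 := by decide
    rcases Int.units_eq_one_or u with rfl | rfl <;> rcases Int.units_eq_one_or v with rfl | rfl <;>
      simp [ha, hne]

theorem unitsHom_neg_one (a : Γ) (ha : a * a = 1) : unitsHom a ha (-1) = a := by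
  have hne : (-1 : ℤˣ) ≠ 1 := by decide
  simp [unitsHom, hne]

end basic

/-- the relators. -/
def rels (k : ℕ) : Set (FreeGroup (Fin (k + 1))) :=
  {g : FreeGroup (Fin (k + 1)) | ∃ i : Fin (k + 1), i.val = 0 ∧ g = FreeGroup.of i ^ 3} ∪
   {g | ∃ i : Fin (k + 1), 1 ≤ i.val ∧ g = FreeGroup.of i ^ 2} ∪
   {g | ∃ i j : Fin (k + 1), j.val = i.val + 1 ∧ g = (FreeGroup.of i * FreeGroup.of j) ^ 3} ∪
   {g | ∃ i j : Fin (k + 1), i.val + 1 < j.val ∧ g = (FreeGroup.of i * FreeGroup.of j) ^ 2}

abbrev Gk (k : ℕ) := PresentedGroup (rels k)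

variable {k : ℕ}

def x (i : Fin (k + 1)) : Gk k := PresentedGroup.of i

theorem x_cube {i : Fin (k + 1)} (hi : i.val = 0) : x i ^ 3 = 1 := by
  have : FreeGroup.of i ^ 3 ∈ rels k := Or.inl (Or.inl (Or.inl ⟨i, hi, rfl⟩))
  have := PresentedGroup.one_of_mem this
  simpa [x, PresentedGroup.of] using this

theorem x_sq {i : Fin (k + 1)} (hi : 1 ≤ i.val) : x i ^ 2 = 1 := by
  have : FreeGroup.of i ^ 2 ∈ rels k := Or.inl (Or.inl (Or.inr ⟨i, hi, rfl⟩))
  have := PresentedGroup.one_of_mem this
  simpa [x, PresentedGroup.of] using this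

theorem x_adj {i j : Fin (k + 1)} (hij : j.val = i.val + 1) : (x i * x j) ^ 3 = 1 := by
  have : (FreeGroup.of i * FreeGroup.of j) ^ 3 ∈ rels k := Or.inl (Or.inr ⟨i, j, hij, rfl⟩)
  have := PresentedGroup.one_of_mem this
  simpa [x, PresentedGroup.of] using this

theorem x_far {i j : Fin (k + 1)} (hij : i.val + 1 < j.val) : (x i * x j) ^ 2 = 1 := by
  have : (FreeGroup.of i * FreeGroup.of j) ^ 2 ∈ rels k := Or.inr ⟨i, j, hij, rfl⟩
  have := PresentedGroup.one_of_mem this
  simpa [x, PresentedGroup.of] using this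

/-- homomorphisms out of the presented group. -/
def lift' {Γ : Type*} [Group Γ] (f : Fin (k + 1) → Γ) (h1 : ∀ i, i.val = 0 → f i ^ 3 = 1)
    (h2 : ∀ i, 1 ≤ i.val → f i ^ 2 = 1) (h3 : ∀ i j, j.val = i.val + 1 → (f i * f j) ^ 3 = 1)
    (h4 : ∀ i j, i.val + 1 < j.val → (f i * f j) ^ 2 = 1) : Gk k →* Γ :=
  PresentedGroup.toGroup (f := f) (by
    rintro r (((⟨i, hi, rfl⟩ | ⟨i, hi, rfl⟩) | ⟨i, j, hij, rfl⟩) | ⟨i, j, hij, rfl⟩)
    · simpa using h1 i hi
    · simpa using h2 i hi
    · simpa using h3 i j hij
    · simpa using h4 i j hij)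

theorem lift'_x {Γ : Type*} [Group Γ] (f : Fin (k + 1) → Γ) (h1 h2 h3 h4) (i : Fin (k + 1)) :
    lift' f h1 h2 h3 h4 (x i) = f i :=
  PresentedGroup.toGroup.of _

/-- the automorphism inverting the first generator. -/
def tauHom : Gk k →* Gk k :=
  lift' (fun i => if i.val = 0 then (x i)⁻¹ else x i)
    (fun i hi => by simp [hi, x_cube hi])
    (fun i hi => by
      have : i.val ≠ 0 := by omega
      simp [this, x_sq hi])
    (fun i j hij => by
      have hj : j.val ≠ 0 := by omega
      by_cases hi : i.val = 0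
      · simp only [hi, hj, if_true, if_false]
        exact inv_mul_pow (x_sq (by omega)) (x_adj hij)
      · simp only [hi, hj, if_false]
        exact x_adj hij)
    (fun i j hij => by
      have hj : j.val ≠ 0 := by omega
      by_cases hi : i.val = 0
      · simp only [hi, hj, if_true, if_false]
        exact inv_mul_pow (x_sq (by omega)) (x_far hij)
      · simp only [hi, hj, if_false]
        exact x_far hij)

theorem tauHom_x (i : Fin (k + 1)) : tauHom (x i) = if i.val = 0 then (x i)⁻¹ else x i :=
  lift'_x _ _ _ _ _ i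

theorem tauHom_tauHom : (tauHom (k := k)).comp tauHom = MonoidHom.id _ := by
  apply PresentedGroup.ext
  intro i
  show tauHom (tauHom (x i)) = x i
  by_cases hi : i.val = 0
  · rw [tauHom_x, if_pos hi, map_inv, tauHom_x, if_pos hi, inv_inv]
  · rw [tauHom_x, if_neg hi, tauHom_x, if_neg hi]

def tau : MulAut (Gk k) := MonoidHom.toMulEquiv tauHom tauHom tauHom_tauHom tauHom_tauHom

theorem tau_apply (g : Gk k) : tau g = tauHom g := rfl

theorem tau_mul_tau : (tau (k := k)) * tau = 1 := by
  ext g
  show tauHom (tauHom g) = g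
  exact DFunLike.congr_fun tauHom_tauHom g

def act : ℤˣ →* MulAut (Gk k) := unitsHom tau tau_mul_tau

abbrev Gh (k : ℕ) := Gk k ⋊[act (k := k)] ℤˣ

def t : Gh k := SemidirectProduct.inr (-1)

theorem t_mul_t : (t (k := k)) * t = 1 := by
  unfold t
  rw [← map_mul]; simp

theorem t_inl_t (g : Gk k) : t * SemidirectProduct.inl g * t = SemidirectProduct.inl (tauHom g) := by
  have := SemidirectProduct.inl_aut (φ := act (k := k)) (-1) g
  rw [show act (k := k) (-1) = tau from unitsHom_neg_one _ _] at this
  rw [tau_apply] at this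
  rw [this]
  simp [t]

/-- `y 0 = 1`, `y (i+1) = x i`. -/
def y (j : Fin (k + 2)) : Gk k := if h : j.val = 0 then 1 else x ⟨j.val - 1, by omega⟩

theorem y_zero {j : Fin (k + 2)} (h : j.val = 0) : y j = 1 := by simp [y, h]

theorem y_pos {j : Fin (k + 2)} (h : j.val ≠ 0) : y j = x ⟨j.val - 1, by omega⟩ := by simp [y, h]

theorem A_apply (n : ℕ) (i j : Fin n) : CoxeterMatrix.A n i j =
    if i = j then 1 else (if (j : ℕ) + 1 = i ∨ (i : ℕ) + 1 = j then 3 else 2) := rfl

theorem key_lt (i j : Fin (k + 2)) (hij : i.val < j.val) :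
    (tauHom (y i) * y j) ^ (CoxeterMatrix.A (k + 2) i j) = 1 := by
  have hne : i ≠ j := fun e => by rw [e] at hij; omega
  have hj : j.val ≠ 0 := by omega
  rw [A_apply, if_neg hne, y_pos hj]
  by_cases hi0 : i.val = 0
  · rw [y_zero hi0, map_one, one_mul]
    by_cases h1 : j.val = 1
    · rw [if_pos (Or.inr (by omega))]
      exact x_cube (by simp [h1])
    · rw [if_neg (by omega)]
      exact x_sq (by simp; omega)
  rw [y_pos hi0, tauHom_x]
  by_cases hi1 : i.val = 1
  · rw [if_pos (by simp [hi1])]
    by_cases h1 : j.val = 2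
    · rw [if_pos (Or.inr (by omega))]
      exact inv_mul_pow (x_sq (by simp [h1])) (x_adj (by simp [h1, hi1]))
    · rw [if_neg (by omega)]
      exact inv_mul_pow (x_sq (by simp; omega)) (x_far (by simp; omega))
  · rw [if_neg (by simp; omega)]
    by_cases h1 : i.val + 1 = j.val
    · rw [if_pos (Or.inr h1)]
      exact x_adj (by simp; omega)
    · rw [if_neg (by omega)]
      exact x_far (by simp; omega)

theorem tauHom_injective : Function.Injective (tauHom (k := k)) := by
  intro a b h
  have := congrArg tauHom h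
  have e : ∀ g : Gk k, tauHom (tauHom g) = g := fun g => DFunLike.congr_fun tauHom_tauHom g
  rwa [e, e] at this

theorem key (i j : Fin (k + 2)) :
    (tauHom (y i) * y j) ^ (CoxeterMatrix.A (k + 2) i j) = 1 := by
  have e : ∀ g : Gk k, tauHom (tauHom g) = g := fun g => DFunLike.congr_fun tauHom_tauHom g
  rcases lt_trichotomy i.val j.val with h | h | h
  · exact key_lt i j h
  · have hij : i = j := Fin.ext h
    subst hij
    rw [A_apply, if_pos rfl, pow_one]
    by_cases hi0 : i.val = 0
    · rw [y_zero hi0]; simp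
    rw [y_pos hi0, tauHom_x]
    by_cases hi1 : i.val = 1
    · rw [if_pos (by simp [hi1])]; simp
    · rw [if_neg (by simp; omega), ← pow_two]
      exact x_sq (by simp; omega)
  · have h1 := key_lt j i h
    rw [(CoxeterMatrix.A (k + 2)).symmetric j i] at h1
    have h2 := pow_swap h1
    apply tauHom_injective
    rw [map_pow, map_mul, e, map_one]
    exact h2

/-- images of the Coxeter generators. -/
def f (j : Fin (k + 2)) : Gh k := t * SemidirectProduct.inl (y j)

theorem f_mul_f (i j : Fin (k + 2)) : f i * f j = SemidirectProduct.inl (tauHom (y i) * y j) := by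
  unfold f
  rw [map_mul, ← t_inl_t]
  group

theorem f_liftable : (CoxeterMatrix.A (k + 2)).IsLiftable (f (k := k)) := by
  intro i j
  rw [f_mul_f, ← map_pow, key, map_one]

section cox
variable (cs : CoxeterSystem (CoxeterMatrix.A (k + 2)) (Perm (Fin (k + 3))))

/-- `S_n → Ĝ`. -/
def psi : Perm (Fin (k + 3)) →* Gh k := cs.lift ⟨f, f_liftable⟩

theorem psi_simple (j : Fin (k + 2)) : psi cs (cs.simple j) = f j :=
  cs.lift_apply_simple f_liftable j

theorem s_comm {j : Fin (k + 2)} (hj : 2 ≤ j.val) :
    cs.simple 0 * cs.simple j = cs.simple j * cs.simple 0 := by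
  have h := cs.simple_mul_simple_pow 0 j
  rw [A_apply, if_neg (by intro e; rw [← e] at hj; simp at hj), if_neg (by simp; omega), pow_two] at h
  have h0 := cs.simple_mul_simple_self 0
  have hj' := cs.simple_mul_simple_self j
  calc cs.simple 0 * cs.simple j
      = cs.simple 0 * cs.simple j * (cs.simple 0 * cs.simple j * (cs.simple j * cs.simple 0)) := by
        rw [show cs.simple 0 * cs.simple j * (cs.simple j * cs.simple 0) =
          cs.simple 0 * (cs.simple j * cs.simple j) * cs.simple 0 by group, hj', mul_one, h0, mul_one]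
    _ = (cs.simple 0 * cs.simple j * (cs.simple 0 * cs.simple j)) * (cs.simple j * cs.simple 0) := by
        group
    _ = cs.simple j * cs.simple 0 := by rw [h, one_mul]

theorem p_mul_p (i j : Fin (k + 1)) (hj : 1 ≤ j.val) :
    (cs.simple 0 * cs.simple i.succ) * (cs.simple 0 * cs.simple j.succ) =
      cs.simple 0 * (cs.simple i.succ * cs.simple j.succ) * (cs.simple 0)⁻¹ := by
  have h0 : (cs.simple 0)⁻¹ = cs.simple 0 := cs.inv_simple 0
  rw [h0, s_comm cs (j := j.succ) (by simp; omega)]
  group

/-- `G → S_n`. -/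
def piHom : Gk k →* Perm (Fin (k + 3)) :=
  lift' (fun i => cs.simple 0 * cs.simple i.succ)
    (fun i hi => by
      have h := cs.simple_mul_simple_pow 0 i.succ
      rwa [A_apply, if_neg (by exact (Fin.succ_ne_zero i).symm), if_pos (Or.inr (by simp [hi]))] at h)
    (fun i hi => by
      have h := cs.simple_mul_simple_pow 0 i.succ
      rwa [A_apply, if_neg (by exact (Fin.succ_ne_zero i).symm),
        if_neg (by simp only [Fin.val_succ, Fin.val_zero]; omega)] at h)
    (fun i j hij => by
      rw [p_mul_p cs i j (by omega), conj_pow]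
      have h := cs.simple_mul_simple_pow i.succ j.succ
      rw [A_apply, if_neg (by intro e; have := congrArg Fin.val e; simp at this; omega),
        if_pos (Or.inr (by simp; omega))] at h
      rw [h]; group)
    (fun i j hij => by
      rw [p_mul_p cs i j (by omega), conj_pow]
      have h := cs.simple_mul_simple_pow i.succ j.succ
      rw [A_apply, if_neg (by intro e; have := congrArg Fin.val e; simp at this; omega),
        if_neg (by simp; omega)] at h
      rw [h]; group)

theorem piHom_x (i : Fin (k + 1)) : piHom cs (x i) = cs.simple 0 * cs.simple i.succ :=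
  lift'_x _ _ _ _ _ i

def f2 : ℤˣ →* Perm (Fin (k + 3)) := unitsHom (cs.simple 0) (cs.simple_mul_simple_self 0)

theorem compat (u : ℤˣ) : (piHom cs).comp (act (k := k) u).toMonoidHom =
    (MulAut.conj (f2 cs u)).toMonoidHom.comp (piHom cs) := by
  rcases Int.units_eq_one_or u with rfl | rfl
  · ext g; simp
  · apply PresentedGroup.ext
    intro i
    have h0 : (cs.simple 0)⁻¹ = cs.simple 0 := cs.inv_simple 0
    have h00 := cs.simple_mul_simple_self 0
    show piHom cs (act (k := k) (-1) (x i)) = f2 cs (-1) * piHom cs (x i) * (f2 cs (-1))⁻¹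
    rw [show act (k := k) (-1) = tau from unitsHom_neg_one _ _, tau_apply,
      show f2 cs (-1) = cs.simple 0 from unitsHom_neg_one _ _, tauHom_x, piHom_x, h0]
    by_cases hi : i.val = 0
    · rw [if_pos hi, map_inv, piHom_x, mul_inv_rev, h0, cs.inv_simple, ← mul_assoc, h00, one_mul]
    · rw [if_neg hi, piHom_x, ← mul_assoc, h00, one_mul]
      exact s_comm cs (by simp; omega)

/-- `Ĝ → S_n`. -/
def phi : Gh k →* Perm (Fin (k + 3)) := SemidirectProduct.lift (piHom cs) (f2 cs) (compat cs)

theorem piHom_y (j : Fin (k + 2)) : cs.simple 0 * piHom cs (y j) = cs.simple j := by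
  by_cases hj : j.val = 0
  · rw [y_zero hj, map_one, mul_one]
    congr 1
    exact Fin.ext hj.symm
  · rw [y_pos hj, piHom_x, ← mul_assoc, cs.simple_mul_simple_self, one_mul]
    congr 1
    apply Fin.ext
    simp; omega

theorem phi_f (j : Fin (k + 2)) : phi cs (f j) = cs.simple j := by
  unfold f phi t
  rw [map_mul, SemidirectProduct.lift_inr, SemidirectProduct.lift_inl,
    show f2 cs (-1) = cs.simple 0 from unitsHom_neg_one _ _, piHom_y]

theorem phi_psi : (phi cs).comp (psi cs) = MonoidHom.id _ := by
  apply cs.ext_simple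
  intro j
  show phi cs (psi cs (cs.simple j)) = cs.simple j
  rw [psi_simple, phi_f]

theorem psi_phi : (psi cs).comp (phi cs) = MonoidHom.id _ := by
  apply SemidirectProduct.hom_ext
  · apply PresentedGroup.ext
    intro i
    show psi cs (phi cs (SemidirectProduct.inl (x i))) = SemidirectProduct.inl (x i)
    unfold phi
    rw [SemidirectProduct.lift_inl, piHom_x, map_mul, psi_simple, psi_simple, f_mul_f,
      y_zero (by simp), map_one, one_mul, y_pos (by simp)]
    congr 1
  · ext u : 1
    show psi cs (phi cs (SemidirectProduct.inr u)) = SemidirectProduct.inr u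
    unfold phi
    rw [SemidirectProduct.lift_inr]
    rcases Int.units_eq_one_or u with rfl | rfl
    · simp
    · rw [show f2 cs (-1) = cs.simple 0 from unitsHom_neg_one _ _, psi_simple]
      unfold f
      rw [y_zero (by simp), map_one, mul_one]
      rfl

end cox

theorem main (k : ℕ) : Nonempty (Gk k ≃* alternatingGroup (Fin (k + 3))) := by
  obtain ⟨cs, hcs⟩ := Cfsg.Agent.S2530.result (k + 2)
  have hsign : ∀ j, Perm.sign (cs.simple j) = -1 := fun j => by
    rw [hcs]
    exact Perm.sign_swap (by
      intro e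
      have := congrArg Fin.val e
      simp at this)
  have hpi_sign : ∀ g, Perm.sign (piHom cs g) = 1 := by
    intro g
    have : (Perm.sign).comp (piHom cs) = 1 := by
      apply PresentedGroup.ext
      intro i
      show Perm.sign (piHom cs (x i)) = 1
      rw [piHom_x, map_mul, hsign, hsign]; simp
    exact DFunLike.congr_fun this g
  let π' : Gk k →* alternatingGroup (Fin (k + 3)) :=
    (piHom cs).codRestrict _ (fun g => Perm.mem_alternatingGroup.mpr (hpi_sign g))
  refine ⟨MulEquiv.ofBijective π' ⟨?_, ?_⟩⟩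
  · intro a b hab
    have h1 : piHom cs a = piHom cs b := congrArg Subtype.val hab
    have h2 : phi cs (SemidirectProduct.inl a) = phi cs (SemidirectProduct.inl b) := by
      simp [phi, h1]
    have h3 := congrArg (psi cs) h2
    have e : ∀ z, psi cs (phi cs z) = z := fun z => DFunLike.congr_fun (psi_phi cs) z
    rw [e, e] at h3
    exact SemidirectProduct.inl_injective h3
  · intro σ
    set z := psi cs σ.1 with hzdef
    have hz : phi cs z = σ.1 := DFunLike.congr_fun (phi_psi cs) σ.1
    rw [← SemidirectProduct.inl_left_mul_inr_right z, map_mul] at hz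
    unfold phi at hz
    rw [SemidirectProduct.lift_inl, SemidirectProduct.lift_inr] at hz
    have hs := congrArg Perm.sign hz
    rw [map_mul, hpi_sign, one_mul, Perm.mem_alternatingGroup.mp σ.2] at hs
    rcases Int.units_eq_one_or z.right with hu | hu
    · refine ⟨z.left, Subtype.ext ?_⟩
      rw [hu, map_one, mul_one] at hz
      exact hz
    · rw [hu, show f2 cs (-1) = cs.simple 0 from unitsHom_neg_one _ _, hsign] at hs
      exact absurd hs (by decide)

/-- A presentation of the alternating group of degree n ≥ 3 on generators x_1, …, x_{n−2} (indexed here by 0, …, n−3): the first generator cubes to 1, every other generator squares to 1, the product of two consecutive generators has order dividing 3, and the product of two generators at distance at least 2 has order dividing 2. The group so presented is isomorphic to the alternating group of degree n. -/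
theorem result (n : ℕ) (hn : 3 ≤ n) :
    Nonempty (PresentedGroup
      ({g : FreeGroup (Fin (n - 2)) | ∃ i : Fin (n - 2), i.val = 0 ∧ g = FreeGroup.of i ^ 3} ∪
       {g | ∃ i : Fin (n - 2), 1 ≤ i.val ∧ g = FreeGroup.of i ^ 2} ∪
       {g | ∃ i j : Fin (n - 2), j.val = i.val + 1 ∧ g = (FreeGroup.of i * FreeGroup.of j) ^ 3} ∪
       {g | ∃ i j : Fin (n - 2), i.val + 1 < j.val ∧ g = (FreeGroup.of i * FreeGroup.of j) ^ 2})
      ≃* alternatingGroup (Fin n)) := by
  obtain ⟨k, rfl⟩ : ∃ k, n = k + 3 := ⟨n - 3, by omega⟩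
  exact main k

end Cfsg.Agent.S3335
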