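import Cfsg.Statements.S2116
import Cfsg.Agent.Lib.Helper66.AltSixSeven
import Cfsg.Agent.Lib.Helper66.AltSixSevenUpper
import Cfsg.Agent.Lib.Helper66.AltClifford
import Cfsg.Agent.S3335

set_option autoImplicit false
open Cfsg

namespace Cfsg.Agent.S2116

open Cfsg.Agent.Lib.Helper66 Cfsg.Agent.Lib.Helper66.AltStem

theorem card_schurM (n : ℕ) (hn : n = 6 ∨ n = 7) :
    Nat.card (schurM (alternatingGroup (Fin n))) = 6 := by
  obtain ⟨φ⟩ := Cfsg.Agent.S3335.result n (by omega)
  have h3 : 3 ∣ Nat.card (schurM (alternatingGroup (Fin n))) :=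
    three_dvd_card_schurM (n - 2) (by omega) (by omega) φ
  have h2 : 2 ∣ Nat.card (schurM (alternatingGroup (Fin n))) := by
    obtain ⟨X, _, ξ, hsurj, hξ, w, hw1, hw2, hw⟩ :=
      AltClifford.exists_central_extension n (by omega)
    rw [← hw]
    exact orderOf_dvd_card_schurM _ ξ hsurj hξ w hw1 hw2
  have hle : Nat.card (schurM (alternatingGroup (Fin n))) ≤ 6 := by
    obtain ⟨⟨Γ, _, _, σ, hσ, ⟨e⟩⟩, -⟩ := hasSchurMultiplier_schurM (alternatingGroup (Fin n))
    rw [← Nat.card_congr e.toEquiv]
    exact card_ker_le_six (n - 2) (by omega) φ σ hσ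
  have h6 : 2 * 3 ∣ Nat.card (schurM (alternatingGroup (Fin n))) :=
    Nat.Coprime.mul_dvd_of_dvd_of_dvd (by norm_num) h2 h3
  have hpos : 0 < Nat.card (schurM (alternatingGroup (Fin n))) := Nat.card_pos
  have := Nat.le_of_dvd hpos h6
  omega

theorem isCyclic_of_card_six (M : Type*) [CommGroup M] (h : Nat.card M = 6) : IsCyclic M := by
  have hfin : Finite M := Nat.finite_of_card_ne_zero (by omega)
  obtain ⟨a, ha⟩ := exists_prime_orderOf_dvd_card' (G := M) 2 (by rw [h]; norm_num)
  obtain ⟨b, hb⟩ := exists_prime_orderOf_dvd_card' (G := M) 3 (by rw [h]; norm_num)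
  apply isCyclic_of_orderOf_eq_card (a * b)
  rw [(Commute.all a b).orderOf_mul_eq_mul_orderOf_of_coprime (by rw [ha, hb]; norm_num), ha, hb, h]

/-- Exceptional Schur multipliers of the alternating groups: for n = 6 and n = 7 the Schur multiplier of the alternating group of degree n is cyclic of order 6 (here the Schur multiplier is described through stem extensions, as in the definitions). -/
theorem result (n : ℕ) (hn : n = 6 ∨ n = 7) : Cfsg.HasCyclicSchurMultiplier (alternatingGroup (Fin n)) 6 := by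
  have hcard := card_schurM n hn
  have hcyc := isCyclic_of_card_six _ hcard
  rw [HasCyclicSchurMultiplier, hasSchurMultiplier_iff]
  have e := zmodCyclicMulEquiv hcyc
  rw [hcard] at e
  exact ⟨e⟩

end Cfsg.Agent.S2116
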