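import Cfsg.Statements.S0892
import Cfsg.Agent.Lib.Helper66.AltStemMain
import Cfsg.Agent.Lib.Helper66.SchurMain
import Cfsg.Agent.S3335
import Cfsg.Agent.S3952

set_option autoImplicit false
open Cfsg

namespace Cfsg.Agent.S0892

open Cfsg.Agent.Lib.Helper66 Cfsg.Agent.Lib.Helper66.AltStem

/-- For `n = 4, 5` the kernel of a stem extension of `Aₙ` has exponent dividing `2`. -/
theorem sq_eq_one_small (n : ℕ) (hn : n = 4 ∨ n = 5) {Γ : Type*} [Group Γ] [Finite Γ]
    (π : Γ →* alternatingGroup (Fin n)) (hπ : Cfsg.IsStemExtension π) (x : Γ) (hx : x ∈ π.ker) :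
    x ^ 2 = 1 := by
  have hexp := Cfsg.Agent.S3952.result (hasSchurMultiplier_schurM (alternatingGroup (Fin n)))
  have hnt : Nontrivial (Fin n) := Fin.nontrivial_iff_two_le.mpr (by omega)
  rw [nat_card_alternatingGroup, Nat.card_eq_fintype_card, Fintype.card_fin] at hexp
  have hdvd : Monoid.exponent (schurM (alternatingGroup (Fin n))) ∣ 2 := by
    generalize Monoid.exponent (schurM (alternatingGroup (Fin n))) = E at hexp
    have h60 : E ^ 2 ∣ 60 := by
      rcases hn with rfl | rfl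
      · exact hexp.trans (by decide)
      · exact hexp
    have hle : E ^ 2 ≤ 60 := Nat.le_of_dvd (by norm_num) h60
    have hE : E ≤ 7 := by nlinarith
    interval_cases E <;> first | decide | (exfalso; revert h60; decide)
  obtain ⟨f, hf⟩ := exists_surj_schurM_ker π hπ
  obtain ⟨μ, hμ⟩ := hf ⟨x, hx⟩
  have h1 : μ ^ 2 = 1 := by
    obtain ⟨c, hc⟩ := hdvd
    rw [hc, pow_mul, Monoid.pow_exponent_eq_one, one_pow]
  have h2 : (⟨x, hx⟩ : π.ker) ^ 2 = 1 := by rw [← hμ, ← map_pow, h1, map_one]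
  exact congrArg Subtype.val h2

/-- Let n ≥ 4 with n ≠ 6 and n ≠ 7, and let Γ be a finite group with a subgroup Z contained in both the centre and the commutator subgroup of Γ such that Γ / Z is isomorphic to the alternating group on n letters. Then Z has order at most 2. -/
theorem result (n : ℕ) (hn : 4 ≤ n) (h6 : n ≠ 6) (h7 : n ≠ 7) {Γ : Type*} [Group Γ] [Finite Γ] (Z : Subgroup Γ) [Z.Normal] (hZc : Z ≤ Subgroup.center Γ) (hZd : Z ≤ commutator Γ) (e : Γ ⧸ Z ≃* alternatingGroup (Fin n)) : Nat.card Z ≤ 2 := by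
  obtain ⟨φ⟩ := Cfsg.Agent.S3335.result n (by omega)
  obtain ⟨π, hπdef⟩ : ∃ π : Γ →* alternatingGroup (Fin n), ∀ g, π g = e (QuotientGroup.mk g) :=
    ⟨e.toMonoidHom.comp (QuotientGroup.mk' Z), fun _ => rfl⟩
  have hker : π.ker = Z := by
    ext g
    rw [MonoidHom.mem_ker, hπdef, EmbeddingLike.map_eq_one_iff, QuotientGroup.eq_one_iff]
  have hπ : Cfsg.IsStemExtension π := by
    refine ⟨?_, hker ▸ hZc, hker ▸ hZd⟩
    intro a
    obtain ⟨q, rfl⟩ := e.surjective a
    obtain ⟨g, rfl⟩ := QuotientGroup.mk_surjective q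
    exact ⟨g, hπdef g⟩
  have h2 : ∀ x ∈ π.ker, ∃ k : ℕ, x ^ (2 ^ k) = 1 := by
    by_cases h8 : 8 ≤ n
    · exact two_power_of_six_le (n - 2) (by omega) φ π hπ
    · intro x hx
      exact ⟨1, by rw [pow_one]; exact sq_eq_one_small n (by omega) π hπ x hx⟩
  have h3 := card_ker_le_two (n - 2) (by omega) φ π hπ h2
  rwa [hker] at h3

end Cfsg.Agent.S0892
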