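import Cfsg.Statements.S2093
import Cfsg.Agent.Lib.Helper66.Sp6Upper
import Cfsg.Agent.Lib.Helper66.LowerTC
import Cfsg.Agent.Lib.Helper66.Sp6C2
import Cfsg.Agent.Lib.Helper66.SchurUniv
import Cfsg.Agent.Lib.Helper54.PSpCongr

set_option autoImplicit false
set_option maxRecDepth 100000
open Cfsg

namespace Cfsg.Agent.S2093

open Cfsg.Agent.Lib.Helper66 Cfsg.Agent.Lib.Helper66.TCE Cfsg.Agent.Lib.Helper66.Sp6G
  Cfsg.Agent.Lib.Helper66.Sp6U

theorem RG_lt : ∀ w ∈ SR ++ EX, ∀ a ∈ w, a / 2 < 7 := by decide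

theorem RG_one : ∀ w ∈ SR ++ EX, ev gb w = 1 := by
  intro w hw
  rcases List.mem_append.mp hw with h | h
  · exact ev_gb_of_chk (List.all_eq_true.mp SR_chk w h)
  · exact ev_gb_of_chk (List.all_eq_true.mp EX_chk w h)

instance : Finite (PSp 3 (ZMod 2)) := Nat.finite_of_card_ne_zero (by rw [card_PSp]; norm_num)

theorem two_dvd : 2 ^ (0 + 1) ∣ Monoid.exponent (schurM (PSp 3 (ZMod 2))) := by
  have : Fact (Nat.Prime 2) := ⟨Nat.prime_two⟩
  exact model_dvd_exponent gb 7 closure_gb (SR ++ EX) RG_lt RG_one PB Sp6C2.tab 240 Sp6C2.chk_valid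
    (by norm_num) Sp6C2.vals (by decide) Sp6C2.chk_rels Sp6C2.chk_comm Sp6C2.w0 Sp6C2.v0 Sp6C2.m0
    (by decide) (ev_gb_of_chk (by decide +kernel)) Sp6C2.chk_w0 Sp6C2.chk_perm 2 0
    Sp6C2.chk_ord1 Sp6C2.chk_ord2

theorem card_schurM_le : Nat.card (schurM (PSp 3 (ZMod 2))) ≤ 2 := by
  obtain ⟨⟨Γ, _, _, σ, hσ, ⟨e⟩⟩, -⟩ := hasSchurMultiplier_schurM (PSp 3 (ZMod 2))
  rw [← Nat.card_congr e.toEquiv]
  exact card_ker_le Γ σ hσ

theorem main : Cfsg.HasCyclicSchurMultiplier (PSp 3 (ZMod 2)) 2 := by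
  have hfin : Finite (schurM (PSp 3 (ZMod 2))) := inferInstance
  have h2 : 2 ∣ Monoid.exponent (schurM (PSp 3 (ZMod 2))) := by simpa using two_dvd
  have hdvd : Monoid.exponent (schurM (PSp 3 (ZMod 2))) ∣ Nat.card (schurM (PSp 3 (ZMod 2))) :=
    Group.exponent_dvd_nat_card
  have hpos : 0 < Nat.card (schurM (PSp 3 (ZMod 2))) := Nat.card_pos
  have hcard : Nat.card (schurM (PSp 3 (ZMod 2))) = 2 :=
    le_antisymm card_schurM_le (Nat.le_of_dvd hpos (h2.trans hdvd))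
  have hexp : Monoid.exponent (schurM (PSp 3 (ZMod 2))) = 2 := by
    rw [hcard] at hdvd
    exact Nat.dvd_antisymm hdvd h2
  have hcyc : IsCyclic (schurM (PSp 3 (ZMod 2))) := by
    rw [IsCyclic.iff_exponent_eq_card, hexp, hcard]
  have e : schurM (PSp 3 (ZMod 2)) ≃* Multiplicative (ZMod 2) :=
    (zmodCyclicMulEquiv hcyc).symm.trans (by rw [hcard])
  exact HasSchurMultiplier.congr e (hasSchurMultiplier_schurM _)

/-- Exceptional Schur multiplier: over the field with 2 elements, PSp₆ has Schur multiplier cyclic of order 2 (here the Schur multiplier is described through stem extensions, as in the definitions). -/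
theorem result {F : Type*} [Field F] [Fintype F] (hF : Fintype.card F = 2) : Cfsg.HasCyclicSchurMultiplier (Cfsg.PSp 3 F) 2 := by
  have : Fact (Nat.Prime 2) := ⟨Nat.prime_two⟩
  obtain ⟨e⟩ := Cfsg.Agent.Lib.Helper54.psp_congr_of_card (F := ZMod 2) (K := F)
    (by rw [hF, ZMod.card]) 3
  exact hasSchurMultiplier_congr_univ e main

end Cfsg.Agent.S2093
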