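import Cfsg.Statements.S3997

set_option autoImplicit false
open Cfsg

namespace Cfsg.Agent.S3997

theorem sylow_subset {H : Type*} [Group H] (p : ℕ) [Fact p.Prime] (Q : Sylow p H) :
    ((Q : Subgroup H) : Set H) ⊆ {h : H | ∃ k, orderOf h = p ^ k} := by
  intro x hx
  obtain ⟨k, hk⟩ := (IsPGroup.iff_orderOf.mp Q.isPGroup') ⟨x, hx⟩
  exact ⟨k, by rw [← hk, Subgroup.orderOf_mk]⟩

theorem sylow_eq_of_normal {G : Type*} [Group G] [Finite G] (p : ℕ) [Fact p.Prime] (P : Sylow p G)
    (hP : (P : Subgroup G).Normal) :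
    ((P : Subgroup G) : Set G) = {h : G | ∃ k, orderOf h = p ^ k} := by
  apply Set.Subset.antisymm (sylow_subset p P)
  rintro x ⟨k, hk⟩
  have hz : IsPGroup p (Subgroup.zpowers x) := by
    apply IsPGroup.of_card (n := k)
    rw [Nat.card_zpowers, hk]
  obtain ⟨Q, hQ⟩ := hz.exists_le_sylow
  have := Sylow.unique_of_normal P hP
  have hQP : Q = P := Subsingleton.elim _ _
  rw [hQP] at hQ
  exact hQ (Subgroup.mem_zpowers x)

/-- Let G and H be finite groups with the same order type: for every m they have the same number of elements of order m. If G is nilpotent then so is H. -/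
theorem result {G H : Type*} [Group G] [Finite G] [Group H] [Finite H] (hT : (∀ m : ℕ, Nat.card {g : G // orderOf g = m} = Nat.card {h : H // orderOf h = m})) (hG : Group.IsNilpotent G) :
    Group.IsNilpotent H := by
  classical
  let e : G ≃ H := (Equiv.sigmaFiberEquiv (orderOf : G → ℕ)).symm.trans
    ((Equiv.sigmaCongrRight fun m => (Finite.card_eq.mp (hT m)).some).trans
      (Equiv.sigmaFiberEquiv (orderOf : H → ℕ)))
  have he : ∀ g, orderOf (e g) = orderOf g := by
    intro g
    exact ((Finite.card_eq.mp (hT (orderOf g))).some ⟨g, rfl⟩).2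
  have hcard : Nat.card G = Nat.card H := Nat.card_congr e
  apply (Group.isNilpotent_of_finite_tfae.out 0 3 rfl rfl).mpr
  intro p hp Q
  have key : ∀ Q : Sylow p H, ((Q : Subgroup H) : Set H) = {h : H | ∃ k, orderOf h = p ^ k} := by
    intro Q
    apply Set.eq_of_subset_of_ncard_le (sylow_subset p Q) _ (Set.toFinite _)
    let P : Sylow p G := default
    have hP : (P : Subgroup G).Normal := inferInstance
    have h1 := sylow_eq_of_normal p P hP
    have h2 : {h : H | ∃ k, orderOf h = p ^ k} = e '' {h : G | ∃ k, orderOf h = p ^ k} := by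
      ext x
      constructor
      · rintro ⟨k, hk⟩
        refine ⟨e.symm x, ⟨k, ?_⟩, by simp⟩
        rw [← he, Equiv.apply_symm_apply, hk]
      · rintro ⟨y, ⟨k, hk⟩, rfl⟩
        exact ⟨k, by rw [he, hk]⟩
    rw [h2, Set.ncard_image_of_injective _ e.injective, ← h1]
    have h3 : ((P : Subgroup G) : Set G).ncard = Nat.card (P : Subgroup G) := rfl
    have h4 : ((Q : Subgroup H) : Set H).ncard = Nat.card (Q : Subgroup H) := rfl
    rw [h3, h4, P.card_eq_multiplicity, Q.card_eq_multiplicity, hcard]
  have : Subsingleton (Sylow p H) := by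
    constructor
    intro Q₁ Q₂
    apply Sylow.ext
    apply SetLike.coe_injective
    rw [key Q₁, key Q₂]
  exact Sylow.normal_of_subsingleton Q

end Cfsg.Agent.S3997
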