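import Cfsg.Statements.S0840
import Cfsg.Agent.Lib.Helper78.ClassAlg

set_option autoImplicit false
open scoped ComplexConjugate
open Cfsg

namespace Cfsg.Agent.S0840

open Cfsg.Agent.Lib.Helper78

/-- Class multiplication coefficients from the character table: for elements a, b, c of a finite group G, the number of ordered pairs (x, y) with x conjugate to a, y conjugate to b and x * y = c equals the product of the sizes of the conjugacy classes of a and b, divided by the order of G, times the sum over the irreducible characters χ of χ a * χ b * conj (χ c) / χ 1. -/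
theorem result {G : Type*} [Group G] [Finite G] (a b c : G) : (Nat.card {p : G × G // IsConj a p.1 ∧ IsConj b p.2 ∧ p.1 * p.2 = c} : ℂ) = (Nat.card {x : G // IsConj a x} : ℂ) * (Nat.card {x : G // IsConj b x} : ℂ) / (Nat.card G : ℂ) * ∑ᶠ χ : Cfsg.IrrCharacter G, (χ : G → ℂ) a * (χ : G → ℂ) b * conj ((χ : G → ℂ) c) / (χ : G → ℂ) 1 := by
  classical
  have := Fintype.ofFinite G
  have hcl : ∀ g : G, (Nat.card {x : G // IsConj g x} : ℂ)
      = ((Subgroup.centralizer ({g} : Set G)).index : ℂ) := by
    intro g
    rw [index_centralizer_eq_card, Nat.card_eq_fintype_card, Fintype.card_subtype]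
  -- left hand side as a convolution
  have hL : (Nat.card {p : G × G // IsConj a p.1 ∧ IsConj b p.2 ∧ p.1 * p.2 = c} : ℂ)
      = conv (classInd a) (classInd b) c := by
    have e : {p : G × G // IsConj a p.1 ∧ IsConj b p.2 ∧ p.1 * p.2 = c}
        ≃ {x : G // IsConj a x ∧ IsConj b (x⁻¹ * c)} :=
      { toFun := fun p => ⟨p.1.1, p.2.1, by
          have h3 := p.2.2.2
          have : p.1.1⁻¹ * c = p.1.2 := inv_mul_eq_of_eq_mul h3.symm
          rw [this]; exact p.2.2.1⟩
        invFun := fun x => ⟨(x.1, x.1⁻¹ * c), x.2.1, x.2.2, by simp⟩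
        left_inv := by
          rintro ⟨⟨x, y⟩, h1, h2, h3⟩
          simp only [Subtype.mk.injEq, Prod.mk.injEq, true_and]
          simp only at h3
          rw [← h3]; group
        right_inv := by
          rintro ⟨x, h1, h2⟩
          rfl }
    rw [Nat.card_congr e, Nat.card_eq_fintype_card, Fintype.card_subtype]
    unfold conv classInd
    rw [Finset.card_filter]
    push_cast
    refine Finset.sum_congr rfl fun x _ => ?_
    by_cases h1 : IsConj a x
    · by_cases h2 : IsConj b (x⁻¹ * c)
      · rw [if_pos h1, if_pos h2, if_pos ⟨h1, h2⟩, one_mul]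
      · rw [if_pos h1, if_neg h2, if_neg (fun h' => h2 h'.2), mul_zero]
    · rw [if_neg h1, zero_mul, if_neg (fun h' => h1 h'.1)]
  rw [hL, inversion (conv_isClassFunction (classInd_isClassFunction a) (classInd_isClassFunction b)) c,
    finsum_eq_sum_of_fintype, hcl, hcl, Nat.card_eq_fintype_card]
  have hcard : (Fintype.card G : ℂ) ≠ 0 := by
    exact_mod_cast Fintype.card_ne_zero
  rw [Finset.mul_sum, Finset.mul_sum]
  refine Finset.sum_congr rfl fun χ _ => ?_
  rw [omega_conv χ.2 _ (classInd_isClassFunction b), omega_classInd (irr_isClassFunction χ),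
    omega_classInd (irr_isClassFunction χ)]
  unfold centralChar
  have h1 := irr_one_ne_zero χ
  field_simp

end Cfsg.Agent.S0840
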