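import Cfsg.Statements.S4814
import Cfsg.Agent.Lib.Helper80.Gagola
import Cfsg.Agent.Lib.Helper81.Count

set_option autoImplicit false
open Cfsg

namespace Cfsg.Agent.S4814

open Cfsg.Agent.Lib.Helper80 Cfsg.Agent.Lib.Helper74 Cfsg.Agent.Lib.Helper81
open scoped ComplexConjugate

variable {G : Type*} [Group G]

theorem sum_char_mul_inv [Fintype G] {χ : G → ℂ} (hχ : IsIrrCharacter G χ) :
    ∑ x : G, χ x * χ x⁻¹ = (Fintype.card G : ℂ) := by
  have := classInner_irr_self (⟨χ, hχ⟩ : Cfsg.IrrCharacter G)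
  unfold Cfsg.classInner at this
  have hne : (Nat.card G : ℂ) ≠ 0 := by exact_mod_cast (Nat.card_pos (α := G)).ne'
  rw [inv_mul_eq_iff_eq_mul₀ hne, mul_one] at this
  rw [← Nat.card_eq_fintype_card, ← this]
  refine Finset.sum_congr rfl fun x _ => ?_
  rw [IsCharacter.inv (isCharacter_of_irr hχ)]

/-- Generalized orthogonality. -/
theorem gen_orth [Fintype G] {χ : G → ℂ} (hχ : IsIrrCharacter G χ) (h : G) :
    ∑ a : G, χ (h * a) * χ a⁻¹ = (Fintype.card G : ℂ) * χ h / χ 1 := by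
  have hc := isCharacter_of_irr hχ
  have hcard : (Fintype.card G : ℂ) ≠ 0 := by exact_mod_cast Fintype.card_ne_zero
  have h1 : ∀ y : G, ∑ a : G, χ (h * a) * χ a⁻¹ = ∑ a : G, χ (h * (y * a * y⁻¹)) * χ a⁻¹ := by
    intro y
    rw [← Equiv.sum_comp (MulAut.conj y).toEquiv]
    refine Finset.sum_congr rfl fun a _ => ?_
    simp only [MulEquiv.toEquiv_eq_coe, EquivLike.coe_coe, MulAut.conj_apply]
    congr 1
    have : (y * a * y⁻¹)⁻¹ = y * a⁻¹ * y⁻¹ := by group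
    rw [this, isClassFunction_of_char hc]
  have h2 : (Fintype.card G : ℂ) * ∑ a : G, χ (h * a) * χ a⁻¹ =
      ∑ y : G, ∑ a : G, χ (h * (y * a * y⁻¹)) * χ a⁻¹ := by
    rw [← Finset.sum_congr rfl (fun y _ => h1 y)]
    simp
  rw [Finset.sum_comm] at h2
  have h3 : ∀ a : G, ∑ y : G, χ (h * (y * a * y⁻¹)) * χ a⁻¹ =
      (Fintype.card G : ℂ) * χ h / χ 1 * (χ a * χ a⁻¹) := by
    intro a
    rw [← Finset.sum_mul, IsIrrCharacter.sum_mul_conj hχ]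
    ring
  rw [Finset.sum_congr rfl (fun a _ => h3 a), ← Finset.mul_sum, sum_char_mul_inv hχ] at h2
  apply mul_left_cancel₀ hcard
  rw [h2]; ring

theorem sum_mul_commutator [Fintype G] {χ : G → ℂ} (hχ : IsIrrCharacter G χ) (h : G) :
    ∑ xy : G × G, χ (h * (xy.1 * xy.2 * xy.1⁻¹ * xy.2⁻¹)) =
      (Fintype.card G : ℂ) ^ 2 * χ h / (χ 1) ^ 2 := by
  rw [Fintype.sum_prod_type]
  have h1 : ∀ x : G, ∑ y : G, χ (h * (x * y * x⁻¹ * y⁻¹)) =
      (Fintype.card G : ℂ) / χ 1 * (χ (h * x) * χ x⁻¹) := by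
    intro x
    have := IsIrrCharacter.sum_mul_conj hχ (h * x) x⁻¹
    rw [show (Fintype.card G : ℂ) / χ 1 * (χ (h * x) * χ x⁻¹) =
      (Fintype.card G : ℂ) * χ (h * x) * χ x⁻¹ / χ 1 by ring, ← this]
    refine Finset.sum_congr rfl fun y _ => ?_
    congr 1
    group
  simp only [h1]
  rw [← Finset.mul_sum, gen_orth hχ]
  ring

theorem norm_char_le_one [Finite G] {χ : G → ℂ} (hχ : IsCharacter G χ) (g : G) :
    ‖χ g‖ ≤ ‖χ 1‖ := by
  obtain ⟨n, ρ, rfl⟩ := hχ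
  rw [Representation.char_one]
  simpa using norm_char_le ρ g

theorem result {G : Type*} [Group G] [Finite G]
    (h : ∑ᶠ χ : Cfsg.IrrCharacter G, 1 / ‖(χ : G → ℂ) 1‖ ^ 2 < (2 : ℝ)) (g : G) :
    ∃ a b c d : G, (a * b * a⁻¹ * b⁻¹) * (c * d * c⁻¹ * d⁻¹) = g := by
  classical
  have : Fintype G := Fintype.ofFinite G
  have hcard : (Nat.card G : ℂ) ≠ 0 := by exact_mod_cast (Nat.card_pos (α := G)).ne'
  -- the key sum is nonzero
  have hS : ∑ χ : IrrCharacter G, (χ : G → ℂ) g / ((χ : G → ℂ) 1) ^ 3 ≠ 0 := by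
    intro hS0
    rw [finsum_eq_sum_of_fintype, ← Finset.add_sum_erase _ _ (Finset.mem_univ (trivIrr G))] at h
    rw [← Finset.add_sum_erase _ _ (Finset.mem_univ (trivIrr G))] at hS0
    have e1 : ((trivIrr G : IrrCharacter G) : G → ℂ) = fun _ => 1 := rfl
    simp only [e1, norm_one, one_pow, div_one] at h hS0
    have h1 : ∑ χ ∈ Finset.univ.erase (trivIrr G), 1 / ‖(χ : G → ℂ) 1‖ ^ 2 < 1 := by linarith
    have h2 : ∑ χ ∈ Finset.univ.erase (trivIrr G), (χ : G → ℂ) g / ((χ : G → ℂ) 1) ^ 3 = -1 := by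
      linear_combination hS0
    have h3 : ‖∑ χ ∈ Finset.univ.erase (trivIrr G), (χ : G → ℂ) g / ((χ : G → ℂ) 1) ^ 3‖ ≤
        ∑ χ ∈ Finset.univ.erase (trivIrr G), 1 / ‖(χ : G → ℂ) 1‖ ^ 2 := by
      refine (norm_sum_le _ _).trans (Finset.sum_le_sum fun χ _ => ?_)
      have hpos : 0 < ‖(χ : G → ℂ) 1‖ := norm_pos_iff.2 (char_one_ne_zero_of_irr χ.2)
      rw [norm_div, norm_pow, div_le_div_iff₀ (pow_pos hpos 3) (pow_pos hpos 2)]
      have := norm_char_le_one (isCharacter_of_irr χ.2) g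
      calc ‖(χ : G → ℂ) g‖ * ‖(χ : G → ℂ) 1‖ ^ 2 ≤ ‖(χ : G → ℂ) 1‖ * ‖(χ : G → ℂ) 1‖ ^ 2 :=
            mul_le_mul_of_nonneg_right this (by positivity)
        _ = 1 * ‖(χ : G → ℂ) 1‖ ^ 3 := by ring
    rw [h2, norm_neg, norm_one] at h3
    linarith
  -- convolution of the two counting functions
  let N : G → ℂ := fun z => (Nat.card {xy : G × G // xy.1 * xy.2 * xy.1⁻¹ * xy.2⁻¹ = z} : ℂ)
  have hconv : ∑ z : G, N z * N (z⁻¹ * g) =
      (Nat.card G : ℂ) ^ 3 * ∑ χ : IrrCharacter G, (χ : G → ℂ) g / ((χ : G → ℂ) 1) ^ 3 := by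
    rw [sum_card_fiber_mul (fun xy : G × G => xy.1 * xy.2 * xy.1⁻¹ * xy.2⁻¹)
      (fun z => N (z⁻¹ * g))]
    simp only [N, card_commutator_eq]
    rw [← Finset.mul_sum, Finset.sum_comm, pow_succ, pow_two, mul_assoc, mul_assoc]
    congr 1
    rw [Finset.mul_sum, Finset.mul_sum]
    refine Finset.sum_congr rfl fun χ _ => ?_
    rw [← Finset.sum_div]
    have h1 : ∑ xy : G × G, (χ : G → ℂ) ((xy.1 * xy.2 * xy.1⁻¹ * xy.2⁻¹)⁻¹ * g) =
        ∑ xy : G × G, (χ : G → ℂ) (g * (xy.1 * xy.2 * xy.1⁻¹ * xy.2⁻¹)) := by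
      rw [← Equiv.sum_comp (Equiv.prodComm G G)]
      refine Finset.sum_congr rfl fun xy _ => ?_
      simp only [Equiv.prodComm_apply, Prod.fst_swap, Prod.snd_swap]
      rw [IsCharacter.mul_comm (isCharacter_of_irr χ.2)]
      congr 1
      group
    rw [h1, sum_mul_commutator χ.2, Nat.card_eq_fintype_card]
    have := char_one_ne_zero_of_irr χ.2
    field_simp
  have hne : ∑ z : G, N z * N (z⁻¹ * g) ≠ 0 := by
    rw [hconv]
    exact mul_ne_zero (pow_ne_zero _ hcard) hS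
  obtain ⟨z, -, hz⟩ := Finset.exists_ne_zero_of_sum_ne_zero hne
  have hz1 : N z ≠ 0 := left_ne_zero_of_mul hz
  have hz2 : N (z⁻¹ * g) ≠ 0 := right_ne_zero_of_mul hz
  have hn1 : Nat.card {xy : G × G // xy.1 * xy.2 * xy.1⁻¹ * xy.2⁻¹ = z} ≠ 0 := by
    intro h0; apply hz1; simp only [N, h0]; simp
  have hn2 : Nat.card {xy : G × G // xy.1 * xy.2 * xy.1⁻¹ * xy.2⁻¹ = z⁻¹ * g} ≠ 0 := by
    intro h0; apply hz2; simp only [N, h0]; simp
  obtain ⟨⟨⟨a, b⟩, hab⟩⟩ := (Nat.card_pos_iff.1 (Nat.pos_of_ne_zero hn1)).1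
  obtain ⟨⟨⟨c, d⟩, hcd⟩⟩ := (Nat.card_pos_iff.1 (Nat.pos_of_ne_zero hn2)).1
  refine ⟨a, b, c, d, ?_⟩
  simp only at hab hcd
  rw [hab, hcd]; group

end Cfsg.Agent.S4814
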