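import Cfsg.Statements.S4142
import Cfsg.Agent.Lib.Helper69.ClassSize

set_option autoImplicit false
open Cfsg

namespace Cfsg.Agent.S4142

open Cfsg.Agent.Lib.Helper69 in
theorem key {G : Type*} [Group G] [Finite G] (N : Subgroup G) [N.Normal] (g : G) :
    Nat.card (Subgroup.centralizer ({g} : Set G)) =
        Nat.card (Subgroup.centralizer ({(QuotientGroup.mk g : G ⧸ N)} : Set (G ⧸ N))) ↔
      (QuotientGroup.mk ⁻¹' (Set.range (fun k : G ⧸ N => k * (QuotientGroup.mk g : G ⧸ N) * k⁻¹)) : Set G) ⊆
        Set.range (fun k : G => k * g * k⁻¹) := by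
  classical
  set A : Set G := Set.range (fun k : G => k * g * k⁻¹) with hA
  set B : Set (G ⧸ N) := Set.range (fun k : G ⧸ N => k * (QuotientGroup.mk g : G ⧸ N) * k⁻¹) with hB
  have hAB : A ⊆ (QuotientGroup.mk ⁻¹' B : Set G) := by
    rintro _ ⟨k, rfl⟩
    exact ⟨(k : G ⧸ N), rfl⟩
  have h1 : (Subgroup.centralizer ({g} : Set G)).index = A.ncard := index_centralizer_eq_ncard_range g
  have h2 : (Subgroup.centralizer ({(QuotientGroup.mk g : G ⧸ N)} : Set (G ⧸ N))).index = B.ncard :=
    index_centralizer_eq_ncard_range _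
  have h3 : (QuotientGroup.mk ⁻¹' B : Set G).ncard = Nat.card N * B.ncard := by
    rw [← Nat.card_coe_set_eq, ← Nat.card_coe_set_eq, QuotientGroup.card_preimage_mk]
  have h4 := (Subgroup.centralizer ({g} : Set G)).card_mul_index
  have h5 := (Subgroup.centralizer ({(QuotientGroup.mk g : G ⧸ N)} : Set (G ⧸ N))).card_mul_index
  have h6 : Nat.card N * Nat.card (G ⧸ N) = Nat.card G := N.card_mul_index
  have hpos : 0 < Nat.card (Subgroup.centralizer ({g} : Set G)) := Nat.card_pos
  have hpos' : 0 < Nat.card (Subgroup.centralizer ({(QuotientGroup.mk g : G ⧸ N)} : Set (G ⧸ N))) :=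
    Nat.card_pos
  rw [h1] at h4
  rw [h2] at h5
  constructor
  · intro h
    have h7 : A.ncard = (QuotientGroup.mk ⁻¹' B : Set G).ncard := by
      rw [h3]
      have : Nat.card (Subgroup.centralizer ({g} : Set G)) * A.ncard =
          Nat.card (Subgroup.centralizer ({g} : Set G)) * (Nat.card N * B.ncard) := by
        rw [h4, ← h6, ← h5, h]; ring
      exact Nat.eq_of_mul_eq_mul_left hpos this
    exact (Set.eq_of_subset_of_ncard_le hAB h7.ge (Set.toFinite _)).ge
  · intro h
    have h7 : A = (QuotientGroup.mk ⁻¹' B : Set G) := Set.Subset.antisymm hAB h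
    have h8 : A.ncard = Nat.card N * B.ncard := by rw [← h3, ← h7]
    have hBpos : 0 < Nat.card N * B.ncard := by
      rw [← h8, Set.ncard_pos (Set.toFinite _)]
      exact ⟨_, ⟨1, rfl⟩⟩
    have : Nat.card (Subgroup.centralizer ({g} : Set G)) * (Nat.card N * B.ncard) =
        Nat.card (Subgroup.centralizer ({(QuotientGroup.mk g : G ⧸ N)} : Set (G ⧸ N))) * (Nat.card N * B.ncard) := by
      rw [← h8, h4, ← h6, ← h5, h8]; ring
    exact Nat.eq_of_mul_eq_mul_right hBpos this

/-- Let G be a finite group and N a normal subgroup. Then the conjugacy class of every element g outside N is a union of cosets of N (gn is conjugate to g for all n ∈ N) if and only if for every g outside N the centralizer of g in G has the same order as the centralizer of gN in G/N. -/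
theorem result {G : Type*} [Group G] [Finite G] (N : Subgroup G) [N.Normal] :
    (∀ g : G, g ∉ N → ∀ n ∈ N, ∃ x : G, x * g * x⁻¹ = g * n) ↔
      ∀ g : G, g ∉ N → Nat.card (Subgroup.centralizer ({g} : Set G)) =
        Nat.card (Subgroup.centralizer ({(QuotientGroup.mk g : G ⧸ N)} : Set (G ⧸ N))) := by
  constructor
  · intro h g hg
    rw [key]
    rintro y ⟨kb, hk⟩
    obtain ⟨k, rfl⟩ := QuotientGroup.mk_surjective kb
    have hg' : k * g * k⁻¹ ∉ N := by
      intro hmem
      apply hg
      have := ‹N.Normal›.conj_mem _ hmem k⁻¹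
      simpa [mul_assoc] using this
    have hn : (k * g * k⁻¹)⁻¹ * y ∈ N := by
      rw [← QuotientGroup.eq]
      exact hk
    obtain ⟨x, hx⟩ := h _ hg' _ hn
    refine ⟨x * k, ?_⟩
    simp only
    calc x * k * g * (x * k)⁻¹ = x * (k * g * k⁻¹) * x⁻¹ := by group
      _ = k * g * k⁻¹ * ((k * g * k⁻¹)⁻¹ * y) := hx
      _ = y := by group
  · intro h g hg n hn
    have h1 := (key N g).1 (h g hg)
    have h2 : g * n ∈ (QuotientGroup.mk ⁻¹' (Set.range (fun k : G ⧸ N => k * (QuotientGroup.mk g : G ⧸ N) * k⁻¹)) : Set G) := by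
      refine ⟨1, ?_⟩
      simp only [one_mul, inv_one, mul_one]
      rw [QuotientGroup.eq]
      simpa using hn
    obtain ⟨x, hx⟩ := h1 h2
    exact ⟨x, hx⟩

end Cfsg.Agent.S4142
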