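import Cfsg.Statements.S3360
import Cfsg.Agent.Lib.Helper53.Hup.Small

set_option autoImplicit false
open Cfsg

namespace Cfsg.Agent.S3360

/-- Let q be a prime and V a non-trivial finite vector space over the field with q elements, and let G be a finite solvable group acting faithfully and linearly on V and transitively on the non-zero vectors. Then either V can be identified with the additive group of a finite field F in such a way that every element of G acts as x ↦ a·σ(x) for some a ∈ F and some field automorphism σ, or the number of elements of V is one of 3^2, 5^2, 7^2, 11^2, 23^2, 3^4. -/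
theorem result
    (q : ℕ) [Fact q.Prime] {V : Type*} [AddCommGroup V] [Module (ZMod q) V] [Finite V] [Nontrivial V]
    {G : Type*} [Group G] [Finite G] (hsol : Group.IsSolvable G)
    (ρ : G →* (V ≃ₗ[ZMod q] V)) (hρ : Function.Injective ρ)
    (htrans : ∀ v w : V, v ≠ 0 → w ≠ 0 → ∃ g : G, ρ g v = w) :
    (∃ (F : Type) (_ : Field F) (_ : Fintype F) (e : V ≃+ F),
        ∀ g : G, ∃ (a : F) (σ : F ≃+* F), ∀ v : V, e (ρ g v) = a * σ (e v)) ∨
    Nat.card V ∈ ({9, 25, 49, 121, 529, 81} : Set ℕ) := by
  classical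
  by_contra hcon
  push Not at hcon
  obtain ⟨hns, hcard⟩ := hcon
  have hp : q.Prime := Fact.out
  obtain ⟨A, hAn, hAc, hAmax⟩ := Cfsg.Agent.Lib.Helper96.nf_exists_max (H := G)
  have h : Cfsg.Agent.Lib.Helper53.Hup.Setup ρ A :=
    ⟨hρ, htrans, hsol, fun hs => by
      obtain ⟨F, iF, iFt, e, he⟩ := hs
      obtain ⟨g, hg⟩ := hns F iF iFt e
      obtain ⟨a, σ, haσ⟩ := he g
      obtain ⟨v, hv⟩ := hg a σ
      exact hv (haσ v), hAn, hAc, hAmax⟩
  have hcV : Nat.card V = q ^ Module.finrank (ZMod q) V := Cfsg.Agent.Lib.Helper53.Hup.card_V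
  have hn0 := h.n_pos
  have hklt := h.k_lt
  have hkpos : 0 < Module.finrank (ZMod q) (Cfsg.Agent.Lib.Helper53.Hup.KK ρ A) :=
    Cfsg.Agent.Lib.Helper53.Hup.finrank_KK_pos
  apply hcard
  simp only [Set.mem_insert_iff, Set.mem_singleton_iff]
  rcases Nat.lt_or_ge (Module.finrank (ZMod q) V) 3 with hlt | hge
  · have hn2 : Module.finrank (ZMod q) V = 2 := by omega
    obtain ⟨h24, hq2⟩ := h.two hn2
    rw [hcV, hn2]
    have hle : q + 1 ≤ 24 := Nat.le_of_dvd (by norm_num) h24
    have hq23 : q ≤ 23 := by omega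
    have h2 := hp.two_le
    clear hcV hklt hkpos h hcard hns htrans hρ
    interval_cases q <;> omega
  · by_cases h26 : q = 2 ∧ Module.finrank (ZMod q) V = 6
    · exact (h.twosix h26.1 h26.2).elim
    · obtain ⟨h3, h4⟩ := h.generic hge h26
      rw [hcV, h4, h3]
      simp

end Cfsg.Agent.S3360
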