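import Cfsg.Statements.S4262

set_option autoImplicit false
open Cfsg

namespace Cfsg.Agent.S4262

variable {G : Type*} [Group G]

theorem mem_cent {g x : G} : x ∈ Subgroup.centralizer ({g} : Set G) ↔ g * x = x * g := by
  rw [Subgroup.mem_centralizer_iff]
  simp

theorem cent_eq_top_iff {g : G} : Subgroup.centralizer ({g} : Set G) = ⊤ ↔ g ∈ Subgroup.center G := by
  rw [Subgroup.mem_center_iff, eq_top_iff]
  constructor
  · intro h x
    exact ((mem_cent).mp (h (Subgroup.mem_top x))).symm
  · intro h x _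
    exact mem_cent.mpr (h x).symm

theorem cent_le_cent_pow (g : G) (k : ℕ) :
    Subgroup.centralizer ({g} : Set G) ≤ Subgroup.centralizer ({g ^ k} : Set G) := by
  intro x hx
  rw [mem_cent] at hx ⊢
  exact ((Commute.pow_left (show Commute g x from hx) k)).eq

theorem cent_le_cent_zpow (g : G) (k : ℤ) :
    Subgroup.centralizer ({g} : Set G) ≤ Subgroup.centralizer ({g ^ k} : Set G) := by
  intro x hx
  rw [mem_cent] at hx ⊢
  exact ((Commute.zpow_left (show Commute g x from hx) k)).eq

/-- decomposition of an element in a `p`-part and a `p'`-part -/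
theorem exists_parts [Finite G] (p : ℕ) (hp : p.Prime) (m : G) :
    ∃ i j : ℤ, m = m ^ i * m ^ j ∧ (∃ k, orderOf (m ^ i) = p ^ k) ∧ (orderOf (m ^ j)).Coprime p := by
  obtain ⟨e, s, hs, hes⟩ := Nat.exists_eq_pow_mul_and_not_dvd (orderOf_pos m).ne' p hp.ne_one
  have hcop : Nat.Coprime (p ^ e) s := Nat.Coprime.pow_left e ((Nat.Prime.coprime_iff_not_dvd hp).mpr hs)
  have hb := Nat.gcd_eq_gcd_ab (p ^ e) s
  rw [hcop.gcd_eq_one] at hb
  refine ⟨s * Nat.gcdB (p ^ e) s, (p ^ e : ℕ) * Nat.gcdA (p ^ e) s, ?_, ?_, ?_⟩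
  · rw [← zpow_add]
    have : (s : ℤ) * Nat.gcdB (p ^ e) s + (p ^ e : ℕ) * Nat.gcdA (p ^ e) s = 1 := by
      rw [add_comm]; exact hb.symm
    rw [this, zpow_one]
  · have h1 : (m ^ ((s : ℤ) * Nat.gcdB (p ^ e) s)) ^ (p ^ e) = 1 := by
      rw [← zpow_natCast, ← zpow_mul]
      have : (s : ℤ) * Nat.gcdB (p ^ e) s * ((p ^ e : ℕ) : ℤ) = ((orderOf m : ℕ) : ℤ) * Nat.gcdB (p ^ e) s := by
        rw [hes]; push_cast; ring
      rw [this, zpow_mul, zpow_natCast, pow_orderOf_eq_one, one_zpow]
    obtain ⟨k, _, hk⟩ := (Nat.dvd_prime_pow hp).mp (orderOf_dvd_of_pow_eq_one h1)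
    exact ⟨k, hk⟩
  · have h1 : (m ^ (((p ^ e : ℕ) : ℤ) * Nat.gcdA (p ^ e) s)) ^ s = 1 := by
      rw [← zpow_natCast, ← zpow_mul]
      have : ((p ^ e : ℕ) : ℤ) * Nat.gcdA (p ^ e) s * (s : ℤ) = ((orderOf m : ℕ) : ℤ) * Nat.gcdA (p ^ e) s := by
        rw [hes]; push_cast; ring
      rw [this, zpow_mul, zpow_natCast, pow_orderOf_eq_one, one_zpow]
    exact Nat.Coprime.coprime_dvd_left (orderOf_dvd_of_pow_eq_one h1)
      ((Nat.Prime.coprime_iff_not_dvd hp).mpr hs).symm

variable [Finite G]
  (hyp : ∀ g : G, g ∉ Subgroup.center G → IsCoatom (Subgroup.centralizer ({g} : Set G)))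
include hyp

theorem cent_eq_of_le {x y : G} (hx : x ∉ Subgroup.center G) (hy : y ∉ Subgroup.center G)
    (h : Subgroup.centralizer ({x} : Set G) ≤ Subgroup.centralizer ({y} : Set G)) :
    Subgroup.centralizer ({x} : Set G) = Subgroup.centralizer ({y} : Set G) := by
  rcases (hyp x hx).le_iff.mp h with h1 | h1
  · exact absurd (cent_eq_top_iff.mp h1) hy
  · exact h1.symm

/-- L2 -/
theorem cent_le_of_coprime {x y : G} (hx : x ∉ Subgroup.center G)
    (hy : y ∈ Subgroup.centralizer ({x} : Set G)) (hc : (orderOf x).Coprime (orderOf y)) :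
    Subgroup.centralizer ({x} : Set G) ≤ Subgroup.centralizer ({y} : Set G) := by
  have hcomm : Commute x y := mem_cent.mp hy
  obtain ⟨a, ha⟩ := exists_pow_eq_self_of_coprime hc.symm
  obtain ⟨b, hb⟩ := exists_pow_eq_self_of_coprime hc
  have h1 : ((x * y) ^ orderOf y) ^ a = x := by
    rw [hcomm.mul_pow, pow_orderOf_eq_one, mul_one, ha]
  have h2 : ((x * y) ^ orderOf x) ^ b = y := by
    rw [hcomm.mul_pow, pow_orderOf_eq_one, one_mul, hb]
  have l1 : Subgroup.centralizer ({x * y} : Set G) ≤ Subgroup.centralizer ({x} : Set G) := by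
    conv_rhs => rw [← h1, ← pow_mul]
    exact cent_le_cent_pow _ _
  have l2 : Subgroup.centralizer ({x * y} : Set G) ≤ Subgroup.centralizer ({y} : Set G) := by
    conv_rhs => rw [← h2, ← pow_mul]
    exact cent_le_cent_pow _ _
  have hxy : x * y ∉ Subgroup.center G := by
    intro h
    rw [← cent_eq_top_iff] at h
    rw [h, top_le_iff, cent_eq_top_iff] at l1
    exact hx l1
  rw [← cent_eq_of_le hyp hxy hx l1]
  exact l2

/-- L3 -/
theorem exists_prime_power_elt (g : G) (hg : g ∉ Subgroup.center G) :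
    ∃ (p : ℕ) (x : G), p.Prime ∧ x ∉ Subgroup.center G ∧ (∃ k, orderOf x = p ^ k) ∧
      Subgroup.centralizer ({x} : Set G) = Subgroup.centralizer ({g} : Set G) := by
  induction hn : orderOf g using Nat.strong_induction_on generalizing g with
  | _ n ih =>
    have hn1 : n ≠ 1 := by
      intro h1
      rw [h1, orderOf_eq_one_iff] at hn
      exact hg (hn ▸ Subgroup.one_mem _)
    obtain ⟨p, hp, hpn⟩ := Nat.exists_prime_and_dvd hn1
    obtain ⟨i, j, hij, ⟨k, hk⟩, hj⟩ := exists_parts p hp g
    by_cases hi : g ^ i ∈ Subgroup.center G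
    · -- then g^j is noncentral of smaller order
      have hjc : g ^ j ∉ Subgroup.center G := by
        intro h
        apply hg
        rw [hij]
        exact Subgroup.mul_mem _ hi h
      have hlt : orderOf (g ^ j) < n := by
        have hd : orderOf (g ^ j) ∣ n := hn ▸ orderOf_dvd_of_mem_zpowers (Subgroup.zpow_mem_zpowers g j)
        refine lt_of_le_of_ne (Nat.le_of_dvd (hn ▸ orderOf_pos g) hd) ?_
        intro he
        rw [he] at hj
        exact (Nat.Prime.coprime_iff_not_dvd hp).mp hj.symm hpn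
      obtain ⟨q, x, hq, hx, hxk, hxc⟩ := ih _ hlt (g ^ j) hjc rfl
      refine ⟨q, x, hq, hx, hxk, hxc.trans ?_⟩
      exact (cent_eq_of_le hyp hg hjc (cent_le_cent_zpow g j)).symm
    · exact ⟨p, g ^ i, hp, hi, ⟨k, hk⟩, (cent_eq_of_le hyp hg hi (cent_le_cent_zpow g i)).symm⟩

/-- L4a -/
theorem central_of_coprime {p : ℕ} {x : G} (hx : x ∉ Subgroup.center G)
    (hk : ∃ k, orderOf x = p ^ k) {y : G} (hy : y ∈ Subgroup.centralizer ({x} : Set G))
    (hyp' : (orderOf y).Coprime p) {m : G} (hm : m ∈ Subgroup.centralizer ({x} : Set G)) :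
    y * m = m * y := by
  obtain ⟨k, hk⟩ := hk
  have hc : (orderOf x).Coprime (orderOf y) := by
    rw [hk]; exact Nat.Coprime.pow_left k hyp'.symm
  exact mem_cent.mp (cent_le_of_coprime hyp hx hy hc hm)

/-- L4b -/
theorem isPGroup_quot {p : ℕ} (hp : p.Prime) {x : G} (hx : x ∉ Subgroup.center G)
    (hk : ∃ k, orderOf x = p ^ k) :
    IsPGroup p (↥(Subgroup.centralizer ({x} : Set G)) ⧸
      Subgroup.center ↥(Subgroup.centralizer ({x} : Set G))) := by
  intro q
  induction q using QuotientGroup.induction_on with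
  | H m =>
    obtain ⟨e, s, hs, hes⟩ := Nat.exists_eq_pow_mul_and_not_dvd (orderOf_pos (m : G)).ne' p hp.ne_one
    refine ⟨e, ?_⟩
    rw [← QuotientGroup.mk_pow, QuotientGroup.eq_one_iff, Subgroup.mem_center_iff]
    intro m'
    have h1 : ((m : G) ^ (p ^ e)) ^ s = 1 := by
      rw [← pow_mul, ← hes, pow_orderOf_eq_one]
    have h2 : (orderOf ((m : G) ^ (p ^ e))).Coprime p :=
      Nat.Coprime.coprime_dvd_left (orderOf_dvd_of_pow_eq_one h1)
        ((Nat.Prime.coprime_iff_not_dvd hp).mpr hs).symm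
    have h3 := central_of_coprime hyp hx hk (Subgroup.pow_mem _ m.2 (p ^ e)) h2 m'.2
    apply Subtype.ext
    simpa using h3.symm

/-- L4c -/
theorem isNilpotent_cent {p : ℕ} (hp : p.Prime) {x : G} (hx : x ∉ Subgroup.center G)
    (hk : ∃ k, orderOf x = p ^ k) :
    Group.IsNilpotent ↥(Subgroup.centralizer ({x} : Set G)) := by
  have : Fact p.Prime := ⟨hp⟩
  exact Group.of_quotient_center_nilpotent (isPGroup_quot hyp hp hx hk).isNilpotent

omit hyp in
/-- L5 -/
theorem solvable_of_normal_coatom (M : Subgroup G) (hn : M.Normal) (hM : IsCoatom M)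
    (hs : Group.IsSolvable M) : Group.IsSolvable G := by
  rw [Group.isSolvable_iff_subgroup_quotient M]
  refine ⟨hs, ?_⟩
  obtain ⟨g, hg⟩ : ∃ g : G, g ∉ M := by
    by_contra hcon
    push Not at hcon
    exact hM.1 (eq_top_iff.mpr fun x _ => hcon x)
  have htop : M ⊔ Subgroup.zpowers g = ⊤ := by
    apply hM.2
    refine lt_of_le_of_ne le_sup_left ?_
    intro he
    apply hg
    rw [he]
    exact Subgroup.mem_sup_right (Subgroup.mem_zpowers g)
  apply Group.isSolvable_of_comm
  have hall : ∀ a : G ⧸ M, ∃ k : ℤ, a = (QuotientGroup.mk g : G ⧸ M) ^ k := by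
    intro a
    induction a using QuotientGroup.induction_on with
    | H a =>
      have ha : a ∈ M ⊔ Subgroup.zpowers g := htop ▸ Subgroup.mem_top a
      rw [← SetLike.mem_coe, Subgroup.normal_mul] at ha
      obtain ⟨m, hm, z, hz, rfl⟩ := ha
      obtain ⟨k, rfl⟩ := Subgroup.mem_zpowers_iff.mp hz
      refine ⟨k, ?_⟩
      show ((m * g ^ k : G) : G ⧸ M) = _
      rw [QuotientGroup.mk_mul, (QuotientGroup.eq_one_iff m).mpr hm, one_mul, QuotientGroup.mk_zpow]
  intro a b
  obtain ⟨k, rfl⟩ := hall a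
  obtain ⟨l, rfl⟩ := hall b
  rw [← zpow_add, ← zpow_add, add_comm]

omit hyp in
/-- L9 : a finite group is not the union of the conjugates of a proper subgroup -/
theorem exists_not_mem_conj (H : Subgroup G) (hH : H ≠ ⊤) : ∃ g : G, ∀ c : G, c⁻¹ * g * c ∉ H := by
  classical
  by_contra hcon
  push Not at hcon
  have : Fintype G := Fintype.ofFinite G
  have : Fintype (G ⧸ H) := Fintype.ofFinite _
  have hB := MulAction.sum_card_fixedBy_eq_card_orbits_mul_card_group G (G ⧸ H)
  have horb : Fintype.card (Quotient (MulAction.orbitRel G (G ⧸ H))) = 1 := by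
    rw [Fintype.card_eq_one_iff]
    refine ⟨Quotient.mk'' (QuotientGroup.mk 1), fun y => ?_⟩
    induction y using Quotient.inductionOn' with
    | h a =>
      apply Quotient.sound'
      exact MulAction.exists_smul_eq G _ _
  rw [horb, one_mul] at hB
  have hge : ∀ g : G, 1 ≤ Fintype.card (MulAction.fixedBy (G ⧸ H) g) := by
    intro g
    obtain ⟨c, hc⟩ := hcon g
    apply Fintype.card_pos_iff.mpr
    refine ⟨⟨QuotientGroup.mk c, ?_⟩⟩
    rw [MulAction.mem_fixedBy]
    show ((g * c : G) : G ⧸ H) = _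
    rw [eq_comm, QuotientGroup.eq]
    simpa [mul_assoc] using hc
  have h1 : 2 ≤ Fintype.card (MulAction.fixedBy (G ⧸ H) (1 : G)) := by
    have : Fintype.card (MulAction.fixedBy (G ⧸ H) (1 : G)) = Fintype.card (G ⧸ H) := by
      apply Fintype.card_congr
      exact (Equiv.subtypeUnivEquiv (fun x => by simp [MulAction.mem_fixedBy]))
    rw [this, ← Nat.card_eq_fintype_card]
    exact Subgroup.one_lt_index_of_ne_top hH
  have hlt : ∑ _g : G, 1 < ∑ g : G, Fintype.card (MulAction.fixedBy (G ⧸ H) g) := by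
    apply Finset.sum_lt_sum (fun g _ => hge g)
    exact ⟨1, Finset.mem_univ _, h1⟩
  rw [hB] at hlt
  simp at hlt

/-- L7 -/
theorem exists_sylow
    (hnn : ∀ g : G, g ∉ Subgroup.center G → ¬ (Subgroup.centralizer ({g} : Set G)).Normal)
    {p : ℕ} [hp : Fact p.Prime] {x : G} (hx : x ∉ Subgroup.center G) (hk : ∃ k, orderOf x = p ^ k) :
    ∃ P : Sylow p G, x ∈ P ∧
      Subgroup.normalizer ((P : Subgroup G) : Set G) = Subgroup.centralizer ({x} : Set G) := by
  set M := Subgroup.centralizer ({x} : Set G) with hM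
  have nil : Group.IsNilpotent ↥M := isNilpotent_cent hyp hp.out hx hk
  obtain ⟨S⟩ : Nonempty (Sylow p ↥M) := inferInstance
  have hSn : (S : Subgroup ↥M).Normal := inferInstance
  set PM := (S : Subgroup ↥M).map M.subtype with hPM
  have hPMle : PM ≤ M := Subgroup.map_subtype_le _
  have hPMp : IsPGroup p PM := S.isPGroup'.map _
  have hpel : ∀ m ∈ M, (∃ k, orderOf m = p ^ k) → m ∈ PM := by
    rintro m hm ⟨k, hk⟩
    have h1 : IsPGroup p (Subgroup.zpowers (⟨m, hm⟩ : ↥M)) := by
      apply IsPGroup.of_card (n := k)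
      rw [Nat.card_zpowers, ← hk, ← Subgroup.orderOf_coe]
    obtain ⟨S', hS'⟩ := h1.exists_le_sylow
    have : Unique (Sylow p ↥M) := Sylow.unique_of_normal S hSn
    have hSS : S' = S := Subsingleton.elim _ _
    rw [hSS] at hS'
    exact ⟨⟨m, hm⟩, hS' (Subgroup.mem_zpowers _), rfl⟩
  have hMN : M ≤ Subgroup.normalizer (PM : Set G) := by
    have h1 := Subgroup.le_normalizer_map (H := (S : Subgroup ↥M)) M.subtype
    rw [Subgroup.normalizer_eq_top_iff.mpr hSn, ← MonoidHom.range_eq_map, Subgroup.range_subtype] at h1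
    exact h1
  have hxM : x ∈ M := mem_cent.mpr rfl
  have hxPM : x ∈ PM := hpel x hxM hk
  have hW : PM ⊔ Subgroup.centralizer (PM : Set G) = M := by
    apply le_antisymm
    · refine sup_le hPMle ?_
      apply Subgroup.centralizer_le
      simpa using hxPM
    · intro m hm
      obtain ⟨i, j, hij, hi, hj⟩ := exists_parts p hp.out m
      rw [hij]
      refine Subgroup.mul_mem _ (Subgroup.mem_sup_left (hpel _ (Subgroup.zpow_mem _ hm i) hi))
        (Subgroup.mem_sup_right ?_)
      rw [Subgroup.mem_centralizer_iff]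
      intro h hh
      exact (central_of_coprime hyp hx hk (Subgroup.zpow_mem _ hm j) hj (hPMle hh)).symm
  have hNtop : Subgroup.normalizer (PM : Set G) ≠ ⊤ := by
    intro htop
    have h1 : PM.Normal := Subgroup.normalizer_eq_top_iff.mp htop
    have h2 : (PM ⊔ Subgroup.centralizer (PM : Set G)).Normal := inferInstance
    rw [hW] at h2
    exact hnn x hx h2
  have hN : Subgroup.normalizer (PM : Set G) = M := by
    rcases (hyp x hx).le_iff.mp hMN with h1 | h1
    · exact absurd h1 hNtop
    · exact h1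
  have hidx : ¬ p ∣ PM.index := by
    obtain ⟨n, hn⟩ := IsPGroup.iff_card.mp hPMp
    have h1 := Sylow.card_quotient_normalizer_modEq_card_quotient hn
    have h2 : Nat.card (↥(Subgroup.normalizer (PM : Set G)) ⧸
        PM.comap (Subgroup.normalizer (PM : Set G)).subtype) = PM.relIndex (Subgroup.normalizer (PM : Set G)) := rfl
    rw [h2, hN] at h1
    have h3 : PM.relIndex M = (S : Subgroup ↥M).index := by
      rw [Subgroup.relIndex, Subgroup.subgroupOf, hPM,
        Subgroup.comap_map_eq_self_of_injective M.subtype_injective]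
    rw [h3] at h1
    intro hd
    apply S.not_dvd_index
    exact (Nat.modEq_zero_iff_dvd.mp (h1.trans (Nat.modEq_zero_iff_dvd.mpr hd)))
  refine ⟨hPMp.toSylow hidx, ?_, ?_⟩
  · exact (IsPGroup.mem_toSylow hPMp hidx).mpr hxPM
  · rw [IsPGroup.toSylow_coe]; exact hN

/-- L8 : in the "no normal centralizer" situation no centralizer is abelian -/
theorem not_abelian_cent
    (hnn : ∀ g : G, g ∉ Subgroup.center G → ¬ (Subgroup.centralizer ({g} : Set G)).Normal)
    {p : ℕ} [hp : Fact p.Prime] {x : G} (hx : x ∉ Subgroup.center G) (hk : ∃ k, orderOf x = p ^ k)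
    (hab : ∀ a ∈ Subgroup.centralizer ({x} : Set G), ∀ b ∈ Subgroup.centralizer ({x} : Set G),
      a * b = b * a) : False := by
  obtain ⟨P, hxP, hN⟩ := exists_sylow hyp hnn hx hk
  set M := Subgroup.centralizer ({x} : Set G) with hM
  have hPM : (P : Subgroup G) ≤ M := hN ▸ Subgroup.le_normalizer
  have hP : Subgroup.normalizer ((P : Subgroup G) : Set G) ≤
      Subgroup.centralizer ((P : Subgroup G) : Set G) := by
    rw [hN]
    intro m hm
    rw [Subgroup.mem_centralizer_iff]
    intro h hh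
    exact hab h (hPM hh) m hm
  set φ := MonoidHom.transferSylow P hP with hφ
  have hNcard : ¬ p ∣ Nat.card φ.ker := MonoidHom.not_dvd_card_ker_transferSylow P hP
  obtain ⟨g, hg⟩ := exists_not_mem_conj M (hyp x hx).1
  have hgc : g ∉ Subgroup.center G := by
    intro h
    apply hg 1
    simpa using Subgroup.center_le_centralizer _ h
  have claim : Subgroup.centralizer ({g} : Set G) ≤ φ.ker ⊔ Subgroup.center G := by
    intro w hw
    obtain ⟨i, j, hij, ⟨e, hi⟩, hj⟩ := exists_parts p hp.out w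
    rw [hij]
    refine Subgroup.mul_mem _ (Subgroup.mem_sup_right ?_) (Subgroup.mem_sup_left ?_)
    · by_contra ha
      have h1 : IsPGroup p (Subgroup.zpowers (w ^ i)) := by
        apply IsPGroup.of_card (n := e)
        rw [Nat.card_zpowers, hi]
      obtain ⟨P', hP'⟩ := h1.exists_le_sylow
      obtain ⟨c, rfl⟩ := MulAction.exists_smul_eq G P P'
      have h2 : w ^ i ∈ ((c • P : Sylow p G) : Subgroup G) := hP' (Subgroup.mem_zpowers _)
      rw [Sylow.coe_subgroup_smul, Subgroup.mem_pointwise_smul_iff_inv_smul_mem] at h2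
      have h3 : c⁻¹ * w ^ i * c ∈ (P : Subgroup G) := by
        simpa [MulAut.smul_def] using h2
      have h4 : c⁻¹ * w ^ i * c ∉ Subgroup.center G := by
        intro h
        apply ha
        have := (inferInstance : (Subgroup.center G).Normal).conj_mem _ h c
        simpa [mul_assoc] using this
      have h5 : M ≤ Subgroup.centralizer ({c⁻¹ * w ^ i * c} : Set G) := by
        intro m hm
        exact mem_cent.mpr (hab _ (hPM h3) m hm)
      have h6 := cent_eq_of_le hyp hx h4 h5
      apply hg c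
      rw [hM, h6, mem_cent]
      have h7 : g * w ^ i = w ^ i * g := mem_cent.mp (Subgroup.zpow_mem _ hw i)
      calc c⁻¹ * w ^ i * c * (c⁻¹ * g * c) = c⁻¹ * (w ^ i * g) * c := by group
        _ = c⁻¹ * (g * w ^ i) * c := by rw [h7]
        _ = c⁻¹ * g * c * (c⁻¹ * w ^ i * c) := by group
    · rw [MonoidHom.mem_ker]
      obtain ⟨k, hk'⟩ := IsPGroup.iff_orderOf.mp P.isPGroup' (φ (w ^ j))
      have h1 : orderOf (φ (w ^ j)) ∣ orderOf (w ^ j) := orderOf_map_dvd φ _
      have h2 : (orderOf (φ (w ^ j))).Coprime p := Nat.Coprime.coprime_dvd_left h1 hj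
      rw [hk'] at h2
      rcases Nat.eq_zero_or_pos k with h0 | h0
      · rw [h0, pow_zero, orderOf_eq_one_iff] at hk'
        exact hk'
      · exfalso
        have h3 : p ∣ Nat.gcd (p ^ k) p := Nat.dvd_gcd (dvd_pow_self p h0.ne') dvd_rfl
        rw [h2.gcd_eq_one] at h3
        exact hp.out.one_lt.ne' (Nat.dvd_one.mp h3)
  rcases (hyp g hgc).le_iff.mp claim with h1 | h1
  · have hx' : x ∈ φ.ker ⊔ Subgroup.center G := h1 ▸ Subgroup.mem_top x
    rw [← SetLike.mem_coe, Subgroup.normal_mul] at hx'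
    obtain ⟨n, hn, z, hz, hnz⟩ := hx'
    have hnz' : n * z = x := hnz
    have hn1 : n ^ Nat.card φ.ker = 1 := by
      have h1 : (⟨n, hn⟩ : φ.ker) ^ Nat.card φ.ker = 1 := pow_card_eq_one'
      have h2 := congrArg Subtype.val h1
      rwa [Subgroup.coe_pow, Subgroup.coe_one] at h2
    have hcomm : Commute n z := (Subgroup.mem_center_iff.mp hz) n
    have hxk : x ^ Nat.card φ.ker ∈ Subgroup.center G := by
      rw [← hnz', hcomm.mul_pow, hn1, one_mul]
      exact Subgroup.pow_mem _ hz _
    obtain ⟨e, he⟩ := hk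
    have hcop : Nat.Coprime (Nat.card φ.ker) (orderOf x) := by
      rw [he]
      exact Nat.Coprime.pow_right e ((Nat.Prime.coprime_iff_not_dvd hp.out).mpr hNcard).symm
    obtain ⟨m, hm⟩ := exists_pow_eq_self_of_coprime hcop
    apply hx
    rw [← hm]
    exact Subgroup.pow_mem _ hxk m
  · apply hnn g hgc
    rw [← h1]
    infer_instance

omit hyp in
theorem comm_of_card_quot_dvd_prime {M : Type*} [Group M] {p : ℕ} [Fact p.Prime]
    (h : Nat.card (M ⧸ Subgroup.center M) ∣ p) (a b : M) : a * b = b * a := by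
  have : IsCyclic (M ⧸ Subgroup.center M) := isCyclic_of_card_dvd_prime h
  exact commutative_of_cyclic_center_quotient (QuotientGroup.mk' (Subgroup.center M)) (by simp) a b

/-- K1 -/
theorem key_structure
    (hnn : ∀ g : G, g ∉ Subgroup.center G → ¬ (Subgroup.centralizer ({g} : Set G)).Normal)
    (g : G) (hg : g ∉ Subgroup.center G) :
    ∃ p : ℕ, p.Prime ∧ p ∣ Nat.card G ∧ ∃ P : Sylow p G,
      Subgroup.centralizer ({g} : Set G) = Subgroup.normalizer ((P : Subgroup G) : Set G) ∧
      p ^ 2 * Nat.card (Subgroup.center ↥(Subgroup.centralizer ({g} : Set G))) ≤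
        Nat.card (Subgroup.centralizer ({g} : Set G)) := by
  obtain ⟨p, x, hp, hx, hk, hxg⟩ := exists_prime_power_elt hyp g hg
  have : Fact p.Prime := ⟨hp⟩
  obtain ⟨P, hxP, hN⟩ := exists_sylow hyp hnn hx hk
  refine ⟨p, hp, ?_, P, ?_, ?_⟩
  · obtain ⟨k, hk⟩ := hk
    have hk0 : k ≠ 0 := by
      rintro rfl
      rw [pow_zero, orderOf_eq_one_iff] at hk
      exact hx (hk ▸ Subgroup.one_mem _)
    exact (dvd_pow_self p hk0).trans (hk ▸ orderOf_dvd_natCard x)
  · rw [hN, hxg]
  · rw [← hxg]
    obtain ⟨n, hn⟩ := IsPGroup.iff_card.mp (isPGroup_quot hyp hp hx hk)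
    have h2 : 2 ≤ n := by
      by_contra hlt
      have h1 : Nat.card (↥(Subgroup.centralizer ({x} : Set G)) ⧸
          Subgroup.center ↥(Subgroup.centralizer ({x} : Set G))) ∣ p := by
        rw [hn]
        have : n = 0 ∨ n = 1 := by omega
        rcases this with rfl | rfl <;> simp
      apply not_abelian_cent hyp hnn hx hk
      intro a ha b hb
      have := comm_of_card_quot_dvd_prime h1 (⟨a, ha⟩ : ↥(Subgroup.centralizer ({x} : Set G))) ⟨b, hb⟩
      exact congrArg Subtype.val this
    have h3 := Subgroup.card_eq_card_quotient_mul_card_subgroup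
      (Subgroup.center ↥(Subgroup.centralizer ({x} : Set G)))
    rw [h3, hn]
    exact Nat.mul_le_mul_right _ (Nat.pow_le_pow_right hp.pos h2)

omit hyp in
theorem sum_inv_sq_le (N : ℕ) (hN : 2 ≤ N) :
    ∑ k ∈ Finset.Icc 2 N, (1 : ℚ) / (k : ℚ) ^ 2 ≤ 3 / 4 - 1 / N := by
  induction N, hN using Nat.le_induction with
  | base => simp; norm_num
  | succ N hN ih =>
    rw [Finset.sum_Icc_succ_top (by omega)]
    have hN0 : (0 : ℚ) < N := by exact_mod_cast (by omega : 0 < N)
    have h1 : (1 : ℚ) / ((N + 1 : ℕ) : ℚ) ^ 2 ≤ 1 / N - 1 / ((N + 1 : ℕ) : ℚ) := by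
      push_cast
      rw [div_sub_div _ _ hN0.ne' (by positivity), div_le_div_iff₀ (by positivity) (by positivity)]
      nlinarith
    linarith

omit hyp in
theorem four_mul_card_center_le (hnc : ∃ g : G, g ∉ Subgroup.center G) :
    4 * Nat.card (Subgroup.center G) ≤ Nat.card G := by
  have h3 := Subgroup.card_eq_card_quotient_mul_card_subgroup (Subgroup.center G)
  rw [h3]
  apply Nat.mul_le_mul_right
  by_contra hlt
  obtain ⟨g, hg⟩ := hnc
  apply hg
  rw [Subgroup.mem_center_iff]
  intro a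
  have hpos : 0 < Nat.card (G ⧸ Subgroup.center G) := Nat.card_pos
  have hcases : Nat.card (G ⧸ Subgroup.center G) ∣ 2 ∨ Nat.card (G ⧸ Subgroup.center G) ∣ 3 := by
    have : Nat.card (G ⧸ Subgroup.center G) = 1 ∨ Nat.card (G ⧸ Subgroup.center G) = 2 ∨
      Nat.card (G ⧸ Subgroup.center G) = 3 := by omega
    rcases this with h | h | h <;> rw [h] <;> simp
  rcases hcases with h | h
  · have : Fact (Nat.Prime 2) := ⟨Nat.prime_two⟩
    exact comm_of_card_quot_dvd_prime h a g
  · have : Fact (Nat.Prime 3) := ⟨Nat.prime_three⟩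
    exact comm_of_card_quot_dvd_prime h a g

omit hyp in
/-- the elements whose centralizer is a given subgroup `M` all lie in `Z(M)` -/
theorem card_fiber_le [Fintype G] [DecidableEq G] (s : Finset G) (g₀ : G)
    (hs : ∀ g ∈ s, Subgroup.centralizer ({g} : Set G) = Subgroup.centralizer ({g₀} : Set G)) :
    s.card ≤ Nat.card (Subgroup.center ↥(Subgroup.centralizer ({g₀} : Set G))) := by
  classical
  set M := Subgroup.centralizer ({g₀} : Set G) with hM
  have hmem : ∀ g ∈ s, g ∈ M := fun g hg => by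
    rw [← hs g hg]; exact mem_cent.mpr rfl
  have hcen : ∀ g (hg : g ∈ s), (⟨g, hmem g hg⟩ : ↥M) ∈ Subgroup.center ↥M := by
    intro g hg
    rw [Subgroup.mem_center_iff]
    intro m
    apply Subtype.ext
    have : (m : G) ∈ Subgroup.centralizer ({g} : Set G) := by rw [hs g hg]; exact m.2
    exact (mem_cent.mp this).symm
  have : Fintype (Subgroup.center ↥M) := Fintype.ofFinite _
  rw [Nat.card_eq_fintype_card, ← Finset.card_univ, ← Finset.card_attach]
  apply Finset.card_le_card_of_injOn (fun g => ⟨⟨g.1, hmem g.1 g.2⟩, hcen g.1 g.2⟩)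
  · intro g _; exact Finset.mem_coe.mpr (Finset.mem_univ _)
  · intro a _ b _ hab
    apply Subtype.ext
    simpa using hab

theorem counting_contradiction
    (hnn : ∀ g : G, g ∉ Subgroup.center G → ¬ (Subgroup.centralizer ({g} : Set G)).Normal)
    (hnc : ∃ g : G, g ∉ Subgroup.center G) : False := by
  classical
  have : Fintype G := Fintype.ofFinite G
  set n := Nat.card G with hn
  have hnpos : 0 < n := Nat.card_pos
  -- the pieces
  let B : (p : ℕ) → Sylow p G → Finset G := fun p P =>
    Finset.univ.filter (fun g => g ∉ Subgroup.center G ∧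
      Subgroup.centralizer ({g} : Set G) = Subgroup.normalizer ((P : Subgroup G) : Set G) ∧
      p ^ 2 * Nat.card (Subgroup.center ↥(Subgroup.centralizer ({g} : Set G))) ≤
        Nat.card (Subgroup.centralizer ({g} : Set G)))
  have hB : ∀ (p : ℕ) [Fact p.Prime] (P : Sylow p G),
      (B p P).card * p ^ 2 * Nat.card (Sylow p G) ≤ n := by
    intro p _ P
    rcases (B p P).eq_empty_or_nonempty with he | ⟨g₀, hg₀⟩
    · rw [he]; simp
    · have hg₀' := (Finset.mem_filter.mp hg₀).2
      have h1 : (B p P).card ≤ Nat.card (Subgroup.center ↥(Subgroup.centralizer ({g₀} : Set G))) := by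
        apply card_fiber_le
        intro g hg
        have hg' := (Finset.mem_filter.mp hg).2
        rw [hg'.2.1, hg₀'.2.1]
      have h2 : (B p P).card * p ^ 2 ≤ Nat.card (Subgroup.centralizer ({g₀} : Set G)) :=
        le_trans (by rw [mul_comm]; exact Nat.mul_le_mul_left _ h1) hg₀'.2.2
      have h3 : Nat.card (Subgroup.centralizer ({g₀} : Set G)) * Nat.card (Sylow p G) = n := by
        rw [hg₀'.2.1, Sylow.card_eq_index_normalizer P]
        exact Subgroup.card_mul_index _
      rw [← h3]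
      exact Nat.mul_le_mul_right _ h2
  have hA : ∀ p ∈ n.primeFactors, ∃ A : Finset G, A.card * p ^ 2 ≤ n ∧
      ∀ g, g ∉ Subgroup.center G → (∃ P : Sylow p G,
      Subgroup.centralizer ({g} : Set G) = Subgroup.normalizer ((P : Subgroup G) : Set G) ∧
      p ^ 2 * Nat.card (Subgroup.center ↥(Subgroup.centralizer ({g} : Set G))) ≤
        Nat.card (Subgroup.centralizer ({g} : Set G))) → g ∈ A := by
    intro p hp
    have : Fact p.Prime := ⟨Nat.prime_of_mem_primeFactors hp⟩
    have : Fintype (Sylow p G) := Fintype.ofFinite _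
    refine ⟨Finset.univ.biUnion (B p), ?_, ?_⟩
    · have h1 : (Finset.univ.biUnion (B p)).card ≤ ∑ P : Sylow p G, (B p P).card :=
        Finset.card_biUnion_le
      have hs : 0 < Nat.card (Sylow p G) := Nat.card_pos
      apply Nat.le_of_mul_le_mul_right _ hs
      calc (Finset.univ.biUnion (B p)).card * p ^ 2 * Nat.card (Sylow p G)
          ≤ (∑ P : Sylow p G, (B p P).card) * p ^ 2 * Nat.card (Sylow p G) := by gcongr
        _ = ∑ P : Sylow p G, (B p P).card * p ^ 2 * Nat.card (Sylow p G) := by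
            rw [Finset.sum_mul, Finset.sum_mul]
        _ ≤ ∑ _P : Sylow p G, n := Finset.sum_le_sum (fun P _ => hB p P)
        _ = n * Nat.card (Sylow p G) := by
            rw [Finset.sum_const, Finset.card_univ, Nat.card_eq_fintype_card, smul_eq_mul, mul_comm]
    · rintro g hg ⟨P, h1, h2⟩
      exact Finset.mem_biUnion.mpr ⟨P, Finset.mem_univ _, Finset.mem_filter.mpr ⟨Finset.mem_univ _, hg, h1, h2⟩⟩
  choose! A hA1 hA2 using hA
  have hcover : (Finset.univ.filter (fun g : G => g ∉ Subgroup.center G)) ⊆ n.primeFactors.biUnion A := by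
    intro g hg
    have hg' := (Finset.mem_filter.mp hg).2
    obtain ⟨p, hp, hpn, P, h1, h2⟩ := key_structure hyp hnn g hg'
    have hpm : p ∈ n.primeFactors := Nat.mem_primeFactors.mpr ⟨hp, hpn, hnpos.ne'⟩
    exact Finset.mem_biUnion.mpr ⟨p, hpm, hA2 p hpm g hg' ⟨P, h1, h2⟩⟩
  have hcard1 : (Finset.univ.filter (fun g : G => g ∉ Subgroup.center G)).card + Nat.card (Subgroup.center G) = n := by
    have h1 := Finset.card_filter_add_card_filter_not (s := (Finset.univ : Finset G)) (fun g : G => g ∈ Subgroup.center G)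
    rw [Finset.card_univ, ← Nat.card_eq_fintype_card] at h1
    have h2 : (Finset.univ.filter (fun g : G => g ∈ Subgroup.center G)).card = Nat.card (Subgroup.center G) := by
      rw [Nat.card_eq_fintype_card, Fintype.card_subtype]
    rw [← h2, add_comm]; exact h1
  have hcard2 : (Finset.univ.filter (fun g : G => g ∉ Subgroup.center G)).card ≤ ∑ p ∈ n.primeFactors, (A p).card :=
    (Finset.card_le_card hcover).trans Finset.card_biUnion_le
  have h4 := four_mul_card_center_le hnc
  have hn2 : 2 ≤ n := by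
    have : 0 < Nat.card (Subgroup.center G) := Nat.card_pos
    omega
  have hsum : (∑ p ∈ n.primeFactors, ((A p).card : ℚ)) ≤ n * (3 / 4 - 1 / n) := by
    calc (∑ p ∈ n.primeFactors, ((A p).card : ℚ)) ≤ ∑ p ∈ n.primeFactors, (n : ℚ) * (1 / (p : ℚ) ^ 2) := by
          apply Finset.sum_le_sum
          intro p hp
          have hp0 : (0 : ℚ) < (p : ℚ) ^ 2 := by
            have := (Nat.prime_of_mem_primeFactors hp).pos
            positivity
          rw [mul_one_div, le_div_iff₀ hp0]
          exact_mod_cast hA1 p hp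
      _ = n * ∑ p ∈ n.primeFactors, (1 / (p : ℚ) ^ 2) := by rw [Finset.mul_sum]
      _ ≤ n * ∑ p ∈ Finset.Icc 2 n, (1 / (p : ℚ) ^ 2) := by
          apply mul_le_mul_of_nonneg_left _ (by positivity)
          apply Finset.sum_le_sum_of_subset_of_nonneg
          · intro p hp
            rw [Finset.mem_Icc]
            exact ⟨(Nat.prime_of_mem_primeFactors hp).two_le, Nat.le_of_dvd hnpos (Nat.dvd_of_mem_primeFactors hp)⟩
          · intro p _ _; positivity
      _ ≤ n * (3 / 4 - 1 / n) := by
          apply mul_le_mul_of_nonneg_left (sum_inv_sq_le n hn2) (by positivity)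
  have hq1 : ((Finset.univ.filter (fun g : G => g ∉ Subgroup.center G)).card : ℚ) ≤ n * (3 / 4 - 1 / n) := by
    refine le_trans ?_ hsum
    exact_mod_cast hcard2
  have hq2 : ((Finset.univ.filter (fun g : G => g ∉ Subgroup.center G)).card : ℚ) + (Nat.card (Subgroup.center G) : ℚ) = n := by
    exact_mod_cast hcard1
  have hq3 : (4 : ℚ) * (Nat.card (Subgroup.center G) : ℚ) ≤ n := by exact_mod_cast h4
  have hn0 : (0 : ℚ) < n := by exact_mod_cast hnpos
  have hq4 : (n : ℚ) * (3 / 4 - 1 / n) = 3 / 4 * n - 1 := by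
    field_simp
  rw [hq4] at hq1
  linarith

end Cfsg.Agent.S4262

namespace Cfsg.Agent.S4262

/-- Let G be a finite group in which the centralizer of every non-central element is a maximal subgroup of G. Then G is solvable. -/
theorem result {G : Type*} [Group G] [Finite G]
    (h : ∀ g : G, g ∉ Subgroup.center G → IsCoatom (Subgroup.centralizer ({g} : Set G))) :
    Group.IsSolvable G := by
  by_cases hnc : ∃ g : G, g ∉ Subgroup.center G
  · by_cases hnn : ∀ g : G, g ∉ Subgroup.center G → ¬ (Subgroup.centralizer ({g} : Set G)).Normal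
    · exact (counting_contradiction h hnn hnc).elim
    · push Not at hnn
      obtain ⟨g, hg, hgn⟩ := hnn
      obtain ⟨p, x, hp, hx, hk, hxg⟩ := exists_prime_power_elt h g hg
      have hnil : Group.IsNilpotent ↥(Subgroup.centralizer ({g} : Set G)) := by
        rw [← hxg]; exact isNilpotent_cent h hp hx hk
      exact solvable_of_normal_coatom _ hgn (h g hg) inferInstance
  · push Not at hnc
    apply Group.isSolvable_of_comm
    intro a b
    exact (Subgroup.mem_center_iff.mp (hnc b) a)

end Cfsg.Agent.S4262
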