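import Cfsg.Statements.S5119
import Cfsg.Agent.Lib.Helper85.FusFrattini2

set_option autoImplicit false
open Cfsg

namespace Cfsg.Agent.S5119

open Cfsg.FusionSystem Cfsg.Agent.Lib.Helper85 Cfsg.Agent.Lib.Helper84

variable {Ω : Type*} [Group Ω] {S T : Subgroup Ω}

/-- the strong invariance condition -/
def SI (E : FusionSystem T) (F : FusionSystem S) : Prop :=
  ∀ (P Q : Subgroup Ω) (hPQ : P ≤ Q) (_ : Q ≤ T) (φ : P →* Ω) (_ : φ ∈ E.Hom P) (hφQ : ∀ x : P, φ x ∈ Q) (ψ : Q →* Ω) (_ : ψ ∈ F.Hom Q), ∃ χ ∈ E.Hom ((P.subgroupOf Q).map ψ), ∀ (x : P) (hx : ψ (Subgroup.inclusion hPQ x) ∈ (P.subgroupOf Q).map ψ), χ ⟨ψ (Subgroup.inclusion hPQ x), hx⟩ = ψ ⟨φ x, hφQ x⟩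

theorem SI_congr {E : FusionSystem T} {F : FusionSystem S} (h : SI E F) {P Q : Subgroup Ω}
    (hP : P ≤ T) (hQ : Q ≤ T) (e : P ≃* Q) (he : Mor F e.toMonoidHom) {β : MulAut P}
    (hβ : β ∈ E.autGroup P) : MulAut.congr e β ∈ E.autGroup Q := by
  rw [mem_autGroup_iff E hQ]
  have hβ' := (mem_autGroup_iff E hP β).1 hβ
  obtain ⟨χ, hχ, hχ'⟩ := h P P le_rfl hP _ hβ' (fun x => (β x).2) _ he
  have hle : Q ≤ (P.subgroupOf P).map (Q.subtype.comp e.toMonoidHom) := by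
    intro y hy
    exact ⟨e.symm ⟨y, hy⟩, (e.symm ⟨y, hy⟩).2, by simp⟩
  refine mem_of_eq_on E hχ hle (fun y => ?_)
  have e1 : (Q.subtype.comp e.toMonoidHom) (Subgroup.inclusion le_rfl (e.symm y)) = (y : Ω) := by
    show ((e (e.symm y) : Q) : Ω) = y
    simp
  have h1 := hχ' (e.symm y) (by rw [e1]; exact hle y.2)
  have e2 : (⟨(Q.subtype.comp e.toMonoidHom) (Subgroup.inclusion le_rfl (e.symm y)),
      by rw [e1]; exact hle y.2⟩ : ↥((P.subgroupOf P).map (Q.subtype.comp e.toMonoidHom))) =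
      ⟨y, hle y.2⟩ := Subtype.ext e1
  rw [e2] at h1
  rw [h1]
  rfl

theorem forward {E : FusionSystem T} {F : FusionSystem S} (h : E.IsInvariantIn F) : SI E F := by
  obtain ⟨-, -, hinv', hfr⟩ := h
  have hinv : AutInv E (F.autGroup T) := autInv_of_autInv' hinv'
  intro P Q hPQ hQT φ hφ hφQ ψ hψ
  obtain ⟨α, hα, ψ₀, hψ₀, h1⟩ := hfr Q hQT ψ hψ
  have hψ₀T := (E.le_of_mem hψ₀).2
  have hψ₀P := Lib.Helper85.restrict_mem E hψ₀ hPQ
  obtain ⟨ρ, hρ, hρ'⟩ := E.inv_mem hψ₀P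
  have hρP : ∀ y, ρ y ∈ P := by
    rintro ⟨_, x, rfl⟩
    rw [hρ']; exact x.2
  have hμ₁ := E.comp_mem hρ hφ hρP
  have hμ₁Q : ∀ y, (φ.comp (ρ.codRestrict P hρP)) y ∈ Q := fun y => hφQ _
  have hμ := E.comp_mem hμ₁ hψ₀ hμ₁Q
  have hψT : ∀ x : Q, ψ x ∈ T := by
    intro x
    rw [h1 x (hψ₀T x)]; exact (α _).2
  have hP'T : (P.subgroupOf Q).map ψ ≤ T := by
    rintro _ ⟨x, -, rfl⟩
    exact hψT x
  have key : ∀ x : Q, (α⁻¹ ⟨ψ x, hψT x⟩ : T) = ⟨ψ₀ x, hψ₀T x⟩ := by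
    intro x
    have : (⟨ψ x, hψT x⟩ : T) = α ⟨ψ₀ x, hψ₀T x⟩ := Subtype.ext (h1 x _)
    rw [this]; simp
  have hy : ∀ y : ↥((P.subgroupOf Q).map ψ), ((α⁻¹ ⟨y, hP'T y.2⟩ : T) : Ω) ∈
      (ψ₀.comp (Subgroup.inclusion hPQ)).range := by
    rintro ⟨_, x, hx, rfl⟩
    have := congrArg (Subtype.val : T → Ω) (key x)
    refine ⟨⟨x, hx⟩, ?_⟩
    exact this.symm
  obtain ⟨χ, hχ, hχ'⟩ := hinv _ _ _ hμ α hα hP'T hy
  refine ⟨χ, hχ, fun x hx => ?_⟩
  rw [hχ', h1 ⟨φ x, hφQ x⟩ (hψ₀T _)]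
  congr 2
  apply Subtype.ext
  have e1 : (⟨((α⁻¹ ⟨ψ (Subgroup.inclusion hPQ x), hP'T hx⟩ : T) : Ω),
      hy ⟨ψ (Subgroup.inclusion hPQ x), hx⟩⟩ : (ψ₀.comp (Subgroup.inclusion hPQ)).range) =
      ⟨(ψ₀.comp (Subgroup.inclusion hPQ)) x, ⟨x, rfl⟩⟩ :=
    Subtype.ext (congrArg (Subtype.val : T → Ω) (key (Subgroup.inclusion hPQ x)))
  show (ψ₀.comp ((φ.comp (ρ.codRestrict P hρP)).codRestrict Q hμ₁Q))
    ⟨((α⁻¹ ⟨ψ (Subgroup.inclusion hPQ x), hP'T hx⟩ : T) : Ω),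
      hy ⟨ψ (Subgroup.inclusion hPQ x), hx⟩⟩ = ψ₀ ⟨φ x, hφQ x⟩
  rw [e1]
  show ψ₀ ⟨φ ⟨ρ ⟨(ψ₀.comp (Subgroup.inclusion hPQ)) x, ⟨x, rfl⟩⟩, _⟩, _⟩ = ψ₀ ⟨φ x, hφQ x⟩
  congr 3
  apply Subtype.ext
  exact hρ' x

theorem backward [Finite S] {p : ℕ} [Fact p.Prime] (hS : IsPGroup p S) {F : FusionSystem S}
    (hF : F.IsSaturated p) {E : FusionSystem T} (hE : E.IsSubsystemOf F) (hT : F.StronglyClosed T)
    (hSI : SI E F) : E.IsInvariantIn F := by
  have hfinT : Finite T := finite_of_le hT.1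
  have hinv' : AutInv' E (F.autGroup T) := by
    intro P hPT φ hφ α hα
    have hαF := (mem_autGroup_iff F hT.1 α).1 hα
    obtain ⟨χ, hχ, hχ'⟩ := hSI P T hPT le_rfl φ hφ (E.le_of_mem hφ).2 _ hαF
    exact ⟨χ, hχ, fun x hφx hαx => hχ' x hαx⟩
  have hinv := autInv_of_autInv' hinv'
  refine ⟨hE, hT, hinv', ?_⟩
  have key := sc_induction F hT (frattiniSystem E (F.autGroup T) hinv) ?_ ?_
  · exact fun P hP φ hφ => key P hP hφ
  · intro φ hφ
    have hrange : φ.range = T := by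
      apply Subgroup.eq_of_le_of_card_ge
      · rintro _ ⟨x, rfl⟩
        exact hT.2 T le_rfl φ hφ x
      · exact (Nat.card_congr (MonoidHom.ofInjective (F.injective_of_mem hφ)).toEquiv).le
    have hα : equivOfRange φ (F.injective_of_mem hφ) hrange ∈ F.autGroup T :=
      (mem_autGroup_iff F hT.1 _).2 (mor_equivOfRange F hφ hrange)
    exact ⟨_, hα, T.subtype, subtype_mem E le_rfl, fun x hx => rfl⟩
  · intro Q hQ hQT ih P hPT e he
    obtain ⟨-, hQa, hQr⟩ := sat_fullyNormalized hS hF hQ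
    have hfin : Finite (MulAut Q) := finite_mulAut_of_le hQ.1
    have hBle : E.autGroup Q ≤ F.autGroup Q := by
      intro α hα
      rw [mem_autGroup_iff F hQ.1]
      exact hE Q ((mem_autGroup_iff E hQT.le α).1 hα)
    have hBn : F.autGroup Q ≤
        Subgroup.normalizer ((E.autGroup Q : Subgroup (MulAut Q)) : Set (MulAut Q)) := by
      intro γ hγ
      apply Lib.Helper85.mem_normalizer_of_finite
      intro β hβ
      have := SI_congr hSI hQT.le hQT.le γ ((mem_autGroup_iff F hQ.1 γ).1 hγ) hβ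
      have e1 : MulAut.congr γ β = γ * β * γ⁻¹ := by
        ext x; simp [MulAut.congr_apply, MulAut.mul_apply, MulAut.inv_def]
      rwa [e1] at this
    have hSyl : SylIn p (autInducedBy S Q) (F.autGroup Q) := hQa.2
    have hSyl2 := hSyl.inf_normal (autInducedBy_le_autGroup F hQ.1) hBle hBn
    have hUB : (autInducedBy T P).map (MulAut.congr e).toMonoidHom ≤ E.autGroup Q := by
      rintro _ ⟨β, hβ, rfl⟩
      exact SI_congr hSI hPT.le hQT.le e he (autInducedBy_le_autGroup E hPT.le hβ)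
    have hUp : IsPGroup p ((autInducedBy T P).map (MulAut.congr e).toMonoidHom) :=
      (isPGroup_autInducedBy (hS.to_le hT.1) P).map _
    obtain ⟨χ, hχB, hχU⟩ := hSyl2.exists_conj_le hUB hUp
    refine mor_of_conj_into_sylow hS F hT.1 _ hQr hPT ih e he χ ?_ (hBle hχB) ?_
    · rw [mem_autGroup_iff _ hQT.le]
      exact le_frattiniSystem E _ hinv Q ((mem_autGroup_iff E hQT.le χ).1 hχB)
    · intro t htT ht
      have h1 := (hχU ⟨MulAut.congr e (conjAut P t ht),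
        ⟨conjAut P t ht, conjAut_mem_autInducedBy ht htT, rfl⟩, rfl⟩).1
      have e1 : MulAut.congr (e.trans χ) (conjAut P t ht) =
          (MulAut.conj χ).toMonoidHom (MulAut.congr e (conjAut P t ht)) := by
        ext x; simp [MulAut.congr_apply, MulAut.mul_apply, MulAut.inv_def]
      rw [e1]; exact h1

/-- Let F be a saturated fusion system over a finite p-group S and E a subsystem of F over a subgroup T that is strongly closed in F. Then E is invariant in F (invariance under Aut_F(T) plus the Frattini condition) if and only if the strong invariance condition holds: for P ≤ Q ≤ T, every map φ of E from P into Q and every map ψ of F with source Q, the transported map ψ φ ψ⁻¹ on ψ(P) is a map of E. -/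
theorem result {Ω : Type*} [Group Ω] {S : Subgroup Ω} [Finite S] (p : ℕ) [Fact p.Prime] (hS : IsPGroup p S) (F : Cfsg.FusionSystem S) (hF : F.IsSaturated p) {T : Subgroup Ω} (E : Cfsg.FusionSystem T) (hE : E.IsSubsystemOf F) (hT : F.StronglyClosed T) : E.IsInvariantIn F ↔ ∀ (P Q : Subgroup Ω) (hPQ : P ≤ Q) (_ : Q ≤ T) (φ : P →* Ω) (_ : φ ∈ E.Hom P) (hφQ : ∀ x : P, φ x ∈ Q) (ψ : Q →* Ω) (_ : ψ ∈ F.Hom Q), ∃ χ ∈ E.Hom ((P.subgroupOf Q).map ψ), ∀ (x : P) (hx : ψ (Subgroup.inclusion hPQ x) ∈ (P.subgroupOf Q).map ψ), χ ⟨ψ (Subgroup.inclusion hPQ x), hx⟩ = ψ ⟨φ x, hφQ x⟩ :=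
  ⟨forward, backward hS hF hE hT⟩

end Cfsg.Agent.S5119
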