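import Cfsg.Statements.S0158
import Cfsg.Agent.Lib.Helper81.FrobSchur

set_option autoImplicit false
open Cfsg

namespace Cfsg.Agent.S0158

/-- For an irreducible complex character χ of a finite group, the average of χ(s²) over the group is 0, 1 or −1, and it is 0 exactly when χ takes a non-real value. -/
theorem result {G : Type*} [Group G] [Fintype G] {V : Type*} [AddCommGroup V] [Module ℂ V] [FiniteDimensional ℂ V] (ρ : Representation ℂ G V) [ρ.IsIrreducible] : ((Nat.card G : ℂ)⁻¹ * ∑ s : G, ρ.character (s * s) = 0 ∨ (Nat.card G : ℂ)⁻¹ * ∑ s : G, ρ.character (s * s) = 1 ∨ (Nat.card G : ℂ)⁻¹ * ∑ s : G, ρ.character (s * s) = -1) ∧ ((Nat.card G : ℂ)⁻¹ * ∑ s : G, ρ.character (s * s) = 0 ↔ ∃ s : G, (ρ.character s).im ≠ 0) := by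
  have hcard : (Nat.card G : ℂ) ≠ 0 := by
    exact_mod_cast (Nat.card_pos (α := G)).ne'
  have hc : (Fintype.card G : ℂ) = (Nat.card G : ℂ) := by rw [Nat.card_eq_fintype_card]
  rcases Cfsg.Agent.Lib.Helper81.frobSchur_sum ρ with ⟨h0, hs⟩ | ⟨h1 | h1, hr⟩
  · rw [h0]
    simp [hs]
  · rw [h1, hc, inv_mul_cancel₀ hcard]
    refine ⟨Or.inr (Or.inl rfl), ?_⟩
    simp [hr]
  · rw [h1, hc, mul_neg, inv_mul_cancel₀ hcard]
    refine ⟨Or.inr (Or.inr rfl), ?_⟩
    simp [hr]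

end Cfsg.Agent.S0158
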