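import Cfsg.Statements.S4475
import Cfsg.Agent.Lib.Helper81.FrobSchur

set_option autoImplicit false
set_option linter.style.haveILetI false
open Cfsg

namespace Cfsg.Agent.S4475

open Cfsg.Agent.Lib.Helper81 Representation Matrix

/-- A nonzero matrix intertwining an irreducible matrix representation on the right with anything
on the left is invertible (kernel version). -/
theorem isUnit_of_intertwine_right {G : Type*} [Group G] {n : ℕ}
    (ρ : Representation ℂ G (Fin n → ℂ)) [ρ.IsIrreducible]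
    (M : Matrix (Fin n) (Fin n) ℂ) (S : G → Matrix (Fin n) (Fin n) ℂ)
    (hM : ∀ g, M * LinearMap.toMatrix' (ρ g) = S g * M) (h0 : M ≠ 0) : IsUnit M := by
  let W : Subrepresentation ρ :=
    { toSubmodule := LinearMap.ker (Matrix.toLin' M)
      apply_mem_toSubmodule := by
        intro g v hv
        rw [LinearMap.mem_ker] at hv ⊢
        have h1 : Matrix.toLin' M ∘ₗ ρ g = Matrix.toLin' (S g) ∘ₗ Matrix.toLin' M := by
          rw [← Matrix.toLin'_mul, ← hM g, Matrix.toLin'_mul, Matrix.toLin'_toMatrix']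
        have h2 := congrArg (fun φ => φ v) h1
        simp only [LinearMap.comp_apply] at h2
        rw [h2, hv, map_zero] }
  rcases IsSimpleOrder.eq_bot_or_eq_top W with h | h
  · have hker : LinearMap.ker (Matrix.toLin' M) = ⊥ := congrArg Subrepresentation.toSubmodule h
    rw [← Matrix.isUnit_toLin'_iff]
    exact (LinearMap.isUnit_iff_ker_eq_bot _).mpr hker
  · exfalso
    apply h0
    have hker : LinearMap.ker (Matrix.toLin' M) = ⊤ := congrArg Subrepresentation.toSubmodule h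
    rw [LinearMap.ker_eq_top] at hker
    apply Matrix.toLin'.injective
    rw [hker, map_zero]

theorem result {G : Type*} [Group G] [Fintype G] (n : ℕ) (ρ : Representation ℂ G (Fin n → ℂ)) (hirr : ρ.IsIrreducible) (hreal : ∀ g : G, (ρ.character g).im = 0) : (∃ M : Matrix (Fin n) (Fin n) ℂ, M ≠ 0 ∧ ∀ g : G, (LinearMap.toMatrix' (ρ g)).transpose * M * LinearMap.toMatrix' (ρ g) = M) ∧ ∀ M : Matrix (Fin n) (Fin n) ℂ, (∀ g : G, (LinearMap.toMatrix' (ρ g)).transpose * M * LinearMap.toMatrix' (ρ g) = M) → M.transpose = ((Nat.card G : ℂ)⁻¹ * ∑ s : G, ρ.character (s * s)) • M := by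
  classical
  haveI := hirr
  set R : G →* Matrix (Fin n) (Fin n) ℂ := matRep ρ (Pi.basisFun ℂ (Fin n)) with hR
  have hRe : ∀ g, LinearMap.toMatrix' (ρ g) = R g := fun g => rfl
  simp only [hRe]
  have hRR : ∀ g, R g * R g⁻¹ = 1 := fun g => matRep_mul_inv ρ _ g
  have hRR' : ∀ g, R g⁻¹ * R g = 1 := fun g => matRep_inv_mul ρ _ g
  let Y : Matrix (Fin n) (Fin n) ℂ → Prop := fun T => ∀ h : G, (R h)ᵀ * T * R h = T
  let π : Matrix (Fin n) (Fin n) ℂ → Matrix (Fin n) (Fin n) ℂ := fun E => ∑ g : G, (R g)ᵀ * E * R g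
  have hπY : ∀ E, Y (π E) := by
    intro E h
    simp only [π]
    rw [Finset.mul_sum, Finset.sum_mul]
    rw [← Equiv.sum_comp (Equiv.mulRight h) (fun g => (R g)ᵀ * E * R g)]
    refine Finset.sum_congr rfl fun x _ => ?_
    simp only [Equiv.coe_mulRight, map_mul, Matrix.transpose_mul]
    simp only [Matrix.mul_assoc]
  have hYint : ∀ T, Y T → ∀ g, T * R g = (R g⁻¹)ᵀ * T := by
    intro T hT g
    calc T * R g = ((R g⁻¹)ᵀ * (R g)ᵀ) * (T * R g) := by
          rw [← Matrix.transpose_mul, hRR, Matrix.transpose_one, Matrix.one_mul]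
      _ = (R g⁻¹)ᵀ * ((R g)ᵀ * T * R g) := by simp only [Matrix.mul_assoc]
      _ = (R g⁻¹)ᵀ * T := by rw [hT g]
  have hYunit : ∀ T, Y T → T ≠ 0 → IsUnit T := fun T hT h0 =>
    isUnit_of_intertwine_right ρ T (fun g => (R g⁻¹)ᵀ) (hYint T hT) h0
  have hYtr : ∀ T, Y T → Y Tᵀ := by
    intro T hT h
    have := congrArg Matrix.transpose (hT h)
    simpa [Matrix.transpose_mul, Matrix.mul_assoc] using this
  have hYprop : ∀ T₁ T₂, Y T₁ → Y T₂ → IsUnit T₂ → ∃ c : ℂ, T₁ = c • T₂ := by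
    intro T₁ T₂ h₁ h₂ hu
    obtain ⟨U, rfl⟩ := hu
    obtain ⟨c, hc⟩ := matRep_schur ρ (Pi.basisFun ℂ (Fin n)) ((↑U⁻¹ : Matrix _ _ ℂ) * T₁) (by
      intro g
      have e1 : (↑U⁻¹ : Matrix _ _ ℂ) * (R g⁻¹)ᵀ = R g * (↑U⁻¹ : Matrix _ _ ℂ) := by
        have := hYint _ h₂ g
        calc (↑U⁻¹ : Matrix _ _ ℂ) * (R g⁻¹)ᵀ
            = (↑U⁻¹ : Matrix _ _ ℂ) * ((R g⁻¹)ᵀ * (U : Matrix _ _ ℂ)) * (↑U⁻¹ : Matrix _ _ ℂ) := by
              rw [Matrix.mul_assoc, Matrix.mul_assoc, Units.mul_inv, Matrix.mul_one]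
          _ = (↑U⁻¹ : Matrix _ _ ℂ) * ((U : Matrix _ _ ℂ) * R g) * (↑U⁻¹ : Matrix _ _ ℂ) := by
              rw [this]
          _ = R g * (↑U⁻¹ : Matrix _ _ ℂ) := by
              rw [Units.inv_mul_cancel_left]
      change (↑U⁻¹ : Matrix _ _ ℂ) * T₁ * R g = R g * ((↑U⁻¹ : Matrix _ _ ℂ) * T₁)
      rw [Matrix.mul_assoc, hYint _ h₁ g, ← Matrix.mul_assoc, e1, Matrix.mul_assoc])
    refine ⟨c, ?_⟩
    calc T₁ = (U : Matrix _ _ ℂ) * ((↑U⁻¹ : Matrix _ _ ℂ) * T₁) := by
          rw [← Matrix.mul_assoc, Units.mul_inv, Matrix.one_mul]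
      _ = c • (U : Matrix _ _ ℂ) := by rw [hc]; simp
  have hsq : ∑ s : G, ρ.character (s * s) = ∑ a, ∑ c, (π (Matrix.single a c 1)) c a := by
    simp only [π, Matrix.sum_apply]
    rw [Finset.sum_congr rfl fun a _ => Finset.sum_comm, Finset.sum_comm]
    refine Finset.sum_congr rfl fun s _ => ?_
    have := sum_single_swap ((R s)ᵀ)
    rw [Matrix.transpose_transpose] at this
    rw [this, ← Matrix.transpose_mul, Matrix.trace_transpose, ← map_mul, hR, trace_matRep]
  have hdiag : ∑ s : G, ρ.character s * ρ.character s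
      = ∑ a, ∑ c, (π (Matrix.single a c 1)) a c := by
    simp only [π, Matrix.sum_apply]
    rw [Finset.sum_congr rfl fun a _ => Finset.sum_comm, Finset.sum_comm]
    refine Finset.sum_congr rfl fun s _ => ?_
    have := sum_single_diag ((R s)ᵀ)
    rw [Matrix.transpose_transpose] at this
    rw [this, Matrix.trace_transpose, hR, trace_matRep]
  have hcard : (Fintype.card G : ℂ) ≠ 0 := by
    exact_mod_cast Fintype.card_ne_zero
  have h1 : ∑ s : G, ρ.character s * ρ.character s = (Fintype.card G : ℂ) := by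
    rw [← sum_char_mul_char_inv ρ]
    refine Finset.sum_congr rfl fun s _ => ?_
    rw [char_inv_eq_conj, Complex.conj_eq_iff_im.2 (hreal s)]
  have hex : ∃ E, π E ≠ 0 := by
    by_contra hzero
    push Not at hzero
    rw [hdiag] at h1
    simp [hzero] at h1
    exact hcard h1.symm
  constructor
  · obtain ⟨E, hE⟩ := hex
    exact ⟨π E, hE, hπY E⟩
  · intro M hM
    by_cases hM0 : M = 0
    · simp [hM0]
    have hU : IsUnit M := hYunit M hM hM0
    obtain ⟨ε, hε⟩ := hYprop Mᵀ M (hYtr _ hM) hM hU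
    have hπε : ∀ E, (π E)ᵀ = ε • π E := by
      intro E
      obtain ⟨c, hc⟩ := hYprop (π E) M (hπY E) hM hU
      rw [hc, Matrix.transpose_smul, hε, smul_comm]
    have h2 : ∑ s : G, ρ.character (s * s) = ε * (Fintype.card G : ℂ) := by
      rw [hsq, ← h1, hdiag, Finset.mul_sum]
      refine Finset.sum_congr rfl fun a _ => ?_
      rw [Finset.mul_sum]
      refine Finset.sum_congr rfl fun c _ => ?_
      have := congrFun (congrFun (hπε (Matrix.single a c 1)) a) c
      simpa using this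
    rw [h2, hε, Nat.card_eq_fintype_card]
    congr 1
    field_simp

end Cfsg.Agent.S4475
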