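import Cfsg.Statements.S4447
import Cfsg.Agent.Lib.Helper15.Glauberman5
import Cfsg.Agent.Lib.Helper81.GlaubermanSet

set_option autoImplicit false
open Cfsg

namespace Cfsg.Agent.S4447

open Cfsg.Agent.Lib Cfsg.Agent.Lib.Helper15 Cfsg.Agent.Lib.Helper81

theorem tw_apply {Γ : Type*} [Group Γ] [Finite Γ] (G S : Subgroup Γ)
    (hnorm : ∀ s ∈ S, ∀ g ∈ G, s * g * s⁻¹ ∈ G) (a : S) (χ : IrrCharacter G) (g : G) :
    (tw G S hnorm a χ : G → ℂ) g
      = (χ : G → ℂ) ⟨(a : Γ)⁻¹ * g * a, by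
        have := hnorm (a : Γ)⁻¹ (S.inv_mem a.2) g g.2
        rwa [inv_inv] at this⟩ := by
  change (χ : G → ℂ) ⟨((a⁻¹ : S) : Γ) * g * ((a⁻¹ : S) : Γ)⁻¹, _⟩ = _
  refine congrArg _ (Subtype.ext ?_)
  simp

/-- conjugation by elements of a subgroup `T ≤ G` fixes the characters of `G` -/
theorem tw_of_le {Γ : Type*} [Group Γ] [Finite Γ] (G T : Subgroup Γ) (hTG : T ≤ G)
    (hnorm : ∀ s ∈ T, ∀ g ∈ G, s * g * s⁻¹ ∈ G) (a : T) (χ : IrrCharacter G) :
    tw G T hnorm a χ = χ := by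
  apply Subtype.ext
  funext g
  rw [tw_apply]
  have h := irr_cf χ.2 g (⟨(a : Γ), hTG a.2⟩ : G)⁻¹
  rw [← h]
  refine congrArg _ (Subtype.ext ?_)
  simp

/-- Inside a finite group Γ let S normalise G and also normalise a normal subgroup N of G, with the order of S coprime to the index of N in G and S or G/N solvable. Then for every S-invariant irreducible character χ of G, the restriction of χ to N has an S-invariant irreducible constituent. -/
theorem result {Γ : Type*} [Group Γ] [Fintype Γ] (G S N : Subgroup Γ) [Fintype G] [Fintype N] (hnorm : ∀ s ∈ S, ∀ g ∈ G, s * g * s⁻¹ ∈ G) (hNG : N ≤ G) [hNn : (N.subgroupOf G).Normal] (hNS : ∀ s ∈ S, ∀ n ∈ N, s * n * s⁻¹ ∈ N) (hcop : (N.relIndex G).Coprime (Nat.card S)) (hsolv : Group.IsSolvable S ∨ Group.IsSolvable (G ⧸ N.subgroupOf G)) (χ : Cfsg.IrrCharacter G) (hinv : (∀ s ∈ S, ∀ g g' : G, (g' : Γ) = s * g * s⁻¹ → (χ : G → ℂ) g' = (χ : G → ℂ) g)) : ∃ θ : Cfsg.IrrCharacter N, Cfsg.classInner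 (fun n : N => (χ : G → ℂ) ⟨n, hNG n.2⟩) (θ : N → ℂ) ≠ 0 ∧ (∀ s ∈ S, ∀ g g' : N, (g' : Γ) = s * g * s⁻¹ → (θ : N → ℂ) g' = (θ : N → ℂ) g) := by
  classical
  have hNn' : ∀ g ∈ G, ∀ n ∈ N, g * n * g⁻¹ ∈ N := by
    intro g hg n hn
    exact Subgroup.mem_subgroupOf.1
      (hNn.conj_mem ⟨n, hNG hn⟩ (Subgroup.mem_subgroupOf.2 hn) ⟨g, hg⟩)
  have hGG : ∀ s ∈ G, ∀ g ∈ G, s * g * s⁻¹ ∈ G := fun s hs g hg =>
    G.mul_mem (G.mul_mem hs hg) (G.inv_mem hs)
  let instG := conjAct G S hnorm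
  let φ : S →* MulAut G := MulDistribMulAction.toMulAut S G
  have hφ : ∀ (s : S) (g : G), ((φ s g : G) : Γ) = s * g * (s : Γ)⁻¹ := fun s g => rfl
  have hN' : ∀ a, ∀ n ∈ N.subgroupOf G, φ a n ∈ N.subgroupOf G := by
    intro a n hn
    rw [Subgroup.mem_subgroupOf] at hn ⊢
    rw [hφ]
    exact hNS a a.2 n hn
  let fS : S →* Equiv.Perm (IrrCharacter N) :=
    @MulAction.toPermHom S (IrrCharacter N) _ (@irrMulAction S N _ _ _ (conjAct N S hNS))
  have hfS : ∀ a θ, fS a θ = tw N S hNS a θ := fun a θ => rfl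
  let fG : G →* Equiv.Perm (IrrCharacter N) :=
    @MulAction.toPermHom G (IrrCharacter N) _ (@irrMulAction G N _ _ _ (conjAct N G hNn'))
  have hfG : ∀ a θ, fG a θ = tw N G hNn' a θ := fun a θ => rfl
  have htriv : ∀ n ∈ N.subgroupOf G, fG n = 1 := by
    intro n hn
    rw [Subgroup.mem_subgroupOf] at hn
    apply Equiv.ext
    intro θ
    rw [hfG, Equiv.Perm.one_apply]
    apply Subtype.ext
    funext x
    rw [tw_apply]
    have h := irr_cf θ.2 x (⟨(n : Γ), hn⟩ : N)⁻¹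
    rw [← h]
    refine congrArg _ (Subtype.ext ?_)
    simp
  let fK : G ⧸ N.subgroupOf G →* Equiv.Perm (IrrCharacter N) :=
    QuotientGroup.lift (N.subgroupOf G) fG htriv
  have hfK : ∀ (g : G) θ, fK (g : G ⧸ N.subgroupOf G) θ = tw N G hNn' g θ := fun g θ => rfl
  have hχS : ∀ a : S, tw G S hnorm a χ = χ := (tw_fixed_iff G S hnorm χ).2 hinv
  obtain ⟨θ, hθY, hθ⟩ := glauberman_set (quotAut φ (N.subgroupOf G) hN')
    (by
      have : Nat.card (G ⧸ N.subgroupOf G) = N.relIndex G := rfl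
      rw [this]
      exact hcop.symm) hsolv fK fS
    (by
      intro a k θ
      induction k using QuotientGroup.induction_on with
      | H g =>
        rw [quotAut_mk, hfK, hfK, hfS, hfS]
        apply Subtype.ext
        funext x
        rw [tw_apply, tw_apply, tw_apply, tw_apply]
        refine congrArg _ (Subtype.ext ?_)
        simp only [hφ]
        group)
    {θ | classInner (resFun hNG (χ : G → ℂ)) (θ : N → ℂ) ≠ 0}
    (by
      obtain ⟨θ, hθ, hne⟩ := exists_constituent (char_resFun hNG (irr_char χ.2)) (by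
        intro h0
        have := congrFun h0 1
        exact irr_one_ne_zero χ.2 this)
      exact ⟨⟨θ, hθ⟩, hne⟩)
    (by
      intro k θ hθ
      induction k using QuotientGroup.induction_on with
      | H g =>
        rw [hfK]
        have h := inner_tw hNG G hGG hNn' g χ θ
        rw [tw_of_le G G le_rfl] at h
        rw [Set.mem_ofPred_eq, h]
        exact hθ)
    (by
      intro a θ hθ
      rw [hfS]
      have h := inner_tw hNG S hnorm hNS a χ θ
      rw [hχS] at h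
      rw [Set.mem_ofPred_eq, h]
      exact hθ)
    (by
      intro θ₁ h₁ θ₂ h₂
      have := Fintype.ofFinite (N.subgroupOf G)
      have h1' : classInner (fun n : N.subgroupOf G => (χ : G → ℂ) n) (downFun N G θ₁) ≠ 0 := by
        rw [← downFun_resFun hNG, classInner_downFun hNG]; exact h₁
      have h2' : classInner (fun n : N.subgroupOf G => (χ : G → ℂ) n) (downFun N G θ₂) ≠ 0 := by
        rw [← downFun_resFun hNG, classInner_downFun hNG]; exact h₂
      obtain ⟨g, hg⟩ := clifford_conj (N.subgroupOf G) χ.2 (irr_downFun hNG θ₁.2)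
        (irr_downFun hNG θ₂.2) h1' h2'
      refine ⟨((g⁻¹ : G) : G ⧸ N.subgroupOf G), ?_⟩
      rw [hfK]
      apply Subtype.ext
      funext x
      rw [tw_apply]
      have h3 := congrFun hg ⟨⟨(x : Γ), hNG x.2⟩, Subgroup.mem_subgroupOf.2 x.2⟩
      rw [cj_apply] at h3
      change (θ₂ : N → ℂ) x = _ at h3
      rw [h3]
      change _ = (θ₁ : N → ℂ) _
      refine congrArg _ (Subtype.ext ?_)
      simp)
  exact ⟨θ, hθY, (tw_fixed_iff N S hNS θ).1 hθ⟩

end Cfsg.Agent.S4447
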