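import Cfsg.Statements.S4487
import Mathlib
import Cfsg.Agent.Lib.Helper16.BlockBasic
import Cfsg.Agent.Lib.Helper75.RegularBlock
import Cfsg.Agent.Lib.Helper80.Inflation

set_option autoImplicit false
open Cfsg

namespace Cfsg.Agent.S4487

/-- Let G be a finite group and p a prime such that G has no non-trivial normal subgroup of order prime to p and C_G(O_p(G)) ≤ O_p(G). Then G has a single p-block: any two irreducible characters lie in the same block relative to every maximal ideal M of the algebraic integers containing p. -/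
theorem result {G : Type*} [Group G] [Finite G] (p : ℕ) [Fact p.Prime] (M : Ideal Cfsg.AlgInt) (hM : Cfsg.IsPModular p M) (hcore : Cfsg.pPrimeCore p G = ⊥) (hconstr : Subgroup.centralizer ((Cfsg.pCore p G) : Set G) ≤ Cfsg.pCore p G) (χ ψ : Cfsg.IrrCharacter G) : Cfsg.SameBlock M (χ : G → ℂ) (ψ : G → ℂ) := by
  classical
  cases nonempty_fintype G
  have : M.IsMaximal := hM.2.1
  have : CharP (Cfsg.Agent.Lib.Helper16.FM M) p := Cfsg.Agent.Lib.Helper16.charP_FM hM
  have hMp : M.IsPrime := Cfsg.Agent.Lib.Helper78.pmod_isPrime hM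
  have := Cfsg.Agent.Lib.Lead.pCore_normal' p G
  apply Cfsg.Agent.Lib.Helper75.sameBlock_of_regular hM
  intro g hg
  by_cases hgc : g ∈ Subgroup.centralizer ((Cfsg.pCore p G) : Set G)
  · -- then `g` is a `p`-element that is `p`-regular, so `g = 1`
    have hgp : g ∈ Cfsg.pCore p G := hconstr hgc
    obtain ⟨k, hk⟩ := (Cfsg.Agent.Lib.Lead.pCore_isPGroup p G) ⟨g, hgp⟩
    have hk' : g ^ p ^ k = 1 := by
      have := congrArg Subtype.val hk
      simpa using this
    have hdvd : orderOf g ∣ p ^ k := orderOf_dvd_of_pow_eq_one hk'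
    obtain ⟨j, -, hj⟩ := (Nat.dvd_prime_pow (Fact.out : p.Prime)).1 hdvd
    have hj0 : j = 0 := by
      by_contra hne
      apply hg
      rw [hj]
      exact dvd_pow_self p hne
    rw [hj0, pow_zero, orderOf_eq_one_iff] at hj
    subst hj
    have h1 : ∀ η : Cfsg.IrrCharacter G, Cfsg.centralChar (η : G → ℂ) 1 = 1 := by
      intro η
      have hne := Cfsg.Agent.Lib.Helper80.char_one_ne_zero_of_irr η.2
      unfold Cfsg.centralChar
      have : Subgroup.centralizer ({1} : Set G) = ⊤ := by
        ext x; simp [Subgroup.mem_centralizer_singleton_iff]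
      rw [this, Subgroup.index_top]
      field_simp
      simp
    rw [h1, h1, sub_self]
    exact Cfsg.Agent.Lib.Helper78.memLocalIdeal_zero hMp
  · have key : ∀ η : Cfsg.IrrCharacter G, Cfsg.MemLocalIdeal M (Cfsg.centralChar (η : G → ℂ) g) := by
      intro η
      rw [← Cfsg.Agent.Lib.Helper16.lam_classSumZ_eq_zero_iff]
      by_contra hne
      exact hgc (Cfsg.Agent.Lib.Helper16.mem_centralizer_of_lam_classSumZ_ne_zero M p (pCore p G)
        (Cfsg.Agent.Lib.Lead.pCore_isPGroup p G) η g hne)
    exact Cfsg.Agent.Lib.Helper78.MemLocalIdeal.sub hMp (key χ) (key ψ)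

end Cfsg.Agent.S4487
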