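import Cfsg.Statements.S2794
import Mathlib
import Cfsg.Agent.Lib.Helper1.QdFree
import Cfsg.Agent.Lib.Helper9.SectionFusion6
import Cfsg.Agent.Lib.Lead.ZJFunctor
import Cfsg.Agent.S0653
import Cfsg.Agent.S0274

set_option autoImplicit false
open Cfsg

namespace Cfsg.Agent.S2794


/-- For an odd prime p and a finite group G, the group Qd(p) is not involved in G if and only if in every section K/R of G, for every Sylow p-subgroup S* of K/R, the centre of J(S*) (J generated by the abelian subgroups of largest order) controls strong fusion in K/R. -/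
theorem result {G : Type*} [Group G] [Finite G] {p : ℕ} [Fact p.Prime] (hp : p ≠ 2) : ¬ Cfsg.Involves ↥(Cfsg.qd p) G ↔ ∀ (K R : Subgroup G) [hR : (R.subgroupOf K).Normal], ∀ T : Sylow p (K ⧸ R.subgroupOf K), Cfsg.ControlsStrongFusion p (Cfsg.centerThompsonAOf (T : Subgroup (K ⧸ R.subgroupOf K))) := by
  have hD : Cfsg.Agent.Lib.Helper1.QuadSL2.DicksonHyp p := fun F _ _ _ H h => Cfsg.Agent.S0274.result p hp H h
  constructor
  · intro h K R hR T
    rw [← Cfsg.Agent.Lib.Lead.inducedFunctor_zjA]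
    refine Cfsg.Agent.Lib.Helper9.controlsStrongFusion_of_local (G := G) Cfsg.Agent.Lib.Lead.zjA
      Cfsg.Agent.Lib.Lead.isCharPFunctor_zjA ?_ _ (Cfsg.Agent.Lib.Helper33.involves_section K R) T
    intro K' R' hR' hC T'
    rw [Cfsg.Agent.Lib.Lead.inducedFunctor_zjA]
    have hq : Cfsg.Agent.Lib.Helper34.QStable p (↥K' ⧸ R'.subgroupOf K') :=
      Cfsg.Agent.Lib.Helper1.QdCore.qStable_of_qd_free hD hp
        (fun hc => h (Cfsg.Agent.Lib.Helper33.involves_trans hc (Cfsg.Agent.Lib.Helper33.involves_section K' R')))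
    have := Cfsg.Agent.S0653.result hp hC (fun P _ hP => hq.isPStableOn P hP) T'
    infer_instance
  · intro hctl hinv
    obtain ⟨K, R, hR, ⟨e⟩⟩ := hinv
    obtain ⟨T⟩ : Nonempty (Sylow p (↥K ⧸ R.subgroupOf K)) := inferInstance
    have h1 := hctl K R T
    rw [← Cfsg.Agent.Lib.Lead.inducedFunctor_zjA] at h1
    exact Cfsg.Agent.Lib.Helper1.QdFree.not_controlsStrongFusion_inducedFunctor Cfsg.Agent.Lib.Lead.zjA
      Cfsg.Agent.Lib.Lead.isCharPFunctor_zjA e T h1

end Cfsg.Agent.S2794
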