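import Cfsg.Statements.S5124
import Cfsg.Agent.Lib.Helper87.FusClosed2
import Cfsg.Agent.Lib.Helper84.FusionSat2
import Cfsg.Agent.Lib.Helper84.FusionConseq
import Cfsg.Agent.Lib.Lead.Residual

set_option autoImplicit false
open Cfsg

namespace Cfsg.Agent.S5124

open Cfsg.FusionSystem Cfsg.Agent.Lib.Helper84 Cfsg.Agent.Lib.Helper87 Cfsg.Agent.Lib.Lead

variable {Ω : Type*} [Group Ω] {S : Subgroup Ω}

theorem hyp_le (F : FusionSystem S) (p : ℕ) : F.hyperfocalSubgroup p ≤ S := by
  unfold FusionSystem.hyperfocalSubgroup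
  rw [Subgroup.closure_le]
  rintro _ ⟨P, α, x, hP, -, rfl⟩
  exact hP (P.mul_mem (P.inv_mem x.2) ((α : MulAut P) x).2)

theorem gen_mem (F : FusionSystem S) (p : ℕ) {P : Subgroup Ω} (hP : P ≤ S) (α : F.autGroup P)
    (hα : α ∈ pResidual p (F.autGroup P)) (x : P) :
    (x : Ω)⁻¹ * ((α : MulAut P) x : P) ∈ F.hyperfocalSubgroup p :=
  Subgroup.subset_closure ⟨P, α, x, hP, hα, rfl⟩

/-- an isomorphism of the system carries the generators of the hyperfocal subgroup coming from its source into the
hyperfocal subgroup. -/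
theorem map_gen_mem (F : FusionSystem S) (p : ℕ) {P P' : Subgroup Ω} (e : P ≃* P')
    (he : Mor F e.toMonoidHom) (α : F.autGroup P) (hα : α ∈ pResidual p (F.autGroup P)) (x : P) :
    ((e (x⁻¹ * (α : MulAut P) x) : P') : Ω) ∈ F.hyperfocalSubgroup p := by
  have hP' : P' ≤ S := he.symm.le_left
  have h1 : autEquiv he α ∈ pResidual p (F.autGroup P') := by
    rw [← pResidual_map_equiv (autEquiv he)]
    exact ⟨α, hα, rfl⟩
  have h2 := gen_mem F p hP' _ h1 (e x)
  rw [autEquiv_apply] at h2
  rw [map_mul, map_inv]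
  exact h2

theorem conj_mem_hyp (F : FusionSystem S) (p : ℕ) {g : Ω} (hg : g ∈ S) {t : Ω}
    (ht : t ∈ F.hyperfocalSubgroup p) : g * t * g⁻¹ ∈ F.hyperfocalSubgroup p := by
  have hle : F.hyperfocalSubgroup p ≤
      (F.hyperfocalSubgroup p).comap (MulAut.conj g).toMonoidHom := by
    conv_lhs => unfold FusionSystem.hyperfocalSubgroup
    rw [Subgroup.closure_le]
    rintro _ ⟨P, α, x, hP, hα, rfl⟩
    have hc := F.conj_mem hP hg
    exact map_gen_mem F p (rangeEquiv F hc) (mor_rangeEquiv F hc) α hα x
  exact hle ht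

/-- In a saturated fusion system over a finite p-group S the hyperfocal subgroup is strongly closed in the system. -/
theorem result {Ω : Type*} [Group Ω] {S : Subgroup Ω} [Finite S] (p : ℕ) [Fact p.Prime] (hS : IsPGroup p S) (F : Cfsg.FusionSystem S) (hF : F.IsSaturated p) : F.StronglyClosed (F.hyperfocalSubgroup p) := by
  apply stronglyClosed_of_aut hS F hF _ (hyp_le F p)
  intro P hP
  have hPn : F.IsFullyNormalized P := by
    rcases hP with rfl | hP
    · exact fullyNormalized_self F
    · exact hP.2.1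
  have hPS : P ≤ S := hPn.1
  obtain ⟨-, ⟨-, R, hR⟩, -⟩ := sat_fullyNormalized hS hF hPn
  have hfin : Finite (F.autGroup P) := finite_autGroup F hPS
  set T := F.hyperfocalSubgroup p with hT
  -- the subgroup of automorphisms preserving T
  let B : Subgroup (F.autGroup P) :=
    { carrier := {α | ∀ x : P, (x : Ω) ∈ T ↔ (((α : MulAut P) x : P) : Ω) ∈ T}
      one_mem' := fun x => Iff.rfl
      mul_mem' := by
        intro a b ha hb x
        exact (hb x).trans (ha _)
      inv_mem' := by
        intro a ha x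
        have := ha (((a⁻¹ : F.autGroup P) : MulAut P) x)
        have h2 : (a : MulAut P) (((a⁻¹ : F.autGroup P) : MulAut P) x) = x := by
          show ((a : MulAut P) * ((a⁻¹ : F.autGroup P) : MulAut P)) x = x
          simp
        rw [h2] at this
        exact this.symm }
  have h1 : pResidual p (F.autGroup P) ≤ B := by
    intro β hβ x
    have hg := gen_mem F p hPS β hβ x
    constructor
    · intro hx
      have : (((β : MulAut P) x : P) : Ω) = x * ((x : Ω)⁻¹ * ((β : MulAut P) x : P)) := by group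
      rw [this]
      exact T.mul_mem hx hg
    · intro hx
      have : (x : Ω) = ((β : MulAut P) x : P) * ((x : Ω)⁻¹ * ((β : MulAut P) x : P))⁻¹ := by group
      rw [this]
      exact T.mul_mem hx (T.inv_mem hg)
  have h2 : (R : Subgroup (F.autGroup P)) ≤ B := by
    rw [hR]
    intro γ hγ x
    obtain ⟨g, hg, hg'⟩ := (mem_autInducedBy_iff S P _).1 hγ
    have hgx : (((γ : MulAut P) x : P) : Ω) = g * x * g⁻¹ := hg' x
    rw [hgx]
    constructor
    · intro hx
      exact conj_mem_hyp F p hg hx
    · intro hx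
      have := conj_mem_hyp F p (S.inv_mem hg) hx
      simpa [mul_assoc] using this
  have hB : B = ⊤ := by
    rw [← Subgroup.index_eq_one]
    obtain ⟨k, hk⟩ := index_pResidual (p := p) (G := F.autGroup P)
    have d1 : B.index ∣ p ^ k := hk ▸ Subgroup.index_dvd_of_le h1
    have d2 : B.index ∣ (R : Subgroup (F.autGroup P)).index := Subgroup.index_dvd_of_le h2
    obtain ⟨j, -, hj⟩ := (Nat.dvd_prime_pow Fact.out).1 d1
    rcases Nat.eq_zero_or_pos j with rfl | hjpos
    · simpa using hj
    · exfalso
      apply R.not_dvd_index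
      refine dvd_trans ?_ d2
      rw [hj]
      exact dvd_pow_self p (by omega)
  intro α hα x hx
  have : (⟨α, hα⟩ : F.autGroup P) ∈ B := by rw [hB]; trivial
  exact (this x).1 hx

end Cfsg.Agent.S5124
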