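import Cfsg.Statements.S5135
import Cfsg.Agent.Lib.Helper85.SylIn2
import Cfsg.Agent.Lib.Helper85.FusFactor

set_option autoImplicit false
open Cfsg

namespace Cfsg.Agent.S5135

open Cfsg.FusionSystem Cfsg.Agent.Lib.Helper85

/-- Let G be a finite group, S a Sylow p-subgroup and H a normal subgroup of G. Then the fusion system of G/H on the image SH/H of S is the factor system of the fusion system of G on S modulo S ∩ H, read through the quotient map restricted to S: for each subgroup P' of SH/H, the conjugation maps by elements of G/H defined on P' with values in SH/H are exactly the homomorphisms induced by the conjugation maps by elements of G defined on the full preimage of P' in S with values in S. -/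
theorem result {G : Type*} [Group G] [Finite G] (p : ℕ) [Fact p.Prime] (S : Sylow p G) (H : Subgroup G) [H.Normal] : (Cfsg.groupFusionSystem (S : Subgroup G)).IsFactorSystem ((S : Subgroup G) ⊓ H) ((QuotientGroup.mk' H).comp (S : Subgroup G).subtype) (Cfsg.groupFusionSystem ((S : Subgroup G).map (QuotientGroup.mk' H))) := by
  set θ := (QuotientGroup.mk' H).comp (S : Subgroup G).subtype with hθ
  have hθa : ∀ s : (S : Subgroup G), θ s = QuotientGroup.mk' H (s : G) := fun s => rfl
  have hlift : ∀ (P' : Subgroup (G ⧸ H)), P' ≤ (S : Subgroup G).map (QuotientGroup.mk' H) →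
      ∀ y : P', ∃ x : preimageAlong θ P', θ ⟨x, preimageAlong_le θ P' x.2⟩ = y := by
    intro P' hP' y
    obtain ⟨s, hs, hsy⟩ := hP' y.2
    refine ⟨⟨s, mem_preimageAlong.mpr ⟨hs, ?_⟩⟩, hsy⟩
    rw [hθa]; show QuotientGroup.mk' H s ∈ P'
    rw [hsy]; exact y.2
  refine ⟨inf_le_left, fun s => ?_, ?_, fun P' φ' => ⟨?_, ?_⟩⟩
  · rw [hθa, QuotientGroup.mk'_apply, QuotientGroup.eq_one_iff]
    exact ⟨fun h => ⟨s.2, h⟩, fun h => h.2⟩
  · rw [hθ, MonoidHom.range_comp, Subgroup.range_subtype]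
  · rintro ⟨hP', hval, g', hg'⟩
    refine ⟨hP', ?_⟩
    obtain ⟨g, rfl⟩ := QuotientGroup.mk'_surjective H g'
    set P := preimageAlong θ P' with hP
    have hPS : P ≤ S := preimageAlong_le θ P'
    have hT : P.map (MulAut.conj g).toMonoidHom ≤ (S : Subgroup G) ⊔ H := by
      rintro _ ⟨x, hx, rfl⟩
      obtain ⟨hxS, hxP'⟩ := mem_preimageAlong.mp hx
      have h1 := hval ⟨_, hxP'⟩
      rw [hg'] at h1
      obtain ⟨s, hs, hsx⟩ := h1
      have h2 : QuotientGroup.mk' H (s⁻¹ * (g * x * g⁻¹)) = 1 := by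
        rw [map_mul, map_inv, hsx, map_mul, map_mul, map_inv]
        exact inv_mul_cancel _
      rw [QuotientGroup.mk'_apply, QuotientGroup.eq_one_iff] at h2
      have h3 : s * (s⁻¹ * (g * x * g⁻¹)) ∈ (S : Subgroup G) ⊔ H :=
        Subgroup.mul_mem _ (le_sup_left (a := (S : Subgroup G)) hs) (le_sup_right (a := (S : Subgroup G)) h2)
      rwa [mul_inv_cancel_left] at h3
    have hSyl : SylIn p (S : Subgroup G) ((S : Subgroup G) ⊔ H) := ⟨S.subtype le_sup_left, rfl⟩
    obtain ⟨x, hx, hxT⟩ := hSyl.exists_conj_le hT ((S.isPGroup'.to_le hPS).map _)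
    have hx' : x ∈ (((S : Subgroup G) ⊔ H : Subgroup G) : Set G) := hx
    rw [Subgroup.mul_normal] at hx'
    obtain ⟨s, hs, h, hh, rfl⟩ := hx'
    have hmem : ∀ y ∈ P, h * g * y * (h * g)⁻¹ ∈ (S : Subgroup G) := by
      intro y hy
      have h2 : (MulAut.conj (s * h)).toMonoidHom ((MulAut.conj g).toMonoidHom y) ∈
          (S : Subgroup G) := hxT ⟨_, ⟨y, hy, rfl⟩, rfl⟩
      have h3 := (S : Subgroup G).mul_mem ((S : Subgroup G).mul_mem ((S : Subgroup G).inv_mem hs) h2) hs
      have h4 : s⁻¹ * (MulAut.conj (s * h)).toMonoidHom ((MulAut.conj g).toMonoidHom y) * s =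
          h * g * y * (h * g)⁻¹ := by
        simp [mul_assoc]
      rwa [h4] at h3
    refine ⟨conjHom P (h * g), ⟨hPS, fun y => hmem y y.2, h * g, fun _ => rfl⟩, hPS,
      fun y => hmem y y.2, fun y => (mem_preimageAlong.mp y.2).2, fun y => ?_⟩
    rw [hg']
    show QuotientGroup.mk' H g * QuotientGroup.mk' H (y : G) * (QuotientGroup.mk' H g)⁻¹ =
      QuotientGroup.mk' H (h * g * y * (h * g)⁻¹)
    have hh1 : QuotientGroup.mk' H h = 1 := by
      rw [QuotientGroup.mk'_apply, QuotientGroup.eq_one_iff]; exact hh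
    rw [map_mul, map_mul, map_inv, map_mul, hh1, one_mul]
  · rintro ⟨hP', φ, ⟨hPS, hφS, g, hg⟩, hP, hφ, hPP', h⟩
    refine ⟨hP', fun y => ?_, QuotientGroup.mk' H g, fun y => ?_⟩
    · obtain ⟨x, hx⟩ := hlift P' hP' y
      have e : (⟨θ ⟨x, hP x.2⟩, hPP' x⟩ : P') = y := Subtype.ext hx
      rw [← e, h x]
      exact ⟨_, hφ x, rfl⟩
    · obtain ⟨x, hx⟩ := hlift P' hP' y
      have e : (⟨θ ⟨x, hP x.2⟩, hPP' x⟩ : P') = y := Subtype.ext hx
      rw [← e, h x, hθa]
      show QuotientGroup.mk' H (φ x) = _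
      rw [hg, map_mul, map_mul, map_inv]
      rfl

end Cfsg.Agent.S5135
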