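import Cfsg.Statements.S5256
import Cfsg.Agent.S5134
import Cfsg.Agent.Lib.Helper85.FusMorph
import Cfsg.Agent.Lib.Helper86.ResidualRel

set_option autoImplicit false
open Cfsg

namespace Cfsg.Agent.S5256

open Cfsg.FusionSystem Cfsg.Agent.Lib.Helper85 Cfsg.Agent.Lib.Helper84

/-- pairs of automorphisms compatible along `π`. -/
def relAut {P P' : Type*} [Group P] [Group P'] (π : P →* P') (A : Subgroup (MulAut P))
    (A' : Subgroup (MulAut P')) : Subgroup (A × A') where
  carrier := {w | ∀ x, (w.2 : MulAut P') (π x) = π ((w.1 : MulAut P) x)}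
  one_mem' := fun x => rfl
  mul_mem' := by
    intro a b ha hb x
    show (a.2 : MulAut P') ((b.2 : MulAut P') (π x)) = π ((a.1 : MulAut P) ((b.1 : MulAut P) x))
    rw [hb x, ha]
  inv_mem' := by
    intro a ha x
    show (a.2 : MulAut P')⁻¹ (π x) = π ((a.1 : MulAut P)⁻¹ x)
    have h := ha ((a.1 : MulAut P)⁻¹ x)
    rw [MulAut.apply_inv_self] at h
    rw [← h, MulAut.inv_apply_self]

theorem mem_relAut {P P' : Type*} [Group P] [Group P'] (π : P →* P') (A : Subgroup (MulAut P))
    (A' : Subgroup (MulAut P')) (w : A × A') :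
    w ∈ relAut π A A' ↔ ∀ x, (w.2 : MulAut P') (π x) = π ((w.1 : MulAut P) x) := Iff.rfl

theorem exists_aut_of_hom {Ω : Type*} [Group Ω] {S : Subgroup Ω} [Finite S] (F : FusionSystem S)
    {Q : Subgroup Ω} {φ : Q →* Ω} (hφ : φ ∈ F.Hom Q) (hval : ∀ x, φ x ∈ Q) :
    ∃ β : F.autGroup Q, ∀ x, (((β : MulAut Q) x : Q) : Ω) = φ x := by
  have hQS : Q ≤ S := (F.le_of_mem hφ).1
  have hfinQ : Finite Q := finite_of_le hQS
  have hinj : Function.Injective (φ.codRestrict Q hval) := by
    intro a b hab
    exact F.injective_of_mem hφ (congrArg Subtype.val hab)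
  let β : MulAut Q := MulEquiv.ofBijective _ ⟨hinj, Finite.surjective_of_injective hinj⟩
  have hβ : β ∈ F.autGroup Q := (mem_autGroup_iff F hQS β).mpr (mor_of_mem F hφ hval)
  exact ⟨⟨β, hβ⟩, fun x => rfl⟩

/-- Let F be a saturated fusion system over a finite p-group S, T a subgroup of S strongly closed in F, and E a factor system F/T realised along a homomorphism θ of S with kernel T. Then the hyperfocal subgroup of E is the image under θ of the hyperfocal subgroup of F (hyp(F/T) = T·hyp(F)/T). -/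
theorem result {Ω : Type*} [Group Ω] {S : Subgroup Ω} [Finite S] (p : ℕ) [Fact p.Prime] (hS : IsPGroup p S) (F : Cfsg.FusionSystem S) (hF : F.IsSaturated p) (T : Subgroup Ω) (hT : F.StronglyClosed T) {Ω' : Type*} [Group Ω'] {S' : Subgroup Ω'} (θ : ↥S →* Ω') (E : Cfsg.FusionSystem S') (hE : F.IsFactorSystem T θ E) : E.hyperfocalSubgroup p = ((F.hyperfocalSubgroup p).subgroupOf S).map θ := by
  have hsm := Cfsg.Agent.S5134.result p hS F hF T hT θ E hE
  obtain ⟨⟨hθS', hmor⟩, hrange, hsurj⟩ := hsm
  have hfinS' : Finite S' := by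
    rw [← hrange]
    exact Set.finite_range θ
  apply le_antisymm
  · unfold hyperfocalSubgroup
    rw [Subgroup.closure_le]
    rintro _ ⟨P', α', x', hP', hα', rfl⟩
    have hfinP' : Finite P' := finite_of_le hP'
    have hPS : preimageAlong θ P' ≤ S := preimageAlong_le θ P'
    have hfinP : Finite ↥(preimageAlong θ P') := finite_of_le hPS
    have hP'r : P' ≤ θ.range := hrange ▸ hP'
    let W := (relAut (preimageMap θ P') (F.autGroup (preimageAlong θ P')) (E.autGroup P')).comap
      (MulEquiv.prodComm : E.autGroup P' × F.autGroup (preimageAlong θ P') ≃* _).toMonoidHom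
    have htot : ∀ g : E.autGroup P', ∃ h : F.autGroup (preimageAlong θ P'), (g, h) ∈ W := by
      intro g
      have hg : P'.subtype.comp (g : MulAut P').toMonoidHom ∈ E.Hom P' :=
        (mem_autGroup_iff E hP' g).mp g.2
      obtain ⟨φ, hφ, h1, h2, h3, h4⟩ := hsurj P' hP' _ hg
      have hval : ∀ x, φ x ∈ preimageAlong θ P' := by
        intro x
        refine mem_preimageAlong.mpr ⟨h2 x, ?_⟩
        rw [← h4 x]
        exact ((g : MulAut P') _).2
      obtain ⟨β, hβ⟩ := exists_aut_of_hom F hφ hval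
      refine ⟨β, ?_⟩
      show ∀ x, (g : MulAut P') (preimageMap θ P' x) = preimageMap θ P' ((β : MulAut _) x)
      intro x
      apply Subtype.ext
      rw [preimageMap_apply]
      refine (h4 x).trans ?_
      congr 1
      exact Subtype.ext (hβ x).symm
    obtain ⟨α, hα, hW⟩ := Cfsg.Agent.Lib.Helper86.exists_mem_pResidual_of_rel p W htot hα'
    obtain ⟨x, rfl⟩ := preimageMap_surjective θ hP'r x'
    have hW' : (α' : MulAut P') (preimageMap θ P' x) = preimageMap θ P' ((α : MulAut _) x) := hW x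
    rw [hW', preimageMap_apply, preimageMap_apply]
    refine ⟨⟨(x : Ω), hPS x.2⟩⁻¹ * ⟨(((α : MulAut _) x : _) : Ω), hPS ((α : MulAut _) x).2⟩, ?_, ?_⟩
    · apply Subgroup.subset_closure
      exact ⟨_, α, x, hPS, hα, rfl⟩
    · rw [map_mul, map_inv]
  · rw [Subgroup.map_le_iff_le_comap]
    have key : F.hyperfocalSubgroup p ≤ ((E.hyperfocalSubgroup p).comap θ).map S.subtype := by
      unfold hyperfocalSubgroup
      rw [Subgroup.closure_le]
      rintro _ ⟨P, α, x, hPS, hα, rfl⟩
      have hfinP : Finite P := finite_of_le hPS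
      have hP'S' : imageAlong θ P ≤ S' := imageAlong_le θ hθS' P
      have hfinP' : Finite ↥(imageAlong θ P) := finite_of_le hP'S'
      let W := relAut (imageMap θ hPS) (F.autGroup P) (E.autGroup (imageAlong θ P))
      have htot : ∀ g : F.autGroup P, ∃ h : E.autGroup (imageAlong θ P), (g, h) ∈ W := by
        intro g
        have hg : P.subtype.comp (g : MulAut P).toMonoidHom ∈ F.Hom P :=
          (mem_autGroup_iff F hPS g).mp g.2
        obtain ⟨φ', hφ', h1, h2, h3, h4⟩ := hmor P _ hg
        have hval : ∀ y, φ' y ∈ imageAlong θ P := by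
          intro y
          obtain ⟨x, rfl⟩ := imageMap_surjective θ hPS y
          have := h4 x
          have e : φ' (imageMap θ hPS x) = θ ⟨_, h2 x⟩ := h4 x
          rw [e]
          exact ⟨_, ((g : MulAut P) x).2, rfl⟩
        obtain ⟨β, hβ⟩ := exists_aut_of_hom E hφ' hval
        refine ⟨β, ?_⟩
        show ∀ x, (β : MulAut _) (imageMap θ hPS x) = imageMap θ hPS ((g : MulAut _) x)
        intro x
        apply Subtype.ext
        rw [hβ, imageMap_apply]
        exact h4 x
      obtain ⟨α', hα', hW⟩ := Cfsg.Agent.Lib.Helper86.exists_mem_pResidual_of_rel p W htot hα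
      have hW' : (α' : MulAut _) (imageMap θ hPS x) = imageMap θ hPS ((α : MulAut _) x) := hW x
      refine ⟨⟨(x : Ω), hPS x.2⟩⁻¹ * ⟨(((α : MulAut _) x : _) : Ω), hPS ((α : MulAut _) x).2⟩, ?_, rfl⟩
      rw [SetLike.mem_coe, Subgroup.mem_comap, map_mul, map_inv]
      apply Subgroup.subset_closure
      refine ⟨_, α', imageMap θ hPS x, hP'S', hα', ?_⟩
      rw [hW', imageMap_apply, imageMap_apply]
    intro s hs
    obtain ⟨t, ht, hts⟩ := key hs
    have : t = s := Subtype.ext hts
    exact this ▸ ht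

end Cfsg.Agent.S5256
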