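import Cfsg.Statements.S2800
import Cfsg.Agent.Lib.Helper50.ThompsonA

set_option autoImplicit false
open Cfsg

namespace Cfsg.Agent.S2800


open Subgroup Cfsg.Agent.Lib.Lead Cfsg.Agent.Lib.Helper50

universe u

/-- the two functors `Z` and `J`. -/
def WW : Bool → ∀ (Q : Type u) [Group Q], Subgroup Q
  | true => fun Q _ => Subgroup.center Q
  | false => fun Q _ => Cfsg.thompsonSubgroupA Q

/-- `N_G(S) ≤ C_G(Z(S))` when `N_G(S)` has a normal `p`-complement. -/
theorem normalizer_le_centralizer_center {G : Type*} [Group G] [Finite G] {p : ℕ} [Fact p.Prime] (S : Sylow p G)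
    (h : Cfsg.HasNormalPComplement p ↥(normalizer ((S : Subgroup G) : Set G))) :
    normalizer ((S : Subgroup G) : Set G) ≤
      centralizer (((S : Subgroup G) ⊓ centralizer ((S : Subgroup G) : Set G) : Subgroup G) : Set G) := by
  set N₁ := normalizer ((S : Subgroup G) : Set G) with hN₁
  set Z := (S : Subgroup G) ⊓ centralizer ((S : Subgroup G) : Set G) with hZ
  obtain ⟨K, hKn, hKc, k, hk⟩ := hasNormalPComplement_iff.mp h
  let S₁ : Sylow p N₁ := S.subtype le_normalizer
  have hS₁ : (S₁ : Subgroup N₁) = (S : Subgroup G).subgroupOf N₁ := Sylow.coe_subtype _ _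
  have hS₁n : (S₁ : Subgroup N₁).Normal := by rw [hS₁]; exact normal_in_normalizer
  have hsup : (S₁ : Subgroup N₁) ⊔ K = ⊤ :=
    Cfsg.Agent.Lib.Helper10.sylow_sup_eq_top_of_isPGroup_quotient S₁ K
      (IsPGroup.of_card (n := k) (by rw [← index_eq_card, hk]))
  have hdis : Disjoint K (S₁ : Subgroup N₁) := by
    obtain ⟨j, hj⟩ := IsPGroup.iff_card.mp S₁.2
    exact disjoint_of_coprime_natCard (by rw [hj]; exact Nat.Coprime.pow_right j hKc)
  have hle : (⊤ : Subgroup N₁) ≤ (centralizer (Z : Set G)).subgroupOf N₁ := by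
    rw [← hsup]
    apply sup_le
    · intro s hs
      rw [hS₁, mem_subgroupOf] at hs
      rw [mem_subgroupOf]
      exact (le_centralizer_iff.mp (inf_le_right : Z ≤ _)) hs
    · intro κ hκ
      rw [mem_subgroupOf, mem_centralizer_iff]
      intro z hz
      have hzN : z ∈ N₁ := le_normalizer hz.1
      have hz₁ : (⟨z, hzN⟩ : N₁) ∈ (S₁ : Subgroup N₁) := by
        rw [hS₁, mem_subgroupOf]; exact hz.1
      have := commute_of_normal_of_disjoint K (S₁ : Subgroup N₁) hKn hS₁n hdis κ ⟨z, hzN⟩ hκ hz₁
      exact (congrArg Subtype.val this.eq).symm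
  intro g hg
  exact mem_subgroupOf.mp (hle (mem_top (⟨g, hg⟩ : N₁)))

/-- `N_G(Z(S)) ≤ C_G(Z(S))` when `N_G(S) ≤ C_G(Z(S))`. -/
theorem normalizer_center_le {G : Type*} [Group G] [Finite G] {p : ℕ} [Fact p.Prime] (S : Sylow p G)
    (h : normalizer ((S : Subgroup G) : Set G) ≤
      centralizer (((S : Subgroup G) ⊓ centralizer ((S : Subgroup G) : Set G) : Subgroup G) : Set G)) :
    normalizer (((S : Subgroup G) ⊓ centralizer ((S : Subgroup G) : Set G) : Subgroup G) : Set G) ≤
      centralizer (((S : Subgroup G) ⊓ centralizer ((S : Subgroup G) : Set G) : Subgroup G) : Set G) := by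
  set Z := (S : Subgroup G) ⊓ centralizer ((S : Subgroup G) : Set G) with hZ
  set M := normalizer (Z : Set G) with hM
  have hSC : (S : Subgroup G) ≤ centralizer (Z : Set G) := le_centralizer_iff.mp inf_le_right
  have hSM : (S : Subgroup G) ≤ M := hSC.trans (centralizer_le_normalizer _)
  set C' : Subgroup M := (centralizer (Z : Set G)).subgroupOf M with hC'
  have hC'n : C'.Normal := by
    rw [hC', hM, ← normalizerMonoidHom_ker]; infer_instance
  let P : Sylow p M := S.subtype hSM
  have hP : (P : Subgroup M) = (S : Subgroup G).subgroupOf M := Sylow.coe_subtype _ _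
  have hPC : (P : Subgroup M) ≤ C' := by
    rw [hP]
    intro s hs
    exact mem_subgroupOf.mpr (hSC (mem_subgroupOf.mp hs))
  have hfr := Sylow.normalizer_sup_eq_top' P hPC
  have hnle : normalizer ((P : Subgroup M) : Set M) ≤ C' := by
    intro m hm
    rw [hC', mem_subgroupOf]
    apply h
    rw [mem_normalizer_iff]
    intro s
    rw [hP] at hm
    constructor
    · intro hs
      have := (mem_normalizer_iff.mp hm ⟨s, hSM hs⟩).mp (mem_subgroupOf.mpr hs)
      exact mem_subgroupOf.mp this
    · intro hs
      have hsM : s ∈ M := by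
        have h1 : (m : G)⁻¹ * ((m : G) * s * (m : G)⁻¹) * (m : G) ∈ M :=
          mul_mem (mul_mem (inv_mem m.2) (hSM hs)) m.2
        have e : (m : G)⁻¹ * ((m : G) * s * (m : G)⁻¹) * (m : G) = s := by group
        rwa [e] at h1
      have := (mem_normalizer_iff.mp hm ⟨s, hsM⟩).mpr (mem_subgroupOf.mpr hs)
      exact mem_subgroupOf.mp this
  have htop : (⊤ : Subgroup M) ≤ C' := by
    rw [← hfr]
    exact sup_le hnle le_rfl
  intro g hg
  exact mem_subgroupOf.mp (htop (mem_top (⟨g, hg⟩ : M)))

/-- Let S be a Sylow p-subgroup of the finite group G and J(S) the subgroup generated by the abelian subgroups of S of largest order. Suppose p is odd, or the symmetric group of degree 4 is not involved in G. If both C_G(Z(S)) and N_G(J(S)) have normal p-complements, then G has a normal p-complement. -/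
theorem result {G : Type*} [Group G] [Finite G] {p : ℕ} [Fact p.Prime] (S : Sylow p G) (h : p ≠ 2 ∨ ¬ Cfsg.Involves (Equiv.Perm (Fin 4)) G) (hC : Cfsg.HasNormalPComplement p ↥(Subgroup.centralizer (((S : Subgroup G) ⊓ Subgroup.centralizer ((S : Subgroup G) : Set G) : Subgroup G) : Set G))) (hN : Cfsg.HasNormalPComplement p ↥(Subgroup.normalizer ((Cfsg.thompsonSubgroupAOf (S : Subgroup G)) : Set G))) : Cfsg.HasNormalPComplement p G := by
  have hNS : Cfsg.HasNormalPComplement p ↥(normalizer ((S : Subgroup G) : Set G)) :=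
    HasNormalPComplement.of_le
      (normalizer_le_normalizer_inducedFunctor isCharPFunctor_thompsonSubgroupA (S : Subgroup G) S.2) hN
  have hNZ := normalizer_center_le S (normalizer_le_centralizer_center S hNS)
  refine hasNormalPComplement_of_functors (ι := Bool) WW ?_ G ?_ S ?_
  · intro i
    cases i
    · exact isCharPFunctor_thompsonSubgroupA
    · exact isCharPFunctor_center
  · intro Y _ _ hsec T hT
    rcases finalConfig_normal T hT (h.imp id (fun h' hI => h' (involves_of_isSection hsec hI))) with h1 | h1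
    · refine ⟨true, ?_⟩
      show (Cfsg.inducedFunctor (fun Q _ => Subgroup.center Q) (T : Subgroup Y)).Normal
      rw [inducedFunctor_center]
      exact h1
    · exact ⟨false, h1⟩
  · intro i
    cases i
    · exact hN
    · show Cfsg.HasNormalPComplement p
        ↥(normalizer (Cfsg.inducedFunctor (fun Q _ => Subgroup.center Q) (S : Subgroup G) : Set G))
      rw [inducedFunctor_center]
      exact HasNormalPComplement.of_le hNZ hC

end Cfsg.Agent.S2800
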