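import Cfsg.Statements.S3975
import Mathlib

set_option autoImplicit false
open Cfsg

namespace Cfsg.Agent.S3975

open MulAction
open scoped Pointwise

/-- An invariant finite subset all of whose orbits have length divisible by `d` has cardinality divisible by `d`. -/
theorem dvd_card_of_dvd_index_stabilizer {K X : Type*} [Group K] [MulAction K X] (d : ℕ) (Y : Finset X) :
    (∀ g : K, ∀ y ∈ Y, g • y ∈ Y) → (∀ y ∈ Y, d ∣ (stabilizer K y).index) → d ∣ Y.card := by
  classical
  induction Y using Finset.strongInduction with
  | H Y ih =>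
    intro hinv hd
    rcases Y.eq_empty_or_nonempty with rfl | ⟨y, hy⟩
    · simp
    · set O := Y.filter (fun x => x ∈ orbit K y) with hO
      set Y' := Y.filter (fun x => x ∉ orbit K y) with hY'
      have hOset : (O : Set X) = orbit K y := by
        ext x
        simp only [hO, Finset.coe_filter, Set.mem_setOf_eq]
        constructor
        · exact fun h => h.2
        · rintro ⟨g, rfl⟩
          exact ⟨hinv g y hy, mem_orbit y g⟩
      have hOcard : O.card = (stabilizer K y).index := by
        rw [index_stabilizer, ← hOset, Set.ncard_coe_finset]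
      have hsplit : O.card + Y'.card = Y.card := Finset.card_filter_add_card_filter_not _
      have hss : Y' ⊂ Y := by
        refine Finset.filter_ssubset.mpr ⟨y, hy, ?_⟩
        simp [mem_orbit_self]
      have h1 : d ∣ Y'.card := by
        apply ih Y' hss
        · intro g x hx
          rw [hY', Finset.mem_filter] at hx ⊢
          refine ⟨hinv g x hx.1, ?_⟩
          rw [← orbit_eq_iff, orbit_smul, orbit_eq_iff]
          exact hx.2
        · intro x hx
          exact hd x (Finset.mem_filter.mp hx).1
      rw [← hsplit, hOcard]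
      exact dvd_add (hd y hy) h1

variable {G : Type*} [Group G] [Fintype G] [DecidableEq G]

/-- the stabilizer (under left multiplication) of a finite subset has order dividing the size of the subset -/
theorem card_stabilizer_dvd (M : Finset G) : Nat.card (stabilizer G M) ∣ M.card := by
  apply dvd_card_of_dvd_index_stabilizer (K := stabilizer G M) (X := G)
  · intro g y hy
    have := g.2
    rw [mem_stabilizer_finset'] at this
    exact this hy
  · intro y _
    have : stabilizer (stabilizer G M) y = ⊥ := by
      rw [eq_bot_iff]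
      intro g hg
      rw [mem_stabilizer_iff] at hg
      have : (g : G) * y = y := hg
      rw [Subgroup.mem_bot]
      exact Subtype.ext (mul_eq_right.mp this)
    rw [this, Subgroup.index_bot]

open Classical in
/-- the right coset `H x` as a finset -/
noncomputable def coset (H : Subgroup G) (x : G) : Finset G := Finset.univ.filter (fun y => y * x⁻¹ ∈ H)

theorem mem_coset {H : Subgroup G} {x y : G} : y ∈ coset H x ↔ y * x⁻¹ ∈ H := by
  simp [coset]

theorem self_mem_coset (H : Subgroup G) (x : G) : x ∈ coset H x := by
  rw [mem_coset, mul_inv_cancel]; exact H.one_mem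

theorem card_coset (H : Subgroup G) (x : G) : (coset H x).card = Nat.card H := by
  classical
  rw [Nat.card_eq_fintype_card, ← Finset.card_univ]
  symm
  apply Finset.card_bij (fun (h : H) _ => (h : G) * x)
  · intro h _
    rw [mem_coset, mul_inv_cancel_right]; exact h.2
  · intro a _ b _ hab
    exact Subtype.ext (mul_right_cancel hab)
  · intro y hy
    exact ⟨⟨y * x⁻¹, mem_coset.mp hy⟩, Finset.mem_univ _, by simp⟩

theorem stabilizer_coset (H : Subgroup G) (x : G) : stabilizer G (coset H x) = H := by
  ext g
  rw [mem_stabilizer_finset]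
  constructor
  · intro h
    have := (h x).mpr (self_mem_coset H x)
    rw [mem_coset, smul_eq_mul, mul_inv_cancel_right] at this
    exact this
  · intro hg y
    rw [mem_coset, mem_coset, smul_eq_mul, mul_assoc]
    exact H.mul_mem_cancel_left hg

theorem coset_stabilizer {M : Finset G} (hM : Nat.card (stabilizer G M) = M.card) {x : G} (hx : x ∈ M) :
    coset (stabilizer G M) x = M := by
  apply Finset.eq_of_subset_of_card_le
  · intro y hy
    have h1 := mem_coset.mp hy
    rw [mem_stabilizer_finset'] at h1
    have := h1 hx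
    rwa [smul_eq_mul, inv_mul_cancel_right] at this
  · rw [card_coset, hM]

theorem card_stabilizer_smul (g : G) (M : Finset G) :
    Nat.card (stabilizer G (g • M)) = Nat.card (stabilizer G M) := by
  rw [stabilizer_smul_eq_stabilizer_map_conj]
  exact Subgroup.card_map_of_injective (MulAut.conj g).injective

/-- Wielandt's count. -/
theorem wielandt (p β m : ℕ) (hp : p.Prime) (hn : Fintype.card G = p ^ β * m) :
    ∃ t, (Fintype.card G).choose (p ^ β) =
      Nat.card {H : Subgroup G // Nat.card H = p ^ β} * m + p * m * t := by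
  classical
  set k := p ^ β with hk
  have hkpos : 0 < k := pow_pos hp.pos β
  set Ω := (Finset.univ : Finset G).powersetCard k with hΩ
  set Ω₀ := Ω.filter (fun M => Nat.card (stabilizer G M) = k) with hΩ₀
  set Ω₁ := Ω.filter (fun M => ¬ Nat.card (stabilizer G M) = k) with hΩ₁
  have hsplit : Ω₀.card + Ω₁.card = Ω.card := Finset.card_filter_add_card_filter_not _
  have hΩcard : Ω.card = (Fintype.card G).choose k := by
    rw [hΩ, Finset.card_powersetCard, Finset.card_univ]
  -- (a)
  have ha : p * m ∣ Ω₁.card := by
    apply dvd_card_of_dvd_index_stabilizer (K := G)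
    · intro g M hM
      rw [hΩ₁, Finset.mem_filter, hΩ, Finset.mem_powersetCard] at hM ⊢
      refine ⟨⟨Finset.subset_univ _, ?_⟩, ?_⟩
      · rw [Finset.card_smul_finset]; exact hM.1.2
      · rw [card_stabilizer_smul]; exact hM.2
    · intro M hM
      rw [hΩ₁, Finset.mem_filter, hΩ, Finset.mem_powersetCard] at hM
      have h1 := card_stabilizer_dvd M
      rw [hM.1.2, hk] at h1
      obtain ⟨j, hj, hj'⟩ := (Nat.dvd_prime_pow hp).mp h1
      have hjlt : j < β := by
        rcases hj.lt_or_eq with h | h
        · exact h
        · exfalso; apply hM.2; rw [hj', h]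
      have h2 := (stabilizer G M).card_mul_index
      rw [hj', Nat.card_eq_fintype_card, hn] at h2
      obtain ⟨c, rfl⟩ := Nat.exists_eq_add_of_lt hjlt
      have h3 : p ^ j * (stabilizer G M).index = p ^ j * (p ^ c * (p * m)) := by
        rw [h2, hk]; ring
      have h4 := Nat.eq_of_mul_eq_mul_left (pow_pos hp.pos j) h3
      rw [h4]
      exact Dvd.intro_left _ rfl
  -- (b)
  have hb : Ω₀.card * k = Nat.card {H : Subgroup G // Nat.card H = k} * Fintype.card G := by
    have h1 : (Ω₀.sigma (fun M => M)).card = Ω₀.card * k := by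
      rw [Finset.card_sigma, Finset.sum_const_nat]
      intro M hM
      rw [hΩ₀, Finset.mem_filter, hΩ, Finset.mem_powersetCard] at hM
      exact hM.1.2
    rw [← h1, Nat.card_eq_fintype_card, ← Fintype.card_prod, ← Finset.card_univ]
    symm
    apply Finset.card_nbij (fun t : {H : Subgroup G // Nat.card H = k} × G =>
      (⟨coset t.1.1 t.2, t.2⟩ : (_ : Finset G) × G))
    · intro t _
      simp only [Finset.coe_sigma, Set.mem_sigma_iff, Finset.mem_coe]
      refine ⟨?_, self_mem_coset _ _⟩
      rw [hΩ₀, Finset.mem_filter, hΩ, Finset.mem_powersetCard]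
      refine ⟨⟨Finset.subset_univ _, ?_⟩, ?_⟩
      · rw [card_coset]; exact t.1.2
      · rw [stabilizer_coset]; exact t.1.2
    · intro t _ t' _ h
      simp only [Sigma.mk.injEq] at h
      obtain ⟨h1, h2⟩ := h
      have h2' : t.2 = t'.2 := eq_of_heq h2
      have h3 : t.1.1 = t'.1.1 := by
        rw [← stabilizer_coset t.1.1 t.2, h1, stabilizer_coset]
      exact Prod.ext (Subtype.ext h3) h2'
    · rintro ⟨M, x⟩ hMx
      simp only [Finset.coe_sigma, Set.mem_sigma_iff, Finset.mem_coe] at hMx
      obtain ⟨hM, hx⟩ := hMx
      rw [hΩ₀, Finset.mem_filter, hΩ, Finset.mem_powersetCard] at hM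
      refine ⟨(⟨stabilizer G M, hM.2⟩, x), Finset.mem_coe.mpr (Finset.mem_univ _), ?_⟩
      simp only
      rw [coset_stabilizer (by rw [hM.2, hM.1.2]) hx]
  obtain ⟨t, ht⟩ := ha
  refine ⟨t, ?_⟩
  rw [← hΩcard, ← hsplit, ht]
  congr 1
  rw [hn] at hb
  have : Ω₀.card * k = (Nat.card {H : Subgroup G // Nat.card H = k} * m) * k := by
    rw [hb]; ring
  exact Nat.eq_of_mul_eq_mul_right hkpos this


omit [Fintype G] [DecidableEq G] in
/-- in a finite cyclic group there is at most one subgroup of each order -/
theorem eq_of_card_eq_of_isCyclic [Finite G] [IsCyclic G] {H H' : Subgroup G} {k : ℕ} (hk : 0 < k)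
    (h : Nat.card H = k) (h' : Nat.card H' = k) : H = H' := by
  classical
  have := Fintype.ofFinite G
  have key : ∀ K : Subgroup G, Nat.card K = k →
      (Finset.univ.filter (fun x : G => x ∈ K)) = Finset.univ.filter (fun x : G => x ^ k = 1) := by
    intro K hK
    apply Finset.eq_of_subset_of_card_le
    · intro x hx
      rw [Finset.mem_filter] at hx ⊢
      refine ⟨hx.1, ?_⟩
      have : (⟨x, hx.2⟩ : K) ^ Nat.card K = 1 := pow_card_eq_one'
      rw [hK] at this
      exact congrArg Subtype.val this
    · refine (IsCyclic.card_pow_eq_one_le hk).trans ?_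
      rw [← hK, Nat.card_eq_fintype_card, Fintype.card_subtype]
  ext x
  have h1 := key H h
  rw [← key H' h'] at h1
  have := Finset.ext_iff.mp h1 x
  simpa using this

/-- Let `p` be a prime and `G` a finite group whose order is divisible by `p ^ β`. Then the number of subgroups of `G` of order `p ^ β` is congruent to `1` modulo `p`. (When `p ^ β` is the full power of `p` dividing the order, these are the Sylow `p`-subgroups and this is the usual Sylow count.) -/
theorem result {G : Type*} [Group G] [Finite G] (p β : ℕ) (hp : p.Prime) (hdiv : p ^ β ∣ Nat.card G) : Nat.card {H : Subgroup G // Nat.card H = p ^ β} ≡ 1 [MOD p] := by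
  classical
  obtain ⟨m, hm⟩ := hdiv
  have := Fintype.ofFinite G
  have hn : Fintype.card G = p ^ β * m := by rw [← Nat.card_eq_fintype_card, hm]
  have hmpos : 0 < m := by
    rcases Nat.eq_zero_or_pos m with h | h
    · rw [h, mul_zero] at hn
      exact absurd hn Fintype.card_ne_zero
    · exact h
  have hkpos : 0 < p ^ β := pow_pos hp.pos β
  haveI : NeZero (p ^ β * m) := ⟨(Nat.mul_pos hkpos hmpos).ne'⟩
  haveI : Fact p.Prime := ⟨hp⟩
  obtain ⟨t, ht⟩ := wielandt (G := G) p β m hp hn
  have hnC : Fintype.card (Multiplicative (ZMod (p ^ β * m))) = p ^ β * m := by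
    rw [Fintype.card_multiplicative, ZMod.card]
  obtain ⟨t', ht'⟩ := wielandt (G := Multiplicative (ZMod (p ^ β * m))) p β m hp hnC
  have hC : Nat.card {H : Subgroup (Multiplicative (ZMod (p ^ β * m))) // Nat.card H = p ^ β} = 1 := by
    rw [Nat.card_eq_one_iff_unique]
    constructor
    · constructor
      rintro ⟨H, hH⟩ ⟨H', hH'⟩
      exact Subtype.ext (eq_of_card_eq_of_isCyclic hkpos hH hH')
    · obtain ⟨K, hK⟩ := Sylow.exists_subgroup_card_pow_prime (G := Multiplicative (ZMod (p ^ β * m))) p
        (n := β) (by rw [Nat.card_eq_fintype_card, hnC]; exact Dvd.intro _ rfl)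
      exact ⟨⟨K, hK⟩⟩
  rw [hC, hnC] at ht'
  rw [hn, ht'] at ht
  set s := Nat.card {H : Subgroup G // Nat.card H = p ^ β} with hs
  have h1 : m * (1 + p * t') = m * (s + p * t) := by
    calc m * (1 + p * t') = 1 * m + p * m * t' := by ring
      _ = s * m + p * m * t := ht
      _ = m * (s + p * t) := by ring
  have h2 := Nat.eq_of_mul_eq_mul_left hmpos h1
  have h3 : s + p * t ≡ 1 + p * t' [MOD p] := by rw [h2]
  have h4 : s + p * t ≡ s [MOD p] := by
    simpa using (Nat.ModEq.refl s).add (Nat.modEq_zero_iff_dvd.mpr (Dvd.intro t rfl) : p * t ≡ 0 [MOD p])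
  have h5 : 1 + p * t' ≡ 1 [MOD p] := by
    simpa using (Nat.ModEq.refl 1).add (Nat.modEq_zero_iff_dvd.mpr (Dvd.intro t' rfl) : p * t' ≡ 0 [MOD p])
  exact h4.symm.trans (h3.trans h5)

end Cfsg.Agent.S3975
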