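import Cfsg.Statements.S2880
import Cfsg.Agent.Lib.Helper48.Extra2

set_option autoImplicit false
open Cfsg

namespace Cfsg.Agent.S2880

/-- Let E be an extraspecial 2-group of order 2^(2m+1) of plus type, that is, containing an elementary abelian subgroup of order 2^(m+1) (equivalently, a central product of m dihedral groups of order 8). Then E has exactly 2^(2m) − 2^m elements of order 4. -/
theorem result {E : Type*} [Group E] [Finite E] (m : ℕ) (hm : 1 ≤ m) (hE : Cfsg.IsExtraspecial 2 E) (hcard : Nat.card E = 2 ^ (2 * m + 1)) (hplus : ∃ A : Subgroup E, Cfsg.IsElementaryAbelian 2 A ∧ Nat.card A = 2 ^ (m + 1)) : Nat.card {x : E // orderOf x = 4} = 2 ^ (2 * m) - 2 ^ m := by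
  classical
  have := Fintype.ofFinite E
  obtain ⟨A, ⟨hAc, hA2⟩, hAcard⟩ := hplus
  -- `A` is self-centralizing
  have hAle : A ≤ Subgroup.centralizer (A : Set E) := by
    intro a ha
    rw [Subgroup.mem_centralizer_iff]
    intro b hb
    exact congrArg Subtype.val (hAc.is_comm.comm (⟨b, hb⟩ : A) ⟨a, ha⟩)
  have hcc := Lib.Helper48.card_mul_card_centralizer hE A
  have hle2 : Nat.card (A ⊓ Subgroup.center E : Subgroup E) ≤ 2 := by
    rw [← hE.2]
    exact Subgroup.card_le_of_le inf_le_right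
  have hCle : Nat.card (Subgroup.centralizer (A : Set E)) ≤ Nat.card A := by
    rw [hAcard, hcard] at hcc
    rw [hAcard]
    have h1 : 2 ^ (m + 1) * Nat.card (Subgroup.centralizer (A : Set E)) ≤ 2 ^ (2 * m + 1) * 2 :=
      hcc.le.trans (Nat.mul_le_mul_left _ hle2)
    have h2 : 2 ^ (2 * m + 1) * 2 = 2 ^ (m + 1) * 2 ^ (m + 1) := by ring
    rw [h2] at h1
    exact Nat.le_of_mul_le_mul_left h1 (by positivity)
  have hCA : Subgroup.centralizer (A : Set E) = A :=
    (Subgroup.eq_of_le_of_card_ge hAle hCle).symm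
  have hsum := Lib.Helper48.sum_sgn_sq hE A hA2 hCA
  have h4 : ∀ x : E, x ^ 4 = 1 := by
    intro x
    have h1 := Lib.Helper29.center_sq_eq_one hE.2 (Lib.Helper48.sq_mem_center hE x)
    rw [← h1]
    group
  have hord : ∀ x : E, orderOf x = 4 ↔ x ^ 2 ≠ 1 := by
    intro x
    constructor
    · intro h h2
      have := orderOf_dvd_of_pow_eq_one h2
      rw [h] at this
      omega
    · intro h
      haveI : Fact (Nat.Prime 2) := ⟨Nat.prime_two⟩
      exact orderOf_eq_prime_pow (p := 2) (n := 1) (by simpa using h) (by simpa using h4 x)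
  have hN : Nat.card {x : E // orderOf x = 4} = Nat.card {x : E // x ^ 2 ≠ 1} :=
    Nat.card_congr (Equiv.subtypeEquivRight hord)
  rw [hN]
  have hs : ∀ x : E, Lib.Helper48.sgn (x ^ 2) = 1 - (if x ^ 2 ≠ 1 then (2 : ℤ) else 0) := by
    intro x
    by_cases h : x ^ 2 = 1
    · simp [h, Lib.Helper48.sgn_one]
    · rw [Lib.Helper48.sgn_of_ne h]; simp [h]
  simp only [hs] at hsum
  rw [Finset.sum_sub_distrib, Lib.Helper48.sum_ite_const, Finset.sum_const, Finset.card_univ,
    ← Nat.card_eq_fintype_card, hcard, hAcard] at hsum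
  have h5 : (Nat.card {x : E // x ^ 2 ≠ 1} : ℤ) + 2 ^ m = 2 ^ (2 * m) := by
    push_cast at hsum
    have e1 : (2 : ℤ) ^ (2 * m + 1) = 2 * 2 ^ (2 * m) := by ring
    have e2 : (2 : ℤ) ^ (m + 1) = 2 * 2 ^ m := by ring
    simp only [nsmul_eq_mul, mul_one] at hsum
    push_cast at hsum
    rw [e1, e2] at hsum
    linarith
  have h6 : Nat.card {x : E // x ^ 2 ≠ 1} + 2 ^ m = 2 ^ (2 * m) := by exact_mod_cast h5
  omega

end Cfsg.Agent.S2880
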