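import Cfsg.Statements.S0268
import Mathlib

set_option autoImplicit false
open Cfsg

namespace Cfsg.Agent.S0268

/-- For q odd, -1 is the unique involution of SL_2(q). -/
theorem result {F : Type*} [Field F] [Fintype F] (hF : Odd (Fintype.card F)) (g : Matrix.SpecialLinearGroup (Fin 2) F) (h1 : g ≠ 1) (h2 : g * g = 1) : (g : Matrix (Fin 2) (Fin 2) F) = -1 := by
  have h2ne : (2 : F) ≠ 0 := by
    intro h
    have : ringChar F = 2 := by
      have := ringChar.dvd (R := F) (x := 2) (by exact_mod_cast h)
      rcases (Nat.dvd_prime Nat.prime_two).1 this with h' | h'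
      · exact absurd h' (CharP.ringChar_ne_one)
      · exact h'
    have h3 := FiniteField.even_card_iff_char_two.1 this
    rcases hF with ⟨k, hk⟩
    omega
  have hinv : g = g⁻¹ := eq_inv_of_mul_eq_one_left h2
  have hm : (g : Matrix (Fin 2) (Fin 2) F) = !![g 1 1, -g 0 1; -g 1 0, g 0 0] := by
    conv_lhs => rw [hinv, Matrix.SpecialLinearGroup.SL2_inv_expl]
    rfl
  have h00 : g 0 0 = g 1 1 := by have := congrFun (congrFun hm 0) 0; simpa using this
  have h01 : g 0 1 = 0 := by
    have := congrFun (congrFun hm 0) 1
    simp at this
    have h' : (2 : F) * g 0 1 = 0 := by linear_combination this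
    exact (mul_eq_zero.1 h').resolve_left h2ne
  have h10 : g 1 0 = 0 := by
    have := congrFun (congrFun hm 1) 0
    simp at this
    have h' : (2 : F) * g 1 0 = 0 := by linear_combination this
    exact (mul_eq_zero.1 h').resolve_left h2ne
  have hdet : g 0 0 * g 1 1 - g 0 1 * g 1 0 = 1 := by
    have := g.det_coe
    rwa [Matrix.det_fin_two] at this
  rw [h01, ← h00] at hdet
  have hsq : (g 0 0 - 1) * (g 0 0 + 1) = 0 := by linear_combination hdet
  rcases mul_eq_zero.1 hsq with h | h
  · exfalso
    apply h1
    ext i j
    fin_cases i <;> fin_cases j <;> simp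
    · linear_combination h
    · exact h01
    · exact h10
    · linear_combination h - h00
  · ext i j
    fin_cases i <;> fin_cases j <;> simp
    · linear_combination h
    · exact h01
    · exact h10
    · linear_combination h - h00

end Cfsg.Agent.S0268
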