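import Cfsg.Statements.S0276
import Mathlib
import Cfsg.Agent.Lib.Helper5.SL2Sylow
import Cfsg.Agent.S0268

set_option autoImplicit false
open Cfsg

namespace Cfsg.Agent.S0276

/-- For q = 3 or 5 mod 8 the Sylow 2-subgroups of PSL_2(q) are elementary abelian of order 4. -/
theorem result {F : Type*} [Field F] [Fintype F] {q : ℕ} (hF : Fintype.card F = q) (hq : q % 8 = 3 ∨ q % 8 = 5) (P : Sylow 2 (Matrix.ProjectiveSpecialLinearGroup (Fin 2) F)) : IsKleinFour (P : Subgroup (Matrix.ProjectiveSpecialLinearGroup (Fin 2) F)) := by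
  subst hF
  set q := Fintype.card F with hqdef
  have hodd : Odd q := by
    rw [Nat.odd_iff]; omega
  -- arithmetic: q (q^2 - 1) = 8 * m with m odd
  obtain ⟨m, hm, hmodd⟩ : ∃ m, q * (q ^ 2 - 1) = 8 * m ∧ ¬ 2 ∣ m := by
    have h2 : q ^ 2 - 1 = (q - 1) * (q + 1) := by
      have := Nat.sq_sub_sq q 1
      rw [one_pow] at this
      rw [this, mul_comm]
    rcases hq with h | h
    · obtain ⟨t, ht⟩ : ∃ t, q = 8 * t + 3 := ⟨q / 8, by omega⟩
      refine ⟨q * ((4 * t + 1) * (2 * t + 1)), ?_, ?_⟩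
      · rw [h2]
        have h3 : q - 1 = 2 * (4 * t + 1) := by omega
        have h4 : q + 1 = 4 * (2 * t + 1) := by omega
        rw [h3, h4]; ring
      · intro hd
        rcases (Nat.prime_two.dvd_mul).1 hd with h5 | h5
        · omega
        · rcases (Nat.prime_two.dvd_mul).1 h5 with h6 | h6 <;> omega
    · obtain ⟨t, ht⟩ : ∃ t, q = 8 * t + 5 := ⟨q / 8, by omega⟩
      refine ⟨q * ((2 * t + 1) * (4 * t + 3)), ?_, ?_⟩
      · rw [h2]
        have h3 : q - 1 = 4 * (2 * t + 1) := by omega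
        have h4 : q + 1 = 2 * (4 * t + 3) := by omega
        rw [h3, h4]; ring
      · intro hd
        rcases (Nat.prime_two.dvd_mul).1 hd with h5 | h5
        · omega
        · rcases (Nat.prime_two.dvd_mul).1 h5 with h6 | h6 <;> omega
  have hm0 : m ≠ 0 := by
    rintro rfl
    exact hmodd (dvd_zero 2)
  have hSL : Nat.card (Matrix.SpecialLinearGroup (Fin 2) F) = 8 * m := by
    rw [Cfsg.Agent.Lib.Helper5.card_SL2, ← hm]
  have hPSL : Nat.card (Matrix.ProjectiveSpecialLinearGroup (Fin 2) F) = 4 * m := by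
    have h1 := Cfsg.Agent.Lib.Helper5.card_PSL2 (F := F)
    have h2 : Nat.gcd (q - 1) 2 = 2 := by
      apply Nat.gcd_eq_right
      omega
    rw [h2, hm] at h1
    omega
  have hcardP : Nat.card (P : Subgroup (Matrix.ProjectiveSpecialLinearGroup (Fin 2) F)) = 4 := by
    rw [P.card_eq_multiplicity, hPSL, Nat.factorization_mul (by norm_num) hm0]
    have h4 : (4 : ℕ).factorization 2 = 2 := by
      have : (4 : ℕ) = 2 ^ 2 := by norm_num
      rw [this, Nat.Prime.factorization_pow Nat.prime_two]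
      simp
    simp [h4, Nat.factorization_eq_zero_of_not_dvd hmodd]
  have hnt : Nontrivial (P : Subgroup (Matrix.ProjectiveSpecialLinearGroup (Fin 2) F)) := by
    rw [← Finite.one_lt_card_iff_nontrivial, hcardP]
    norm_num
  refine ⟨hcardP, ?_⟩
  rw [Monoid.exponent_eq_prime_iff Nat.prime_two]
  rintro ⟨x, hx⟩ hx1
  apply orderOf_eq_prime _ hx1
  apply Subtype.ext
  simp only [Subgroup.coe_pow, Subgroup.coe_one]
  have hx4 : x ^ 4 = 1 := by
    have h1 : (⟨x, hx⟩ : (P : Subgroup (Matrix.ProjectiveSpecialLinearGroup (Fin 2) F))) ^ 4 = 1 := by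
      rw [← hcardP]
      exact pow_card_eq_one'
    simpa using congrArg Subtype.val h1
  obtain ⟨g, rfl⟩ := QuotientGroup.mk_surjective x
  rw [← QuotientGroup.mk_pow, QuotientGroup.eq_one_iff] at hx4 ⊢
  -- `g ^ 8 = 1`
  have hg8 : g ^ 8 = 1 := by
    obtain ⟨r, hr, hrg⟩ := Matrix.SpecialLinearGroup.mem_center_iff.1 hx4
    rw [Fintype.card_fin] at hr
    have : g ^ 8 = (g ^ 4) ^ 2 := by rw [← pow_mul]
    rw [this]
    apply Subtype.ext
    rw [Matrix.SpecialLinearGroup.coe_pow, ← hrg, ← map_pow, hr]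
    simp
  have hg4 : g ^ 4 = 1 := by
    by_contra hne
    have hord : orderOf g = 2 ^ 3 := by
      apply orderOf_eq_prime_pow
      · simpa using hne
      · simpa using hg8
    have hcard : Nat.card (Subgroup.zpowers g) = 2 ^ 3 := by
      rw [Nat.card_zpowers, hord]
    have hp : IsPGroup 2 (Subgroup.zpowers g) := IsPGroup.of_card hcard
    have hidx : ¬ 2 ∣ (Subgroup.zpowers g).index := by
      have h1 := (Subgroup.zpowers g).card_mul_index
      rw [hcard, hSL] at h1
      have : (Subgroup.zpowers g).index = m := by omega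
      rwa [this]
    apply Cfsg.Agent.Lib.Helper5.sylow_two_SL2_not_isCyclic hodd (hp.toSylow hidx)
    change IsCyclic (Subgroup.zpowers g)
    infer_instance
  by_cases h1 : g ^ 2 = 1
  · rw [h1]; exact one_mem _
  · have h2 := Cfsg.Agent.S0268.result hodd (g ^ 2) h1 (by rw [← pow_add]; exact hg4)
    rw [Matrix.SpecialLinearGroup.mem_center_iff]
    refine ⟨-1, by simp, ?_⟩
    rw [h2]
    ext i j
    fin_cases i <;> fin_cases j <;> simp

end Cfsg.Agent.S0276
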