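import Cfsg.Statements.S0064
import Mathlib

set_option autoImplicit false
open Cfsg

namespace Cfsg.Agent.S0064

theorem subnormal_of_normalizerCondition {G : Type*} [Group G] [Finite G]
    (h : NormalizerCondition G) : ∀ (n : ℕ) (H : Subgroup G), H.index ≤ n → H.IsSubnormal := by
  intro n
  induction n with
  | zero =>
    intro H hH
    have : H.index ≠ 0 := Subgroup.index_ne_zero_of_finite
    omega
  | succ n ih =>
    intro H hH
    by_cases hT : H = ⊤
    · subst hT; exact Subgroup.IsSubnormal.top
    · have hlt : H < Subgroup.normalizer (H : Set G) := h H (lt_top_iff_ne_top.mpr hT)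
      have h1 : (Subgroup.normalizer (H : Set G)).index < H.index := by
        have hd : (Subgroup.normalizer (H : Set G)).index ∣ H.index := Subgroup.index_dvd_of_le hlt.le
        have hle := Nat.le_of_dvd (Nat.pos_of_ne_zero Subgroup.index_ne_zero_of_finite) hd
        rcases Nat.lt_or_ge (Subgroup.normalizer (H : Set G)).index H.index with h2 | h2
        · exact h2
        · exfalso
          have heq : (Subgroup.normalizer (H : Set G)).index = H.index := le_antisymm hle h2
          have := Subgroup.relIndex_mul_index hlt.le
          rw [heq] at this
          have h3 : H.relIndex (Subgroup.normalizer (H : Set G)) = 1 := by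
            have hpos : 0 < H.index := Nat.pos_of_ne_zero Subgroup.index_ne_zero_of_finite
            exact Nat.eq_of_mul_eq_mul_right hpos (by rw [this, one_mul])
          rw [Subgroup.relIndex_eq_one] at h3
          exact absurd h3 (not_le_of_gt hlt)
      exact Subgroup.IsSubnormal.step H _ hlt.le (ih _ (by omega)) Subgroup.normal_in_normalizer

/-- A finite group is nilpotent exactly when each of its subgroups is subnormal. -/
theorem result {G : Type*} [Group G] [Finite G] :
    Group.IsNilpotent G ↔ ∀ H : Subgroup G, H.IsSubnormal := by
  constructor
  · intro h H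
    exact subnormal_of_normalizerCondition (Group.normalizerCondition_of_isNilpotent) _ H le_rfl
  · intro h
    have q := (Group.isNilpotent_of_finite_tfae (G := G)).out 0 1
    rw [q]
    intro H hH
    rcases (Subgroup.IsSubnormal.iff_eq_top_or_exists.mp (h H)) with h1 | ⟨K, hK, -, hN⟩
    · exact absurd h1 hH.ne
    · exact lt_of_lt_of_le hK ((Subgroup.normal_subgroupOf_iff_le_normalizer hK.le).mp hN)

end Cfsg.Agent.S0064
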