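import Cfsg.Statements.S0080
import Cfsg.Agent.Lib.Helper2.TransferBasic

set_option autoImplicit false
open Cfsg

namespace Cfsg.Agent.S0080

open Cfsg.Agent.Lib.Helper2
open scoped IsMulCommutative

/-- When the index of H is prime to the order of H/H', the focal subgroup of H is G' ∩ H, and H/(G' ∩ H) has a normal complement. -/
theorem result {G : Type*} [Group G] [Finite G] (H : Subgroup G) (h : Nat.Coprime H.index (⁅H, H⁆.relIndex H)) : Subgroup.focalSubgroup H = commutator G ⊓ H ∧ ∃ N : Subgroup G, N.Normal ∧ N ⊓ H = commutator G ⊓ H ∧ N ⊔ H = ⊤ := by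
  have hcop : Nat.Coprime (Nat.card (H ⧸ H.focalSubgroupOf)) H.index := by
    rw [← Subgroup.index_eq_card]
    have h1 : H.focalSubgroupOf.index ∣ (commutator H).index :=
      Subgroup.index_dvd_of_le H.commutator_le_focalSubgroupOf
    have h2 : (commutator H).index = ⁅H, H⁆.relIndex H := by
      rw [Subgroup.relIndex, ← Subgroup.map_subtype_commutator, Subgroup.subgroupOf,
        Subgroup.comap_map_eq_self_of_injective H.subtype_injective]
    rw [h2] at h1
    exact (Nat.Coprime.coprime_dvd_right h1 h).symm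
  have hker : H.transferFocal.ker ⊓ H = H.focalSubgroup := by
    ext x
    constructor
    · rintro ⟨hx1, hx2⟩
      have h1 : H.transferFocal x = 1 := hx1
      have h2 := H.transferFocal_eq_pow ⟨x, hx2⟩
      rw [h1] at h2
      have h3 : ((⟨x, hx2⟩ : H) : H ⧸ H.focalSubgroupOf) ^ Nat.card (H ⧸ H.focalSubgroupOf) = 1 :=
        pow_card_eq_one'
      have h4 := eq_one_of_pow_eq_one_of_coprime h3 h2.symm hcop
      rw [QuotientGroup.eq_one_iff, Subgroup.focalSubgroupOf_def, Subgroup.mem_subgroupOf] at h4
      exact h4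
    · intro hx
      have hx2 : x ∈ H := H.focalSubgroup_le hx
      refine Subgroup.mem_inf.mpr ⟨?_, hx2⟩
      rw [MonoidHom.mem_ker]
      have h2 := H.transferFocal_eq_pow ⟨x, hx2⟩
      have h3 : ((⟨x, hx2⟩ : H) : H ⧸ H.focalSubgroupOf) = 1 := by
        rw [QuotientGroup.eq_one_iff, Subgroup.focalSubgroupOf_def, Subgroup.mem_subgroupOf]
        exact hx
      rw [h3, one_pow] at h2
      exact h2
  have hfoc : Subgroup.focalSubgroup H = commutator G ⊓ H := by
    apply le_antisymm
    · exact le_inf H.focalSubgroup_le_commutator H.focalSubgroup_le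
    · rw [← hker]
      exact inf_le_inf_right _ (Abelianization.commutator_subset_ker H.transferFocal)
  refine ⟨hfoc, H.transferFocal.ker, inferInstance, by rw [hker, hfoc], ?_⟩
  rw [eq_top_iff]
  intro g _
  obtain ⟨q, hq⟩ := (powCoprime hcop).surjective (H.transferFocal g)
  obtain ⟨x, rfl⟩ := QuotientGroup.mk_surjective q
  have h1 : H.transferFocal x = H.transferFocal g := by
    rw [H.transferFocal_eq_pow x]
    exact hq
  have h2 : g * (x : G)⁻¹ ∈ H.transferFocal.ker := by
    rw [MonoidHom.mem_ker, map_mul, map_inv, h1, mul_inv_cancel]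
  have h3 : g = g * (x : G)⁻¹ * x := by group
  rw [h3]
  exact Subgroup.mul_mem _ (Subgroup.mem_sup_left h2) (Subgroup.mem_sup_right x.2)

end Cfsg.Agent.S0080
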