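import Cfsg.Statements.S0108
import Cfsg.Agent.Lib.Helper1.ZJEFunctor
import Cfsg.Agent.Lib.Helper51.ZJDTransport
import Cfsg.Agent.Lib.Helper48.FF1
import Cfsg.Agent.Lib.Helper48.PG
import Cfsg.Agent.Lib.Helper48.JC4
import Cfsg.Agent.Lib.Helper1.Hall
import Cfsg.Agent.Lib.Helper2.SylowRel

set_option autoImplicit false
open Cfsg

namespace Cfsg.Agent.S0108

open Subgroup Cfsg.Agent.Lib Cfsg.Agent.Lib.Lead
open scoped commutatorElement

universe u

/-- `J(T) ≤ C ≤ T` implies `J(C) = J(T)`. -/
theorem thompson_eq_of_le {G : Type*} [Group G] [Finite G] (p : ℕ) {C T : Subgroup G}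
    (h1 : thompsonSubgroupOf p T ≤ C) (h2 : C ≤ T) :
    thompsonSubgroupOf p C = thompsonSubgroupOf p T := by
  rw [Helper51.thompsonSubgroupOf_eq] at h1
  rw [Helper51.thompsonSubgroupOf_eq, Helper51.thompsonSubgroupOf_eq]
  congr 1
  ext A
  constructor
  · rintro ⟨hA1, hA2, hA3⟩
    refine ⟨hA1.trans h2, hA2, fun B hB hB' => ?_⟩
    obtain ⟨A0, hA0⟩ := Helper11.exists_isMaxIn (fun A : Subgroup G => IsElementaryAbelian p A)
      Helper10.isEA_bot T
    have hle : A0 ≤ sSup {A | Helper11.IsMaxIn (fun A : Subgroup G => IsElementaryAbelian p A) T A} :=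
      le_sSup hA0
    exact (hA0.2.2 B hB hB').trans (hA3 A0 (hle.trans h1) hA0.2.1)
  · intro hA
    have hle : A ≤ sSup {A | Helper11.IsMaxIn (fun A : Subgroup G => IsElementaryAbelian p A) T A} :=
      le_sSup hA
    exact ⟨hle.trans h1, hA.2.1, fun B hB hB' => hA.2.2 B (hB.trans h2) hB'⟩

theorem isCharPFunctor_J {p : ℕ} [Fact p.Prime] : IsCharPFunctor.{u} p (thompsonSubgroup p) := by
  refine ⟨fun Q _ _ hQ _ => ?_, fun Q R _ _ _ _ φ => ?_⟩
  · intro h
    have h1 := Helper1.ZJE.zjE_ne_bot (p := p) Q hQ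
    apply h1
    rw [eq_bot_iff, ← h]
    exact inf_le_left
  · apply le_antisymm (Helper1.ZJE.thompsonSubgroup_map_le φ)
    intro y hy
    exact ⟨φ.symm y, Helper1.ZJE.thompsonSubgroup_map_le φ.symm
      (Subgroup.mem_map_of_mem φ.symm.toMonoidHom hy), by simp⟩

theorem isCharPFunctor_Z {p : ℕ} [Fact p.Prime] :
    IsCharPFunctor.{u} p (fun (Q : Type u) [Group Q] => Subgroup.center Q) := by
  refine ⟨fun Q _ _ hQ _ => ?_, fun Q R _ _ _ _ φ => ?_⟩
  · exact (hQ.bot_lt_center).ne'
  · ext y
    constructor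
    · rintro ⟨x, hx, rfl⟩
      have hx : x ∈ Subgroup.center Q := hx
      show φ x ∈ Subgroup.center R
      rw [Subgroup.mem_center_iff] at hx ⊢
      intro r
      obtain ⟨q, rfl⟩ := φ.surjective r
      show φ q * φ x = φ x * φ q
      rw [← map_mul, ← map_mul, hx q]
    · intro hy
      have hy : y ∈ Subgroup.center R := hy
      refine ⟨φ.symm y, ?_, by simp⟩
      show φ.symm y ∈ Subgroup.center Q
      rw [Subgroup.mem_center_iff] at hy ⊢
      intro q
      apply φ.injective
      rw [map_mul, map_mul, MulEquiv.apply_symm_apply, hy]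

theorem inducedFunctor_Z {G : Type u} [Group G] (P : Subgroup G) :
    inducedFunctor (fun (Q : Type u) [Group Q] => Subgroup.center Q) P =
      P ⊓ centralizer (P : Set G) := by
  unfold inducedFunctor
  ext x
  constructor
  · rintro ⟨y, hy, rfl⟩
    have hy : y ∈ Subgroup.center P := hy
    refine Subgroup.mem_inf.mpr ⟨y.2, ?_⟩
    rw [mem_centralizer_iff]
    intro t ht
    exact congrArg Subtype.val (Subgroup.mem_center_iff.mp hy ⟨t, ht⟩)
  · intro hx
    obtain ⟨hx1, hx2⟩ := Subgroup.mem_inf.mp hx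
    refine ⟨⟨x, hx1⟩, ?_, rfl⟩
    show (⟨x, hx1⟩ : P) ∈ Subgroup.center P
    rw [Subgroup.mem_center_iff]
    intro t
    exact Subtype.ext ((mem_centralizer_iff.mp hx2) t t.2)

/-- elements of order dividing `p` in `Z(T)` lie in `Z(J(T))`. -/
theorem omega_center_le_zj {G : Type*} [Group G] [Finite G] (p : ℕ) (T : Subgroup G) {w : G}
    (hwT : w ∈ T) (hwc : ∀ t ∈ T, t * w = w * t) (hwp : w ^ p = 1) : w ∈ centerThompsonOf p T := by
  have hJT : thompsonSubgroupOf p T ≤ T := Subgroup.map_subtype_le _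
  refine Subgroup.mem_inf.mpr ⟨?_, ?_⟩
  · rw [Helper51.thompsonSubgroupOf_eq]
    obtain ⟨A, hA⟩ := Helper11.exists_isMaxIn (fun A : Subgroup G => IsElementaryAbelian p A)
      Helper10.isEA_bot T
    have hle : A ≤ sSup {A | Helper11.IsMaxIn (fun A : Subgroup G => IsElementaryAbelian p A) T A} :=
      le_sSup hA
    apply hle
    have hsup : IsElementaryAbelian p (A ⊔ zpowers w) :=
      Helper10.IsEA.sup hA.2.1 (Helper10.isEA_zpowers hwp) (by
        intro a ha b hb
        obtain ⟨k, rfl⟩ := mem_zpowers_iff.mp hb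
        exact ((Commute.zpow_right (hwc a (hA.1 ha)) k : Commute a (w ^ k))).eq)
    have hc := hA.2.2 (A ⊔ zpowers w) (sup_le hA.1 (zpowers_le.mpr hwT)) hsup
    have heq : A = A ⊔ zpowers w := Subgroup.eq_of_le_of_card_ge le_sup_left hc
    rw [heq]
    exact mem_sup_right (mem_zpowers w)
  · rw [mem_centralizer_iff]
    intro t ht
    exact hwc t (hJT ht)

theorem relIndex_comap_mk' {Y : Type*} [Group Y] (N : Subgroup Y) [N.Normal] (H : Subgroup (Y ⧸ N)) :
    N.relIndex (H.comap (QuotientGroup.mk' N)) = Nat.card H := by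
  have h1 : N = (⊥ : Subgroup (Y ⧸ N)).comap (QuotientGroup.mk' N) := by
    rw [MonoidHom.comap_bot, QuotientGroup.ker_mk']
  calc N.relIndex (H.comap (QuotientGroup.mk' N))
      = ((⊥ : Subgroup (Y ⧸ N)).comap (QuotientGroup.mk' N)).relIndex
          (H.comap (QuotientGroup.mk' N)) :=
        congrArg (fun X : Subgroup Y => X.relIndex (H.comap (QuotientGroup.mk' N))) h1
    _ = Nat.card H := by
      rw [Subgroup.relIndex_comap,
        Subgroup.map_comap_eq_self_of_surjective (QuotientGroup.mk'_surjective _),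
        Subgroup.relIndex_bot_left]

theorem center_central {Y : Type u} [Group Y] [Finite Y] {p : ℕ} [Fact p.Prime] (T : Sylow p Y)
    (hT : FinalConfig p Y T)
    (hΩ : ∀ w ∈ (T : Subgroup Y), (∀ t ∈ (T : Subgroup Y), t * w = w * t) → w ^ p = 1 →
        ∀ y : Y, y * w = w * y) :
    ∀ z ∈ (T : Subgroup Y), (∀ t ∈ (T : Subgroup Y), t * z = z * t) → ∀ y : Y, y * z = z * y := by
  classical
  have hpp : p.Prime := Fact.out
  have hser := hT.pSeries
  obtain ⟨D, hD⟩ : ∃ D, D = pCore p Y := ⟨_, rfl⟩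
  have hDn : D.Normal := hD ▸ inferInstance
  have hDp : IsPGroup p D := hD ▸ pCore_isPGroup p Y
  have hDT : D ≤ T := hD ▸ pCore_le_sylow T
  have hDc : centralizer (D : Set Y) ≤ D := hD ▸ hT.1
  obtain ⟨K, hK, hKn, hDK, hcop⟩ : ∃ K : Subgroup Y, PSeries p D K ∧ K.Normal ∧ D ≤ K ∧
      (D.relIndex K).Coprime p := by
    subst hD
    refine ⟨_, hser, hser.nK, ?_, ?_⟩
    · conv_lhs => rw [← QuotientGroup.ker_mk' (pCore p Y)]
      exact MonoidHom.ker_le_comap _ _
    · rw [relIndex_comap_mk']
      exact card_pPrimeCore_coprime p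
  obtain ⟨a, ha⟩ := IsPGroup.iff_card.mp hDp
  obtain ⟨Q, hQK, hQc, hQD⟩ := Helper1.sz_exists_rel D K hDK
    (by rw [normalizer_eq_top_iff.mpr hDn]; exact le_top)
    (by rw [ha]; exact (Nat.Coprime.pow_right a hcop).symm)
  -- A = Z(D)
  obtain ⟨A, hA⟩ : ∃ A, A = D ⊓ centralizer (D : Set Y) := ⟨_, rfl⟩
  have hAn : A.Normal := by rw [hA]; infer_instance
  have hAD : A ≤ D := hA ▸ inf_le_left
  have hAcD : ∀ x ∈ A, ∀ d ∈ D, d * x = x * d := by
    intro x hx d hd
    rw [hA] at hx
    exact (mem_centralizer_iff.mp (Subgroup.mem_inf.mp hx).2) d hd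
  have hAc : IsMulCommutative A :=
    ⟨⟨fun x y => Subtype.ext (hAcD y.1 y.2 x.1 (hAD x.2))⟩⟩
  have hQA : Q ≤ normalizer (A : Set Y) := by
    rw [normalizer_eq_top_iff.mpr hAn]; exact le_top
  have hcopA : ∀ v ∈ A, v ^ Nat.card Q = 1 → v = 1 := by
    intro v hv h
    obtain ⟨k, hk⟩ := hDp ⟨v, hAD hv⟩
    have hk' : v ^ p ^ k = 1 := congrArg Subtype.val hk
    have h1 : orderOf v ∣ Nat.gcd (Nat.card Q) (p ^ k) :=
      Nat.dvd_gcd (orderOf_dvd_of_pow_eq_one h) (orderOf_dvd_of_pow_eq_one hk')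
    rw [hQc, Nat.Coprime.pow_right k hcop, Nat.dvd_one] at h1
    exact orderOf_eq_one_iff.mp h1
  have hbot := Helper48.commutator_inf_centralizer_eq_bot hAc hQA hcopA
  have hBle : ⁅A, K⁆ ≤ ⁅A, Q⁆ := by
    rw [commutator_le]
    intro x hx k hk
    rw [← hQD] at hk
    obtain ⟨q, hq, d, hd, rfl⟩ := Subgroup.mem_sup_of_normal_right.mp hk
    have h1 : ⁅x, q * d⁆ = ⁅x, q⁆ := by
      have h2 : d * x⁻¹ = x⁻¹ * d := hAcD x⁻¹ (inv_mem hx) d hd
      rw [commutatorElement_def, commutatorElement_def]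
      calc x * (q * d) * x⁻¹ * (q * d)⁻¹ = x * q * (d * x⁻¹) * d⁻¹ * q⁻¹ := by group
        _ = x * q * (x⁻¹ * d) * d⁻¹ * q⁻¹ := by rw [h2]
        _ = x * q * x⁻¹ * q⁻¹ := by group
    rw [h1]
    exact commutator_mem_commutator hx hq
  have hBn : (⁅A, K⁆).Normal := inferInstance
  have hBA : ⁅A, K⁆ ≤ A := Subgroup.commutator_le_left A K
  have hB : ⁅A, K⁆ = ⊥ := by
    by_contra hne
    obtain ⟨t, htB, hto, htc⟩ := Helper48.exists_central_orderOf_eq_of_normal T.2
      (hBA.trans (hAD.trans hDT))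
      (by rw [normalizer_eq_top_iff.mpr hBn]; exact le_top) hne
    have htT : t ∈ (T : Subgroup Y) := hDT (hAD (hBA htB))
    have hcen := hΩ t htT htc (by rw [← hto]; exact pow_orderOf_eq_one t)
    have h1 : t ∈ ⁅A, Q⁆ ⊓ centralizer (Q : Set Y) := by
      refine Subgroup.mem_inf.mpr ⟨hBle htB, ?_⟩
      rw [mem_centralizer_iff]
      intro q _
      exact hcen q
    rw [hbot, mem_bot] at h1
    rw [h1, orderOf_one] at hto
    exact hpp.one_lt.ne hto
  have hKA : ∀ x ∈ A, ∀ k ∈ K, k * x = x * k := by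
    intro x hx k hk
    have h1 : ⁅x, k⁆ ∈ ⁅A, K⁆ := commutator_mem_commutator hx hk
    rw [hB, mem_bot, commutatorElement_eq_one_iff_mul_comm] at h1
    exact h1.symm
  have hKT : ¬ K ≤ T := by
    intro hle
    have hY : IsPGroup p Y := by
      intro g
      obtain ⟨j, hj⟩ := hK.pQ g
      obtain ⟨i, hi⟩ := T.2 ⟨g ^ p ^ j, hle hj⟩
      refine ⟨j + i, ?_⟩
      have : (g ^ p ^ j) ^ p ^ i = 1 := congrArg Subtype.val hi
      rw [pow_add, pow_mul]; exact this
    have h1 : (⊤ : Subgroup Y) = T :=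
      T.3 (hY.to_subgroup ⊤) le_top
    exact hT.2.2.1 h1.symm
  have htop : K ⊔ T = ⊤ := by
    apply hT.2.2.2
    refine lt_of_le_of_ne le_sup_right ?_
    intro h
    exact hKT (le_sup_left.trans h.symm.le)
  intro z hzT hzc y
  have hzA : z ∈ A := by
    have h1 : z ∈ centralizer (D : Set Y) := by
      rw [mem_centralizer_iff]
      intro d hd
      exact hzc d (hDT hd)
    rw [hA]
    exact Subgroup.mem_inf.mpr ⟨hDc h1, h1⟩
  have hle : K ⊔ T ≤ centralizer ({z} : Set Y) := by
    apply sup_le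
    · intro k hk
      rw [mem_centralizer_singleton_iff]
      exact hKA z hzA k hk
    · intro t ht
      rw [mem_centralizer_singleton_iff]
      exact hzc t ht
  have : y ∈ centralizer ({z} : Set Y) := hle (htop ▸ mem_top y)
  exact mem_centralizer_singleton_iff.mp this

theorem final {Y : Type u} [Group Y] [Finite Y] {p : ℕ} [Fact p.Prime] (hp : p ≠ 2) (T : Sylow p Y)
    (hT : FinalConfig p Y T) :
    (thompsonSubgroupOf p (T : Subgroup Y)).Normal ∨
      ((T : Subgroup Y) ⊓ centralizer ((T : Subgroup Y) : Set Y)).Normal := by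
  classical
  have hpp : p.Prime := Fact.out
  have hZJ : (centerThompsonOf p (T : Subgroup Y)).Normal :=
    Helper1.ZJE.centerThompsonOf_normal hp hT.1 (fun V _ hV => hT.isPStableOn hp V hV) T
  have hCn : (centralizer (centerThompsonOf p (T : Subgroup Y) : Set Y)).Normal := inferInstance
  have hJC : thompsonSubgroupOf p (T : Subgroup Y) ≤
      centralizer (centerThompsonOf p (T : Subgroup Y) : Set Y) := by
    intro x hx
    rw [mem_centralizer_iff]
    intro z hz
    exact ((mem_centralizer_iff.mp (Subgroup.mem_inf.mp hz).2) x hx).symm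
  by_cases hCT : centralizer (centerThompsonOf p (T : Subgroup Y) : Set Y) ≤ T
  · left
    rw [← thompson_eq_of_le p hJC hCT]
    have h1 := Helper48.normalizer_le_normalizer_thompsonSubgroupOf p
      (centralizer (centerThompsonOf p (T : Subgroup Y) : Set Y))
    rw [normalizer_eq_top_iff.mpr hCn, top_le_iff] at h1
    exact normalizer_eq_top_iff.mp h1
  · right
    have htop : centralizer (centerThompsonOf p (T : Subgroup Y) : Set Y) ⊔ T = ⊤ := by
      apply hT.2.2.2
      refine lt_of_le_of_ne le_sup_right ?_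
      intro h
      exact hCT (le_sup_left.trans h.symm.le)
    -- elements of order p in Z(T) are central
    have hΩ : ∀ w ∈ (T : Subgroup Y), (∀ t ∈ (T : Subgroup Y), t * w = w * t) → w ^ p = 1 →
        ∀ y : Y, y * w = w * y := by
      intro w hwT hwc hwp
      have hw := omega_center_le_zj p (T : Subgroup Y) hwT hwc hwp
      have hle : centralizer (centerThompsonOf p (T : Subgroup Y) : Set Y) ⊔ T ≤
          centralizer ({w} : Set Y) := by
        apply sup_le
        · intro c hc
          rw [mem_centralizer_singleton_iff]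
          exact ((mem_centralizer_iff.mp hc) w hw).symm
        · intro t ht
          rw [mem_centralizer_singleton_iff]
          exact hwc t ht
      intro y
      have : y ∈ centralizer ({w} : Set Y) := hle (htop ▸ mem_top y)
      exact mem_centralizer_singleton_iff.mp this
    have hcen := center_central T hT hΩ
    constructor
    intro z hz y
    obtain ⟨hz1, hz2⟩ := Subgroup.mem_inf.mp hz
    have h1 := hcen z hz1 (fun t ht => (mem_centralizer_iff.mp hz2) t ht) y
    rw [h1, mul_inv_cancel_right]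
    exact hz

theorem normalizer_sylow_le {G : Type*} [Group G] [Finite G] {p : ℕ} [Fact p.Prime] (P : Sylow p G)
    (hJ : HasNormalPComplement p (normalizer (thompsonSubgroupOf p (P : Subgroup G) : Set G))) :
    normalizer ((P : Subgroup G) : Set G) ≤
      centralizer (((P : Subgroup G) ⊓ centralizer ((P : Subgroup G) : Set G) : Subgroup G) : Set G) := by
  have hX : HasNormalPComplement p ↥(normalizer ((P : Subgroup G) : Set G)) :=
    HasNormalPComplement.of_le
      (Helper48.normalizer_le_normalizer_thompsonSubgroupOf p (P : Subgroup G)) hJ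
  obtain ⟨P', N, hN, hc⟩ := hX
  have hP0n : ((P : Subgroup G).subgroupOf (normalizer ((P : Subgroup G) : Set G))).Normal :=
    Subgroup.normal_in_normalizer
  have hP0p : IsPGroup p ((P : Subgroup G).subgroupOf (normalizer ((P : Subgroup G) : Set G))) :=
    P.2.comap_of_injective _ (Subgroup.subtype_injective _)
  have hP0 : (P : Subgroup G).subgroupOf (normalizer ((P : Subgroup G) : Set G)) ≤ P' :=
    hP0p.le_sylow_of_normal P'
  have hdis : Disjoint N ((P : Subgroup G).subgroupOf (normalizer ((P : Subgroup G) : Set G))) :=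
    hc.disjoint.mono_right hP0
  have hP' : ∀ s ∈ P', (s : G) ∈ (P : Subgroup G) := by
    intro s hs
    have h1 := (P'.2.map (normalizer ((P : Subgroup G) : Set G)).subtype).inf_normalizer_sylow P
    have h2 : (s : G) ∈ (P' : Subgroup _).map (normalizer ((P : Subgroup G) : Set G)).subtype ⊓
        normalizer ((P : Subgroup G) : Set G) :=
      Subgroup.mem_inf.mpr ⟨⟨s, hs, rfl⟩, s.2⟩
    have h3 : (s : G) ∈ (P' : Subgroup _).map (normalizer ((P : Subgroup G) : Set G)).subtype ⊓
        (P : Subgroup G) := h1 ▸ h2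
    exact (Subgroup.mem_inf.mp h3).2
  intro x hx
  rw [mem_centralizer_iff]
  intro z hz
  obtain ⟨hz1, hz2⟩ := Subgroup.mem_inf.mp hz
  have hxtop : (⟨x, hx⟩ : normalizer ((P : Subgroup G) : Set G)) ∈ N ⊔ (P' : Subgroup _) := by
    rw [hc.sup_eq_top]; exact mem_top _
  obtain ⟨n, hn, s, hs, hns⟩ := Subgroup.mem_sup_of_normal_left.mp hxtop
  have hcomm := Subgroup.commute_of_normal_of_disjoint N _ hN hP0n hdis n
    ⟨z, le_normalizer hz1⟩ hn (by rw [mem_subgroupOf]; exact hz1)
  have hcomm' : (n : G) * z = z * n := congrArg Subtype.val hcomm.eq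
  have hs' : (s : G) * z = z * s := (mem_centralizer_iff.mp hz2) s (hP' s hs)
  have hx' : x = (n : G) * s := (congrArg Subtype.val hns).symm
  rw [hx']
  calc z * ((n : G) * s) = ((n : G) * z) * s := by rw [hcomm', mul_assoc]
    _ = (n : G) * (z * s) := by rw [mul_assoc]
    _ = (n : G) * s * z := by rw [← hs', mul_assoc]

theorem normalizer_center_le {G : Type*} [Group G] [Finite G] {p : ℕ} [Fact p.Prime] (P : Sylow p G)
    (hJ : HasNormalPComplement p (normalizer (thompsonSubgroupOf p (P : Subgroup G) : Set G))) :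
    normalizer (((P : Subgroup G) ⊓ centralizer ((P : Subgroup G) : Set G) : Subgroup G) : Set G) ≤
      centralizer (((P : Subgroup G) ⊓ centralizer ((P : Subgroup G) : Set G) : Subgroup G) : Set G) := by
  have hNP := normalizer_sylow_le P hJ
  obtain ⟨Z, hZ⟩ : ∃ Z, Z = (P : Subgroup G) ⊓ centralizer ((P : Subgroup G) : Set G) := ⟨_, rfl⟩
  rw [← hZ] at hNP ⊢
  have hPC : (P : Subgroup G) ≤ centralizer (Z : Set G) := by
    intro x hx
    rw [mem_centralizer_iff]
    intro z hz
    rw [hZ] at hz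
    exact ((mem_centralizer_iff.mp (Subgroup.mem_inf.mp hz).2) x hx).symm
  intro g hg
  -- the conjugate of P by g lies in C(Z)
  have hPg : (P : Subgroup G).map (MulAut.conj g).toMonoidHom ≤ centralizer (Z : Set G) := by
    rintro _ ⟨x, hx, rfl⟩
    rw [mem_centralizer_iff]
    intro z hz
    have hz' : g⁻¹ * z * g ∈ Z := by
      have := (mem_normalizer_iff.mp (inv_mem hg) z).mp hz
      simpa using this
    have h1 := (mem_centralizer_iff.mp (hPC hx)) _ hz'
    show z * (g * x * g⁻¹) = g * x * g⁻¹ * z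
    calc z * (g * x * g⁻¹) = g * ((g⁻¹ * z * g) * x) * g⁻¹ := by group
      _ = g * (x * (g⁻¹ * z * g)) * g⁻¹ := by rw [h1]
      _ = g * x * g⁻¹ * z := by group
  have hrel : ¬ p ∣ (P : Subgroup G).relIndex (centralizer (Z : Set G)) := by
    intro h
    apply P.not_dvd_index
    rw [← Subgroup.relIndex_mul_index hPC]
    exact Dvd.dvd.mul_right h _
  obtain ⟨c, hc, hcP⟩ := Helper2.exists_conj_le_of_relIndex (centralizer (Z : Set G))
    ((P : Subgroup G).map (MulAut.conj g).toMonoidHom) (P : Subgroup G)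
    (P.2.map _) hPg P.2 hrel
  have hn : c * g ∈ normalizer ((P : Subgroup G) : Set G) := by
    have hle : (P : Subgroup G).map (MulAut.conj (c * g)).toMonoidHom ≤ P := by
      rintro _ ⟨x, hx, rfl⟩
      have := hcP (g * x * g⁻¹) ⟨x, hx, rfl⟩
      show c * g * x * (c * g)⁻¹ ∈ (P : Subgroup G)
      have e : c * g * x * (c * g)⁻¹ = c * (g * x * g⁻¹) * c⁻¹ := by group
      rw [e]; exact this
    have heq : (P : Subgroup G).map (MulAut.conj (c * g)).toMonoidHom = P :=
      Subgroup.eq_of_le_of_card_ge hle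
        (by rw [Subgroup.card_map_of_injective (MulAut.conj (c * g)).injective])
    rw [Subgroup.mem_normalizer_iff_map_conj_eq]
    exact heq
  have h2 := mul_mem (inv_mem hc) (hNP hn)
  have e : c⁻¹ * (c * g) = g := by group
  rwa [e] at h2

/-- the two functors -/
def W (p : ℕ) : Bool → ∀ (Q : Type u) [Group Q], Subgroup Q
  | true => fun Q _ => thompsonSubgroup p Q
  | false => fun Q _ => Subgroup.center Q

theorem result {G : Type*} [Group G] [Finite G] {p : ℕ} [Fact p.Prime] (hp : p ≠ 2) (P : Sylow p G) : Cfsg.HasNormalPComplement p G ↔ (Cfsg.HasNormalPComplement p (Subgroup.normalizer (Cfsg.thompsonSubgroupOf p (P : Subgroup G) : Set G)) ∧ Cfsg.HasNormalPComplement p (Subgroup.centralizer (((P : Subgroup G) ⊓ Subgroup.centralizer (P : Set G)) : Set G))) := by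
  constructor
  · intro h
    exact ⟨HasNormalPComplement.of_injective h (Subgroup.subtype _) (Subgroup.subtype_injective _),
      HasNormalPComplement.of_injective h (Subgroup.subtype _) (Subgroup.subtype_injective _)⟩
  · rintro ⟨hJ, hC⟩
    refine hasNormalPComplement_of_functors (ι := Bool) (W p) ?_ G ?_ P ?_
    · intro i
      cases i
      · exact isCharPFunctor_Z
      · exact isCharPFunctor_J
    · intro Y _ _ _ T hT
      rcases final hp T hT with h | h
      · exact ⟨true, h⟩
      · refine ⟨false, ?_⟩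
        show (inducedFunctor (fun (Q : Type _) [Group Q] => Subgroup.center Q) (T : Subgroup Y)).Normal
        rw [inducedFunctor_Z]
        exact h
    · intro i
      cases i
      · show HasNormalPComplement p (Subgroup.normalizer
          (inducedFunctor (fun (Q : Type _) [Group Q] => Subgroup.center Q) (P : Subgroup G) : Set G))
        rw [inducedFunctor_Z]
        exact HasNormalPComplement.of_le (normalizer_center_le P hJ) hC
      · exact hJ

end Cfsg.Agent.S0108
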