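import Cfsg.Statements.S0109
import Cfsg.Agent.Lib.Helper11.Solv
import Cfsg.Agent.S0624
import Cfsg.Agent.S0626
import Cfsg.Agent.S0625

set_option autoImplicit false
open Cfsg

namespace Cfsg.Agent.S0109

open Subgroup Cfsg.Agent.Lib.Helper11 Cfsg.Agent.Lib.Lead Cfsg.Agent.S0624
open scoped commutatorElement

universe u

theorem core {G : Type u} [Group G] [Finite G] {p : ℕ} [Fact p.Prime] (hst : IsActionPStable p G)
    (hc : centralizer (pCore p G : Set G) ≤ pCore p G) (P : Sylow p G) (g : G) :
    ∃ a ∈ Subgroup.normalizer (Cfsg.thompsonSubgroupOf p (P : Subgroup G) : Set G),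
      ∃ c ∈ Subgroup.centralizer {x : G | x ∈ (P : Subgroup G) ∧ (∀ y ∈ (P : Subgroup G), x * y = y * x) ∧ x ^ p = 1},
        g = a * c := by
  set s : Set G := {x : G | x ∈ (P : Subgroup G) ∧ (∀ y ∈ (P : Subgroup G), x * y = y * x) ∧ x ^ p = 1} with hs
  set U := closure s with hU
  set V := normalClosure (U : Set G) with hV
  have hQP : pCore p G ≤ P := pCore_le_sylow P
  have hQn : (pCore p G).Normal := inferInstance
  have hsQ : ∀ x ∈ s, x ∈ pCore p G := by
    intro x hx
    apply hc
    rw [mem_centralizer_iff]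
    intro y hy
    exact (hx.2.1 y (hQP hy)).symm
  have hUQ : U ≤ pCore p G := by
    rw [hU, closure_le]; exact hsQ
  have hVcl : V = closure {y : G | ∃ g : G, ∃ x ∈ s, y = g * x * g⁻¹} := by
    apply le_antisymm
    · have hn : (closure {y : G | ∃ g : G, ∃ x ∈ s, y = g * x * g⁻¹}).Normal := by
        apply normalizer_eq_top_iff.1
        rw [eq_top_iff]
        intro h _
        apply mem_normalizer_closure_of_conj_mem
        rintro _ ⟨g, x, hx, rfl⟩
        exact Subgroup.subset_closure ⟨h * g, x, hx, by group⟩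
      apply normalClosure_le_normal
      rw [SetLike.coe_subset_coe, hU, closure_le]
      intro x hx
      exact Subgroup.subset_closure ⟨1, x, hx, by group⟩
    · rw [closure_le]
      rintro _ ⟨g, x, hx, rfl⟩
      exact normalClosure_normal.conj_mem x (le_normalClosure (Subgroup.subset_closure hx)) g
  have hVEA : IsElementaryAbelian p V := by
    rw [hVcl]
    apply isElementaryAbelian_closure
    · rintro _ ⟨g, x, hx, rfl⟩ _ ⟨h, y, hy, rfl⟩
      have h1 : (g⁻¹ * h) * y * (g⁻¹ * h)⁻¹ ∈ pCore p G := hQn.conj_mem y (hsQ y hy) _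
      have h2 := hx.2.1 _ (hQP h1)
      calc g * x * g⁻¹ * (h * y * h⁻¹) = g * (x * ((g⁻¹ * h) * y * (g⁻¹ * h)⁻¹)) * g⁻¹ := by group
        _ = g * (((g⁻¹ * h) * y * (g⁻¹ * h)⁻¹) * x) * g⁻¹ := by rw [h2]
        _ = h * y * h⁻¹ * (g * x * g⁻¹) := by group
    · rintro _ ⟨g, x, hx, rfl⟩
      rw [conj_pow, hx.2.2]; group
  have hVS : V ≤ P := (normalClosure_le_normal hUQ).trans hQP
  have hQ : ∀ y ∈ P, ⁅⁅U, zpowers y⁆, zpowers y⁆ = ⊥ → ⁅U, zpowers y⁆ = ⊥ := by
    intro y hy _
    rw [commutator_eq_bot_iff_le_centralizer, hU, closure_le]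
    intro x hx
    rw [SetLike.mem_coe, mem_centralizer_iff]
    intro z hz
    obtain ⟨k, rfl⟩ := mem_zpowers_iff.1 hz
    exact (hx.2.1 _ (zpow_mem hy k)).symm
  have hq := quadratic_core P U (hst.1 V hVEA) hQ
  have hJC : thompsonSubgroupOf p (P : Subgroup G) ≤ centralizer (V : Set G) := stepE P V hVS hVEA hq
  set C := centralizer (V : Set G) with hC
  have hJS : thompsonSubgroupOf p (P : Subgroup G) ≤ P := map_subtype_le _
  have hfr := normalizer_sylow_inf_sup_eq_top P C
  have hjm : joinMax (IsElementaryAbelian p) ((P : Subgroup G) ⊓ C) =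
      joinMax (IsElementaryAbelian p) (P : Subgroup G) := by
    apply joinMax_eq_of_le inf_le_left
    · rw [← thompsonSubgroupOf_eq_joinMax]
      exact le_inf hJS hJC
    · exact exists_isMaxIn _ (isElementaryAbelian_bot p) _
  have h1 : normalizer (((P : Subgroup G) ⊓ C : Subgroup G) : Set G) ≤
      normalizer (thompsonSubgroupOf p (P : Subgroup G) : Set G) := by
    rw [thompsonSubgroupOf_eq_joinMax, ← hjm]
    exact normalizer_le_normalizer_joinMax (ea_aut p) _
  have h2 : C ≤ centralizer s := by
    apply centralizer_le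
    intro x hx
    exact le_normalClosure (Subgroup.subset_closure hx)
  have hg : g ∈ normalizer (((P : Subgroup G) ⊓ C : Subgroup G) : Set G) ⊔ C := by
    rw [hfr]; exact mem_top g
  have hCn : C.Normal := inferInstance
  obtain ⟨a, ha, c, hcC, rfl⟩ := mem_sup_of_normal_right.1 hg
  exact ⟨a, h1 ha, c, h2 hcC, rfl⟩

/-- The Thompson factorization Theorem for solvable groups states that, with p odd (and abelian Sylow 2-subgroups when p = 3) and no nontrivial normal subgroup of order prime to p, every element of G is a product of an element normalizing J(P) and an element centralizing the elements of order dividing p in the centre of P. -/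
theorem result {G : Type*} [Group G] [Finite G] {p : ℕ} [Fact p.Prime] (hp : p ≠ 2) (hs : Group.IsSolvable G) (h3 : p = 3 → ∀ T : Sylow 2 G, IsMulCommutative T) (hF : ∀ N : Subgroup G, N.Normal → Nat.Coprime (Nat.card N) p → N = ⊥) (P : Sylow p G) (g : G) : ∃ a ∈ Subgroup.normalizer (Cfsg.thompsonSubgroupOf p (P : Subgroup G) : Set G), ∃ c ∈ Subgroup.centralizer {x : G | x ∈ (P : Subgroup G) ∧ (∀ y ∈ (P : Subgroup G), x * y = y * x) ∧ x ^ p = 1}, g = a * c := by
  have hcore : pPrimeCore p G = ⊥ := hF _ inferInstance (card_pPrimeCore_coprime p)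
  have hc := centralizer_pCore_le_of_isSolvable' p hcore
  have hst : IsActionPStable p G := by
    by_cases hp3 : p = 3
    · exact Cfsg.Agent.S0626.result hp (h3 hp3)
    · have hp5 : 5 ≤ p := by
        have hpr : p.Prime := Fact.out
        have h2 := hpr.two_le
        by_contra hlt
        have : p = 4 := by omega
        rw [this] at hpr
        exact absurd hpr (by norm_num)
      exact Cfsg.Agent.S0625.result hp5 (isPSolvable_of_isSolvable p hs)
  exact core hst hc P g

end Cfsg.Agent.S0109
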