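import Cfsg.Statements.S0117
import Mathlib
import Cfsg.Agent.Lib.Helper1.ZJEFunctor

set_option autoImplicit false
open Cfsg

namespace Cfsg.Agent.S0117


/-- The Glauberman–Thompson Theorem states that for odd p, a single p-local subgroup, the normalizer of the centre of the Thompson subgroup of a Sylow p-subgroup, decides whether G has a normal p-complement. -/
theorem result {G : Type*} [Group G] [Finite G] {p : ℕ} [Fact p.Prime] (hp : p ≠ 2) (P : Sylow p G) : Cfsg.HasNormalPComplement p G ↔ Cfsg.HasNormalPComplement p (Subgroup.normalizer (Cfsg.centerThompsonOf p (P : Subgroup G) : Set G)) := by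
  constructor
  · intro h
    exact Cfsg.Agent.Lib.Lead.HasNormalPComplement.of_injective h (Subgroup.subtype _) (Subgroup.subtype_injective _)
  · intro hN
    refine Cfsg.Agent.Lib.Lead.hasNormalPComplement_of_functors (ι := Unit)
      (fun _ => Cfsg.Agent.Lib.Helper1.ZJE.zjE p)
      (fun _ => Cfsg.Agent.Lib.Helper1.ZJE.isCharPFunctor_zjE) G ?_ P
      (fun _ => by rw [Cfsg.Agent.Lib.Helper1.ZJE.inducedFunctor_zjE]; exact hN)
    intro Y _ _ _ T hT
    refine ⟨(), ?_⟩
    rw [Cfsg.Agent.Lib.Helper1.ZJE.inducedFunctor_zjE]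
    exact Cfsg.Agent.Lib.Helper1.ZJE.centerThompsonOf_normal hp hT.1
      (fun V _ hV => hT.isPStableOn hp V hV) T

end Cfsg.Agent.S0117
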