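import Cfsg.Statements.S0165
import Cfsg.Agent.Lib.Helper78.DefectZero

set_option autoImplicit false
open Cfsg

namespace Cfsg.Agent.S0165

/-- If p ^ n is the exact power of the prime p dividing the order of a finite group and p ^ n divides the degree of an irreducible complex representation, then its character vanishes at every element of order divisible by p. -/
theorem result {G : Type*} [Group G] [Finite G] {V : Type*} [AddCommGroup V] [Module ℂ V] [FiniteDimensional ℂ V] (ρ : Representation ℂ G V) [ρ.IsIrreducible] (p n : ℕ) (hp : p.Prime) (hn : p ^ n ∣ Nat.card G) (hn' : ¬ p ^ (n + 1) ∣ Nat.card G) (hdeg : p ^ n ∣ Module.finrank ℂ V) (x : G) (hx : p ∣ orderOf x) : ρ.character x = 0 := by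
  have := Fintype.ofFinite G
  obtain ⟨M, hM⟩ := Cfsg.Agent.Lib.Helper78.exists_isPModular p hp
  have hirr : Cfsg.IsIrrCharacter G ρ.character :=
    Cfsg.Agent.Lib.Helper74.isIrrCharacter_of_rep ρ inferInstance
  let χ : Cfsg.IrrCharacter G := ⟨ρ.character, hirr⟩
  have hdegC : (Cfsg.charDegree (χ : G → ℂ) : ℂ) = (Module.finrank ℂ V : ℂ) := by
    rw [← Cfsg.Agent.Lib.Helper78.irr_one_eq χ]
    exact Representation.char_one ρ
  have hdeg' : Cfsg.charDegree (χ : G → ℂ) = Module.finrank ℂ V := by exact_mod_cast hdegC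
  have h0 : ¬ p ∣ Nat.card G / Cfsg.charDegree (χ : G → ℂ) := by
    intro hdvd
    obtain ⟨k, hk⟩ := Cfsg.Agent.Lib.Helper78.irr_charDegree_dvd_card χ
    have hd := Cfsg.Agent.Lib.Helper78.irr_charDegree_pos χ
    rw [hk, Nat.mul_div_cancel_left _ hd] at hdvd
    obtain ⟨j, rfl⟩ := hdvd
    rw [hdeg'] at hk
    obtain ⟨i, hi⟩ := hdeg
    apply hn'
    exact ⟨i * j, by rw [hk, hi, pow_succ]; ring⟩
  exact Cfsg.Agent.Lib.Helper78.eq_zero_of_blockOf_eq_singleton hM χ
    (Cfsg.Agent.Lib.Helper78.blockOf_eq_singleton_of_defect_zero hM χ h0) x hx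

end Cfsg.Agent.S0165
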