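import Cfsg.Statements.S0198
import Cfsg.Agent.Lib.Helper26.Virtual
import Cfsg.Agent.Lib.Helper74.CharBasic

set_option autoImplicit false
open Cfsg

namespace Cfsg.Agent.S0198

open Cfsg.Agent.Lib.Helper3 Cfsg.Agent.Lib.Helper26

/-- A virtual character of norm two vanishing at the identity is a difference of two distinct
irreducible characters. -/
theorem gen_norm_two {G : Type*} [Group G] [Fintype G] {a : G → ℂ}
    (ha : IsGeneralizedCharacter G a) (h : classInner a a = 2) (h1 : a 1 = 0) :
    ∃ x y : G → ℂ, IsIrrCharacter G x ∧ IsIrrCharacter G y ∧ x ≠ y ∧ a = x - y := by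
  classical
  have hex : ∃ χ, IsIrrCharacter G χ ∧ classInner a χ ≠ 0 := by
    by_contra hcon
    push Not at hcon
    have := eq_zero_of_classInner_irr_eq_zero (gen_classFunction ha) hcon
    rw [this] at h
    simp at h
  obtain ⟨χ, hχ, hne⟩ := hex
  obtain ⟨m, hm⟩ := gen_inner_int ha (gen_of_irr hχ)
  have hm0 : m ≠ 0 := by
    rintro rfl
    exact hne (by simpa using hm)
  have hm' : classInner χ a = m := by rw [← gen_inner_comm ha (gen_of_irr hχ), hm]
  set b : G → ℂ := a - m • χ with hb
  have hbgen : IsGeneralizedCharacter G b := gen_sub ha (gen_zsmul (gen_of_irr hχ) m)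
  have hbb : classInner b b = ((2 - m ^ 2 : ℤ) : ℂ) := by
    rw [hb, classInner_sub_left, classInner_sub_right, classInner_sub_right,
      classInner_zsmul_left, classInner_zsmul_left, classInner_zsmul_right, classInner_zsmul_right,
      h, hm, hm', classInner_irr_self hχ]
    push_cast; ring
  have hbχ : classInner b χ = 0 := by
    rw [hb, classInner_sub_left, classInner_zsmul_left, hm, classInner_irr_self hχ]
    ring
  obtain ⟨n, hn⟩ := gen_norm_nat hbgen
  have hn' : (2 - m ^ 2 : ℤ) = n := by
    rw [hbb] at hn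
    exact_mod_cast hn
  have hmsq : m ^ 2 = 1 := by
    have h3 : 0 < m ^ 2 := by positivity
    have h4 : m ^ 2 ≤ 2 := by omega
    have h5 : m ^ 2 ≠ 2 := by
      intro h6
      have h7 : m < 2 := by nlinarith
      have h8 : -2 < m := by nlinarith
      interval_cases m <;> simp at h6
    omega
  have hb1 : classInner b b = 1 := by rw [hbb, hmsq]; norm_num
  have hab : a = m • χ + b := by rw [hb]; abel
  obtain ⟨d, hd0, hd⟩ := irr_degree hχ
  rcases gen_norm_one hbgen hb1 with hbi | hbi
  · -- b irreducible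
    obtain ⟨e, he0, he⟩ := irr_degree hbi
    rcases sq_eq_one_iff_of_side.1 hmsq with hm1 | hm1
    · exfalso
      have : a 1 = (d : ℂ) + e := by rw [hab, hm1]; simp [hd, he]
      rw [h1] at this
      have h9 : ((d + e : ℕ) : ℂ) = 0 := by push_cast; exact this.symm
      have := Nat.cast_eq_zero.1 h9
      omega
    · refine ⟨b, χ, hbi, hχ, ?_, ?_⟩
      · intro hbe
        rw [hbe, classInner_irr_self hχ] at hbχ
        exact one_ne_zero hbχ
      · rw [hab, hm1]; simp; abel
  · obtain ⟨e, he0, he⟩ := irr_degree hbi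
    have he' : b 1 = -(e : ℂ) := by
      have : (-b) 1 = - b 1 := rfl
      rw [this] at he
      rw [← he]; ring
    rcases sq_eq_one_iff_of_side.1 hmsq with hm1 | hm1
    · refine ⟨χ, -b, hχ, hbi, ?_, ?_⟩
      · intro hbe
        have : classInner (-b) χ = 0 := by rw [classInner_neg_left, hbχ, neg_zero]
        rw [← hbe, classInner_irr_self hχ] at this
        exact one_ne_zero this
      · rw [hab, hm1]; simp
    · exfalso
      have : a 1 = -((d : ℂ) + e) := by rw [hab, hm1]; simp [hd, he']; ring
      rw [h1] at this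
      have h9 : ((d + e : ℕ) : ℂ) = 0 := by
        push_cast
        have := this.symm
        rwa [neg_eq_zero] at this
      have := Nat.cast_eq_zero.1 h9
      omega

theorem inner_delta {G : Type*} [Group G] [Fintype G] [DecidableEq (G → ℂ)] {x y : G → ℂ}
    (hx : IsIrrCharacter G x) (hy : IsIrrCharacter G y) :
    classInner x y = if x = y then 1 else 0 := by
  split_ifs with h
  · rw [← h, classInner_irr_self hx]
  · exact classInner_irr_ne hx hy h

/-- assembling step -/
theorem assemble {G : Type*} [Group G] [Fintype G] (n : ℕ) (i₀ : Fin n) (τ : Fin n → (G → ℂ))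
    (h0 : τ i₀ = 0) (ε : ℂ) (hε : ε = 1 ∨ ε = -1) (c : G → ℂ) (d : Fin n → (G → ℂ))
    (hc : IsIrrCharacter G c) (hd : ∀ i, i ≠ i₀ → IsIrrCharacter G (d i))
    (hdc : ∀ i, i ≠ i₀ → d i ≠ c) (hdd : ∀ i j, i ≠ i₀ → j ≠ i₀ → i ≠ j → d i ≠ d j)
    (hτ : ∀ i, i ≠ i₀ → τ i = ε • (d i - c)) :
    ∃ ε : ℂ, (ε = 1 ∨ ε = -1) ∧ ∃ μ : Fin n → (G → ℂ), (∀ i, Cfsg.IsIrrCharacter G (μ i)) ∧
      Function.Injective μ ∧ ∀ i, τ i = ε • (μ i - μ i₀) := by
  classical
  refine ⟨ε, hε, fun i => if i = i₀ then c else d i, ?_, ?_, ?_⟩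
  · intro i
    by_cases hi : i = i₀
    · simpa [hi] using hc
    · simpa [hi] using hd i hi
  · intro i j hij
    by_cases hi : i = i₀ <;> by_cases hj : j = i₀
    · rw [hi, hj]
    · simp only [hi, hj, if_true, if_false] at hij
      exact absurd hij.symm (hdc j hj)
    · simp only [hi, hj, if_true, if_false] at hij
      exact absurd hij (hdc i hi)
    · simp only [hi, hj, if_false] at hij
      by_contra hne
      exact hdd i j hi hj hne hij
  · intro i
    by_cases hi : i = i₀
    · simp [hi, h0]
    · simp only [hi, if_true, if_false]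
      exact hτ i hi

/-- The isometry lemma behind exceptional characters. Let τ be a family of generalized characters of a finite group G indexed by Fin n, with τ i₀ = 0, every τ i vanishing at the identity, and inner products ⟨τ i, τ j⟩ = 2 if i = j and 1 otherwise for i, j ≠ i₀. Then there are a sign ε and pairwise distinct irreducible characters μ i with τ i = ε (μ i − μ i₀) for all i. -/
theorem result {G : Type*} [Group G] [Fintype G] (n : ℕ) (i₀ : Fin n) (τ : Fin n → (G → ℂ)) (h0 : τ i₀ = 0) (hgen : ∀ i, Cfsg.IsGeneralizedCharacter G (τ i)) (hone : ∀ i, τ i 1 = 0) (hgram : ∀ i j, i ≠ i₀ → j ≠ i₀ → Cfsg.classInner (τ i) (τ j) = if i = j then 2 else 1) : ∃ ε : ℂ, (ε = 1 ∨ ε = -1) ∧ ∃ μ : Fin n → (G → ℂ), (∀ i, Cfsg.IsIrrCharacter G (μ i)) ∧ Function.Injective μ ∧ ∀ i, τ i = ε • (μ i - μ i₀) := by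
  classical
  have hdec : ∀ i, ∃ x y : G → ℂ, i ≠ i₀ →
      (IsIrrCharacter G x ∧ IsIrrCharacter G y ∧ x ≠ y ∧ τ i = x - y) := by
    intro i
    by_cases hi : i = i₀
    · exact ⟨0, 0, fun h => absurd hi h⟩
    · obtain ⟨x, y, h⟩ := gen_norm_two (hgen i) (by rw [hgram i i hi hi, if_pos rfl]) (hone i)
      exact ⟨x, y, fun _ => h⟩
  choose a b hab using hdec
  have key : ∀ i j, i ≠ i₀ → j ≠ i₀ → i ≠ j →
      (a i = a j ∧ b i ≠ b j) ∨ (a i ≠ a j ∧ b i = b j) := by
    intro i j hi hj hij
    obtain ⟨ai, bi, abi, ti⟩ := hab i hi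
    obtain ⟨aj, bj, abj, tj⟩ := hab j hj
    have h := hgram i j hi hj
    rw [if_neg hij, ti, tj, classInner_sub_left, classInner_sub_right, classInner_sub_right,
      inner_delta ai aj, inner_delta ai bj, inner_delta bi aj, inner_delta bi bj] at h
    by_cases h1 : a i = a j <;> by_cases h2 : b i = b j
    · exfalso
      have h3 : a i ≠ b j := by rw [h1]; exact abj
      have h4 : b i ≠ a j := by rw [h2]; exact abj.symm
      simp only [h1, h2, if_true] at h
      rw [← h1, if_neg h3, ← h2, h1, if_neg h4] at h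
      norm_num at h
    · exact Or.inl ⟨h1, h2⟩
    · exact Or.inr ⟨h1, h2⟩
    · exfalso
      rw [if_neg h1, if_neg h2] at h
      split_ifs at h <;> norm_num at h
  by_cases hA : ∃ i j, i ≠ i₀ ∧ j ≠ i₀ ∧ a i ≠ a j
  · obtain ⟨i, j, hi, hj, hne⟩ := hA
    have hij : i ≠ j := fun h => hne (by rw [h])
    have hbij : b i = b j := by
      rcases key i j hi hj hij with h | h
      · exact absurd h.1 hne
      · exact h.2
    have hall : ∀ k, k ≠ i₀ → b k = b i := by
      intro k hk
      by_cases hki : k = i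
      · rw [hki]
      by_cases hkj : k = j
      · rw [hkj, hbij]
      rcases key k i hk hi hki with h | h
      · rcases key k j hk hj hkj with h' | h'
        · exact absurd (h.1.symm.trans h'.1) hne
        · rw [h'.2, hbij]
      · exact h.2
    refine assemble n i₀ τ h0 1 (Or.inl rfl) (b i) a (hab i hi).2.1 (fun k hk => (hab k hk).1)
      (fun k hk => by rw [← hall k hk]; exact (hab k hk).2.2.1) ?_ ?_
    · intro k l hk hl hkl
      rcases key k l hk hl hkl with h | h
      · exact absurd ((hall k hk).trans (hall l hl).symm) h.2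
      · exact h.1
    · intro k hk
      rw [one_smul, ← hall k hk]
      exact (hab k hk).2.2.2
  · push Not at hA
    by_cases hne : ∃ i, i ≠ i₀
    · obtain ⟨i, hi⟩ := hne
      refine assemble n i₀ τ h0 (-1) (Or.inr rfl) (a i) b (hab i hi).1 (fun k hk => (hab k hk).2.1)
        (fun k hk => by rw [← hA k i hk hi]; exact (hab k hk).2.2.1.symm) ?_ ?_
      · intro k l hk hl hkl
        rcases key k l hk hl hkl with h | h
        · exact h.2
        · exact absurd (hA k l hk hl) h.1
      · intro k hk
        rw [← hA k i hk hi, (hab k hk).2.2.2]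
        simp
    · push Not at hne
      exact assemble n i₀ τ h0 1 (Or.inl rfl) (fun _ => 1) a
        Cfsg.Agent.Lib.Helper74.isIrrCharacter_one
        (fun k hk => absurd (hne k) hk) (fun k hk => absurd (hne k) hk)
        (fun k _ hk => absurd (hne k) hk) (fun k hk => absurd (hne k) hk)

end Cfsg.Agent.S0198
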