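import Mathlib
import Cfsg.Agent.Lib.Helper4.SylowConj
import Cfsg.Agent.Lib.Helper1.Tools
import Cfsg.Agent.Lib.Helper24.Basic
import Cfsg.Statements.S0214

set_option autoImplicit false
open Cfsg

namespace Cfsg.Agent.S0214

open Pointwise in
theorem two_dvd_card {G : Type*} [Group G] [Finite G] {Y : Subgroup G} (hY : IsPGroup 2 Y)
    (hne : Y ≠ ⊥) : 2 ∣ Nat.card Y := by
  obtain ⟨k, hk⟩ := hY.exists_card_eq
  rcases k with _ | k
  · exfalso
    apply hne
    rw [pow_zero] at hk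
    exact Subgroup.card_eq_one.1 hk
  · rw [hk]; exact dvd_pow_self 2 (Nat.succ_ne_zero k)

open Pointwise in
theorem conj_smul_ne_bot {G : Type*} [Group G] {Y : Subgroup G} (h : G) (hne : Y ≠ ⊥) :
    MulAut.conj h • Y ≠ ⊥ := by
  intro hb
  apply hne
  rw [eq_bot_iff]
  intro y hy
  have := Lib.Helper1.conj_mem_conj_smul h hy
  rw [hb, Subgroup.mem_bot, conj_eq_one_iff] at this
  exact this

open Pointwise in
theorem backward {G : Type*} [Group G] [Finite G] (H : Subgroup G) (hH : H ≠ ⊤) (P : Sylow 2 ↥H)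
    (hP : (P : Subgroup ↥H) ≠ ⊥)
    (hyp : ∀ X : Subgroup ↥H, X ≤ (P : Subgroup ↥H) → X ≠ ⊥ →
      Subgroup.normalizer ((X.map H.subtype : Subgroup G) : Set G) ≤ H) :
    Cfsg.IsStronglyEmbedded H := by
  classical
  haveI : Fact (Nat.Prime 2) := ⟨Nat.prime_two⟩
  set P' : Subgroup G := (P : Subgroup H).map H.subtype with hP'
  have hP'H : P' ≤ H := Subgroup.map_subtype_le _
  have hP'2 : IsPGroup 2 P' := P.2.map _
  have hP'ne : P' ≠ ⊥ := by
    rw [hP', Ne, Subgroup.map_eq_bot_iff_of_injective _ H.subtype_injective]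
    exact hP
  have hyp' : ∀ X' : Subgroup G, X' ≤ P' → X' ≠ ⊥ →
      Subgroup.normalizer (X' : Set G) ≤ H := by
    intro X' hX' hne
    have h1 := hyp (X'.subgroupOf H) ?_ ?_
    · rw [Subgroup.map_subgroupOf_eq_of_le (hX'.trans hP'H)] at h1
      exact h1
    · intro x hx
      obtain ⟨y, hy, hyx⟩ := hX' (Subgroup.mem_subgroupOf.1 hx)
      have : y = x := Subtype.ext hyx
      rw [← this]; exact hy
    · rw [Ne, Subgroup.subgroupOf_eq_bot, disjoint_iff, inf_of_le_left (hX'.trans hP'H)]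
      exact hne
  have hconj : ∀ Y : Subgroup G, Y ≤ H → IsPGroup 2 Y → ∃ h ∈ H, MulAut.conj h • Y ≤ P' := by
    intro Y hY hY2
    obtain ⟨h, hh⟩ := Lib.Helper4.exists_conj_le_sylow P (hY2.comap_subtype (K := H))
    refine ⟨h, h.2, ?_⟩
    intro x hx
    rw [Lib.Helper1.mem_conj_smul_iff] at hx
    have := hh ⟨(h : G)⁻¹ * x * h, hY hx⟩ hx
    refine ⟨_, this, ?_⟩
    simp [mul_assoc]
  have step1 : ∀ Y : Subgroup G, Y ≤ H → IsPGroup 2 Y → Y ≠ ⊥ →
      Subgroup.normalizer (Y : Set G) ≤ H := by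
    intro Y hY hY2 hne
    obtain ⟨h, hh, hle⟩ := hconj Y hY hY2
    have h1 := hyp' (MulAut.conj h • Y) hle (conj_smul_ne_bot h hne)
    intro n hn
    have h2 : h * n * h⁻¹ ∈ Subgroup.normalizer ((MulAut.conj h • Y : Subgroup G) : Set G) := by
      rw [Lib.Helper1.mem_normalizer_iff_conj_smul] at hn ⊢
      rw [← Lib.Helper1.conj_mul_smul]
      have : h * n * h⁻¹ * h = h * n := by group
      rw [this, Lib.Helper1.conj_mul_smul, hn]
    have h3 := h1 h2
    have h4 : n = h⁻¹ * (h * n * h⁻¹) * h := by group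
    rw [h4]
    exact H.mul_mem (H.mul_mem (H.inv_mem hh) h3) hh
  have step2 : ∀ Y : Subgroup G, IsPGroup 2 Y → Y ⊓ H ≠ ⊥ → Y ≤ H := by
    intro Y hY2 hne
    by_contra hnle
    have hlt : Y ⊓ H < Y := lt_of_le_of_ne inf_le_left (fun h => hnle (h ▸ inf_le_right))
    obtain ⟨x, hxY, hxN, hxD⟩ := Lib.Helper24.exists_mem_normalizer_not_mem hY2.isNilpotent hlt
    have := step1 (Y ⊓ H) inf_le_right (hY2.to_le inf_le_left) hne hxN
    exact hxD ⟨hxY, this⟩
  refine ⟨hH, ?_, ?_⟩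
  · rw [even_iff_two_dvd]
    exact (two_dvd_card hP'2 hP'ne).trans (Subgroup.card_dvd_of_le hP'H)
  intro g hg
  by_contra hne
  rw [Nat.not_odd_iff_even] at hne
  obtain ⟨⟨s, hs⟩, hso⟩ := exists_prime_orderOf_dvd_card'
    (G := ↥(H ⊓ H.map (MulAut.conj g).toMonoidHom)) 2 (even_iff_two_dvd.1 hne)
  rw [← Subgroup.orderOf_coe] at hso
  simp only at hso
  obtain ⟨hs1, t, ht, hts⟩ := hs
  simp only [MulEquiv.coe_toMonoidHom, MulAut.conj_apply] at hts
  have hto : orderOf t = 2 := by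
    rw [← Lib.Helper4.orderOf_conj_eq g t, hts, hso]
  obtain ⟨h, hh, hle⟩ := hconj (Subgroup.zpowers t) (Subgroup.zpowers_le.2 ht)
    (IsPGroup.of_card (n := 1) (by rw [Nat.card_zpowers, hto, pow_one]))
  have h1 : h * t * h⁻¹ ∈ P' := hle (Lib.Helper1.conj_mem_conj_smul h (Subgroup.mem_zpowers t))
  set a := g * h⁻¹ with ha
  set Y := MulAut.conj a • P' with hY
  have hsY : s ∈ Y := by
    have h2 := Lib.Helper1.conj_mem_conj_smul a h1
    have h3 : a * (h * t * h⁻¹) * a⁻¹ = s := by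
      rw [← hts, ha]; group
    rwa [h3] at h2
  have hY2 : IsPGroup 2 Y := hP'2.map (MulAut.conj a).toMonoidHom
  have hYH : Y ≤ H := by
    apply step2 Y hY2
    intro hb
    have : s ∈ Y ⊓ H := ⟨hsY, hs1⟩
    rw [hb, Subgroup.mem_bot] at this
    exact Lib.Helper4.ne_one_of_orderOf_two hso this
  obtain ⟨k, hk, hkle⟩ := hconj Y hYH hY2
  have heq : MulAut.conj k • Y = P' :=
    Subgroup.eq_of_le_of_card_ge hkle (by rw [Lib.Helper1.card_conj_smul, Lib.Helper1.card_conj_smul])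
  have hN : k * a ∈ Subgroup.normalizer (P' : Set G) := by
    rw [Lib.Helper1.mem_normalizer_iff_conj_smul, Lib.Helper1.conj_mul_smul]; exact heq
  have h5 := hyp' P' le_rfl hP'ne hN
  apply hg
  have h6 : g = k⁻¹ * (k * a) * h := by rw [ha]; group
  rw [h6]
  exact H.mul_mem (H.mul_mem (H.inv_mem hk) h5) hh

/-- Let H be a proper subgroup of the finite group G and P a nontrivial Sylow 2-subgroup of H. Then H is strongly embedded in G if and only if N_G(X) ≤ H for every nontrivial subgroup X of P. -/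
theorem result {G : Type*} [Group G] [Finite G] (H : Subgroup G) (hH : H ≠ ⊤) (P : Sylow 2 ↥H) (hP : (P : Subgroup ↥H) ≠ ⊥) : Cfsg.IsStronglyEmbedded H ↔ (∀ X : Subgroup ↥H, X ≤ (P : Subgroup ↥H) → X ≠ ⊥ → Subgroup.normalizer ((X.map H.subtype : Subgroup G) : Set G) ≤ H) := by
  constructor
  · rintro ⟨_, _, h⟩ X hXP hX g hg
    by_contra hgH
    have hodd := h g hgH
    have hle : X.map H.subtype ≤ H ⊓ H.map (MulAut.conj g).toMonoidHom := by
      intro x hx
      refine ⟨Subgroup.map_subtype_le _ hx, ?_⟩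
      have h1 : g⁻¹ * x * g ∈ X.map H.subtype := (Subgroup.mem_normalizer_iff''.1 hg x).1 hx
      refine ⟨g⁻¹ * x * g, Subgroup.map_subtype_le _ h1, ?_⟩
      simp only [MulEquiv.coe_toMonoidHom, MulAut.conj_apply]
      group
    have h2 : IsPGroup 2 (X.map H.subtype) := (P.2.to_le hXP).map _
    have hne : X.map H.subtype ≠ ⊥ := by
      rw [Ne, Subgroup.map_eq_bot_iff_of_injective _ H.subtype_injective]
      exact hX
    have h3 := (two_dvd_card h2 hne).trans (Subgroup.card_dvd_of_le hle)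
    exact (Nat.not_even_iff_odd.2 hodd) (even_iff_two_dvd.2 h3)
  · exact backward H hH P hP

end Cfsg.Agent.S0214
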