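import Mathlib
import Cfsg.Agent.Lib.Helper4.Invol
import Cfsg.Statements.S0223

set_option autoImplicit false
open Cfsg

namespace Cfsg.Agent.S0223

/-- Let H be a proper subgroup of even order of the finite group G. Then H is strongly embedded if and only if (i) C_G(t) ≤ H for every involution t of H and (ii) H controls fusion of its involutions: involutions of H conjugate in G are conjugate in H. -/
theorem result {G : Type*} [Group G] [Finite G] (H : Subgroup G) (hH : H ≠ ⊤) (heven : Even (Nat.card H)) : Cfsg.IsStronglyEmbedded H ↔ ((∀ t ∈ H, orderOf t = 2 → Subgroup.centralizer ({t} : Set G) ≤ H) ∧ (∀ t ∈ H, ∀ s ∈ H, orderOf t = 2 → orderOf s = 2 → IsConj t s → ∃ h ∈ H, h * t * h⁻¹ = s)) := by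
  classical
  have hkey : ∀ (t g : G), t ∈ H → g * t * g⁻¹ ∈ H → orderOf t = 2 →
      Even (Nat.card ↥(H ⊓ H.map (MulAut.conj g).toMonoidHom)) := by
    intro t g ht hgt hto
    have hmem : g * t * g⁻¹ ∈ H ⊓ H.map (MulAut.conj g).toMonoidHom := by
      refine ⟨hgt, ⟨t, ht, ?_⟩⟩
      simp [MulAut.conj_apply]
    have := orderOf_dvd_natCard (⟨_, hmem⟩ : ↥(H ⊓ H.map (MulAut.conj g).toMonoidHom))
    rw [← Subgroup.orderOf_coe] at this
    simp only at this
    rw [Lib.Helper4.orderOf_conj_eq, hto] at this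
    exact even_iff_two_dvd.2 this
  constructor
  · rintro ⟨_, _, h⟩
    have hin : ∀ (t g : G), t ∈ H → g * t * g⁻¹ ∈ H → orderOf t = 2 → g ∈ H := by
      intro t g ht hgt hto
      by_contra hg
      exact (Nat.not_even_iff_odd.2 (h g hg)) (hkey t g ht hgt hto)
    constructor
    · intro t ht hto c hc
      rw [Lib.Helper4.mem_centralizer_singleton_iff_conj] at hc
      exact hin t c ht (by rw [hc]; exact ht) hto
    · intro t ht s hs hto hso hts
      obtain ⟨g, hg⟩ := isConj_iff.1 hts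
      exact ⟨g, hin t g ht (by rw [hg]; exact hs) hto, hg⟩
  · rintro ⟨hC, hF⟩
    refine ⟨hH, heven, ?_⟩
    intro g hg
    by_contra hne
    rw [Nat.not_odd_iff_even] at hne
    haveI : Fact (Nat.Prime 2) := ⟨Nat.prime_two⟩
    obtain ⟨⟨s, hs⟩, hso⟩ := exists_prime_orderOf_dvd_card' (G := ↥(H ⊓ H.map (MulAut.conj g).toMonoidHom)) 2 (even_iff_two_dvd.1 hne)
    rw [← Subgroup.orderOf_coe] at hso
    simp only at hso
    obtain ⟨hs1, t, ht, hts⟩ := hs
    simp only [MulEquiv.coe_toMonoidHom, MulAut.conj_apply] at hts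
    have hto : orderOf t = 2 := by
      rw [← Lib.Helper4.orderOf_conj_eq g t, hts, hso]
    obtain ⟨h, hh, hht⟩ := hF t ht s hs1 hto hso (isConj_iff.2 ⟨g, hts⟩)
    have hc : h⁻¹ * g ∈ Subgroup.centralizer ({t} : Set G) := by
      rw [Lib.Helper4.mem_centralizer_singleton_iff_conj]
      calc h⁻¹ * g * t * (h⁻¹ * g)⁻¹ = h⁻¹ * (g * t * g⁻¹) * h := by group
        _ = h⁻¹ * (h * t * h⁻¹) * h := by rw [hts, hht]
        _ = t := by group
    have := hC t ht hto hc
    apply hg
    have h2 := H.mul_mem hh this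
    simpa using h2

end Cfsg.Agent.S0223
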