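import Mathlib
import Cfsg.Agent.Lib.Helper4.Invol
import Cfsg.Statements.S0224

set_option autoImplicit false
open Cfsg

namespace Cfsg.Agent.S0224

/-- Let H be a proper subgroup of even order of the finite group G. Then H is strongly embedded if and only if each involution of H fixes exactly one point (namely the coset H) in the action of G on the cosets of H. -/
theorem result {G : Type*} [Group G] [Finite G] (H : Subgroup G) (hH : H ≠ ⊤) (heven : Even (Nat.card H)) : Cfsg.IsStronglyEmbedded H ↔ ∀ t ∈ H, orderOf t = 2 → Nat.card {c : G ⧸ H // t • c = c} = 1 := by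
  classical
  have hfix : ∀ (t g : G), t • ((g : G) : G ⧸ H) = ((g : G) : G ⧸ H) ↔ g⁻¹ * t * g ∈ H := by
    intro t g
    rw [MulAction.Quotient.smul_coe, eq_comm, QuotientGroup.eq, smul_eq_mul, mul_assoc]
  constructor
  · rintro ⟨_, _, h⟩ t ht hto
    rw [Nat.card_eq_one_iff_unique]
    refine ⟨⟨?_⟩, ⟨⟨((1 : G) : G ⧸ H), by rw [hfix]; simpa using ht⟩⟩⟩
    have hone : ∀ c : {c : G ⧸ H // t • c = c}, c.1 = ((1 : G) : G ⧸ H) := by
      rintro ⟨c, hc⟩
      induction c using QuotientGroup.induction_on with
      | H g =>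
        simp only
        rw [hfix] at hc
        by_contra hne
        have hg : g ∉ H := by
          intro hg
          apply hne
          rw [eq_comm, QuotientGroup.eq]; simpa using hg
        have hodd := h g hg
        have hmem : t ∈ H ⊓ H.map (MulAut.conj g).toMonoidHom := by
          refine ⟨ht, ⟨g⁻¹ * t * g, hc, ?_⟩⟩
          simp [MulAut.conj_apply]; group
        have := orderOf_dvd_natCard (⟨t, hmem⟩ : ↥(H ⊓ H.map (MulAut.conj g).toMonoidHom))
        rw [← Subgroup.orderOf_coe] at this
        simp only at this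
        rw [hto] at this
        exact (Nat.not_even_iff_odd.2 hodd) (even_iff_two_dvd.2 this)
    intro a b
    ext
    rw [hone a, hone b]
  · intro h
    refine ⟨hH, heven, ?_⟩
    intro g hg
    by_contra hne
    rw [Nat.not_odd_iff_even] at hne
    haveI : Fact (Nat.Prime 2) := ⟨Nat.prime_two⟩
    obtain ⟨⟨t, ht⟩, hto⟩ := exists_prime_orderOf_dvd_card' (G := ↥(H ⊓ H.map (MulAut.conj g).toMonoidHom)) 2 (even_iff_two_dvd.1 hne)
    rw [← Subgroup.orderOf_coe] at hto
    simp only at hto
    obtain ⟨ht1, s, hs, hst⟩ := ht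
    have h1 := h t ht1 hto
    rw [Nat.card_eq_one_iff_unique] at h1
    obtain ⟨⟨hss⟩, _⟩ := h1
    have := hss ⟨((1 : G) : G ⧸ H), by rw [hfix]; simpa using ht1⟩ ⟨((g : G) : G ⧸ H), by
      rw [hfix, ← hst]
      simp only [MulEquiv.coe_toMonoidHom, MulAut.conj_apply]
      have : g⁻¹ * (g * s * g⁻¹) * g = s := by group
      rw [this]; exact hs⟩
    rw [Subtype.mk.injEq, QuotientGroup.eq] at this
    apply hg
    simpa using this

end Cfsg.Agent.S0224
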