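import Cfsg.Statements.S0340
import Cfsg.Agent.Lib.Helper6.ZasAb
import Cfsg.Agent.Lib.Helper19.Sharp3
import Cfsg.Agent.Lib.Helper19.PGLGlue
import Cfsg.Agent.S0344
import Cfsg.Agent.S0347
import Cfsg.Agent.S0738

set_option autoImplicit false
open Cfsg

namespace Cfsg.Agent.S0340

/-- Classification of Zassenhaus groups, simple case, order-level form: a finite simple Zassenhaus group is
isomorphic to `PSL₂(F)` for some finite field `F` or is simple of Suzuki order. -/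
theorem result {G Ω : Type*} [Group G] [Finite G] [MulAction G Ω]
    [Finite Ω] (hZ : Cfsg.IsZassenhausGroup G Ω) [IsSimpleGroup G] :
    (∃ (F : Type) (_ : Field F) (_ : Fintype F), Nonempty (G ≃* Matrix.ProjectiveSpecialLinearGroup (Fin 2) F)) ∨ Cfsg.IsSuzuki G := by
  open MulAction Cfsg.Agent.Lib.Helper19 Cfsg.Agent.Lib.Helper6 Cfsg.Agent.Lib.Helper6.Zas in
  classical
  have : Fintype Ω := Fintype.ofFinite Ω
  have hb := base_of_zassenhaus hZ
  obtain ⟨g₀, -, a, b, hab, -, -⟩ := hZ.2.2.2.1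
  rcases Nat.even_or_odd (Nat.card ↥(stabilizer G a ⊓ stabilizer G b)) with heven | hodd
  · obtain ⟨F, i1, i2, -, hiso⟩ := Cfsg.Agent.S0344.result hZ hab heven
    exact Or.inl ⟨F, i1, i2, hiso⟩
  obtain ⟨F, hFle, hFn, hFcard, hFfix⟩ := exists_kernel hZ hab
  have hreg := kernel_regular F hFle hFcard hFfix
  obtain ⟨h, hh⟩ : ∃ h, Fintype.card Ω = h + 1 :=
    ⟨Fintype.card Ω - 1, by have : 0 < Fintype.card Ω := Fintype.card_pos_iff.2 ⟨a⟩; omega⟩
  obtain ⟨e, he⟩ : ∃ e, Nat.card ↥(stabilizer G a ⊓ stabilizer G b : Subgroup G) = e := ⟨_, rfl⟩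
  rw [he] at hodd
  rcases feit_simple hZ hab h e hh he hodd F hFle hFcard hFfix with hle | ⟨h2, h3, -⟩
  swap
  · exact Or.inr (Cfsg.Agent.S0347.result hZ a F hFle hFn h2 h3 hreg)
  left
  obtain ⟨hFc, p, f, hp, -, hpf⟩ := Cfsg.Agent.S0738.result hZ hab (by rw [he, hh]; omega) F hFle
    hFn hreg
  have hFab : ∀ u ∈ F, ∀ v ∈ F, u * v = v * u := by
    intro u hu v hv
    exact congrArg Subtype.val (hFc.is_comm.comm ⟨u, hu⟩ ⟨v, hv⟩)
  have z := zdata_of_regular hb hab F hFle hFn hreg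
  have h3 : 2 < Fintype.card Ω := by
    obtain ⟨c, hca, hcb⟩ := exists_third hZ a b
    rw [Fintype.two_lt_card_iff]
    exact ⟨a, b, c, hab, hca.symm, hcb.symm⟩
  obtain ⟨k, hk⟩ : e ∣ h - 1 := he ▸ hb.card_stab2_dvd hab hh
  have he0 : 0 < e := he ▸ Nat.card_pos
  have hk0 : k ≠ 0 := by
    rintro rfl
    omega
  have hk2 : k ≤ 2 := by
    by_contra hcon
    have : e * 3 ≤ e * k := Nat.mul_le_mul_left e (by omega)
    omega
  have hk12 : k = 1 ∨ k = 2 := by omega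
  have : FaithfulSMul G Ω := hZ.1
  rcases hk12 with rfl | rfl
  · obtain ⟨s3, s3'⟩ := sharp3_of_card hb hab (by rw [he]; omega)
    have hpe : Even (p ^ f) := by
      obtain ⟨j, hj⟩ := hodd
      exact ⟨j + 1, by omega⟩
    have hf0 : f ≠ 0 := by
      rintro rfl
      simp at hpe
    have hp2 : p = 2 := by
      have : Even p := (Nat.even_pow.1 hpe).1
      exact (Nat.Prime.even_iff hp).1 this
    subst hp2
    obtain ⟨K, i1, i2, hK, ⟨e1⟩⟩ := Cfsg.Agent.Lib.Helper19.sharp3_pgl (G := G) (X := Ω) (f := f)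
      (by omega) (by rw [Nat.card_eq_fintype_card, hpf]) s3 s3'
    obtain ⟨e2⟩ := Cfsg.Agent.Lib.Helper19.nonempty_PGL_mulEquiv_PSL (F := K) (by rw [hK]; exact hpe)
    exact ⟨K, i1, i2, ⟨e1.trans e2⟩⟩
  obtain ⟨u, hua, hub⟩ := hb.two hab hab.symm
  obtain ⟨huu, hud⟩ := swap_inverts_of_simple hZ hab (he ▸ hodd) hab u hua hub
  have hu1 : u ≠ 1 := by
    rintro rfl
    rw [one_smul] at hua
    exact hab hua
  have hHc : ∀ c ∈ stabilizer G a ⊓ stabilizer G b, ∀ d ∈ stabilizer G a ⊓ stabilizer G b,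
      c * d = d * c := by
    intro x hx y hy
    have h1 := hud _ (Subgroup.mul_mem _ (Subgroup.inv_mem _ hy) (Subgroup.inv_mem _ hx))
    have h2 : u * (y⁻¹ * x⁻¹) * u⁻¹ = (u * y⁻¹ * u⁻¹) * (u * x⁻¹ * u⁻¹) := by group
    rw [h2, hud _ (Subgroup.inv_mem _ hy), hud _ (Subgroup.inv_mem _ hx)] at h1
    simpa using h1.symm
  obtain ⟨K, i1, i2, -, hK, hiso⟩ := PSL3.psl2_core3 (G := G) (X := Ω) F
    (stabilizer G a ⊓ stabilizer G b) u a b hab.symm hFab z.Kfix z.Ktrans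
    (fun t ht h => z.Kfree t ht b hab.symm h) hHc
    (fun d hd => hd.1) (fun d hd => hd.2)
    (fun d hd t ht => z.Knorm d hd.1 t ht)
    z.stab z.free (by rw [he]; omega) (he ▸ hodd)
    (hb.invol_fpf hab (he ▸ hodd) (by rw [hh]; obtain ⟨j, hj⟩ := hodd; exact ⟨2 * j + 2, by omega⟩)
      u hu1 huu)
    hua hub huu hud (fun y₁ y₂ h => hb.two hab h)
  exact ⟨K, i1, i2, hiso⟩

end Cfsg.Agent.S0340
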