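import Cfsg.Statements.S0341
import Cfsg.Agent.Lib.Helper6.ZasReg
import Cfsg.Agent.Lib.Helper12.SemiAff
import Cfsg.Agent.Lib.Helper12.RegNormal

set_option autoImplicit false
open Cfsg

namespace Cfsg.Agent.S0341

open Cfsg.Agent.Lib.Helper6.Zas Cfsg.Agent.Lib.Helper6.ZasReg Cfsg.Agent.Lib.Helper12.SemiAff Cfsg.Agent.Lib.Helper12.RegNormal

/-- If a finite group acts faithfully and doubly transitively, no non-identity element fixes three points, some
non-identity element fixes two points, and some normal subgroup acts regularly, then the number of points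
is `2^p` with `p` prime. -/
theorem result {G Ω : Type*} [Group G]
    [MulAction G Ω] [Fintype Ω] [FaithfulSMul G Ω] (h2 : MulAction.IsMultiplyPretransitive G Ω 2)
    (h3 : ∀ g : G, ∀ a b c : Ω, a ≠ b → b ≠ c → a ≠ c → g • a = a → g • b = b → g • c = c → g = 1)
    (hfix : ∃ g : G, g ≠ 1 ∧ ∃ a b : Ω, a ≠ b ∧ g • a = a ∧ g • b = b)
    (N : Subgroup G) [N.Normal] (hNt : MulAction.IsPretransitive N Ω)
    (hNr : ∀ a : Ω, MulAction.stabilizer N a = ⊥) :
    ∃ p : ℕ, p.Prime ∧ Fintype.card Ω = 2 ^ p := by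
  classical
  have hb : Base G Ω :=
    { faithful := fun g hg => by
        apply eq_of_smul_eq_smul (α := Ω)
        intro a
        rw [hg a, one_smul]
      two := MulAction.is_two_pretransitive_iff.1 h2
      three := h3 }
  have hfinG : Finite G := hb.finite
  obtain ⟨x, hx1, a, b, hab, hxa, hxb⟩ := hfix
  have hNn : N.Normal := inferInstance
  have hNtrans : ∀ y : Ω, ∃ n ∈ N, n • a = y := by
    intro y
    obtain ⟨n, hn⟩ := hNt.exists_smul_eq a y
    exact ⟨n, n.2, hn⟩
  have hNfree : ∀ n ∈ N, n • a = a → n = 1 := by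
    intro n hn hna
    have h1 : (⟨n, hn⟩ : N) ∈ MulAction.stabilizer N a := hna
    rw [hNr a, Subgroup.mem_bot] at h1
    exact congrArg Subtype.val h1
  obtain ⟨e, heN, hea⟩ := hNtrans b
  have he1 : e ≠ 1 := by
    rintro rfl
    rw [one_smul] at hea
    exact hab hea
  -- conjugation in terms of the action
  have hconj : ∀ g : G, g • a = a → ∀ n ∈ N, ∀ m ∈ N, g • n • a = m • a → g * n * g⁻¹ = m :=
    fun g hg n hn m hm h => conj_eq_of_smul_eq N hNr hn hm hg h
  have hxe : x * e * x⁻¹ = e := hconj x hxa e heN e heN (by rw [hea, hxb])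
  have hxe' : x * e = e * x := by
    have := congrArg (· * x) hxe
    simpa using this
  have hee : e * e = 1 := by
    have hfix3 : x • (e * e) • a = (e * e) • a := by
      rw [← mul_smul, ← mul_assoc, hxe', mul_assoc, hxe', ← mul_assoc, mul_smul, hxa]
    by_cases h1 : (e * e) • a = a
    · exact hNfree _ (N.mul_mem heN heN) h1
    · exfalso
      have h2' : (e * e) • a ≠ b := by
        intro h
        rw [mul_smul, hea, ← hea] at h
        have := MulAction.injective e h
        exact hab (hea ▸ this).symm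
      exact hx1 (h3 x a b ((e * e) • a) hab (Ne.symm h2') (Ne.symm h1) hxa hxb hfix3)
  have hsq : ∀ n ∈ N, n ^ 2 = 1 := by
    intro n hn
    by_cases hn1 : n = 1
    · rw [hn1, one_pow]
    · have hna : a ≠ n • a := fun h => hn1 (hNfree n hn h.symm)
      obtain ⟨g, hga, hgb⟩ := hb.two hab hna
      have h1 : g * e * g⁻¹ = n := hconj g hga e heN n hn (by rw [hea, hgb])
      rw [← h1, pow_two]
      calc g * e * g⁻¹ * (g * e * g⁻¹) = g * (e * e) * g⁻¹ := by group
        _ = 1 := by rw [hee]; group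
  have hNc : ∀ s ∈ N, ∀ t ∈ N, s * t = t * s := by
    have := comm_of_sq_eq_one N hsq
    intro s hs t ht
    exact congrArg Subtype.val (this.is_comm.comm ⟨s, hs⟩ ⟨t, ht⟩)
  obtain ⟨T, hTa, hTn, hTcard, hTfix, hTnil⟩ := exists_kernel' hb hab ⟨x, hx1, hxa, hxb⟩
  have hTreg := kernel_regular T hTa hTcard hTfix
  have hTreg' : ∀ n ∈ N, n ≠ 1 → ∃ t ∈ T, t * e * t⁻¹ = n := by
    intro n hn hn1
    have hna : n • a ≠ a := fun h => hn1 (hNfree n hn h)
    obtain ⟨t, ht, -⟩ := hTreg b (n • a) hab.symm hna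
    exact ⟨t, t.2, hconj t (hTa t.2) e heN n hn (by rw [hea]; exact ht)⟩
  have hTnorm : ∀ g : G, g • a = a → ∀ t ∈ T, g * t * g⁻¹ ∈ T := by
    intro g hg t ht
    exact hTn.conj_mem ⟨t, hTa ht⟩ ht ⟨g, hg⟩
  have hNbot : N ≠ ⊥ := by
    intro h
    rw [h, Subgroup.mem_bot] at heN
    exact he1 heN
  obtain ⟨k, hk⟩ := card_eq_two_pow N hNt hNr a hsq
  have hk0 : k ≠ 0 := by
    rintro rfl
    rw [pow_zero, Nat.card_eq_fintype_card] at hk
    have : 1 < Fintype.card Ω := Fintype.one_lt_card_iff.2 ⟨a, b, hab⟩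
    omega
  have hTodd : Odd (Nat.card T) := by
    rw [Nat.card_eq_fintype_card] at hk
    rw [hk] at hTcard
    obtain ⟨j, rfl⟩ := Nat.exists_eq_succ_of_ne_zero hk0
    rw [pow_succ] at hTcard
    exact ⟨2 ^ j - 1, by have : 0 < 2 ^ j := by positivity
                         omega⟩
  have hTfpf : ∀ t ∈ T, t ≠ 1 → ∀ n ∈ N, t * n * t⁻¹ = n → n = 1 := by
    intro t ht ht1 n hn htn
    apply hNfree n hn
    apply hTfix t ht ht1
    have h1 : t * n = n * t := by
      have := congrArg (· * t) htn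
      simpa using this
    rw [← mul_smul, h1, mul_smul, show t • a = a from hTa ht]
  have hTcyc : IsCyclic T := isCyclic_of_fpf N T hNbot hTfpf hTodd hTnil
  have hTc : ∀ s ∈ T, ∀ t ∈ T, s * t = t * s := by
    have : IsMulCommutative T := IsCyclic.isMulCommutative
    intro s hs t ht
    exact congrArg Subtype.val (this.is_comm.comm ⟨s, hs⟩ ⟨t, ht⟩)
  obtain ⟨F, iF, iFt, ε, hcardF, -, hsemi, -⟩ :=
    exists_semiaffine N T a hNn hNc hNtrans hNfree hTc hTnorm e heN he1 hTreg'
  -- an element of prime order in the two point stabiliser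
  have hox : orderOf x ≠ 1 := fun h => hx1 (orderOf_eq_one_iff.1 h)
  set s := (orderOf x).minFac with hs
  have hsp : s.Prime := Nat.minFac_prime hox
  set y := x ^ (orderOf x / s) with hy
  have hyo : orderOf y = s :=
    orderOf_pow_orderOf_div (orderOf_pos x).ne' (Nat.minFac_dvd _)
  have hy1 : y ≠ 1 := by
    intro h
    rw [h, orderOf_one] at hyo
    exact hsp.one_lt.ne hyo
  have hpowfix : ∀ (c : Ω) (m : ℕ), x • c = c → x ^ m • c = c := by
    intro c m hc
    induction m with
    | zero => simp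
    | succ m ih => rw [pow_succ, mul_smul, hc, ih]
  have hya : y • a = a := hpowfix a _ hxa
  have hyb : y • b = b := hpowfix b _ hxb
  obtain ⟨α, β, φ, hφ⟩ := hsemi y
  have hthree : ∀ c : Ω, y • c = c → c = a ∨ c = b := by
    intro c hc
    by_contra hcon
    push Not at hcon
    exact hy1 (h3 y a b c hab (Ne.symm hcon.2) (Ne.symm hcon.1) hya hyb hc)
  have hmove : ∃ c : Ω, y • c ≠ c := by
    by_contra hcon
    push Not at hcon
    exact hy1 (hb.faithful y hcon)
  refine ⟨s, hsp, ?_⟩
  rw [Fintype.card_congr ε]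
  exact card_of_semiaffine ε y s hsp hyo α β φ hφ a b hab hya hyb hthree hmove

end Cfsg.Agent.S0341
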