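import Cfsg.Statements.S0346
import Cfsg.Agent.Lib.Helper6.ZasFeit
import Cfsg.Agent.S0884
import Cfsg.Agent.S0738
import Cfsg.Agent.S0741

set_option autoImplicit false
open Cfsg

namespace Cfsg.Agent.S0346

/-- The number of points of a finite simple Zassenhaus group is `p^k + 1` for some prime power `p^k` (the regular normal
subgroup of a point stabiliser is a `p`-group). -/
theorem result {G Ω : Type*} [Group G] [Finite G] [MulAction G Ω] [Fintype Ω]
    (hZ : Cfsg.IsZassenhausGroup G Ω) [IsSimpleGroup G] :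
    IsPrimePow (Fintype.card Ω - 1) := by
  classical
  have hb := Cfsg.Agent.Lib.Helper6.Zas.base_of_zassenhaus hZ
  have : Fintype G := Fintype.ofFinite G
  obtain ⟨g, hg, a, b, hab, hga, hgb⟩ := hZ.2.2.2.1
  obtain ⟨H, hHa, hHn, hHcard, hHfix⟩ := Cfsg.Agent.Lib.Helper6.Zas.exists_kernel hZ hab
  have hreg := Cfsg.Agent.Lib.Helper6.Zas.kernel_regular H hHa hHcard hHfix
  obtain ⟨h, hh⟩ : ∃ h, Fintype.card Ω = h + 1 :=
    ⟨Fintype.card Ω - 1, by have : 0 < Fintype.card Ω := Fintype.card_pos_iff.2 ⟨a⟩; omega⟩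
  obtain ⟨e, he⟩ : ∃ e, Nat.card ↥(MulAction.stabilizer G a ⊓ MulAction.stabilizer G b : Subgroup G) = e :=
    ⟨_, rfl⟩
  have h3 : 2 < Fintype.card Ω := by
    obtain ⟨c, hca, hcb⟩ := Cfsg.Agent.Lib.Helper6.Zas.exists_third hZ a b
    rw [Fintype.two_lt_card_iff]
    exact ⟨a, b, c, hab, hca.symm, hcb.symm⟩
  by_cases hd : Fintype.card Ω - 2 ≤ 2 * e
  · obtain ⟨-, p, f, hp, -, hcard⟩ := Cfsg.Agent.S0738.result hZ hab (he ▸ hd) H hHa hHn hreg
    rw [hcard, Nat.add_sub_cancel]
    apply hp.isPrimePow.pow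
    rintro rfl
    rw [hcard, pow_zero] at h3
    omega
  have hodd : Odd e := by
    by_contra hne
    rw [Nat.not_odd_iff_even] at hne
    apply hd
    rw [← he]
    exact Cfsg.Agent.S0741.result hZ hab (he ▸ hne)
  have hlt : 2 * e < h - 1 := by omega
  have hs := Cfsg.Agent.Lib.Helper6.Zas.kernel_setup hb hab H hHa hHcard hHfix
  have hcl := Cfsg.Agent.S0884.result hZ hab h e hh he hodd hlt H hHa hHcard hHfix
  have he2 : 2 ≤ e := he ▸ Cfsg.Agent.Lib.Helper6.Zas.one_lt_card_stab2 hZ hab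
  have : Fintype (MulAction.stabilizer G a) := Fintype.ofFinite _
  have hcH : Nat.card H = h := by omega
  have hcA : Nat.card (MulAction.stabilizer G a) = h * e := by
    rw [← hb.card_stab1 hab he hh a, Nat.card_eq_fintype_card, Fintype.card_subtype]
    rfl
  have hcG : Nat.card G = (h + 1) * h * e := by
    rw [Nat.card_eq_fintype_card]; exact hb.card_group hab he hh
  have hcH' : Nat.card (H.subgroupOf (MulAction.stabilizer G a)) = h := by
    rw [Nat.card_congr (Subgroup.subgroupOfEquivOfLe hHa).toEquiv, hcH]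
  have hidx : (H.subgroupOf (MulAction.stabilizer G a)).index = e := by
    have h1 := (H.subgroupOf (MulAction.stabilizer G a)).card_mul_index
    rw [hcH', hcA] at h1
    exact Nat.eq_of_mul_eq_mul_left (by omega) h1
  have hset : Cfsg.inducedIrrAbove (H.subgroupOf (MulAction.stabilizer G a)) ⊥ =
      Cfsg.Agent.Lib.Helper6.TIFrob.rel (MulAction.stabilizer G a) H :=
    Cfsg.Agent.Lib.Helper6.FeitCoh.set_eq _ hs.cent'
  have hH1 : H.subgroupOf (MulAction.stabilizer G a) ≠ ⊥ := by
    intro hbot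
    rw [hbot, Subgroup.card_bot] at hcH'
    omega
  have hH2 : H.subgroupOf (MulAction.stabilizer G a) ≠ ⊤ := by
    intro htop
    rw [htop, Subgroup.index_top] at hidx
    omega
  rcases Cfsg.Agent.Lib.Helper6.FeitCoh.main (H.subgroupOf (MulAction.stabilizer G a)) hs.cent'
    (fun α : MulAction.stabilizer G a → ℂ => Cfsg.indFun (MulAction.stabilizer G a) α)
    (by rw [hset]; exact hs.isometry)
    (by rw [hset]; exact fun α hα => Cfsg.Agent.Lib.Helper6.TIFrob.ind_one hα)
    hH1 hH2 (by rw [hcH', hidx]; omega) with hcoh | ⟨p, hp, ⟨m, hm⟩, -, -⟩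
  · rw [hset] at hcoh
    exact (hs.final hcoh h e hcH hcA hcG hcl hlt he2).elim
  · rw [hcH'] at hm
    rw [hh, Nat.add_sub_cancel, hm]
    apply hp.isPrimePow.pow
    rintro rfl
    rw [pow_zero] at hm
    omega

end Cfsg.Agent.S0346
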