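import Mathlib
import Cfsg.Agent.Lib.Helper4.SmallSimple
import Cfsg.Statements.S0493

set_option autoImplicit false
open Cfsg

namespace Cfsg.Agent.S0493

theorem no56 {G : Type*} [Group G] [Finite G] [IsSimpleGroup G] (hn : Nat.card G = 56) : False := by
  haveI : Fact (Nat.Prime 7) := ⟨by norm_num⟩
  have hnp : ¬ IsPGroup 7 G := by
    intro h
    obtain ⟨k, hk⟩ := (IsPGroup.iff_card).1 h
    rw [hn] at hk
    have h2 : 2 ∣ 7 ^ k := by rw [← hk]; norm_num
    have := Nat.Prime.dvd_of_dvd_pow Nat.prime_two h2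
    omega
  obtain ⟨P⟩ : Nonempty (Sylow 7 G) := inferInstance
  obtain ⟨_, h1, h2, h3, _⟩ := Lib.Helper4.sylow_test 7 (by rw [hn]; norm_num) hnp P
  set N := Subgroup.normalizer ((P : Subgroup G) : Set G) with hN
  rw [hn] at h1
  have hidx : N.index = 8 := by
    have hle : N.index ≤ 56 := Nat.le_of_dvd (by norm_num) h1
    generalize N.index = d at *
    interval_cases d <;> simp_all
  have hNc := N.card_mul_index
  rw [hidx, hn] at hNc
  have hN7 : Nat.card N = 7 := by omega
  obtain ⟨k, hk⟩ := P.2.exists_card_eq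
  have hd7 : 7 ∣ Nat.card P := P.dvd_card_of_dvd_card (by rw [hn]; norm_num)
  have hdP : Nat.card P ∣ Nat.card G := Subgroup.card_subgroup_dvd_card _
  have hP7 : Nat.card P = 7 := by
    rw [hk] at hd7 hdP ⊢
    rw [hn] at hdP
    rcases k with _ | _ | k
    · simp at hd7
    · simp
    · exfalso
      have h49 : 49 ∣ 56 := by
        refine dvd_trans ?_ hdP
        exact ⟨7 ^ k, by ring⟩
      omega
  have hPN : (P : Subgroup G) = N := by
    apply Subgroup.eq_of_le_of_card_ge Subgroup.le_normalizer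
    rw [hN7]; exact hP7.ge
  haveI hcyc : IsCyclic (P : Subgroup G) := isCyclic_of_prime_card hP7
  have hle : N ≤ Subgroup.centralizer ((P : Subgroup G) : Set G) := by
    rw [← hPN]
    exact Subgroup.le_centralizer _
  have htop := Lib.Helper4.sylow_eq_top_of_normalizer_le_centralizer P (by rw [hn]; norm_num) hle
  have : Nat.card (P : Subgroup G) = 56 := by rw [htop, Subgroup.card_top, hn]
  have h' : Nat.card (P : Subgroup G) = 7 := hP7
  omega

/-- A finite simple group of order at most 100 that is not cyclic has order 60. -/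
theorem result {G : Type*} [Group G] [Finite G] [IsSimpleGroup G]
    (hG : ¬ IsCyclic G) (h : Nat.card G ≤ 100) : Nat.card G = 60 := by
  haveI : Nontrivial G := IsSimpleGroup.toNontrivial
  generalize hn : Nat.card G = n at h ⊢
  interval_cases n
  · exact absurd hn (Nat.card_pos).ne'
  · have := Finite.one_lt_card (α := G); omega
  · haveI : Fact (Nat.Prime 2) := ⟨by norm_num⟩; exact absurd (isCyclic_of_prime_card hn) hG
  · haveI : Fact (Nat.Prime 3) := ⟨by norm_num⟩; exact absurd (isCyclic_of_prime_card hn) hG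
  · haveI : Fact (Nat.Prime 2) := ⟨by norm_num⟩; exact absurd (Lib.Helper4.isCyclic_of_simple_pGroup (IsPGroup.of_card (p := 2) (n := 2) (by rw [hn]; norm_num))) hG
  · haveI : Fact (Nat.Prime 5) := ⟨by norm_num⟩; exact absurd (isCyclic_of_prime_card hn) hG
  · exact (Lib.Helper4.no_simple_of_two_mod_four (G := G) (by rw [hn]) (by rw [hn]; norm_num)).elim
  · haveI : Fact (Nat.Prime 7) := ⟨by norm_num⟩; exact absurd (isCyclic_of_prime_card hn) hG
  · haveI : Fact (Nat.Prime 2) := ⟨by norm_num⟩; exact absurd (Lib.Helper4.isCyclic_of_simple_pGroup (IsPGroup.of_card (p := 2) (n := 3) (by rw [hn]; norm_num))) hG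
  · haveI : Fact (Nat.Prime 3) := ⟨by norm_num⟩; exact absurd (Lib.Helper4.isCyclic_of_simple_pGroup (IsPGroup.of_card (p := 3) (n := 2) (by rw [hn]; norm_num))) hG
  · exact (Lib.Helper4.no_simple_of_two_mod_four (G := G) (by rw [hn]) (by rw [hn]; norm_num)).elim
  · haveI : Fact (Nat.Prime 11) := ⟨by norm_num⟩; exact absurd (isCyclic_of_prime_card hn) hG
  · haveI : Fact (Nat.Prime 2) := ⟨by norm_num⟩; exact (Lib.Helper4.no_simple_of_sylow_test (G := G) 12 2 3 hn (by norm_num) (by norm_num) (by norm_num) (by norm_num) (by decide)).elim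
  · haveI : Fact (Nat.Prime 13) := ⟨by norm_num⟩; exact absurd (isCyclic_of_prime_card hn) hG
  · exact (Lib.Helper4.no_simple_of_two_mod_four (G := G) (by rw [hn]) (by rw [hn]; norm_num)).elim
  · haveI : Fact (Nat.Prime 3) := ⟨by norm_num⟩; exact (Lib.Helper4.no_simple_of_sylow_test (G := G) 15 3 5 hn (by norm_num) (by norm_num) (by norm_num) (by norm_num) (by decide)).elim
  · haveI : Fact (Nat.Prime 2) := ⟨by norm_num⟩; exact absurd (Lib.Helper4.isCyclic_of_simple_pGroup (IsPGroup.of_card (p := 2) (n := 4) (by rw [hn]; norm_num))) hG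
  · haveI : Fact (Nat.Prime 17) := ⟨by norm_num⟩; exact absurd (isCyclic_of_prime_card hn) hG
  · exact (Lib.Helper4.no_simple_of_two_mod_four (G := G) (by rw [hn]) (by rw [hn]; norm_num)).elim
  · haveI : Fact (Nat.Prime 19) := ⟨by norm_num⟩; exact absurd (isCyclic_of_prime_card hn) hG
  · haveI : Fact (Nat.Prime 5) := ⟨by norm_num⟩; exact (Lib.Helper4.no_simple_of_sylow_test (G := G) 20 5 2 hn (by norm_num) (by norm_num) (by norm_num) (by norm_num) (by decide)).elim
  · haveI : Fact (Nat.Prime 7) := ⟨by norm_num⟩; exact (Lib.Helper4.no_simple_of_sylow_test (G := G) 21 7 3 hn (by norm_num) (by norm_num) (by norm_num) (by norm_num) (by decide)).elim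
  · exact (Lib.Helper4.no_simple_of_two_mod_four (G := G) (by rw [hn]) (by rw [hn]; norm_num)).elim
  · haveI : Fact (Nat.Prime 23) := ⟨by norm_num⟩; exact absurd (isCyclic_of_prime_card hn) hG
  · haveI : Fact (Nat.Prime 2) := ⟨by norm_num⟩; exact (Lib.Helper4.no_simple_of_sylow_test (G := G) 24 2 3 hn (by norm_num) (by norm_num) (by norm_num) (by norm_num) (by decide)).elim
  · haveI : Fact (Nat.Prime 5) := ⟨by norm_num⟩; exact absurd (Lib.Helper4.isCyclic_of_simple_pGroup (IsPGroup.of_card (p := 5) (n := 2) (by rw [hn]; norm_num))) hG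
  · exact (Lib.Helper4.no_simple_of_two_mod_four (G := G) (by rw [hn]) (by rw [hn]; norm_num)).elim
  · haveI : Fact (Nat.Prime 3) := ⟨by norm_num⟩; exact absurd (Lib.Helper4.isCyclic_of_simple_pGroup (IsPGroup.of_card (p := 3) (n := 3) (by rw [hn]; norm_num))) hG
  · haveI : Fact (Nat.Prime 7) := ⟨by norm_num⟩; exact (Lib.Helper4.no_simple_of_sylow_test (G := G) 28 7 2 hn (by norm_num) (by norm_num) (by norm_num) (by norm_num) (by decide)).elim
  · haveI : Fact (Nat.Prime 29) := ⟨by norm_num⟩; exact absurd (isCyclic_of_prime_card hn) hG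
  · exact (Lib.Helper4.no_simple_of_two_mod_four (G := G) (by rw [hn]) (by rw [hn]; norm_num)).elim
  · haveI : Fact (Nat.Prime 31) := ⟨by norm_num⟩; exact absurd (isCyclic_of_prime_card hn) hG
  · haveI : Fact (Nat.Prime 2) := ⟨by norm_num⟩; exact absurd (Lib.Helper4.isCyclic_of_simple_pGroup (IsPGroup.of_card (p := 2) (n := 5) (by rw [hn]; norm_num))) hG
  · haveI : Fact (Nat.Prime 3) := ⟨by norm_num⟩; exact (Lib.Helper4.no_simple_of_sylow_test (G := G) 33 3 11 hn (by norm_num) (by norm_num) (by norm_num) (by norm_num) (by decide)).elim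
  · exact (Lib.Helper4.no_simple_of_two_mod_four (G := G) (by rw [hn]) (by rw [hn]; norm_num)).elim
  · haveI : Fact (Nat.Prime 5) := ⟨by norm_num⟩; exact (Lib.Helper4.no_simple_of_sylow_test (G := G) 35 5 7 hn (by norm_num) (by norm_num) (by norm_num) (by norm_num) (by decide)).elim
  · haveI : Fact (Nat.Prime 3) := ⟨by norm_num⟩; exact (Lib.Helper4.no_simple_of_sylow_test (G := G) 36 3 2 hn (by norm_num) (by norm_num) (by norm_num) (by norm_num) (by decide)).elim
  · haveI : Fact (Nat.Prime 37) := ⟨by norm_num⟩; exact absurd (isCyclic_of_prime_card hn) hG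
  · exact (Lib.Helper4.no_simple_of_two_mod_four (G := G) (by rw [hn]) (by rw [hn]; norm_num)).elim
  · haveI : Fact (Nat.Prime 13) := ⟨by norm_num⟩; exact (Lib.Helper4.no_simple_of_sylow_test (G := G) 39 13 3 hn (by norm_num) (by norm_num) (by norm_num) (by norm_num) (by decide)).elim
  · haveI : Fact (Nat.Prime 5) := ⟨by norm_num⟩; exact (Lib.Helper4.no_simple_of_sylow_test (G := G) 40 5 2 hn (by norm_num) (by norm_num) (by norm_num) (by norm_num) (by decide)).elim
  · haveI : Fact (Nat.Prime 41) := ⟨by norm_num⟩; exact absurd (isCyclic_of_prime_card hn) hG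
  · exact (Lib.Helper4.no_simple_of_two_mod_four (G := G) (by rw [hn]) (by rw [hn]; norm_num)).elim
  · haveI : Fact (Nat.Prime 43) := ⟨by norm_num⟩; exact absurd (isCyclic_of_prime_card hn) hG
  · haveI : Fact (Nat.Prime 11) := ⟨by norm_num⟩; exact (Lib.Helper4.no_simple_of_sylow_test (G := G) 44 11 2 hn (by norm_num) (by norm_num) (by norm_num) (by norm_num) (by decide)).elim
  · haveI : Fact (Nat.Prime 3) := ⟨by norm_num⟩; exact (Lib.Helper4.no_simple_of_sylow_test (G := G) 45 3 5 hn (by norm_num) (by norm_num) (by norm_num) (by norm_num) (by decide)).elim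
  · exact (Lib.Helper4.no_simple_of_two_mod_four (G := G) (by rw [hn]) (by rw [hn]; norm_num)).elim
  · haveI : Fact (Nat.Prime 47) := ⟨by norm_num⟩; exact absurd (isCyclic_of_prime_card hn) hG
  · haveI : Fact (Nat.Prime 2) := ⟨by norm_num⟩; exact (Lib.Helper4.no_simple_of_sylow_test (G := G) 48 2 3 hn (by norm_num) (by norm_num) (by norm_num) (by norm_num) (by decide)).elim
  · haveI : Fact (Nat.Prime 7) := ⟨by norm_num⟩; exact absurd (Lib.Helper4.isCyclic_of_simple_pGroup (IsPGroup.of_card (p := 7) (n := 2) (by rw [hn]; norm_num))) hG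
  · exact (Lib.Helper4.no_simple_of_two_mod_four (G := G) (by rw [hn]) (by rw [hn]; norm_num)).elim
  · haveI : Fact (Nat.Prime 3) := ⟨by norm_num⟩; exact (Lib.Helper4.no_simple_of_sylow_test (G := G) 51 3 17 hn (by norm_num) (by norm_num) (by norm_num) (by norm_num) (by decide)).elim
  · haveI : Fact (Nat.Prime 13) := ⟨by norm_num⟩; exact (Lib.Helper4.no_simple_of_sylow_test (G := G) 52 13 2 hn (by norm_num) (by norm_num) (by norm_num) (by norm_num) (by decide)).elim
  · haveI : Fact (Nat.Prime 53) := ⟨by norm_num⟩; exact absurd (isCyclic_of_prime_card hn) hG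
  · exact (Lib.Helper4.no_simple_of_two_mod_four (G := G) (by rw [hn]) (by rw [hn]; norm_num)).elim
  · haveI : Fact (Nat.Prime 11) := ⟨by norm_num⟩; exact (Lib.Helper4.no_simple_of_sylow_test (G := G) 55 11 5 hn (by norm_num) (by norm_num) (by norm_num) (by norm_num) (by decide)).elim
  · exact (no56 hn).elim
  · haveI : Fact (Nat.Prime 19) := ⟨by norm_num⟩; exact (Lib.Helper4.no_simple_of_sylow_test (G := G) 57 19 3 hn (by norm_num) (by norm_num) (by norm_num) (by norm_num) (by decide)).elim
  · exact (Lib.Helper4.no_simple_of_two_mod_four (G := G) (by rw [hn]) (by rw [hn]; norm_num)).elim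
  · haveI : Fact (Nat.Prime 59) := ⟨by norm_num⟩; exact absurd (isCyclic_of_prime_card hn) hG
  · rfl
  · haveI : Fact (Nat.Prime 61) := ⟨by norm_num⟩; exact absurd (isCyclic_of_prime_card hn) hG
  · exact (Lib.Helper4.no_simple_of_two_mod_four (G := G) (by rw [hn]) (by rw [hn]; norm_num)).elim
  · haveI : Fact (Nat.Prime 7) := ⟨by norm_num⟩; exact (Lib.Helper4.no_simple_of_sylow_test (G := G) 63 7 3 hn (by norm_num) (by norm_num) (by norm_num) (by norm_num) (by decide)).elim
  · haveI : Fact (Nat.Prime 2) := ⟨by norm_num⟩; exact absurd (Lib.Helper4.isCyclic_of_simple_pGroup (IsPGroup.of_card (p := 2) (n := 6) (by rw [hn]; norm_num))) hG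
  · haveI : Fact (Nat.Prime 5) := ⟨by norm_num⟩; exact (Lib.Helper4.no_simple_of_sylow_test (G := G) 65 5 13 hn (by norm_num) (by norm_num) (by norm_num) (by norm_num) (by decide)).elim
  · exact (Lib.Helper4.no_simple_of_two_mod_four (G := G) (by rw [hn]) (by rw [hn]; norm_num)).elim
  · haveI : Fact (Nat.Prime 67) := ⟨by norm_num⟩; exact absurd (isCyclic_of_prime_card hn) hG
  · haveI : Fact (Nat.Prime 17) := ⟨by norm_num⟩; exact (Lib.Helper4.no_simple_of_sylow_test (G := G) 68 17 2 hn (by norm_num) (by norm_num) (by norm_num) (by norm_num) (by decide)).elim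
  · haveI : Fact (Nat.Prime 3) := ⟨by norm_num⟩; exact (Lib.Helper4.no_simple_of_sylow_test (G := G) 69 3 23 hn (by norm_num) (by norm_num) (by norm_num) (by norm_num) (by decide)).elim
  · exact (Lib.Helper4.no_simple_of_two_mod_four (G := G) (by rw [hn]) (by rw [hn]; norm_num)).elim
  · haveI : Fact (Nat.Prime 71) := ⟨by norm_num⟩; exact absurd (isCyclic_of_prime_card hn) hG
  · haveI : Fact (Nat.Prime 3) := ⟨by norm_num⟩; exact (Lib.Helper4.no_simple_of_sylow_test (G := G) 72 3 2 hn (by norm_num) (by norm_num) (by norm_num) (by norm_num) (by decide)).elim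
  · haveI : Fact (Nat.Prime 73) := ⟨by norm_num⟩; exact absurd (isCyclic_of_prime_card hn) hG
  · exact (Lib.Helper4.no_simple_of_two_mod_four (G := G) (by rw [hn]) (by rw [hn]; norm_num)).elim
  · haveI : Fact (Nat.Prime 5) := ⟨by norm_num⟩; exact (Lib.Helper4.no_simple_of_sylow_test (G := G) 75 5 3 hn (by norm_num) (by norm_num) (by norm_num) (by norm_num) (by decide)).elim
  · haveI : Fact (Nat.Prime 19) := ⟨by norm_num⟩; exact (Lib.Helper4.no_simple_of_sylow_test (G := G) 76 19 2 hn (by norm_num) (by norm_num) (by norm_num) (by norm_num) (by decide)).elim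
  · haveI : Fact (Nat.Prime 7) := ⟨by norm_num⟩; exact (Lib.Helper4.no_simple_of_sylow_test (G := G) 77 7 11 hn (by norm_num) (by norm_num) (by norm_num) (by norm_num) (by decide)).elim
  · exact (Lib.Helper4.no_simple_of_two_mod_four (G := G) (by rw [hn]) (by rw [hn]; norm_num)).elim
  · haveI : Fact (Nat.Prime 79) := ⟨by norm_num⟩; exact absurd (isCyclic_of_prime_card hn) hG
  · haveI : Fact (Nat.Prime 2) := ⟨by norm_num⟩; exact (Lib.Helper4.no_simple_of_sylow_test (G := G) 80 2 5 hn (by norm_num) (by norm_num) (by norm_num) (by norm_num) (by decide)).elim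
  · haveI : Fact (Nat.Prime 3) := ⟨by norm_num⟩; exact absurd (Lib.Helper4.isCyclic_of_simple_pGroup (IsPGroup.of_card (p := 3) (n := 4) (by rw [hn]; norm_num))) hG
  · exact (Lib.Helper4.no_simple_of_two_mod_four (G := G) (by rw [hn]) (by rw [hn]; norm_num)).elim
  · haveI : Fact (Nat.Prime 83) := ⟨by norm_num⟩; exact absurd (isCyclic_of_prime_card hn) hG
  · haveI : Fact (Nat.Prime 7) := ⟨by norm_num⟩; exact (Lib.Helper4.no_simple_of_sylow_test (G := G) 84 7 2 hn (by norm_num) (by norm_num) (by norm_num) (by norm_num) (by decide)).elim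
  · haveI : Fact (Nat.Prime 5) := ⟨by norm_num⟩; exact (Lib.Helper4.no_simple_of_sylow_test (G := G) 85 5 17 hn (by norm_num) (by norm_num) (by norm_num) (by norm_num) (by decide)).elim
  · exact (Lib.Helper4.no_simple_of_two_mod_four (G := G) (by rw [hn]) (by rw [hn]; norm_num)).elim
  · haveI : Fact (Nat.Prime 3) := ⟨by norm_num⟩; exact (Lib.Helper4.no_simple_of_sylow_test (G := G) 87 3 29 hn (by norm_num) (by norm_num) (by norm_num) (by norm_num) (by decide)).elim
  · haveI : Fact (Nat.Prime 11) := ⟨by norm_num⟩; exact (Lib.Helper4.no_simple_of_sylow_test (G := G) 88 11 2 hn (by norm_num) (by norm_num) (by norm_num) (by norm_num) (by decide)).elim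
  · haveI : Fact (Nat.Prime 89) := ⟨by norm_num⟩; exact absurd (isCyclic_of_prime_card hn) hG
  · exact (Lib.Helper4.no_simple_of_two_mod_four (G := G) (by rw [hn]) (by rw [hn]; norm_num)).elim
  · haveI : Fact (Nat.Prime 7) := ⟨by norm_num⟩; exact (Lib.Helper4.no_simple_of_sylow_test (G := G) 91 7 13 hn (by norm_num) (by norm_num) (by norm_num) (by norm_num) (by decide)).elim
  · haveI : Fact (Nat.Prime 23) := ⟨by norm_num⟩; exact (Lib.Helper4.no_simple_of_sylow_test (G := G) 92 23 2 hn (by norm_num) (by norm_num) (by norm_num) (by norm_num) (by decide)).elim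
  · haveI : Fact (Nat.Prime 31) := ⟨by norm_num⟩; exact (Lib.Helper4.no_simple_of_sylow_test (G := G) 93 31 3 hn (by norm_num) (by norm_num) (by norm_num) (by norm_num) (by decide)).elim
  · exact (Lib.Helper4.no_simple_of_two_mod_four (G := G) (by rw [hn]) (by rw [hn]; norm_num)).elim
  · haveI : Fact (Nat.Prime 5) := ⟨by norm_num⟩; exact (Lib.Helper4.no_simple_of_sylow_test (G := G) 95 5 19 hn (by norm_num) (by norm_num) (by norm_num) (by norm_num) (by decide)).elim
  · haveI : Fact (Nat.Prime 2) := ⟨by norm_num⟩; exact (Lib.Helper4.no_simple_of_sylow_test (G := G) 96 2 3 hn (by norm_num) (by norm_num) (by norm_num) (by norm_num) (by decide)).elim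
  · haveI : Fact (Nat.Prime 97) := ⟨by norm_num⟩; exact absurd (isCyclic_of_prime_card hn) hG
  · exact (Lib.Helper4.no_simple_of_two_mod_four (G := G) (by rw [hn]) (by rw [hn]; norm_num)).elim
  · haveI : Fact (Nat.Prime 3) := ⟨by norm_num⟩; exact (Lib.Helper4.no_simple_of_sylow_test (G := G) 99 3 11 hn (by norm_num) (by norm_num) (by norm_num) (by norm_num) (by decide)).elim
  · haveI : Fact (Nat.Prime 5) := ⟨by norm_num⟩; exact (Lib.Helper4.no_simple_of_sylow_test (G := G) 100 5 2 hn (by norm_num) (by norm_num) (by norm_num) (by norm_num) (by decide)).elim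

end Cfsg.Agent.S0493
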