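import Cfsg.Statements.S0542

set_option autoImplicit false
open Cfsg

namespace Cfsg.Agent.S0542

theorem relIndex_dvd_index_of_normal_right {G : Type*} [Group G] [Finite G] (S N : Subgroup G) [N.Normal] :
    S.relIndex N ∣ S.index := by
  have h1 : S.relIndex N * N.index = (S ⊓ N).index := by
    have := Subgroup.relIndex_inf_mul_relIndex S N ⊤
    simpa using this
  have h2 : N.relIndex S * S.index = (S ⊓ N).index := by
    have := Subgroup.relIndex_inf_mul_relIndex N S ⊤
    rw [inf_comm N S] at this
    simpa using this
  have h3 : N.relIndex (S ⊔ N) * (S ⊔ N).index = N.index :=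
    Subgroup.relIndex_mul_index le_sup_right
  rw [Subgroup.relIndex_sup_right] at h3
  have h4 : N.relIndex S ≠ 0 := by
    have : (N.subgroupOf S).index ≠ 0 := Subgroup.index_ne_zero_of_finite
    exact this
  refine ⟨(S ⊔ N).index, ?_⟩
  have : N.relIndex S * S.index = N.relIndex S * (S.relIndex N * (S ⊔ N).index) := by
    rw [h2, ← h1, ← h3]; ring
  exact Nat.eq_of_mul_eq_mul_left (Nat.pos_of_ne_zero h4) this

theorem not_dvd_relIndex {G : Type*} [Group G] [Finite G] (p : ℕ) [Fact p.Prime] (H : Subgroup G)
    (hH : H.IsSubnormal) (S : Sylow p G) : ¬ p ∣ (S : Subgroup G).relIndex H := by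
  induction hH with
  | top => rw [Subgroup.relIndex_top_right]; exact S.not_dvd_index
  | step H K h_le hSubn hN ih =>
    intro hdvd
    apply ih
    have := relIndex_dvd_index_of_normal_right ((S : Subgroup G).subgroupOf K) (H.subgroupOf K)
    rw [Subgroup.relIndex_subgroupOf h_le] at this
    exact hdvd.trans this

/-- A Sylow p-subgroup of a finite group meets every subnormal subgroup H in a Sylow p-subgroup of H. -/
theorem result {G : Type*} [Group G] [Finite G] (p : ℕ) [Fact p.Prime] (H : Subgroup G) (hH : H.IsSubnormal) (S : Sylow p G) : ∃ Q : Sylow p H, (Q : Subgroup H) = (S : Subgroup G).subgroupOf H := by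
  have h1 : IsPGroup p ((S : Subgroup G).subgroupOf H) :=
    S.isPGroup'.comap_of_injective H.subtype H.subtype_injective
  exact ⟨h1.toSylow (not_dvd_relIndex p H hH S), rfl⟩

end Cfsg.Agent.S0542
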