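import Cfsg.Statements.S0620
import Cfsg.Agent.Lib.Helper48.FFX3

set_option autoImplicit false
open Cfsg

namespace Cfsg.Agent.S0620

open Cfsg.Agent.Lib.Helper48

/-- Under coprime action of an elementary abelian q-group X on a p-separable group K with trivial p'-core, K is generated by the normalizer of J(S), the centralizer of Ω₁(Z(S)) and the fixed points of X. -/
theorem result {G : Type*} [Group G] [Finite G] {p : ℕ} [Fact p.Prime] {q : ℕ} [Fact q.Prime] (K X : Subgroup G) (hXK : X ≤ Subgroup.normalizer (K : Set G)) (hX : Cfsg.IsElementaryAbelian q X) (hq : ¬ q ∣ Nat.card K) (hsep : Cfsg.IsPSolvable p ↥K) (hO : Cfsg.pPrimeCore p ↥K = ⊥) (S : Sylow p ↥K) : (Subgroup.normalizer (Cfsg.thompsonSubgroupOf p (S : Subgroup ↥K) : Set ↥K) ⊔ Subgroup.centralizer (Cfsg.omegaOne p ((S : Subgroup ↥K) ⊓ Subgroup.centralizer ((S : Subgroup ↥K) : Set ↥K)) : Set ↥K) ⊔ (Subgroup.centralizer (X : Set G)).subgroupOf K) = ⊤ := by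
  classical
  by_cases hnf : Cfsg.IsThompsonFactorizable p ↥K
  · rw [eq_top_iff]
    intro g _
    obtain ⟨x, hx, c, hc, n, hn, rfl⟩ := hnf S g
    rw [hO, Subgroup.mem_bot] at hx
    subst hx
    rw [one_mul]
    exact mul_mem (Subgroup.mem_sup_left (Subgroup.mem_sup_right hc))
      (Subgroup.mem_sup_left (Subgroup.mem_sup_left hn))
  · obtain ⟨hg, -⟩ := fg_thompson hsep hO hnf
    haveI hJc : (Cfsg.thompsonSubgroup p ↥K).Characteristic :=
      (Cfsg.Agent.S0602.result (G := ↥K) (p := p)).1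
    have hXq : IsPGroup q X := by
      intro x
      exact ⟨1, Subtype.ext (by simpa using hX.2 x x.2)⟩
    have hcop : (Nat.card X).Coprime (Nat.card K) := by
      obtain ⟨n, hn⟩ := (IsPGroup.iff_card).mp hXq
      rw [hn]
      apply Nat.Coprime.pow_left
      rw [Nat.Prime.coprime_iff_not_dvd (Fact.out : q.Prime)]
      exact hq
    have hsolv : Group.IsSolvable X := by
      have := hX.1
      exact Group.isSolvable_of_comm (fun a b => mul_comm' a b)
    generalize hM : (Subgroup.normalizer (Cfsg.thompsonSubgroupOf p (S : Subgroup ↥K) : Set ↥K) ⊔ Subgroup.centralizer (Cfsg.omegaOne p ((S : Subgroup ↥K) ⊓ Subgroup.centralizer ((S : Subgroup ↥K) : Set ↥K)) : Set ↥K) ⊔ (Subgroup.centralizer (X : Set G)).subgroupOf K) = M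
    have hM1 : Subgroup.normalizer (Cfsg.thompsonSubgroupOf p (S : Subgroup ↥K) : Set ↥K) ≤ M :=
      hM ▸ le_sup_left.trans le_sup_left
    have hM2 : Subgroup.centralizer (Cfsg.omegaOne p ((S : Subgroup ↥K) ⊓ Subgroup.centralizer ((S : Subgroup ↥K) : Set ↥K)) : Set ↥K) ≤ M :=
      hM ▸ le_sup_right.trans le_sup_left
    have hM3 : (Subgroup.centralizer (X : Set G)).subgroupOf K ≤ M := hM ▸ le_sup_right
    have hSM : (S : Subgroup ↥K) ≤ M := by
      refine le_trans ?_ hM1
      haveI : (Cfsg.thompsonSubgroup p ↥(S : Subgroup ↥K)).Characteristic :=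
        (Cfsg.Agent.S0602.result (G := ↥(S : Subgroup ↥K)) (p := p)).1
      have h1 := Subgroup.le_normalizer_map (S : Subgroup ↥K).subtype
        (H := Cfsg.thompsonSubgroup p ↥(S : Subgroup ↥K))
      rw [Subgroup.normalizer_eq_top, ← MonoidHom.range_eq_map, Subgroup.range_subtype] at h1
      exact h1
    have hle : (Cfsg.thompsonSubgroup p ↥K).map (ps (VV p ↥K)) ≤ M.map (ps (VV p ↥K)) := by
      apply hg.le_of_coprime (X := Xb hXK (VV p ↥K))
        (T := ((S : Subgroup ↥K) ⊓ Cfsg.thompsonSubgroup p ↥K).map (ps (VV p ↥K)))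
        (isPGroup_Xb hXK _ hXq)
      · intro hd
        exact hq ((hd.trans (Subgroup.card_map_dvd _ _)).trans (Subgroup.card_subgroup_dvd_card _))
      · exact Xb_le_normalizer_range_la hXK _
      · exact Xb_le_normalizer_map_ps hXK _ _
      · exact isSylowIn_map _ S _
      · exact Subgroup.map_mono (inf_le_left.trans hSM)
      · rintro _ ⟨⟨j, -, rfl⟩, hc⟩
        obtain ⟨c, hc1, hc2⟩ := exists_lift_fixed hXK (VV p ↥K) hcop (Or.inl hsolv) hc
        exact ⟨c, hM3 (Subgroup.mem_subgroupOf.mpr hc1), hc2⟩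
    have hker : (ps (VV p ↥K)).ker ≤ M := by
      rw [ps_ker]
      exact (Subgroup.centralizer_le (omegaOne_le_VV S)).trans hM2
    have hJM : Cfsg.thompsonSubgroup p ↥K ≤ M := by
      have h1 := (Subgroup.map_le_map_iff (f := ps (VV p ↥K))).mp hle
      exact h1.trans (sup_le le_rfl hker)
    rw [eq_top_iff, ← thompson_frattini (Cfsg.thompsonSubgroup p ↥K) S
      (thompsonSubgroupOf_le_thompsonSubgroup S)]
    exact sup_le hM1 hJM

end Cfsg.Agent.S0620
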