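import Cfsg.Statements.S0621
import Cfsg.Agent.Lib.Helper48.FFX5

set_option autoImplicit false
open Cfsg

namespace Cfsg.Agent.S0621

open Cfsg.Agent.Lib.Helper48

/-- Let K be p-separable with O_p'(K) = 1, normalized by an elementary abelian q-group X for a prime q not dividing the order of K. If the Thompson factorization fails in K, then p is 2 or 3 and the fixed points of X contain a plane W of order p² and a subgroup inducing SL(2, p) on it. -/
theorem result {G : Type*} [Group G] [Finite G] {p : ℕ} [Fact p.Prime] {q : ℕ} [Fact q.Prime] (K X : Subgroup G) (hXK : X ≤ Subgroup.normalizer (K : Set G)) (hX : Cfsg.IsElementaryAbelian q X) (hq : ¬ q ∣ Nat.card K) (hsep : Cfsg.IsPSolvable p ↥K) (hO : Cfsg.pPrimeCore p ↥K = ⊥) (hnf : ¬ Cfsg.IsThompsonFactorizable p ↥K) : (p = 2 ∨ p = 3) ∧ ∃ W D : Subgroup G, W ≤ K ⊓ Subgroup.centralizer (X : Set G) ∧ D ≤ K ⊓ Subgroup.centralizer (X : Set G) ∧ Cfsg.IsElementaryAbelian p W ∧ Nat.card W = p ^ 2 ∧ D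 ≤ Subgroup.normalizer (W : Set G) ∧ ∃ hn : ((Subgroup.centralizer (W : Set G)).subgroupOf D).Normal, Nonempty ((↥D ⧸ (Subgroup.centralizer (W : Set G)).subgroupOf D) ≃* Matrix.SpecialLinearGroup (Fin 2) (ZMod p)) := by
  classical
  obtain ⟨hg, hH⟩ := fg_thompson hsep hO hnf
  obtain ⟨A, hA⟩ := hg.exists_mo hH
  refine ⟨hA.prime_cases, ?_⟩
  haveI hJc : (Cfsg.thompsonSubgroup p ↥K).Characteristic :=
    (Cfsg.Agent.S0602.result (G := ↥K) (p := p)).1
  have hXq : IsPGroup q X := by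
    intro x
    exact ⟨1, Subtype.ext (by simpa using hX.2 x x.2)⟩
  have hcop : (Nat.card X).Coprime (Nat.card K) := by
    obtain ⟨n, hn⟩ := (IsPGroup.iff_card).mp hXq
    rw [hn]
    apply Nat.Coprime.pow_left
    rw [Nat.Prime.coprime_iff_not_dvd (Fact.out : q.Prime)]
    exact hq
  have hsolv : Group.IsSolvable X := by
    have := hX.1
    exact Group.isSolvable_of_comm (fun a b => mul_comm' a b)
  have hq' : ¬ q ∣ Nat.card ↥((Cfsg.thompsonSubgroup p ↥K).map (ps (VV p ↥K))) := by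
    intro hd
    exact hq ((hd.trans (Subgroup.card_map_dvd _ _)).trans (Subgroup.card_subgroup_dvd_card _))
  obtain ⟨Ws, hWs1, hWs2, hWs3, hWs4, hWs5⟩ := hA.exists_diag hg (isPGroup_Xb hXK _ hXq) hq'
    (Xb_le_normalizer_range_la hXK _) (Xb_le_normalizer_map_ps hXK _ _)
  exact exists_pullback hXK (VV p ↥K) (VV_facts hsep hO).1 (Cfsg.thompsonSubgroup p ↥K) hcop
    (Or.inl hsolv) A hA hg Ws hWs1 hWs2 hWs3 hWs4 hWs5

end Cfsg.Agent.S0621
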