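import Cfsg.Statements.S0627
import Cfsg.Agent.Lib.Helper11.PStable2
import Cfsg.Agent.Lib.Helper76.PSolvable
import Cfsg.Agent.S0622
import Cfsg.Agent.S0624
import Cfsg.Agent.S0625

set_option autoImplicit false
open Cfsg

namespace Cfsg.Agent.S0627

open Subgroup Cfsg.Agent.Lib.Helper11 Cfsg.Agent.Lib.Lead

universe u

theorem W_range {S G' : Type u} [Group S] [Finite S] [Group G'] {p : ℕ} [Fact p.Prime] (hS : IsPGroup p S)
    (j : S →* G') (hj : Function.Injective j) (T : Subgroup G') (hT : T = j.range) :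
    (stableNormalClosure p ↥T).map T.subtype = (stableNormalClosure p S).map j := by
  subst hT
  have h := (Cfsg.Agent.S0622.result hS).2.2.2.2 ↥j.range (MonoidHom.ofInjective hj)
  rw [← h, Subgroup.map_map]
  rfl

theorem core {G : Type u} [Group G] [Finite G] {p : ℕ} [Fact p.Prime]
    (hst : IsActionPStable p (G ⧸ pPrimeCore p G))
    (hc : centralizer (pCore p (G ⧸ pPrimeCore p G) : Set (G ⧸ pPrimeCore p G)) ≤ pCore p (G ⧸ pPrimeCore p G))
    (S : Sylow p G) :
    pPrimeCore p G ⊔ normalizer (((stableNormalClosure p ↥(S : Subgroup G)).map (S : Subgroup G).subtype) : Set G) = ⊤ := by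
  have hn := Cfsg.Agent.S0624.result hst hc (S.mapSurjective (QuotientGroup.mk'_surjective (pPrimeCore p G)))
  have hinj : Function.Injective ((QuotientGroup.mk' (pPrimeCore p G)).comp (S : Subgroup G).subtype) := by
    rw [injective_iff_map_eq_one]
    intro x hx
    have h3 : (x : G) ∈ pPrimeCore p G ⊓ S := by
      refine mem_inf.2 ⟨?_, x.2⟩
      rw [← QuotientGroup.ker_mk' (pPrimeCore p G)]
      exact hx
    rw [pPrimeCore_inf_eq_bot S.2, mem_bot] at h3
    exact Subtype.ext h3
  have hT : ((S.mapSurjective (QuotientGroup.mk'_surjective (pPrimeCore p G)) : Sylow p (G ⧸ pPrimeCore p G)) :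
      Subgroup (G ⧸ pPrimeCore p G)) = ((QuotientGroup.mk' (pPrimeCore p G)).comp (S : Subgroup G).subtype).range := by
    rw [Sylow.coe_mapSurjective, MonoidHom.range_eq_map, ← Subgroup.map_map, ← MonoidHom.range_eq_map,
      (S : Subgroup G).range_subtype]
  rw [W_range S.2 _ hinj _ hT, ← Subgroup.map_map] at hn
  set W := (stableNormalClosure p ↥(S : Subgroup G)).map (S : Subgroup G).subtype with hW
  have hWS : W ≤ S := map_subtype_le _
  have hn' : (pPrimeCore p G ⊔ W).Normal := by
    have h1 := comap_map_eq (QuotientGroup.mk' (pPrimeCore p G)) W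
    rw [QuotientGroup.ker_mk', sup_comm] at h1
    rw [← h1]
    infer_instance
  exact pPrimeCore_sup_normalizer_eq_top (S.2.to_le hWS) hn'

/-- In a p-separable group with p at least 5, the normalizer of W(S) supplements the largest normal subgroup of order prime to p. -/
theorem result {G : Type*} [Group G] [Finite G] {p : ℕ} [Fact p.Prime] (hp : 5 ≤ p) (hsep : Cfsg.IsPSolvable p G) (S : Sylow p G) : Cfsg.pPrimeCore p G ⊔ Subgroup.normalizer (((Cfsg.stableNormalClosure p ↥(S : Subgroup G)).map (S : Subgroup G).subtype) : Set G) = ⊤ := by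
  have hq := Cfsg.Agent.Lib.Helper76.isPSolvable_quotient (pPrimeCore p G) hsep
  exact core (Cfsg.Agent.S0625.result hp hq)
    (Cfsg.Agent.Lib.Helper76.centralizer_pCore_le hq (pPrimeCore_quotient_pPrimeCore p G)) S

end Cfsg.Agent.S0627
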