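import Cfsg.Statements.S0628
import Cfsg.Agent.Lib.Lead.PStable
import Cfsg.Agent.Lib.Helper11.OpMod
import Cfsg.Agent.S0624

set_option autoImplicit false
open Cfsg

namespace Cfsg.Agent.S0628

open Subgroup Cfsg.Agent.Lib.Helper11 Cfsg.Agent.Lib.Lead
open scoped commutatorElement

universe u

theorem PSeries.subgroupOf {p : ℕ} {B : Type*} [Group B] {H K : Subgroup B} (h : PSeries p H K)
    (N : Subgroup B) : PSeries p (H.subgroupOf N) (K.subgroupOf N) where
  nH := by have := h.nH; infer_instance
  nK := by have := h.nK; infer_instance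
  pH := by
    intro x hx
    obtain ⟨j, hj⟩ := h.pH x (mem_subgroupOf.1 hx)
    exact ⟨j, Subtype.ext (by simpa using hj)⟩
  comm := by
    intro a ha b hb
    exact mem_subgroupOf.2 (h.comm a (mem_subgroupOf.1 ha) b (mem_subgroupOf.1 hb))
  cop := by
    intro k hk
    obtain ⟨m, hm, hkm⟩ := h.cop k (mem_subgroupOf.1 hk)
    exact ⟨m, hm, mem_subgroupOf.2 hkm⟩
  pQ := by
    intro g
    obtain ⟨j, hj⟩ := h.pQ g
    exact ⟨j, mem_subgroupOf.2 hj⟩

theorem PSeries.isActionPStable {p : ℕ} [Fact p.Prime] (hp2 : p ≠ 2) {B : Type*} [Group B] [Finite B]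
    {H K : Subgroup B} (h : PSeries p H K) : IsActionPStable p B := by
  refine ⟨?_, ?_, ?_⟩
  · intro V _ hV
    apply h.isPStableOn hp2 V
    rintro ⟨v, hv⟩
    exact ⟨1, Subtype.ext (by simpa using hV.2 v hv)⟩
  · intro a ha
    set Φ := (frattini ↥(pCore p B)).map (pCore p B).subtype with hΦ
    set π := QuotientGroup.mk' Φ with hπ
    have hsurj : Function.Surjective π := QuotientGroup.mk'_surjective Φ
    have h' := h.map π hsurj
    have hVn : ((pCore p B).map π).Normal := Normal.map inferInstance π hsurj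
    have hst := h'.isPStableOn hp2 ((pCore p B).map π) ((pCore_isPGroup p B).map π)
    have hq : ⁅⁅(pCore p B).map π, zpowers (π a)⁆, zpowers (π a)⁆ = ⊥ := by
      rw [← MonoidHom.map_zpowers, ← map_commutator, ← map_commutator, Subgroup.map_eq_bot_iff, hπ,
        QuotientGroup.ker_mk']
      exact ha
    obtain ⟨D, hDn, hCD, hDp, haD⟩ := (mk_mem_pCore_iff p _ (π a)).1 (hst (π a) hq)
    set C := centralizer (((pCore p B).map π : Subgroup (B ⧸ Φ)) : Set (B ⧸ Φ)) with hC
    refine ⟨D.comap π, inferInstance, comap_mono hCD, ?_, haD⟩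
    have hpg : IsPGroup p (D.map (QuotientGroup.mk' C)) := by
      rintro ⟨_, d, hd, rfl⟩
      obtain ⟨k, hk⟩ := hDp d hd
      refine ⟨k, Subtype.ext ?_⟩
      change (QuotientGroup.mk' C d) ^ (p ^ k) = 1
      rw [← map_pow]
      exact (QuotientGroup.eq_one_iff _).2 hk
    obtain ⟨k, hk⟩ := hpg.exists_card_eq
    refine ⟨k, ?_⟩
    have h1 : (sectionKernel (pCore p B) Φ).relIndex (D.comap π) = C.relIndex D := by
      unfold sectionKernel
      rw [relIndex_comap, map_comap_eq_self_of_surjective hsurj]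
    rw [h1, ← hk]
    have h2 := relIndex_ker (QuotientGroup.mk' C) (K := D)
    rwa [QuotientGroup.ker_mk'] at h2
  · intro S V _ hV
    apply (PSeries.subgroupOf h _).isPStableOn hp2 V
    have h1 : IsPGroup p (V.map (normalizer (thompsonSubgroupOf p (S : Subgroup B) : Set B)).subtype) :=
      S.2.to_le (hV.trans (map_subtype_le _))
    exact h1.of_injective (V.equivMapOfInjective _ (subtype_injective _)).toMonoidHom
      (V.equivMapOfInjective _ (subtype_injective _)).injective

theorem isCharPFunctor_W (p : ℕ) [Fact p.Prime] :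
    IsCharPFunctor.{u} p (fun (Q : Type u) [Group Q] => stableNormalClosure p Q) := by
  refine ⟨?_, fun Q R _ _ _ _ φ => stableNormalClosure_map p φ⟩
  intro Q _ _ hQ _ hbot
  have hc := hQ.center_nontrivial
  have hpc : p ∣ Nat.card (center Q) := by
    obtain ⟨n, hn⟩ := (hQ.to_subgroup (center Q)).exists_card_eq
    rw [hn]
    apply dvd_pow_self
    rintro rfl
    rw [pow_zero] at hn
    have := (Nat.card_eq_one_iff_unique.1 hn).1
    exact not_subsingleton _ this
  obtain ⟨⟨z, hz⟩, hzo⟩ := exists_prime_orderOf_dvd_card' p hpc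
  have hzo' : orderOf z = p := by rw [← hzo]; exact (Subgroup.orderOf_mk z hz).symm
  have h1 : z ∈ stableNormalClosure p Q :=
    omegaOne_center_le_stableNormalClosure p Q (mem_omegaOne hz (by rw [← hzo', pow_orderOf_eq_one]))
  have hbot' : stableNormalClosure p Q = ⊥ := hbot
  rw [hbot', mem_bot] at h1
  rw [h1, orderOf_one] at hzo'
  exact (Fact.out : p.Prime).one_lt.ne hzo'

/-- The normal p-complement Theorem of Thompson in the form with W(S): for odd p, G has a normal p-complement as soon as the normalizer of the characteristic subgroup W(S) of a Sylow p-subgroup S has one. -/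
theorem result {G : Type*} [Group G] [Finite G] {p : ℕ} [Fact p.Prime] (hp : p ≠ 2) (S : Sylow p G) (hN : Cfsg.HasNormalPComplement p ↥(Subgroup.normalizer (((Cfsg.stableNormalClosure p ↥(S : Subgroup G)).map (S : Subgroup G).subtype) : Set G))) : Cfsg.HasNormalPComplement p G := by
  refine hasNormalPComplement_of_functors (ι := Unit)
    (fun _ => fun (Q : Type _) [Group Q] => stableNormalClosure p Q)
    (fun _ => isCharPFunctor_W p) G ?_ S (fun _ => hN)
  intro Y _ _ _ T hT
  exact ⟨(), Cfsg.Agent.S0624.result (PSeries.isActionPStable hp hT.pSeries) hT.1 T⟩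

end Cfsg.Agent.S0628
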