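import Cfsg.Statements.S0629
import Cfsg.Agent.Lib.Helper11.PStable2
import Cfsg.Agent.Lib.Helper76.PSolvable

set_option autoImplicit false
open Cfsg

namespace Cfsg.Agent.S0629

open Subgroup Cfsg.Agent.Lib.Helper11 Cfsg.Agent.Lib.Lead

theorem sup_sylow_eq {G : Type*} [Group G] [Finite G] {p : ℕ} [Fact p.Prime]
    (T : Subgroup G) (hT : T = pPrimePCore p G) (P : Sylow p ↥T) :
    pPrimeCore p G ⊔ (P : Subgroup ↥T).map T.subtype = T := by
  set K := pPrimeCore p G with hK
  set Pg := (P : Subgroup ↥T).map T.subtype with hPg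
  have hpp : p.Prime := Fact.out
  have hKT : K ≤ T := by
    intro k hk
    rw [hT]; unfold pPrimePCore
    rw [mem_comap]
    have : QuotientGroup.mk' (pPrimeCore p G) k = 1 := (QuotientGroup.eq_one_iff k).2 hk
    rw [this]; exact one_mem _
  have hPT : Pg ≤ T := map_subtype_le _
  apply le_antisymm (sup_le hKT hPT)
  rw [← relIndex_eq_one]
  have h1 : (K ⊔ Pg).relIndex T ∣ Pg.relIndex T := relIndex_dvd_of_le_left T le_sup_right
  have h2 : (K ⊔ Pg).relIndex T ∣ K.relIndex T := relIndex_dvd_of_le_left T le_sup_left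
  have h3 : K.relIndex T = Nat.card (pCore p (G ⧸ K)) := by
    have := relIndex_ker (QuotientGroup.mk' K) (K := T)
    rw [QuotientGroup.ker_mk'] at this
    rw [this, hT]; unfold pPrimePCore
    rw [map_comap_eq_self_of_surjective (QuotientGroup.mk'_surjective _)]
  have h4 : Pg.relIndex T = (P : Subgroup ↥T).index := by
    rw [relIndex, hPg, subgroupOf, comap_map_eq_self_of_injective T.subtype_injective]
  obtain ⟨m, hm⟩ := (pCore_isPGroup p (G ⧸ K)).exists_card_eq
  rw [h3, hm] at h2
  rw [h4] at h1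
  obtain ⟨j, -, hj⟩ := (Nat.dvd_prime_pow hpp).1 h2
  rcases Nat.eq_zero_or_pos j with rfl | hjpos
  · simpa using hj
  · exfalso
    apply P.not_dvd_index
    refine dvd_trans ?_ h1
    rw [hj]
    exact dvd_pow_self p (by omega)

theorem step1 {G : Type*} [Group G] [Finite G] {p : ℕ} [Fact p.Prime]
    (T : Subgroup G) (hT : T = pPrimePCore p G) (P : Sylow p ↥T)
    (hsol : IsPSolvable p ↥(centralizer (((P : Subgroup ↥T).map T.subtype : Subgroup G) : Set G))) :
    centralizer (((P : Subgroup ↥T).map T.subtype : Subgroup G) : Set G) ≤ T := by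
  set K := pPrimeCore p G with hK
  set π := QuotientGroup.mk' K with hπ
  set Pg := (P : Subgroup ↥T).map T.subtype with hPg
  set C := centralizer (Pg : Set G) with hC
  have hPp : IsPGroup p Pg := P.2.map _
  have hsup : K ⊔ Pg = T := sup_sylow_eq T hT P
  have hTn : T.Normal := by rw [hT]; unfold pPrimePCore; infer_instance
  have hn : (K ⊔ Pg).Normal := by rw [hsup]; exact hTn
  have hmap : Pg.map π = pCore p (G ⧸ K) := by
    rw [← map_mk_sup_pPrimeCore, hsup, hT]; unfold pPrimePCore
    rw [map_comap_eq_self_of_surjective (QuotientGroup.mk'_surjective _)]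
  set D := centralizer (pCore p (G ⧸ K) : Set (G ⧸ K)) with hD
  have hCD : C.map π = D := by
    apply le_antisymm
    · rintro _ ⟨c, hc, rfl⟩
      rw [hD, ← hmap]
      exact (mk_mem_centralizer_map_iff hPp (centralizer_le_normalizer _ hc)).2 hc
    · intro y hy
      obtain ⟨n, hn', rfl⟩ := exists_normalizer_lift hPp hn y
      rw [hD, ← hmap] at hy
      exact mem_map_of_mem π ((mk_mem_centralizer_map_iff hPp hn').1 hy)
  have hDn : D.Normal := inferInstance
  -- `D` is `p`-solvable
  have hDsol : IsPSolvable p ↥D := by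
    let f : ↥C →* ↥D := (π.comp C.subtype).codRestrict D (fun c => by
      rw [← hCD]; exact mem_map_of_mem π c.2)
    apply Cfsg.Agent.Lib.Helper76.isPSolvable_of_surjective f _ hsol
    rintro ⟨y, hy⟩
    rw [← hCD] at hy
    obtain ⟨c, hc, rfl⟩ := hy
    exact ⟨⟨c, hc⟩, rfl⟩
  have hDcore : pPrimeCore p ↥D = ⊥ := by
    have h1 := pPrimeCore_normal_subgroup_le (p := p) D
    rw [pPrimeCore_quotient_pPrimeCore, le_bot_iff, map_eq_bot_iff_of_injective _ D.subtype_injective] at h1
    exact h1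
  have h2 := Cfsg.Agent.Lib.Helper76.centralizer_pCore_le hDsol hDcore
  have h3 : (⊤ : Subgroup ↥D) ≤ centralizer (pCore p ↥D : Set ↥D) := by
    intro d _
    rw [mem_centralizer_iff]
    intro u hu
    have h4 : (u : G ⧸ K) ∈ pCore p (G ⧸ K) := pCore_normal_subgroup_le D (mem_map_of_mem D.subtype hu)
    exact Subtype.ext ((mem_centralizer_iff.1 d.2) _ h4)
  have h5 : D ≤ pCore p (G ⧸ K) := by
    intro d hd
    exact pCore_normal_subgroup_le D (mem_map_of_mem D.subtype (h2 (h3 (mem_top (⟨d, hd⟩ : ↥D)))))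
  intro c hc
  rw [hT]; unfold pPrimePCore
  rw [mem_comap]
  apply h5
  rw [← hCD]
  exact mem_map_of_mem π hc

/-- A group in which the centralizer of a Sylow p-subgroup of O_{p',p}(G) is p-solvable is p-constrained. -/
theorem result {G : Type*} [Group G] [Finite G] {p : ℕ} [Fact p.Prime] (P : Sylow p ↥(Cfsg.pPrimePCore p G)) (hsol : Cfsg.IsPSolvable p ↥(Subgroup.centralizer (((P : Subgroup ↥(Cfsg.pPrimePCore p G)).map (Cfsg.pPrimePCore p G).subtype : Subgroup G) : Set G))) : Cfsg.IsPConstrained p G := by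
  have h1 := step1 _ rfl P hsol
  have hTn : (pPrimePCore p G).Normal := by unfold pPrimePCore; infer_instance
  intro P' x hx
  obtain ⟨t, rfl⟩ := MulAction.exists_smul_eq ↥(pPrimePCore p G) P P'
  have h2 : (t : G)⁻¹ * x * t ∈ pPrimePCore p G := by
    apply h1
    rw [mem_centralizer_iff]
    rintro _ ⟨u, hu, rfl⟩
    have h3 : t * u * t⁻¹ ∈ ((t • P : Sylow p ↥(pPrimePCore p G)) : Subgroup ↥(pPrimePCore p G)) := by
      rw [Sylow.coe_subgroup_smul]
      have := Subgroup.smul_mem_pointwise_smul u (MulAut.conj t) _ hu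
      simpa using this
    have h4 := (mem_centralizer_iff.1 hx) _ (mem_map_of_mem (pPrimePCore p G).subtype h3)
    simp only [Subgroup.subtype_apply, Subgroup.coe_mul, Subgroup.coe_inv] at h4 ⊢
    calc (u : G) * ((t : G)⁻¹ * x * t) = (t : G)⁻¹ * ((t * u * (t : G)⁻¹) * x) * t := by group
      _ = (t : G)⁻¹ * (x * (t * u * (t : G)⁻¹)) * t := by rw [h4]
      _ = (t : G)⁻¹ * x * t * u := by group
  have h5 := hTn.conj_mem _ h2 t
  have e : (t : G) * ((t : G)⁻¹ * x * t) * (t : G)⁻¹ = x := by group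
  rwa [e] at h5

end Cfsg.Agent.S0629
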