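import Cfsg.Statements.S0647

set_option autoImplicit false
open Cfsg

namespace Cfsg.Agent.S0647

/-- For a nonempty family of maximal abelian subgroups of a finite group, the intersection of the family is the centre of the subgroup it generates, which is also the full centralizer of that subgroup. -/
theorem result {S : Type*} [Group S] [Finite S] (𝒜 : Set (Subgroup S)) (hne : 𝒜.Nonempty) (hab : ∀ A ∈ 𝒜, IsMulCommutative A) (hmax : ∀ A ∈ 𝒜, ∀ B : Subgroup S, IsMulCommutative B → A ≤ B → B = A) : sInf 𝒜 = sSup 𝒜 ⊓ Subgroup.centralizer ((sSup 𝒜 : Subgroup S) : Set S) ∧ sInf 𝒜 = Subgroup.centralizer ((sSup 𝒜 : Subgroup S) : Set S) := by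
  have h1 : Subgroup.centralizer ((sSup 𝒜 : Subgroup S) : Set S) ≤ sInf 𝒜 := by
    refine le_sInf fun A hA x hx => ?_
    have hAc := hab A hA
    have hcomm : IsMulCommutative (Subgroup.closure ((A : Set S) ∪ {x})) := by
      apply Subgroup.isMulCommutative_closure
      have hxA : ∀ a ∈ A, a * x = x * a := fun a ha => hx a (le_sSup hA ha)
      rintro a (ha | ha) b (hb | hb)
      · exact setLike_mul_comm ha hb
      · rw [Set.mem_singleton_iff.mp hb]; exact hxA a ha
      · rw [Set.mem_singleton_iff.mp ha]; exact (hxA b hb).symm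
      · rw [Set.mem_singleton_iff.mp ha, Set.mem_singleton_iff.mp hb]
    have hle : A ≤ Subgroup.closure ((A : Set S) ∪ {x}) := fun a ha =>
      Subgroup.subset_closure (Or.inl ha)
    have := hmax A hA _ hcomm hle
    rw [← this]
    exact Subgroup.subset_closure (Or.inr rfl)
  have h2 : sInf 𝒜 ≤ Subgroup.centralizer ((sSup 𝒜 : Subgroup S) : Set S) := by
    rw [Subgroup.le_centralizer_iff]
    refine sSup_le fun A hA => ?_
    have hAc := hab A hA
    have hle : sInf 𝒜 ≤ A := sInf_le hA
    exact (Subgroup.le_centralizer A).trans (Subgroup.centralizer_le hle)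
  have h3 : sInf 𝒜 ≤ sSup 𝒜 := by
    obtain ⟨A, hA⟩ := hne
    exact (sInf_le hA).trans (le_sSup hA)
  exact ⟨le_antisymm (le_inf h3 h2) (inf_le_right.trans h1), le_antisymm h2 h1⟩

end Cfsg.Agent.S0647
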