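import Mathlib
import Cfsg.Statements.S0674
import Cfsg.Agent.Lib.Helper12.PrimeCoord

set_option autoImplicit false
open Cfsg

namespace Cfsg.Agent.S0674

/-- Let `G` be a non-solvable transitive permutation group of prime degree `p` and `K` a field of characteristic `p`. Then the heart of the permutation module is irreducible: an invariant subspace containing the constants and contained in the sum-zero functions is one or the other. -/
theorem result {α : Type*} [Fintype α] [DecidableEq α] {p : ℕ} [Fact p.Prime] (hα : Fintype.card α = p) (G : Subgroup (Equiv.Perm α)) [MulAction.IsPretransitive G α] (hG : ¬ Group.IsSolvable G) {K : Type*} [Field K] [CharP K p] (W : Subrepresentation (Cfsg.permRep K G α)) (h₁ : (Cfsg.permConstants K G α).toSubmodule ≤ W.toSubmodule) (h₂ : W.toSubmodule ≤ (Cfsg.permSumZero K G α).toSubmodule) : W = Cfsg.permConstants K G α ∨ W = Cfsg.permSumZero K G α := by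
  by_contra hcon
  push Not at hcon
  obtain ⟨hC, hM⟩ := hcon
  apply hG
  have hne : Nonempty α := by
    rw [← Fintype.card_pos_iff, hα]; exact (Fact.out : p.Prime).pos
  obtain ⟨a⟩ := hne
  let P : Sylow p G := default
  have hP := Cfsg.Agent.Lib.Helper12.PrimeDegree.card_sylow hα G P
  have hlt1 : (Cfsg.permConstants K G α).toSubmodule < W.toSubmodule :=
    lt_of_le_of_ne h₁ (fun h => hC (Subrepresentation.toSubmodule_injective h.symm))
  have hlt2 : W.toSubmodule < (Cfsg.permSumZero K G α).toSubmodule :=
    lt_of_le_of_ne h₂ (fun h => hM (Subrepresentation.toSubmodule_injective h))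
  have hlt0 : (⊥ : Submodule K (α → K)) < (Cfsg.permConstants K G α).toSubmodule := by
    rw [bot_lt_iff_ne_bot, Submodule.ne_bot_iff]
    refine ⟨fun _ => 1, (Cfsg.Agent.Lib.Helper12.PermMod.mem_permConstants_iff _).mpr ⟨1, rfl⟩, ?_⟩
    intro h
    exact one_ne_zero (congrFun h a)
  have hlt3 : (Cfsg.permSumZero K G α).toSubmodule < ⊤ := by
    rw [lt_top_iff_ne_top]
    intro h
    have : (Pi.single a 1 : α → K) ∈ (Cfsg.permSumZero K G α).toSubmodule := by
      rw [h]; exact Submodule.mem_top
    rw [Cfsg.Agent.Lib.Helper12.PermMod.mem_permSumZero_iff] at this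
    simp at this
  have f0 := Submodule.finrank_lt_finrank_of_lt hlt0
  have f1 := Submodule.finrank_lt_finrank_of_lt hlt1
  have f2 := Submodule.finrank_lt_finrank_of_lt hlt2
  have f3 := Submodule.finrank_lt_finrank_of_lt hlt3
  rw [finrank_top, Module.finrank_fintype_fun_eq_card, hα] at f3
  haveI := Cfsg.Agent.Lib.Helper12.PrimeCoord.normal_of_invariant hα G W (by omega) (by omega)
    (P : Subgroup G) hP
  exact Cfsg.Agent.Lib.Helper12.PrimeCoord.isSolvable_of_normal hα G (P : Subgroup G) hP

end Cfsg.Agent.S0674
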