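import Mathlib
import Cfsg.Statements.S0675
import Cfsg.Agent.S0674
import Cfsg.Agent.S0671
import Cfsg.Agent.Lib.Helper12.PrimeDegree2

set_option autoImplicit false
open Cfsg

namespace Cfsg.Agent.S0675

/-- Burnside's Theorem on permutation groups of prime degree: a transitive permutation group of prime degree that is not solvable is doubly transitive. -/
theorem result {α : Type*} [Fintype α] [DecidableEq α] (hα : (Fintype.card α).Prime) (G : Subgroup (Equiv.Perm α)) [MulAction.IsPretransitive G α] : Group.IsSolvable G ∨ MulAction.IsMultiplyPretransitive G α 2 := by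
  by_cases hs : Group.IsSolvable G
  · exact Or.inl hs
  right
  set p := Fintype.card α with hp
  haveI : Fact p.Prime := ⟨hα⟩
  have hα' : Fintype.card α = p := rfl
  have hp5 : 5 ≤ p := Cfsg.Agent.Lib.Helper12.PrimeDegree.five_le_of_not_isSolvable hα' G hs
  refine S0671.result (K := ZMod p) (p := p) (f := 1) le_rfl (by rw [pow_one]) ?_
  intro W W' h1 h2 h3
  have hW : W = Cfsg.permConstants (ZMod p) G α := by
    rcases S0674.result hα' G hs W h1 (h2.le.trans h3) with h | h
    · exact h
    · exfalso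
      rw [h] at h2
      exact absurd (lt_of_lt_of_le h2 h3) (lt_irrefl _)
  have hW' : W' = Cfsg.permSumZero (ZMod p) G α := by
    rcases S0674.result hα' G hs W' (h1.trans h2.le) h3 with h | h
    · exfalso
      rw [h] at h2
      exact absurd (lt_of_le_of_lt h1 h2) (lt_irrefl _)
    · exact h
  subst hW hW'
  -- a non-trivial element
  have hne : Nonempty α := by
    rw [← Fintype.card_pos_iff]; exact hα.pos
  obtain ⟨a₁⟩ := hne
  obtain ⟨a₂, ha₂⟩ : ∃ a₂ : α, a₂ ≠ a₁ := by
    haveI : Nontrivial α := by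
      rw [← Fintype.one_lt_card_iff_nontrivial]; omega
    exact exists_ne a₁
  obtain ⟨g, hg⟩ := MulAction.exists_smul_eq G a₁ a₂
  set a := a₁
  set b := g • a with hb
  have hab : b ≠ a := by rw [hg]; exact ha₂
  obtain ⟨x₀, hx₀⟩ : ∃ x₀ : α, x₀ ∉ ({a, b, g • b} : Finset α) := by
    by_contra hcon
    push Not at hcon
    have h4 : (Finset.univ : Finset α) ⊆ {a, b, g • b} := fun x _ => hcon x
    have h5 := Finset.card_le_card h4
    have h6 : ({a, b, g • b} : Finset α).card ≤ 3 := Finset.card_le_three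
    rw [Finset.card_univ] at h5
    omega
  simp only [Finset.mem_insert, Finset.mem_singleton, not_or] at hx₀
  obtain ⟨hx1, hx2, hx3⟩ := hx₀
  refine ⟨g, Pi.single a 1 - Pi.single b 1, ?_, ?_⟩
  · rw [Cfsg.Agent.Lib.Helper12.PermMod.mem_permSumZero_iff]
    simp
  · rw [Cfsg.Agent.Lib.Helper12.PermMod.mem_permConstants_iff]
    rintro ⟨c, hc⟩
    have e0 := congrFun hc x₀
    have e1 := congrFun hc a
    simp only [Pi.sub_apply, Cfsg.Agent.Lib.Helper12.PermMod.permRep_apply] at e0 e1
    have n1 : g⁻¹ • x₀ ≠ a := by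
      intro h; apply hx2; rw [hb, ← h, smul_inv_smul]
    have n2 : g⁻¹ • x₀ ≠ b := by
      intro h; apply hx3; rw [← h, smul_inv_smul]
    have n3 : g⁻¹ • a ≠ a := by
      intro h; apply hab; rw [hb]; nth_rewrite 1 [← h]; rw [smul_inv_smul]
    rw [Pi.single_eq_of_ne n1, Pi.single_eq_of_ne n2, Pi.single_eq_of_ne hx1,
      Pi.single_eq_of_ne hx2] at e0
    rw [Pi.single_eq_of_ne n3, Pi.single_eq_same, Pi.single_eq_of_ne hab.symm] at e1
    have hc0 : c = 0 := by rw [← e0]; ring
    rw [hc0] at e1
    have h2ne : (2 : ZMod p) ≠ 0 := by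
      intro h
      have : ((2 : ℕ) : ZMod p) = 0 := by exact_mod_cast h
      rw [ZMod.natCast_eq_zero_iff] at this
      have := Nat.le_of_dvd (by norm_num) this
      omega
    by_cases h7 : g⁻¹ • a = b
    · rw [h7, Pi.single_eq_same] at e1
      apply h2ne
      linear_combination -e1
    · rw [Pi.single_eq_of_ne h7] at e1
      apply one_ne_zero (α := ZMod p)
      linear_combination -e1

end Cfsg.Agent.S0675
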