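import Cfsg.Statements.S0690
import Cfsg.Agent.S0033
import Cfsg.Agent.Lib.Helper1.Nilpotent
import Cfsg.Agent.Lib.Helper53.Zas.Main

set_option autoImplicit false
set_option linter.style.haveILetI false
set_option linter.unusedVariables false
set_option warn.classDefReducibility false
open Cfsg

namespace Cfsg.Agent.S0690

open Cfsg.Agent.Lib.Helper53.Zas

theorem map_mem_center {K : Type*} [Group K] (φ : MulAut K) {z : K} (hz : z ∈ Subgroup.center K) :
    φ z ∈ Subgroup.center K := by
  rw [Subgroup.mem_center_iff] at hz ⊢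
  intro k
  have h1 := hz (φ⁻¹ k)
  have h2 := congrArg φ h1
  rw [map_mul, map_mul, MulAut.apply_inv_self] at h2
  exact h2

/-- the action of a group of automorphisms on the centre -/
def centerAction {K : Type*} [Group K] (G : Subgroup (MulAut K)) :
    MulDistribMulAction G (Subgroup.center K) where
  smul g z := ⟨(g : MulAut K) z, map_mem_center _ z.2⟩
  one_smul z := Subtype.ext rfl
  mul_smul g h z := Subtype.ext rfl
  smul_mul g y z := Subtype.ext (map_mul (g : MulAut K) _ _)
  smul_one g := Subtype.ext (map_one (g : MulAut K))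

/-- Zassenhaus: a perfect non-trivial group of fixed-point-free automorphisms of a finite group is isomorphic to `SL(2,5)`. -/
theorem result {K : Type*} [Group K] [Finite K] (G : Subgroup (MulAut K)) (hfpf : ∀ φ ∈ G, φ ≠ 1 → ∀ k : K, φ k = k → k = 1) (hperf : commutator G = ⊤) (hne : G ≠ ⊥) : Nonempty (G ≃* Matrix.SpecialLinearGroup (Fin 2) (ZMod 5)) := by
  haveI : Finite (MulAut K) := Finite.of_injective (fun φ : MulAut K => (φ : K → K))
    (fun a b hab => MulEquiv.ext (congrFun hab))
  haveI : Nontrivial G := (Subgroup.nontrivial_iff_ne_bot G).2 hne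
  -- an element of prime order
  have hcard : Nat.card G ≠ 1 := (Finite.one_lt_card_iff_nontrivial.2 inferInstance).ne'
  haveI : Fact (Nat.card G).minFac.Prime := ⟨Nat.minFac_prime hcard⟩
  obtain ⟨φ, hφ⟩ := exists_prime_orderOf_dvd_card' (G := G) (Nat.card G).minFac
    (Nat.minFac_dvd _)
  have hφ1 : (φ : MulAut K) ≠ 1 := by
    intro h1
    have h2 : φ = 1 := Subtype.ext h1
    rw [h2, orderOf_one] at hφ
    exact (Nat.minFac_prime hcard).one_lt.ne hφ
  have hnil : Group.IsNilpotent K := by
    apply Cfsg.Agent.S0033.result (φ : MulAut K) _ _ (Nat.minFac_prime hcard)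
    · rw [Subgroup.orderOf_coe]
      exact hφ
    · intro k hk
      exact hfpf φ φ.2 hφ1 k hk
  haveI : Nontrivial K := by
    by_contra hK
    rw [not_nontrivial_iff_subsingleton] at hK
    apply hφ1
    ext k
    exact Subsingleton.elim _ _
  haveI : Nontrivial (Subgroup.center K) := by
    rw [Subgroup.nontrivial_iff_ne_bot]
    have := Cfsg.Agent.Lib.Helper1.normal_inf_center_ne_bot (G := K) (N := ⊤) top_ne_bot
    rwa [top_inf_eq] at this
  letI := centerAction G
  letI : CommGroup (Subgroup.center K) :=
    { (Subgroup.center K).toGroup with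
      mul_comm := fun a b => Subtype.ext (Subgroup.mem_center_iff.1 b.2 a.1) }
  have hz : ZHyp G := by
    apply zhyp_of_comm (K := Subgroup.center K) (MulDistribMulAction.toMulAut G (Subgroup.center K))
    intro g hg k hk
    have h1 : (g : MulAut K) (k : K) = k := congrArg Subtype.val hk
    exact Subtype.ext (hfpf g g.2 (fun h => hg (Subtype.ext h)) k h1)
  exact hz.main hperf

end Cfsg.Agent.S0690
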