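import Cfsg.Statements.S0688
import Cfsg.Agent.Lib.Helper96.NearFieldMain

set_option autoImplicit false
open Cfsg

namespace Cfsg.Agent.S0688

/-- Degrees of the soluble exceptional sharply doubly transitive groups: if a solvable linear group over the prime field is regular on the non-zero vectors of `V` and has no irreducible cyclic normal subgroup, then `V` has 25, 49, 121 or 529 elements. -/
theorem result {p : ℕ} [Fact p.Prime] {V : Type*} [AddCommGroup V] [Module (ZMod p) V] [Finite V] (H : Subgroup (V ≃ₗ[ZMod p] V)) (hreg : ∀ v w : V, v ≠ 0 → w ≠ 0 → ∃! h : H, (h : V ≃ₗ[ZMod p] V) v = w) (hI : ∀ A : Subgroup H, A.Normal → IsCyclic A → ∃ W : Submodule (ZMod p) V, W ≠ ⊥ ∧ W ≠ ⊤ ∧ ∀ a ∈ A, ∀ v ∈ W, ((a : H) : V ≃ₗ[ZMod p] V) v ∈ W) (hsolv : Group.IsSolvable H) : Nat.card V = 25 ∨ Nat.card V = 49 ∨ Nat.card V = 121 ∨ Nat.card V = 529 := by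
  classical
  haveI := Cfsg.Agent.Lib.Helper55.finite_of_linearEquiv_subgroup H
  have hp : p.Prime := Fact.out
  obtain ⟨A, hAn, hAc, hAmax⟩ := Cfsg.Agent.Lib.Helper96.nf_exists_max (H := H)
  obtain ⟨-, hCna⟩ := Cfsg.Agent.S0685.result H hreg hI A hAn hAc hAmax
  obtain ⟨N, hNn, hNle, hNna, hNmin⟩ :=
    Cfsg.Agent.Lib.Helper96.nf_exists_min (Subgroup.centralizer (A : Set H)) inferInstance hCna
  have hFC := (Cfsg.Agent.Lib.Helper96.nf_fc H hreg N hNna).fc
  have hq : ∀ N : Subgroup H, N.Normal → N ≤ Subgroup.centralizer (A : Set H) →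
      ¬ IsMulCommutative N →
      (∀ M : Subgroup H, M.Normal → M ≤ N → ¬ IsMulCommutative M → M = N) →
      Nonempty (N ≃* QuaternionGroup 2) := by
    intro N hNn hNle hNna hNmin
    apply Cfsg.Agent.Lib.Helper96.nf_quaternion_of_not_perfect hFC A hAn hAc hAmax N hNn hNle
      hNna hNmin
    intro hperf
    have h1 := Cfsg.Agent.Lib.Helper32.FrobSL25.commutator_subtype_eq_top hperf
    haveI : Nontrivial N := by
      by_contra hcon
      rw [not_nontrivial_iff_subsingleton] at hcon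
      exact hNna ⟨⟨fun x y => Subsingleton.elim _ _⟩⟩
    exact (Group.IsSolvable.commutator_lt_top_of_nontrivial N).ne h1
  obtain ⟨hn2, -, h3⟩ := Cfsg.Agent.Lib.Helper96.nf_dim_two H hreg hI A hAn hAc hAmax
    (fun N h1 h2 h3 h4 => (hq N h1 h2 h3 h4).elim fun e =>
      Cfsg.Agent.Lib.Helper96.HasQuat.of_equiv e Cfsg.Agent.Lib.Helper96.hasQuat_quaternion)
    N hNn hNle hNna hNmin (Or.inl (hq N hNn hNle hNna hNmin))
  obtain ⟨h24, hodd⟩ := h3 (hq N hNn hNle hNna hNmin)
  have hcardV : Nat.card V = p ^ 2 := by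
    rw [Module.natCard_eq_pow_finrank (K := ZMod p), Nat.card_zmod, hn2]
  rw [hcardV]
  rcases Cfsg.Agent.Lib.Helper96.nf_p_cases h24 hodd hp.two_le with h | h | h | h | h
  · exfalso
    exact Cfsg.Agent.Lib.Helper96.nf_not_three H hreg hI hn2 h N
      ((hq N hNn hNle hNna hNmin).elim fun e =>
        Cfsg.Agent.Lib.Helper96.HasQuat.of_equiv e Cfsg.Agent.Lib.Helper96.hasQuat_quaternion)
  · left; rw [h]; norm_num
  · right; left; rw [h]; norm_num
  · right; right; left; rw [h]; norm_num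
  · right; right; right; rw [h]; norm_num

end Cfsg.Agent.S0688
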