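import Mathlib
import Cfsg.Statements.S0732
import Cfsg.Agent.S0727
import Cfsg.Agent.S0731
import Cfsg.Agent.Lib.Helper12.DegP1b
import Cfsg.Agent.Lib.Helper12.DegP1c
import Cfsg.Agent.Lib.Helper12.SemiAff
import Cfsg.Agent.Lib.Helper12.Sharp2
import Cfsg.Agent.Lib.Helper12.RegNormal
import Cfsg.Agent.Lib.Helper14.ExcIso2
import Cfsg.Agent.Lib.Helper5.LinearCard

set_option autoImplicit false
open Cfsg

namespace Cfsg.Agent.S0732

theorem card_eq_p {p d s r f : ℕ} (hp : p.Prime) (hr : r.Prime) (hs : s = r ^ f)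
    (hsodd : s % 2 = 1) (hd0 : 0 < d) (hd : d < p)
    (h : 2 * ((p + 1) * p * d) = s * (s ^ 2 - 1)) : s = p := by
  have hp2 := hp.two_le
  have hs3 : 3 ≤ s := by
    by_contra hcon
    have : s = 1 := by omega
    rw [this] at h
    simp at h
    omega
  have hfac : s ^ 2 - 1 = (s - 1) * (s + 1) := by
    obtain ⟨w, rfl⟩ : ∃ w, s = w + 1 := ⟨s - 1, by omega⟩
    have : (w + 1) ^ 2 = (w + 1 - 1) * (w + 1 + 1) + 1 := by
      simp only [Nat.add_sub_cancel]; ring
    omega
  have hdvd : p ∣ s * ((s - 1) * (s + 1)) := by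
    rw [← hfac, ← h]
    exact ⟨2 * ((p + 1) * d), by ring⟩
  have hpd : ¬ p ∣ d := fun hh => absurd (Nat.le_of_dvd hd0 hh) (by omega)
  rcases (Nat.Prime.dvd_mul hp).mp hdvd with h1 | h1
  · -- `p ∣ s`
    rw [hs] at h1
    have hpr : p = r := (Nat.prime_dvd_prime_iff_eq hp hr).mp (hp.dvd_of_dvd_pow h1)
    subst hpr
    rcases f with _ | _ | f
    · simp at hs; omega
    · simpa using hs
    · exfalso
      have h2 : p * p ∣ 2 * ((p + 1) * p * d) := by
        rw [h, hs]
        exact Dvd.dvd.mul_right ⟨p ^ f, by ring⟩ _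
      have h3 : p * p ∣ p * (2 * ((p + 1) * d)) := by
        have : p * (2 * ((p + 1) * d)) = 2 * ((p + 1) * p * d) := by ring
        rwa [this]
      have h4 : p ∣ 2 * ((p + 1) * d) := Nat.dvd_of_mul_dvd_mul_left hp.pos h3
      rcases (Nat.Prime.dvd_mul hp).mp h4 with h5 | h5
      · have : p = 2 := (Nat.prime_dvd_prime_iff_eq hp Nat.prime_two).mp h5
        subst this
        have : 2 ∣ s := by rw [hs]; exact ⟨2 ^ (f + 1), by ring⟩
        omega
      · rcases (Nat.Prime.dvd_mul hp).mp h5 with h6 | h6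
        · have : p ∣ 1 := (Nat.dvd_add_right (dvd_refl p)).mp h6
          exact hp.one_lt.ne' (Nat.dvd_one.mp this)
        · exact hpd h6
  · exfalso
    have hbig : 2 * p ≤ s + 1 := by
      by_cases hp2' : p = 2
      · omega
      have hpodd : p % 2 = 1 := by
        rcases hp.eq_two_or_odd with hh | hh
        · exact absurd hh hp2'
        · exact hh
      rcases (Nat.Prime.dvd_mul hp).mp h1 with h2 | h2
      · obtain ⟨m, hm⟩ := h2
        have hm2 : m % 2 = 0 := by
          by_contra hcon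
          have hm1 : m % 2 = 1 := by omega
          have : (p * m) % 2 = 1 := by rw [Nat.mul_mod, hpodd, hm1]
          omega
        have hm0 : m ≠ 0 := by
          rintro rfl
          omega
        have h2m : 2 ≤ m := by omega
        have := Nat.mul_le_mul_left p h2m
        omega
      · obtain ⟨m, hm⟩ := h2
        have hm2 : m % 2 = 0 := by
          by_contra hcon
          have hm1 : m % 2 = 1 := by omega
          have : (p * m) % 2 = 1 := by rw [Nat.mul_mod, hpodd, hm1]
          omega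
        have hm0 : m ≠ 0 := by
          rintro rfl
          omega
        have h2m : 2 ≤ m := by omega
        have := Nat.mul_le_mul_left p h2m
        omega
    rw [hfac] at h
    obtain ⟨P, rfl⟩ : ∃ P, p = P + 1 := ⟨p - 1, by omega⟩
    obtain ⟨j, rfl⟩ : ∃ j, s = 2 * P + 1 + j := ⟨s - (2 * P + 1), by omega⟩
    have e1 : 2 * P + 1 + j - 1 = 2 * P + j := by omega
    rw [e1] at h
    have hdP : d ≤ P := by omega
    have hP1 : 1 ≤ P := by omega
    have l1 : 2 * ((P + 1 + 1) * (P + 1) * d) ≤ 2 * ((P + 1 + 1) * (P + 1) * P) :=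
      Nat.mul_le_mul_left _ (Nat.mul_le_mul_left _ hdP)
    have l2 : (2 * P + 1) * ((2 * P) * (2 * P + 2)) ≤
        (2 * P + 1 + j) * ((2 * P + j) * (2 * P + 1 + j + 1)) :=
      Nat.mul_le_mul (by omega) (Nat.mul_le_mul (by omega) (by omega))
    have l3 : (2 * P + 1) * ((2 * P) * (2 * P + 2)) =
        2 * ((P + 1 + 1) * (P + 1) * P) + 6 * P * P * (P + 1) := by ring
    have l4 : 0 < 6 * P * P * (P + 1) := by positivity
    omega

open MulAction Cfsg.Agent.Lib.Helper12 Cfsg.Agent.Lib.Helper12.DegP1 in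

/-- A transitive permutation group on `p + 1` points (`p` prime) of order `(p+1) p d` with `d < p` is isomorphic to `PGL(2,p)` with `d = p - 1`, or to `PSL(2,p)` with `2d = p - 1`, or else `p + 1 = 2^q` for a prime `q`, `d = 1` or `d = q`, and the group is permutation-isomorphic to a group of semi-affine maps `x ↦ a φ(x) + b` of the field with `2^q` elements. -/
theorem result {α : Type*} [Fintype α] [DecidableEq α] {p d : ℕ} (hp : p.Prime) (hα : Fintype.card α = p + 1) (G : Subgroup (Equiv.Perm α)) [MulAction.IsPretransitive G α] (hG : Nat.card G = (p + 1) * p * d) (hd : d < p) : (d = p - 1 ∧ Nonempty (G ≃* Matrix.ProjGenLinGroup (Fin 2) (ZMod p))) ∨ (2 * d = p - 1 ∧ Nonempty (G ≃* Matrix.ProjectiveSpecialLinearGroup (Fin 2) (ZMod p))) ∨ (∃ q : ℕ, q.Prime ∧ p + 1 = 2 ^ q ∧ (d = 1 ∨ d = q) ∧ ∃ e : α ≃ GaloisField 2 q, ∀ g : G, (e.symm.trans (((g : Equiv.Perm α)).trans e)) ∈ Cfsg.semiaffineGroup (GaloisField 2 q)) := by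
  classical
  have hp2 := hp.two_le
  have hα' : Nat.card α = p + 1 := by rw [Nat.card_eq_fintype_card, hα]
  have hd0 : 0 < d := by
    rcases Nat.eq_zero_or_pos d with h | h
    · rw [h, mul_zero] at hG
      exact absurd hG Nat.card_pos.ne'
    · exact h
  have hne : Nonempty α := by
    rw [← Fintype.card_pos_iff, hα]; omega
  obtain ⟨oI⟩ := hne
  obtain ⟨T, hT⟩ := exists_PT hp hα G hG hd oI
  obtain ⟨o0, h0⟩ : ∃ o0 : α, o0 ≠ oI := by
    have : Nontrivial α := by
      rw [← Fintype.one_lt_card_iff_nontrivial, hα]; omega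
    exact exists_ne oI
  set D : Subgroup G := stabilizer G oI ⊓ stabilizer G o0 with hDdef
  have hDcard : Nat.card D = d := by
    have h1 := hT.card_stab h0
    rw [card_stabilizer hα G hG oI] at h1
    exact (Nat.eq_of_mul_eq_mul_left hp.pos h1).symm
  have h2t : IsMultiplyPretransitive G α 2 :=
    is_two_pretransitive_iff.mpr fun hab hcd => hT.two_trans hab hcd
  have hsharp3 : ∀ x : Fin 3 ↪ α, stabilizer G x = ⊥ := by
    intro x
    rw [eq_bot_iff]
    intro g hg
    rw [mem_stabilizer_iff] at hg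
    rw [Subgroup.mem_bot]
    exact hT.fix3 (x.injective.ne (by decide : (0 : Fin 3) ≠ 1))
      (x.injective.ne (by decide : (0 : Fin 3) ≠ 2)) (x.injective.ne (by decide : (1 : Fin 3) ≠ 2))
      (DFunLike.congr_fun hg 0) (DFunLike.congr_fun hg 1) (DFunLike.congr_fun hg 2)
  by_cases hdp : d = p - 1
  · left
    refine ⟨hdp, ?_⟩
    have hD' : Nat.card ↥(stabilizer G oI ⊓ stabilizer G o0) = p - 1 := by rw [← hdp]; exact hDcard
    obtain ⟨F, iF, iFt, hF, ⟨e⟩⟩ : ∃ (F : Type) (_ : Field F) (_ : Fintype F),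
        Fintype.card F = p ∧ Nonempty (G ≃* Matrix.ProjGenLinGroup (Fin 2) F) := by
      by_cases hp2' : p = 2
      · subst hp2'
        have h3e := hT.three_trans h0 hD'
        have h3 : IsMultiplyPretransitive G α 3 := ⟨fun x y => by
          obtain ⟨g, h0', h1', h2'⟩ := h3e (x 0) (x 1) (x 2) (y 0) (y 1) (y 2)
            (x.injective.ne (by decide)) (x.injective.ne (by decide)) (x.injective.ne (by decide))
            (y.injective.ne (by decide)) (y.injective.ne (by decide)) (y.injective.ne (by decide))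
          exact ⟨g, by ext i; fin_cases i <;> assumption⟩⟩
        obtain ⟨F, iF, iFt, hF, he⟩ := S0727.result (f := 1) le_rfl (by rw [hα]; norm_num) G h3 hsharp3
        exact ⟨F, iF, iFt, by simpa using hF, he⟩
      · exact hT.pgl hp2' h0 hD'
    obtain ⟨e2⟩ := nonempty_pgl_equiv (n := Fin 2) (ZMod.ringEquivOfPrime F hp hF).symm
    exact ⟨e.trans e2⟩
  have hpodd : p ≠ 2 := by
    rintro rfl
    omega
  right
  by_cases hreg : ∃ N : Subgroup G, N.Normal ∧ IsPretransitive N α ∧ ∀ a : α, stabilizer N a = ⊥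
  · right
    obtain ⟨N, hNn, hNtr, hNreg⟩ := hreg
    have hNcard : Nat.card N = p + 1 := by rw [← hα', RegNormal.card_eq N hNtr hNreg oI]
    have hNtrans : ∀ x : α, ∃ n ∈ N, n • oI = x := by
      intro x
      obtain ⟨n, hn⟩ := hNtr.exists_smul_eq oI x
      exact ⟨n.1, n.2, hn⟩
    have hNfree : ∀ n ∈ N, n • oI = oI → n = 1 := by
      intro n hn h
      exact RegNormal.eq_of_smul_eq N hNreg hn N.one_mem (by rw [h, one_smul])
    obtain ⟨e, heN, heo⟩ := hNtrans o0
    have he1 : e ≠ 1 := by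
      rintro rfl
      rw [one_smul] at heo
      exact h0 heo.symm
    have hTreg : ∀ n ∈ N, n ≠ 1 → ∃ t ∈ T, t * e * t⁻¹ = n := by
      intro n hn hn1
      have hnI : n • oI ≠ oI := fun h => hn1 (hNfree n hn h)
      obtain ⟨t, ht, htn⟩ := hT.trans o0 _ h0 hnI
      refine ⟨t, ht, RegNormal.eq_of_smul_eq N hNreg (hNn.conj_mem e heN t) hn (a := oI) ?_⟩
      have : t⁻¹ • oI = oI := by rw [inv_smul_eq_iff, hT.fix t ht]
      rw [mul_smul, mul_smul, this, heo, htn]
    -- exponent 2
    have hpo : Odd p := hp.odd_of_ne_two hpodd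
    have h2N : 2 ∣ Nat.card N := by
      rw [hNcard]
      obtain ⟨k, hk⟩ := hpo
      exact ⟨k + 1, by omega⟩
    obtain ⟨n₀, hn₀⟩ := exists_prime_orderOf_dvd_card' (G := N) 2 h2N
    have hn₀1 : (n₀ : G) ≠ 1 := by
      intro h
      have : n₀ = 1 := Subtype.ext h
      rw [this, orderOf_one] at hn₀
      omega
    have hn₀2 : (n₀ : G) ^ 2 = 1 := by
      have := pow_orderOf_eq_one n₀
      rw [hn₀] at this
      exact congrArg Subtype.val this
    have he2 : e ^ 2 = 1 := by
      obtain ⟨t, _, ht⟩ := hTreg n₀ n₀.2 hn₀1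
      rw [← ht, conj_pow] at hn₀2
      have : e ^ 2 = t⁻¹ * (t * e ^ 2 * t⁻¹) * t := by group
      rw [this, hn₀2]
      group
    have hN2 : ∀ n ∈ N, n ^ 2 = 1 := by
      intro n hn
      by_cases hn1 : n = 1
      · rw [hn1, one_pow]
      obtain ⟨t, _, ht⟩ := hTreg n hn hn1
      rw [← ht, conj_pow, he2]
      group
    have hNc : ∀ s ∈ N, ∀ t ∈ N, s * t = t * s := by
      intro s hs t ht
      have := (RegNormal.comm_of_sq_eq_one N hN2).is_comm.comm ⟨s, hs⟩ ⟨t, ht⟩
      exact congrArg Subtype.val this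
    obtain ⟨F, iF, iFt, ε, hFcard, hFchar, hsemi, hdvd⟩ := SemiAff.exists_semiaffine N T oI hNn hNc
      hNtrans hNfree hT.comm hT.norm e heN he1 hTreg
    have h20 : (2 : F) = 0 := by
      have := hFchar e heN 2 he2 he1
      exact_mod_cast this
    have hchar : CharP F 2 := CharTwo.of_one_ne_zero_of_two_eq_zero one_ne_zero h20
    obtain ⟨q, _, hq⟩ := FiniteField.card F 2
    rw [hFcard, hNcard] at hq
    have hq1 : (q : ℕ) ≠ 1 := by
      intro h
      rw [h, pow_one] at hq
      omega
    have hqp : (q : ℕ).Prime := by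
      have : (2 ^ (q : ℕ) - 1).Prime := by
        rw [← hq]; simpa using hp
      exact (Nat.prime_of_pow_sub_one_prime hq1 this).2
    have hFq : Fintype.card F = 2 ^ (q : ℕ) := by rw [hFcard, hNcard, hq]
    rw [heo, SemiAff.card_ringAut F 2 q hFq] at hdvd
    have hdq : d = 1 ∨ d = q := by
      rw [← hDcard]
      exact (Nat.dvd_prime hqp).mp hdvd
    let _ := ZMod.algebra F 2
    let ρ : F ≃+* GaloisField 2 q := (GaloisField.algEquivGaloisFieldOfFintype 2 q hFq).toRingEquiv
    refine ⟨q, hqp, hq, hdq, ε.trans ρ.toEquiv, fun g => ?_⟩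
    obtain ⟨a, b, φ, hg⟩ := hsemi g
    refine ⟨Units.map (ρ : F →* GaloisField 2 q) a, ρ b, ρ.symm.trans (φ.trans ρ), fun y => ?_⟩
    have h1 : (ε.trans ρ.toEquiv).symm.trans (((g : Equiv.Perm α)).trans (ε.trans ρ.toEquiv)) y
        = ρ (ε (g • ε.symm (ρ.symm y))) := rfl
    rw [h1, hg, Equiv.apply_symm_apply, map_add, map_mul]
    rfl
  · left
    push Not at hreg
    have hd1 : d ≠ 1 := by
      rintro rfl
      have hDbot : D = ⊥ := Subgroup.card_eq_one.mp hDcard
      have hsharp2 : ∀ x : Fin 2 ↪ α, stabilizer G x = ⊥ := by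
        intro x
        rw [eq_bot_iff]
        intro g hg
        rw [mem_stabilizer_iff] at hg
        have hg0 : g • x 0 = x 0 := DFunLike.congr_fun hg 0
        have hg1 : g • x 1 = x 1 := DFunLike.congr_fun hg 1
        have hx01 : x 0 ≠ x 1 := x.injective.ne (by decide)
        obtain ⟨k, hk0, hk1⟩ := hT.two_trans hx01 h0.symm
        have hmem : k * g * k⁻¹ ∈ D := by
          refine Subgroup.mem_inf.mpr ⟨?_, ?_⟩
          · rw [mem_stabilizer_iff, ← hk0, mul_smul, mul_smul, inv_smul_smul, hg0]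
          · rw [mem_stabilizer_iff, ← hk1, mul_smul, mul_smul, inv_smul_smul, hg1]
        rw [hDbot, Subgroup.mem_bot] at hmem
        rw [Subgroup.mem_bot]
        have : g = k⁻¹ * (k * g * k⁻¹) * k := by group
        rw [this, hmem]
        group
      obtain ⟨r, j, N, _, _, _, hNn, _, _, _, hNmem, hNtr⟩ :=
        Sharp2.exists_kernel h2t hsharp2 (by omega)
      obtain ⟨a, ha⟩ := hreg N hNn ⟨fun a b => by
        obtain ⟨n, hn, h⟩ := hNtr a b
        exact ⟨⟨n, hn⟩, h⟩⟩
      apply ha
      rw [eq_bot_iff]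
      intro n hn
      rw [mem_stabilizer_iff] at hn
      rcases (hNmem n.1).mp n.2 with h | h
      · rw [Subgroup.mem_bot]; exact Subtype.ext h
      · exact absurd hn (h a)
    have hZ : Cfsg.IsZassenhausGroup G α := by
      refine ⟨inferInstance, h2t, ?_, ?_, hreg⟩
      · intro g a b c hab hbc hac ha hb hc
        exact hT.fix3 hab hac hbc ha hb hc
      · have : Nontrivial D := by
          rw [← Finite.one_lt_card_iff_nontrivial, hDcard]; omega
        obtain ⟨g, hg⟩ := exists_ne (1 : D)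
        exact ⟨g.1, fun h => hg (Subtype.ext h), oI, o0, h0.symm, (Subgroup.mem_inf.mp g.2).1,
          (Subgroup.mem_inf.mp g.2).2⟩
    have hTle : T ≤ stabilizer G oI := fun t ht => hT.fix t ht
    have hTn : (T.subgroupOf (stabilizer G oI)).Normal := by
      constructor
      intro n hn g
      rw [Subgroup.mem_subgroupOf] at hn ⊢
      exact hT.norm g.1 g.2 n.1 hn
    have hTab : IsMulCommutative T := ⟨⟨fun a b => Subtype.ext (hT.comm a a.2 b b.2)⟩⟩
    have hTreg : ∀ y z : α, y ≠ oI → z ≠ oI → ∃! u : T, (u : G) • y = z := by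
      intro y z hy hz
      obtain ⟨t, ht, hty⟩ := hT.trans y z hy hz
      exact ⟨⟨t, ht⟩, hty, fun u hu => Subtype.ext (hT.eq_of_smul_eq u.2 ht hy (hu.trans hty.symm))⟩
    rcases S0731.result hZ oI T hTle hTn hTab hTreg with ⟨h3, _⟩ | ⟨K, iK, iKt, hK, ⟨e⟩⟩
    · exfalso
      have hx : Nonempty (Fin 3 ↪ α) := by
        rw [Function.Embedding.nonempty_iff_card_le, Fintype.card_fin, hα]
        omega
      obtain ⟨x⟩ := hx
      have h1 := (stabilizer G x).card_mul_index
      rw [@index_stabilizer_of_transitive G _ _ _ x h3, hsharp3 x, Subgroup.card_bot, one_mul,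
        Nat.card_eq_fintype_card, Fintype.card_embedding_eq, Fintype.card_fin, hα, hG] at h1
      have h2 : (p + 1).descFactorial 3 = (p + 1) * p * (p - 1) := by
        simp [Nat.descFactorial_succ]
        ring
      rw [h2] at h1
      exact hdp (Nat.eq_of_mul_eq_mul_left (by positivity) h1).symm
    · have hcard := Cfsg.Agent.Lib.Helper5.card_PSL2 (F := K)
      rw [← Nat.card_congr e.toEquiv, hG] at hcard
      have hsodd : Fintype.card K % 2 = 1 := FiniteField.odd_card_of_char_ne_two hK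
      have hgcd : Nat.gcd (Fintype.card K - 1) 2 = 2 := by
        apply Nat.gcd_eq_right
        omega
      rw [hgcd] at hcard
      obtain ⟨n, hr, hs⟩ := FiniteField.card K (ringChar K)
      have hKp : Fintype.card K = p := card_eq_p hp hr hs hsodd hd0 hd hcard
      rw [hKp] at hcard
      have : Fact p.Prime := ⟨hp⟩
      refine ⟨?_, ?_⟩
      · obtain ⟨P, rfl⟩ : ∃ P, p = P + 1 := ⟨p - 1, by omega⟩
        have e1 : (P + 1) ^ 2 - 1 = P * (P + 1 + 1) := by
          have : (P + 1) ^ 2 = P * (P + 1 + 1) + 1 := by ring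
          omega
        rw [e1] at hcard
        have e2 : ((P + 1 + 1) * (P + 1)) * (2 * d) = ((P + 1 + 1) * (P + 1)) * P := by
          linear_combination hcard
        have := Nat.eq_of_mul_eq_mul_left (by positivity) e2
        omega
      · obtain ⟨e2⟩ := Cfsg.Agent.Lib.Helper14.psl2_equiv_of_card_eq (K := K) (L := ZMod p)
          (by rw [hKp, ZMod.card])
        exact ⟨e.trans e2⟩

end Cfsg.Agent.S0732
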