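import Mathlib
import Cfsg.Statements.S0994
import Cfsg.Agent.Lib.Helper17.Basic

set_option autoImplicit false
open Cfsg

namespace Cfsg.Agent.S0994

open Cfsg.Agent.Lib.Helper17

/-- No finite simple group has order 1188 = 2^2 * 3^3 * 11. -/
theorem result {G : Type*} [Group G] [Finite G] [IsSimpleGroup G] : Nat.card G ≠ 1188 := by
  intro hG
  have : Fact (Nat.Prime 11) := ⟨by norm_num⟩
  have hfac : Nat.card G = 11 ^ 1 * 108 := by rw [hG]; norm_num
  have h1 := mem_divisors_filter (by norm_num) (card_sylow_mem (p := 11) hfac (by norm_num))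
  rw [show (Nat.divisors 108).filter (fun d => d % 11 = 1) = {1, 12} by decide +kernel] at h1
  have h2 := card_sylow_ne_one (p := 11) hfac (by norm_num) (by norm_num) (by norm_num)
  have h3 : Nat.card (Sylow 11 G) = 12 := by
    simp only [Finset.mem_insert, Finset.mem_singleton] at h1
    tauto
  obtain ⟨P⟩ : Nonempty (Sylow 11 G) := inferInstance
  have hP : Nat.card ↥(P : Subgroup G) = 11 := by simpa using (sylow_card_index P hfac (by norm_num)).1
  have hN := card_sylow_mul_card_normalizer P
  rw [h3, hG] at hN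
  have hN' : Nat.card ↥(Subgroup.normalizer ((P : Subgroup G) : Set G)) = 99 := by omega
  obtain ⟨r1, r2, r3⟩ := sylow_prime_relIndex P hP (by rw [hG]; norm_num)
  rw [hN'] at r3
  set r := (Subgroup.centralizer ((P : Subgroup G) : Set G)).relIndex (Subgroup.normalizer ((P : Subgroup G) : Set G))
  have r4 : r ∣ 99 := Dvd.dvd.trans (Dvd.intro _ rfl) r3
  have r5 : r ∣ Nat.gcd 99 10 := Nat.dvd_gcd r4 r2
  norm_num at r5
  exact r1 r5

end Cfsg.Agent.S0994
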