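import Cfsg.Statements.S1129
import Cfsg.Agent.Lib.Helper19.RankOneCentral
import Cfsg.Agent.S0033

set_option autoImplicit false
open Cfsg

namespace Cfsg.Agent.S1129

/-- In the rank-one set-up (`G` finite and doubly transitive on `Ω`, `t` an involution moving `a`, `Q` normal in `G_a` with `G_a = Q D`, `Q ⊓ D = 1` for the two-point stabiliser `D = G_a ⊓ G_{t • a}`, `|Q|` even, `|D|` odd), with the action faithful and `G` containing two distinct commuting involutions: `Q` is nilpotent. -/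
theorem result {G Ω : Type*} [Group G] [Finite G] [MulAction G Ω] [FaithfulSMul G Ω] {a : Ω} {t : G} {Q : Subgroup G}
    (hS : Cfsg.IsRankOneSetup G Ω a t Q)
    (h2 : ∃ x y : G, x ≠ 1 ∧ y ≠ 1 ∧ x ≠ y ∧ x * x = 1 ∧ y * y = 1 ∧ x * y = y * x) :
    Group.IsNilpotent Q := by
  open Cfsg.Agent.Lib.Helper19 in
  classical
  obtain ⟨x, y, hx1, hy1, hxy, hx2, hy2, hc⟩ := h2
  -- common fixed point
  obtain ⟨c, hxc, -⟩ := invol_existsUnique_fix hS hx1 hx2
  have hyc : y • c = c := by
    have h1 : x • (y • c) = y • c := by rw [smul_smul, hc, mul_smul, hxc]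
    exact invol_fix_eq hS hx1 hx2 h1 hxc
  obtain ⟨g, hg⟩ := Cfsg.Agent.Lib.Helper19.trans hS c a
  have hginv : g⁻¹ • a = c := by rw [inv_smul_eq_iff, hg]
  have hs : g * x * g⁻¹ ∈ Cfsg.involutionsIn (MulAction.stabilizer G a : Set G) := by
    refine ⟨?_, conj_invol_ne_one hx1, conj_invol_sq hx2⟩
    show (g * x * g⁻¹) • a = a
    rw [mul_smul, mul_smul, hginv, hxc, hg]
  have hs' : g * y * g⁻¹ ∈ Cfsg.involutionsIn (MulAction.stabilizer G a : Set G) := by
    refine ⟨?_, conj_invol_ne_one hy1, conj_invol_sq hy2⟩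
    show (g * y * g⁻¹) • a = a
    rw [mul_smul, mul_smul, hginv, hyc, hg]
  obtain ⟨k, ⟨hkK, hk⟩, -⟩ := existsUnique_K_conj hS hs hs'
  have hk1 : k ≠ 1 := by
    rintro rfl
    apply hxy
    have : g * x * g⁻¹ = g * y * g⁻¹ := by simpa using hk
    simpa using this
  obtain ⟨hkD, hkt⟩ := (mem_invertedBy_iff hS).mp hkK
  -- a power of prime order
  have hord : orderOf k ≠ 1 := by rwa [Ne, orderOf_eq_one_iff]
  obtain ⟨p, hp, hpd⟩ := Nat.exists_prime_and_dvd hord
  set k' := k ^ (orderOf k / p) with hk'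
  have hk'ord : orderOf k' = p := orderOf_pow_orderOf_div (orderOf_pos k).ne' hpd
  have hk'1 : k' ≠ 1 := by
    intro h
    rw [h, orderOf_one] at hk'ord
    exact hp.one_lt.ne hk'ord
  have hk'D : k' ∈ MulAction.stabilizer G a ⊓ MulAction.stabilizer G (t • a) := Subgroup.pow_mem _ hkD _
  have hk't : t * k' * t = k'⁻¹ := by
    have htinv := t_inv hS
    have h1 : t * k' * t⁻¹ = (t * k * t⁻¹) ^ (orderOf k / p) := by rw [hk', conj_pow]
    rw [htinv, hkt, inv_pow] at h1
    exact h1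
  have hfpf := K_fpf hS ((mem_invertedBy_iff hS).mpr ⟨hk'D, hk't⟩) hk'1
  have hk'a : k' ∈ MulAction.stabilizer G a := (Subgroup.mem_inf.mp hk'D).1
  let φ : Q ≃* Q :=
    { toFun := fun q => ⟨k' * q * k'⁻¹, hS.conj_mem k' hk'a q q.2⟩
      invFun := fun q => ⟨k'⁻¹ * q * k', by
        have := hS.conj_mem k'⁻¹ (Subgroup.inv_mem _ hk'a) q q.2
        simpa using this⟩
      left_inv := fun q => Subtype.ext (by simp [mul_assoc])
      right_inv := fun q => Subtype.ext (by simp [mul_assoc])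
      map_mul' := fun q r => Subtype.ext (by simp [mul_assoc]) }
  have hφ : ∀ q : Q, ((φ q : Q) : G) = k' * q * k'⁻¹ := fun q => rfl
  have hφpow : ∀ (n : ℕ) (q : Q), (((φ ^ n) q : Q) : G) = k' ^ n * q * (k' ^ n)⁻¹ := by
    intro n
    induction n with
    | zero => intro q; simp
    | succ n ih =>
      intro q
      rw [pow_succ', MulAut.mul_apply, hφ, ih, pow_succ']
      simp [mul_assoc]
  have hfix : MonoidHom.FixedPointFree (φ : Q →* Q) := by
    intro q hq
    have h1 : k' * (q : G) * k'⁻¹ = q := by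
      have := congrArg Subtype.val hq
      exact this
    have h2 : (q : G) ∈ Q ⊓ Subgroup.centralizer {k'} := by
      refine Subgroup.mem_inf.mpr ⟨q.2, ?_⟩
      rw [Subgroup.mem_centralizer_iff]
      intro z hz
      rw [Set.mem_singleton_iff] at hz
      rw [hz]
      calc k' * (q : G) = (k' * q * k'⁻¹) * k' := by group
        _ = q * k' := by rw [h1]
    rw [hfpf, Subgroup.mem_bot] at h2
    exact Subtype.ext h2
  have hφ1 : φ ≠ 1 := by
    intro h
    obtain ⟨s, hsQ, hs1, -⟩ := exists_invol_Q hS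
    have := hfix ⟨s, hsQ⟩ (by
      show φ ⟨s, hsQ⟩ = ⟨s, hsQ⟩
      rw [h]; rfl)
    exact hs1 (congrArg Subtype.val this)
  have hφp : φ ^ p = 1 := by
    ext q
    rw [hφpow, ← hk'ord, pow_orderOf_eq_one]
    simp
  have : Fact p.Prime := ⟨hp⟩
  exact Cfsg.Agent.S0033.result φ hfix p hp (orderOf_eq_prime hφp hφ1)

end Cfsg.Agent.S1129
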