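import Cfsg.Statements.S1167
import Cfsg.Agent.Lib.Helper6.ZasAb
import Cfsg.Agent.S0738

set_option autoImplicit false
open Cfsg

namespace Cfsg.Agent.S1167

/-- Let `G` be a finite simple Zassenhaus group on `Ω`, `U` a normal subgroup of `G_a` regular on `Ω` minus `a` which is an abelian 2-group, and `v` an involution with `v • a ≠ a`. Then there is a unique `u₀ ∈ U`, `u₀ ≠ 1`, with `v u₀ v = u₀ v u₀`. -/
theorem result {G Ω : Type*} [Group G] [Finite G] [MulAction G Ω] [Finite Ω]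
    (hZ : Cfsg.IsZassenhausGroup G Ω) [IsSimpleGroup G] {a : Ω}
    (U : Subgroup G) (hUle : U ≤ MulAction.stabilizer G a)
    (hUn : ∀ h ∈ MulAction.stabilizer G a, ∀ u ∈ U, h * u * h⁻¹ ∈ U)
    (hreg : ∀ c d : Ω, c ≠ a → d ≠ a → ∃! u : U, (u : G) • c = d)
    (hU2 : IsPGroup 2 U) (hUab : ∀ u ∈ U, ∀ u' ∈ U, u * u' = u' * u)
    (v : G) (hv1 : v ≠ 1) (hv2 : v * v = 1) (hva : v • a ≠ a) :
    ∃! u₀ : G, u₀ ∈ U ∧ u₀ ≠ 1 ∧ v * u₀ * v = u₀ * v * u₀ := by
  classical
  have : Fintype Ω := Fintype.ofFinite Ω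
  have hb := Cfsg.Agent.Lib.Helper6.Zas.base_of_zassenhaus hZ
  obtain ⟨b, hbdef⟩ : ∃ b, b = v • a := ⟨_, rfl⟩
  have hab : a ≠ b := by rw [hbdef]; exact hva.symm
  have hvb : v • b = a := by rw [hbdef, ← mul_smul, hv2, one_smul]
  have hvi : v⁻¹ = v := inv_eq_of_mul_eq_one_left hv2
  have hFn : (U.subgroupOf (MulAction.stabilizer G a)).Normal := by
    constructor
    intro n hn g
    exact hUn g g.2 n hn
  have z := Cfsg.Agent.Lib.Helper6.Zas.zdata_of_regular hb hab U hUle hFn hreg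
  obtain ⟨h, hh⟩ : ∃ h, Fintype.card Ω = h + 1 :=
    ⟨Fintype.card Ω - 1, by have : 0 < Fintype.card Ω := Fintype.card_pos_iff.2 ⟨a⟩; omega⟩
  obtain ⟨e, he⟩ : ∃ e, Nat.card ↥(MulAction.stabilizer G a ⊓ MulAction.stabilizer G b : Subgroup G) = e :=
    ⟨_, rfl⟩
  have hUcard : Nat.card U + 1 = Fintype.card Ω := by
    rw [← Nat.card_eq_fintype_card, z.card_K]
  have hUfix : ∀ u ∈ U, u ≠ 1 → ∀ c : Ω, u • c = c → c = a := by
    intro u hu hu1 c hc
    by_contra hca
    exact hu1 (z.Kfree u hu c hca hc)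
  have h3 : 2 < Fintype.card Ω := by
    obtain ⟨c, hca, hcb⟩ := Cfsg.Agent.Lib.Helper6.Zas.exists_third hZ a b
    rw [Fintype.two_lt_card_iff]
    exact ⟨a, b, c, hab, hca.symm, hcb.symm⟩
  obtain ⟨k, hk⟩ := (IsPGroup.iff_card (p := 2) (G := U)).1 hU2
  have hk0 : k ≠ 0 := by
    rintro rfl
    rw [pow_zero] at hk
    omega
  have hheven : Even h := by
    have : h = 2 ^ k := by omega
    rw [this]
    exact (Nat.even_pow.2 ⟨even_two, hk0⟩)
  have hodd : Odd e := by
    have h1 : e ∣ h - 1 := he ▸ hb.card_stab2_dvd hab hh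
    have h2 : Odd (h - 1) := by
      obtain ⟨j, hj⟩ := hheven
      exact ⟨j - 1, by omega⟩
    exact Odd.of_dvd_nat h2 h1
  have hle : h - 1 ≤ 2 * e := by
    rcases Cfsg.Agent.Lib.Helper6.Zas.feit_general _ G rfl hZ hab h e hh he hodd U hUle hUcard hUfix with
      h1 | ⟨-, ⟨u, w, huw⟩, -⟩
    · exact h1
    · exact absurd (Subtype.ext (hUab u u.2 w w.2)) huw
  obtain ⟨-, p, f, hp, hexp, hcard⟩ := Cfsg.Agent.S0738.result hZ hab (by rw [he]; omega) U hUle hFn hreg
  have hp2 : p = 2 := by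
    have h1 : p ^ f = 2 ^ k := by omega
    have hf0 : f ≠ 0 := by
      rintro rfl
      rw [pow_zero] at hcard
      omega
    have h2 : p ∣ 2 ^ k := h1 ▸ dvd_pow_self p hf0
    exact (Nat.prime_dvd_prime_iff_eq hp Nat.prime_two).1 (hp.dvd_of_dvd_pow h2)
  subst hp2
  have hsq : ∀ u ∈ U, u * u = 1 := fun u hu => by rw [← pow_two]; exact hexp u hu
  have hn : Odd (Fintype.card Ω) := by rw [hh]; exact hheven.add_one
  obtain ⟨c, hc⟩ := hb.invol_exists_fix hn v hv1 hv2
  have hca : c ≠ a := by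
    rintro rfl
    exact hva hc
  obtain ⟨ρ, hρ, hρuniq⟩ := hreg b c hab.symm hca
  have hρ2 := hsq ρ ρ.2
  have hρ1 : (ρ : G) ≠ 1 := by
    intro h1
    rw [h1, one_smul] at hρ
    rw [← hρ, hvb] at hc
    exact hab hc
  have hρc : (ρ : G) • c = b := by rw [← hρ, ← mul_smul, hρ2, one_smul]
  -- the element `π`
  have hπU : v * ρ * v * ρ * v ∈ U := by
    have h1 : (v * ρ * v * ρ * v) • a = a := by
      simp only [mul_smul]
      rw [← hbdef, hρ, hc, hρc, hvb]
    have h2 : (v * ρ * v * ρ * v) * (v * ρ * v * ρ * v) = 1 := by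
      calc (v * ρ * v * ρ * v) * (v * ρ * v * ρ * v)
          = v * ρ * v * ρ * (v * v) * ρ * v * ρ * v := by group
        _ = v * ρ * v * (ρ * ρ) * v * ρ * v := by rw [hv2]; group
        _ = v * ρ * (v * v) * ρ * v := by rw [hρ2]; group
        _ = v * (ρ * ρ) * v := by rw [hv2]; group
        _ = 1 := by rw [hρ2, mul_one, hv2]
    have h3 : v * ρ * v * ρ * v ≠ 1 := by
      intro h4
      have h5 : (ρ : G) * v * ρ = 1 := by
        calc (ρ : G) * v * ρ = v * (v * ρ * v * ρ * v) * v := by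
              calc (ρ : G) * v * ρ = (v * v) * ρ * v * ρ * (v * v) := by rw [hv2]; group
                _ = v * (v * ρ * v * ρ * v) * v := by group
          _ = 1 := by rw [h4, mul_one, hv2]
      apply hv1
      calc v = ρ * (ρ * v * ρ) * ρ := by
              calc v = (ρ * ρ) * v * (ρ * ρ) := by rw [hρ2]; group
                _ = ρ * (ρ * v * ρ) * ρ := by group
        _ = 1 := by rw [h5, mul_one, hρ2]
    apply Cfsg.Agent.Lib.Helper6.Zas.mem_kernel hb hab U hUle hUcard hUfix _ h1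
    intro d hd
    exact hb.invol_fix_unique hab (he ▸ hodd) _ h3 h2 hd h1
  have hσ : (v * ρ * v * ρ * v) * ρ = 1 := by
    apply z.Kfree _ (U.mul_mem hπU ρ.2) b hab.symm
    have hcomm : (v * ρ * v * ρ * v * ρ) * v = v * (v * ρ * v * ρ * v * ρ) := by
      have h1 := hUab _ hπU _ ρ.2
      calc (v * ρ * v * ρ * v * ρ) * v = v * (ρ * (v * ρ * v * ρ * v)) := by group
        _ = v * (v * ρ * v * ρ * v * ρ) := by rw [← h1]
    rw [hbdef, ← mul_smul, hcomm, mul_smul]
    have h2 : (v * ρ * v * ρ * v * ρ) • a = a := hUle (U.mul_mem hπU ρ.2)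
    rw [h2]
  refine ⟨ρ, ⟨ρ.2, hρ1, ?_⟩, ?_⟩
  · calc v * ρ * v = (v * ρ * v * ρ * v * ρ) * (ρ * v * ρ) := by
          calc v * ρ * v = v * ρ * v * (ρ * (v * (ρ * ρ) * v) * ρ) := by
                rw [hρ2, mul_one, hv2, mul_one, hρ2, mul_one]
            _ = (v * ρ * v * ρ * v * ρ) * (ρ * v * ρ) := by group
      _ = ρ * v * ρ := by rw [hσ, one_mul]
  · rintro u ⟨hu, hu1, hrel⟩
    have hu2 := hsq u hu
    have hua : u • a = a := hUle hu
    have h1 : (u * v * u) • (u • c) = u • c := by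
      rw [← mul_smul]
      have : u * v * u * u = u * v := by rw [mul_assoc, hu2, mul_one]
      rw [this, mul_smul, hc]
    rw [← hrel] at h1
    have h2 : u • (v • (u • c)) = v • (u • c) := by
      have h3 : v • ((v * u * v) • (u • c)) = v • (u • c) := by rw [h1]
      rw [← mul_smul] at h3
      have : v * (v * u * v) = u * v := by
        calc v * (v * u * v) = (v * v) * u * v := by group
          _ = u * v := by rw [hv2, one_mul]
      rw [this, mul_smul] at h3
      exact h3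
    have h4 := hUfix u hu hu1 _ h2
    have h5 : u • c = b := by
      rw [hbdef, ← h4, ← mul_smul, hv2, one_smul]
    have h6 : u • b = c := by rw [← h5, ← mul_smul, hu2, one_smul]
    exact congrArg Subtype.val (hρuniq ⟨u, hu⟩ h6)

end Cfsg.Agent.S1167
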