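import Cfsg.Statements.S1247
import Cfsg.Agent.Lib.Helper49.BenderLemma

set_option autoImplicit false
open Cfsg

namespace Cfsg.Agent.S1247

/-- Let G be a non-abelian finite simple group, A a maximal subgroup, F = F*(A) its generalized Fitting subgroup (viewed in G), and S ≤ F a subgroup subnormal in F with C_F(S) ≤ S. Let B be any subgroup of G containing S. Then (a) for every prime q not dividing |F(A)|, O_q(B) ∩ A = 1; and (b) for every prime p dividing |F(A)|, O_p(B) commutes elementwise with the subgroup of F generated by its elements of order prime to p. -/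
theorem result {G : Type*} [Group G] [Finite G] [IsSimpleGroup G] (hna : ¬ IsMulCommutative G) (A : Subgroup G) (hA : IsCoatom A) (S : Subgroup G) (hSF : S ≤ (Cfsg.generalizedFittingSubgroup ↥A).map A.subtype) (hSsn : (S.subgroupOf ((Cfsg.generalizedFittingSubgroup ↥A).map A.subtype)).IsSubnormal) (hSC : (Cfsg.generalizedFittingSubgroup ↥A).map A.subtype ⊓ Subgroup.centralizer (S : Set G) ≤ S) (B : Subgroup G) (hSB : S ≤ B) : (∀ q : ℕ, q.Prime → ¬ q ∣ Nat.card (Cfsg.fittingSubgroup ↥A) → (Cfsg.pCore q ↥B).map B.subtype ⊓ A = ⊥) ∧ (∀ p : ℕ, p.Prime → p ∣ Nat.card (Cfsg.fittingSubgroup ↥A) → ∀ x ∈ (Cfsg.pCore p ↥B).map B.subtype, ∀ y ∈ (Cfsg.pResidual p ↥(Cfsg.generalizedFittingSubgroup ↥A)).map ((Cfsg.generalizedFittingSubgroup ↥A).subtype) , x * (A.subtype y) = (A.subtype y) * x) := by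

  classical
  have hL := Cfsg.Agent.Lib.Helper49.Bender.large_subgroupOf hSF hSsn hSC
  have hSA : S ≤ A := hSF.trans (Subgroup.map_subtype_le _)
  have hBn : ∀ q : ℕ, B ≤ Subgroup.normalizer (((Cfsg.pCore q ↥B).map B.subtype : Subgroup G) : Set G) := by
    intro q
    have := Cfsg.Agent.Lib.Lead.pCore_normal' q ↥B
    exact Cfsg.Agent.Lib.Helper62.le_normalizer_map_subtype_of_normal _
  constructor
  · intro q hq hn
    have hX : IsPGroup q (((Cfsg.pCore q ↥B).map B.subtype ⊓ A).subgroupOf A) :=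
      ((((Cfsg.Agent.Lib.Lead.pCore_isPGroup q ↥B).map _).to_le inf_le_left)).comap_subtype
    have hSX : S ≤ Subgroup.normalizer ((((Cfsg.pCore q ↥B).map B.subtype ⊓ A : Subgroup G)) : Set G) :=
      Cfsg.Agent.S2817.le_normalizer_inf' (hSB.trans (hBn q)) (hSA.trans Subgroup.le_normalizer)
    have hSX' : S.subgroupOf A ≤ Subgroup.normalizer
        ((((Cfsg.pCore q ↥B).map B.subtype ⊓ A).subgroupOf A : Subgroup ↥A) : Set ↥A) :=
      (Subgroup.comap_mono hSX).trans (Subgroup.le_normalizer_comap _)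
    have h := hL.eq_bot_of_not_dvd hq hX hSX' hn
    rw [Subgroup.subgroupOf_eq_bot] at h
    have h2 := h.eq_bot
    rwa [inf_assoc, inf_idem] at h2
  · intro p hp hdvd x hx y hy
    have key := Cfsg.Agent.Lib.Helper49.Bender.centralizes_of_coatom hA hSA hL hp hdvd
      ((Cfsg.Agent.Lib.Lead.pCore_isPGroup p ↥B).map B.subtype) (hSB.trans (hBn p))
    have h1 : (Cfsg.pResidual p ↥(Cfsg.generalizedFittingSubgroup ↥A)).map
        ((Cfsg.generalizedFittingSubgroup ↥A).subtype) ≤
        (Subgroup.centralizer (((Cfsg.pCore p ↥B).map B.subtype : Subgroup G) : Set G)).comap A.subtype := by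
      rw [Subgroup.map_le_iff_le_comap]
      unfold Cfsg.pResidual
      rw [Subgroup.closure_le]
      intro g hg
      have hg' : (orderOf g).Coprime p := hg
      show (A.subtype ((Cfsg.generalizedFittingSubgroup ↥A).subtype g)) ∈ Subgroup.centralizer (((Cfsg.pCore p ↥B).map B.subtype : Subgroup G) : Set G)
      apply key _ g.2
      rw [Subgroup.orderOf_coe]
      exact hg'
    have h2 := h1 hy
    exact (Subgroup.mem_centralizer_iff.mp h2) x hx

end Cfsg.Agent.S1247
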