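import Cfsg.Statements.S1323
import Cfsg.Agent.Lib.Helper38.AltStandard

set_option autoImplicit false
open Cfsg

namespace Cfsg.Agent.S1323

/-- For n ≥ 9, the subgroup of the alternating group on Fin n fixing each of the points 0, 1, 2, 3 is a standard subgroup. -/
theorem result (n : ℕ) (h4 : 4 ≤ n) (hn : 9 ≤ n) : Cfsg.IsStandardSubgroup (⨅ i : Fin 4, MulAction.stabilizer ↥(alternatingGroup (Fin n)) (Fin.castLE h4 i : Fin n)) := by
  rw [Cfsg.Agent.Lib.Helper38.AltStd.iInf_stabilizer_eq h4]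
  exact Cfsg.Agent.Lib.Helper38.AltStd.isStandard_LL hn

end Cfsg.Agent.S1323
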