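import Cfsg.Statements.S1340
import Cfsg.Agent.Lib.Helper5.SLGen
import Cfsg.Agent.Lib.Helper31.Quasisimple
import Cfsg.Agent.Lib.Helper23.PComp5
import Cfsg.Agent.Lib.Helper1.Cores

set_option autoImplicit false
open Cfsg

namespace Cfsg.Agent.S1340

open Matrix

variable {F : Type*} [Field F]

/-- `SL_m(F)` is quasisimple for `m ≥ 3`, or `m = 2` and `|F| ≥ 4`. -/
theorem sl_quasisimple [Finite F] (m : ℕ) (hm : 2 ≤ m) (h : 3 ≤ m ∨ 4 ≤ Nat.card F) :
    Cfsg.IsQuasisimple (Matrix.SpecialLinearGroup (Fin m) F) := by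
  by_cases h3 : 3 ≤ m
  · exact ⟨⟨Cfsg.Agent.Lib.Helper5.SL_commutator_eq_top (by simpa using h3)⟩,
      Cfsg.Agent.Lib.Helper5.PSL_isSimpleGroup (by simpa using h3)⟩
  · obtain rfl : m = 2 := by omega
    have h4 : 4 ≤ Nat.card F := by
      rcases h with h | h
      · omega
      · exact h
    have hs := Matrix.ProjectiveSpecialLinearGroup.rank_two_simple (F := F) h4
    obtain ⟨a, ha, ha2⟩ : ∃ a : F, a ≠ 0 ∧ a ^ 2 ≠ 1 := by
      obtain ⟨x, hx⟩ : IsCyclic Fˣ := by infer_instance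
      refine ⟨x, Units.ne_zero x, fun h ↦ ?_⟩
      grw [Nat.card_eq_card_units_add_one F, ← orderOf_eq_card_of_forall_mem_zpowers hx,
        orderOf_le_of_pow_eq_one zero_lt_two (Units.ext <| by simpa using h)] at h4
      omega
    exact ⟨⟨Matrix.SL2.commutator_eq_top ha ha2⟩, hs⟩

section blocks

variable {m : ℕ}

/-- the block embedding as a monoid hom to matrices -/
def blkM : Matrix.SpecialLinearGroup (Fin m) F →* Matrix (Fin m ⊕ Unit) (Fin m ⊕ Unit) F where
  toFun A := Matrix.fromBlocks (A : Matrix (Fin m) (Fin m) F) 0 0 1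
  map_one' := by simp
  map_mul' A B := by simp [Matrix.fromBlocks_multiply]

/-- the block embedding `SL_m → GL_{m+1}` -/
def blk : Matrix.SpecialLinearGroup (Fin m) F →* Matrix.GeneralLinearGroup (Fin m ⊕ Unit) F :=
  (blkM (F := F) (m := m)).toHomUnits

theorem blk_val (A : Matrix.SpecialLinearGroup (Fin m) F) :
    ((blk A : Matrix.GeneralLinearGroup (Fin m ⊕ Unit) F) : Matrix (Fin m ⊕ Unit) (Fin m ⊕ Unit) F)
      = Matrix.fromBlocks (A : Matrix (Fin m) (Fin m) F) 0 0 1 := rfl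

theorem blk_injective : Function.Injective (blk (F := F) (m := m)) := by
  intro A B h
  have h1 := congrArg (fun g : Matrix.GeneralLinearGroup (Fin m ⊕ Unit) F =>
    (g : Matrix (Fin m ⊕ Unit) (Fin m ⊕ Unit) F)) h
  simp only [blk_val] at h1
  exact Subtype.ext (Matrix.fromBlocks_inj.1 h1).1

/-- the involution `diag(1,…,1,-1)` -/
def t0 : Matrix.GeneralLinearGroup (Fin m ⊕ Unit) F :=
  ⟨Matrix.fromBlocks 1 0 0 (-1), Matrix.fromBlocks 1 0 0 (-1),
    by simp [Matrix.fromBlocks_multiply], by simp [Matrix.fromBlocks_multiply]⟩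

theorem t0_val : ((t0 : Matrix.GeneralLinearGroup (Fin m ⊕ Unit) F) :
    Matrix (Fin m ⊕ Unit) (Fin m ⊕ Unit) F) = Matrix.fromBlocks 1 0 0 (-1) := rfl

theorem t0_sq : (t0 : Matrix.GeneralLinearGroup (Fin m ⊕ Unit) F) ^ 2 = 1 := by
  apply Units.ext
  simp [pow_two, t0_val, Matrix.fromBlocks_multiply]

/-- matrices commuting with `t0` are block diagonal -/
theorem block_of_commute (h2 : (2 : F) ≠ 0) (M : Matrix (Fin m ⊕ Unit) (Fin m ⊕ Unit) F)
    (h : M * Matrix.fromBlocks 1 0 0 (-1) = Matrix.fromBlocks 1 0 0 (-1) * M) :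
    M = Matrix.fromBlocks M.toBlocks₁₁ 0 0 M.toBlocks₂₂ := by
  conv_lhs at h => rw [← Matrix.fromBlocks_toBlocks M]
  conv_rhs at h => rw [← Matrix.fromBlocks_toBlocks M]
  rw [Matrix.fromBlocks_multiply, Matrix.fromBlocks_multiply, Matrix.fromBlocks_inj] at h
  obtain ⟨-, h12, h21, -⟩ := h
  simp only [Matrix.mul_zero, Matrix.mul_neg, Matrix.mul_one, zero_add, Matrix.one_mul,
    Matrix.zero_mul, add_zero, Matrix.neg_mul] at h12 h21
  have e12 : M.toBlocks₁₂ = 0 := by
    ext i j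
    have := congrFun (congrFun h12 i) j
    simp only [Matrix.neg_apply] at this
    have h3 : (2 : F) * M.toBlocks₁₂ i j = 0 := by linear_combination -this
    simpa [h2] using h3
  have e21 : M.toBlocks₂₁ = 0 := by
    ext i j
    have := congrFun (congrFun h21 i) j
    simp only [Matrix.neg_apply] at this
    have h3 : (2 : F) * M.toBlocks₂₁ i j = 0 := by linear_combination this
    simpa [h2] using h3
  conv_lhs => rw [← Matrix.fromBlocks_toBlocks M, e12, e21]

/-- the range of `blk` is normalised by the centraliser of `t0` -/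
theorem conj_mem_range (h2 : (2 : F) ≠ 0) (c : Matrix.GeneralLinearGroup (Fin m ⊕ Unit) F)
    (hc : c * t0 = t0 * c) (A : Matrix.SpecialLinearGroup (Fin m) F) :
    c * blk A * c⁻¹ ∈ (blk (F := F) (m := m)).range := by
  have hc1 : (c : Matrix (Fin m ⊕ Unit) (Fin m ⊕ Unit) F) * Matrix.fromBlocks 1 0 0 (-1)
      = Matrix.fromBlocks 1 0 0 (-1) * (c : Matrix (Fin m ⊕ Unit) (Fin m ⊕ Unit) F) := by
    have := congrArg (fun g : Matrix.GeneralLinearGroup (Fin m ⊕ Unit) F =>
      (g : Matrix (Fin m ⊕ Unit) (Fin m ⊕ Unit) F)) hc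
    simpa [t0_val] using this
  have hc' : c⁻¹ * t0 = t0 * c⁻¹ := by
    rw [eq_mul_inv_iff_mul_eq, mul_assoc, ← hc, ← mul_assoc, inv_mul_cancel, one_mul]
  have hc2 : ((c⁻¹ : Matrix.GeneralLinearGroup (Fin m ⊕ Unit) F) :
      Matrix (Fin m ⊕ Unit) (Fin m ⊕ Unit) F) * Matrix.fromBlocks 1 0 0 (-1)
      = Matrix.fromBlocks 1 0 0 (-1) * ((c⁻¹ : Matrix.GeneralLinearGroup (Fin m ⊕ Unit) F) :
      Matrix (Fin m ⊕ Unit) (Fin m ⊕ Unit) F) := by
    have := congrArg (fun g : Matrix.GeneralLinearGroup (Fin m ⊕ Unit) F =>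
      (g : Matrix (Fin m ⊕ Unit) (Fin m ⊕ Unit) F)) hc'
    simpa only [Units.val_mul, t0_val] using this
  have b1 := block_of_commute h2 _ hc1
  have b2 := block_of_commute h2 _ hc2
  set a := (c : Matrix (Fin m ⊕ Unit) (Fin m ⊕ Unit) F).toBlocks₁₁ with ha
  set d := (c : Matrix (Fin m ⊕ Unit) (Fin m ⊕ Unit) F).toBlocks₂₂ with hd
  set a' := ((c⁻¹ : Matrix.GeneralLinearGroup (Fin m ⊕ Unit) F) :
      Matrix (Fin m ⊕ Unit) (Fin m ⊕ Unit) F).toBlocks₁₁ with ha'
  set d' := ((c⁻¹ : Matrix.GeneralLinearGroup (Fin m ⊕ Unit) F) :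
      Matrix (Fin m ⊕ Unit) (Fin m ⊕ Unit) F).toBlocks₂₂ with hd'
  have hmul : (c : Matrix (Fin m ⊕ Unit) (Fin m ⊕ Unit) F) *
      ((c⁻¹ : Matrix.GeneralLinearGroup (Fin m ⊕ Unit) F) :
      Matrix (Fin m ⊕ Unit) (Fin m ⊕ Unit) F) = 1 := by
    rw [← Units.val_mul, mul_inv_cancel, Units.val_one]
  rw [b1, b2, Matrix.fromBlocks_multiply, ← Matrix.fromBlocks_one, Matrix.fromBlocks_inj] at hmul
  obtain ⟨haa, -, -, hdd⟩ := hmul
  simp only [Matrix.mul_zero, add_zero, zero_add] at haa hdd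
  have hdet : (a * (A : Matrix (Fin m) (Fin m) F) * a').det = 1 := by
    rw [Matrix.det_mul, Matrix.det_mul, A.det_coe, mul_one, ← Matrix.det_mul, haa, Matrix.det_one]
  refine ⟨⟨a * (A : Matrix (Fin m) (Fin m) F) * a', hdet⟩, ?_⟩
  apply Units.ext
  rw [Units.val_mul, Units.val_mul, blk_val A, b1, b2,
    blk_val (⟨a * (A : Matrix (Fin m) (Fin m) F) * a', hdet⟩ : Matrix.SpecialLinearGroup (Fin m) F)]
  simp [Matrix.fromBlocks_multiply, hdd]

end blocks

theorem hasComponent_of {G L : Type*} [Group G] [Finite G] [Group L] (t : G) (ψ : L →* G)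
    (hinj : Function.Injective ψ) (hL : Cfsg.IsQuasisimple L) (hcen : ∀ a, ψ a * t = t * ψ a)
    (hnorm : ∀ c : G, c * t = t * c → ∀ a, c * ψ a * c⁻¹ ∈ ψ.range) (s : L) (hs : orderOf s = 2) :
    Cfsg.HasComponent (↥(Subgroup.centralizer ({t} : Set G)) ⧸
      Cfsg.oddCore ↥(Subgroup.centralizer ({t} : Set G))) := by
  set C := Subgroup.centralizer ({t} : Set G) with hC
  have hle : ψ.range ≤ C := by
    rintro _ ⟨a, rfl⟩
    rw [hC, Subgroup.mem_centralizer_singleton_iff]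
    exact hcen a
  set K : Subgroup C := ψ.range.subgroupOf C with hK
  have hKn : K.Normal := by
    constructor
    intro n hn g
    rw [hK, Subgroup.mem_subgroupOf] at hn ⊢
    obtain ⟨a, ha⟩ := hn
    have hg : (g : G) * t = t * g := Subgroup.mem_centralizer_singleton_iff.1 g.2
    have := hnorm g hg a
    rw [ha] at this
    simpa using this
  have e : L ≃* K := (MonoidHom.ofInjective hinj).trans (Subgroup.subgroupOfEquivOfLe hle).symm
  have hKq : Cfsg.IsQuasisimple K := Cfsg.Agent.Lib.Helper31.IsQuasisimple.of_mulEquiv hL e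
  have hcomp : Cfsg.IsComponent K := ⟨hKn.isSubnormal, hKq⟩
  rcases Cfsg.Agent.Lib.Helper23.isComponent_map_of_surjective
    (QuotientGroup.mk' (Cfsg.oddCore C)) (QuotientGroup.mk'_surjective _) hcomp with h | h
  · exfalso
    have hle2 : K ≤ Cfsg.oddCore C := by
      rw [← QuotientGroup.ker_mk' (Cfsg.oddCore C), ← Subgroup.map_eq_bot_iff]
      exact h
    have hmem : ((e s : K) : C) ∈ Cfsg.oddCore C := hle2 (e s).2
    have ho : orderOf ((e s : K) : C) = 2 := by
      rw [Subgroup.orderOf_coe, MulEquiv.orderOf_eq, hs]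
    have hd : 2 ∣ Nat.card (Cfsg.oddCore C) := by
      have := orderOf_dvd_natCard (⟨((e s : K) : C), hmem⟩ : Cfsg.oddCore C)
      rwa [← Subgroup.orderOf_coe, ho] at this
    have hcop : (Nat.card (Cfsg.oddCore C)).Coprime 2 :=
      Cfsg.Agent.Lib.Helper1.pPrimeCore_coprime Nat.prime_two
    have := Nat.Coprime.eq_one_of_dvd hcop.symm hd
    omega
  · exact ⟨_, h.1, h.2⟩

theorem t0_ne_one (h2 : (2 : F) ≠ 0) {m : ℕ} :
    (t0 : Matrix.GeneralLinearGroup (Fin m ⊕ Unit) F) ≠ 1 := by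
  intro h
  have h1 := congrArg (fun g : Matrix.GeneralLinearGroup (Fin m ⊕ Unit) F =>
    (g : Matrix (Fin m ⊕ Unit) (Fin m ⊕ Unit) F) (Sum.inr ()) (Sum.inr ())) h
  simp only [t0_val, Units.val_one, Matrix.fromBlocks_apply₂₂, Matrix.neg_apply,
    Matrix.one_apply_eq] at h1
  apply h2
  linear_combination -h1

theorem blk_comm_t0 {m : ℕ} (A : Matrix.SpecialLinearGroup (Fin m) F) :
    blk A * t0 = t0 * blk A := by
  apply Units.ext
  rw [Units.val_mul, Units.val_mul, blk_val, t0_val]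
  simp [Matrix.fromBlocks_multiply]

theorem t0_not_central (h2 : (2 : F) ≠ 0) {m : ℕ} (i : Fin m) :
    ∃ c : Matrix.GeneralLinearGroup (Fin m ⊕ Unit) F, c * t0 ≠ t0 * c := by
  have hne : (Sum.inl i : Fin m ⊕ Unit) ≠ Sum.inr () := by simp
  refine ⟨Matrix.GeneralLinearGroup.mkOfDetNeZero
    (Matrix.transvection (Sum.inl i : Fin m ⊕ Unit) (Sum.inr ()) (1 : F))
    (by rw [Matrix.det_transvection_of_ne _ _ hne]; exact one_ne_zero), fun hc => ?_⟩
  have hc1 := congrArg (fun g : Matrix.GeneralLinearGroup (Fin m ⊕ Unit) F =>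
      (g : Matrix (Fin m ⊕ Unit) (Fin m ⊕ Unit) F)) hc
  simp only [Units.val_mul, t0_val] at hc1
  have b := block_of_commute h2 _ hc1
  have b1 := congrFun (congrFun b (Sum.inl i)) (Sum.inr ())
  rw [Matrix.fromBlocks_apply₁₂] at b1
  simp [Matrix.GeneralLinearGroup.mkOfDetNeZero, Matrix.transvection] at b1

/-- an involution in `SL_{k+2}` -/
theorem exists_invol (h2 : (2 : F) ≠ 0) (k : ℕ) :
    ∃ s : Matrix.SpecialLinearGroup (Fin (k + 2)) F, orderOf s = 2 := by
  have hdet : (Matrix.diagonal (Fin.cons (-1) (Fin.cons (-1) 1) : Fin (k + 2) → F)).det = 1 := by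
    rw [Matrix.det_diagonal, Fin.prod_univ_succ, Fin.prod_univ_succ]
    simp
  obtain ⟨s, hs⟩ : ∃ s : Matrix.SpecialLinearGroup (Fin (k + 2)) F,
      (s : Matrix (Fin (k + 2)) (Fin (k + 2)) F) =
        Matrix.diagonal (Fin.cons (-1) (Fin.cons (-1) 1) : Fin (k + 2) → F) := ⟨⟨_, hdet⟩, rfl⟩
  refine ⟨s, orderOf_eq_prime ?_ ?_⟩
  · apply Subtype.ext
    rw [pow_two, Matrix.SpecialLinearGroup.coe_mul, Matrix.SpecialLinearGroup.coe_one, hs]
    simp only [Matrix.diagonal_mul_diagonal]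
    rw [← Matrix.diagonal_one]
    congr 1
    funext i
    refine Fin.cases (by simp) (fun j => ?_) i
    refine Fin.cases (by simp) (fun l => by simp) j
  · intro h
    have h1 := congrArg (fun g : Matrix.SpecialLinearGroup (Fin (k + 2)) F =>
      (g : Matrix (Fin (k + 2)) (Fin (k + 2)) F) 0 0) h
    simp only [hs, Matrix.SpecialLinearGroup.coe_one, Matrix.one_apply_eq,
      Matrix.diagonal_apply_eq, Fin.cons_zero] at h1
    apply h2
    linear_combination -h1

/-- Let F be a finite field of odd order and n ≥ 3 with (n, |F|) ≠ (3, 3). Then GL(n, F) has a non-central involution t such that C(t) / O(C(t)) has a component. -/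
theorem result {F : Type*} [Field F] [Fintype F] [DecidableEq F] (hF : Odd (Fintype.card F)) (n : ℕ) (hn : 3 ≤ n) (h33 : ¬ (n = 3 ∧ Fintype.card F = 3)) : ∃ t : Matrix.GeneralLinearGroup (Fin n) F, orderOf t = 2 ∧ t ∉ Subgroup.center (Matrix.GeneralLinearGroup (Fin n) F) ∧ Cfsg.HasComponent (↥(Subgroup.centralizer ({t} : Set (Matrix.GeneralLinearGroup (Fin n) F))) ⧸ Cfsg.oddCore ↥(Subgroup.centralizer ({t} : Set (Matrix.GeneralLinearGroup (Fin n) F)))) := by
  obtain ⟨k, rfl⟩ : ∃ k, n = (k + 2) + 1 := ⟨n - 3, by omega⟩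
  have h2 : (2 : F) ≠ 0 := by
    apply Ring.two_ne_zero
    intro h
    have := FiniteField.even_card_of_char_two h
    rw [Nat.odd_iff] at hF
    omega
  have hq : Cfsg.IsQuasisimple (Matrix.SpecialLinearGroup (Fin (k + 2)) F) := by
    apply sl_quasisimple (k + 2) (by omega)
    by_cases hk : k = 0
    · right
      subst hk
      have h1 : 1 < Fintype.card F := Fintype.one_lt_card
      rw [Nat.card_eq_fintype_card]
      rw [Nat.odd_iff] at hF
      have : Fintype.card F ≠ 3 := fun h => h33 ⟨rfl, h⟩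
      omega
    · left; omega
  let e : Fin (k + 2) ⊕ Unit ≃ Fin (k + 2 + 1) := Fintype.equivOfCardEq (by simp)
  let Φ : Matrix.GeneralLinearGroup (Fin (k + 2) ⊕ Unit) F ≃*
      Matrix.GeneralLinearGroup (Fin (k + 2 + 1)) F :=
    Units.mapEquiv (Matrix.reindexAlgEquiv F F e).toMulEquiv
  obtain ⟨s, hs⟩ := exists_invol h2 k
  refine ⟨Φ t0, ?_, ?_, ?_⟩
  · rw [MulEquiv.orderOf_eq]
    exact orderOf_eq_prime t0_sq (t0_ne_one h2)
  · intro hc
    obtain ⟨c, hc1⟩ := t0_not_central h2 (0 : Fin (k + 2))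
    apply hc1
    rw [Subgroup.mem_center_iff] at hc
    apply Φ.injective
    rw [map_mul, map_mul]
    exact hc (Φ c)
  · refine hasComponent_of (Φ t0) (Φ.toMonoidHom.comp blk) ?_ hq ?_ ?_ s hs
    · exact Φ.injective.comp blk_injective
    · intro a
      change Φ (blk a) * Φ t0 = Φ t0 * Φ (blk a)
      rw [← map_mul, ← map_mul, blk_comm_t0]
    · intro c hc a
      have hc0 : Φ.symm c * t0 = t0 * Φ.symm c := by
        apply Φ.injective
        rw [map_mul, map_mul, MulEquiv.apply_symm_apply]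
        exact hc
      obtain ⟨B, hB⟩ := conj_mem_range h2 (Φ.symm c) hc0 a
      refine ⟨B, ?_⟩
      change Φ (blk B) = c * Φ (blk a) * c⁻¹
      rw [hB, map_mul, map_mul, map_inv, MulEquiv.apply_symm_apply]

end Cfsg.Agent.S1340
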