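import Cfsg.Statements.S1348
import Cfsg.Agent.S1340
import Cfsg.Agent.Lib.Helper31.Components

set_option autoImplicit false
open Cfsg

namespace Cfsg.Agent.S1348

open Matrix

theorem conj_mem_centralizer {G : Type*} [Group G] {L : Subgroup G} {g z : G}
    (hg : g ∈ Subgroup.normalizer (L : Set G)) (hz : z ∈ Subgroup.centralizer (L : Set G)) :
    g * z * g⁻¹ ∈ Subgroup.centralizer (L : Set G) := by
  rw [Subgroup.mem_centralizer_iff] at hz ⊢
  intro l hl
  have h1 : g⁻¹ * l * g ∈ L := (Subgroup.mem_normalizer_iff''.1 hg l).1 hl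
  have h2 := hz _ h1
  calc l * (g * z * g⁻¹) = g * ((g⁻¹ * l * g) * z) * g⁻¹ := by group
    _ = g * (z * (g⁻¹ * l * g)) * g⁻¹ := by rw [h2]
    _ = g * z * g⁻¹ * l := by group

theorem normalizer_le_normalizer_centralizer {G : Type*} [Group G] (L : Subgroup G) :
    Subgroup.normalizer (L : Set G) ≤
      Subgroup.normalizer ((Subgroup.centralizer (L : Set G) : Subgroup G) : Set G) := by
  intro g hg
  rw [Subgroup.mem_normalizer_iff]
  intro z
  refine ⟨fun hz => conj_mem_centralizer hg hz, fun hz => ?_⟩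
  have := conj_mem_centralizer (inv_mem hg) hz
  have e : g⁻¹ * (g * z * g⁻¹) * g⁻¹⁻¹ = z := by group
  rwa [e] at this

theorem standard_of {G L₀ : Type*} [Group G] [Finite G] [Group L₀] (t : G) (ht : orderOf t = 2)
    (ψ : L₀ →* G) (hinj : Function.Injective ψ) (hL : Cfsg.IsQuasisimple L₀)
    (hcen : ∀ a, ψ a * t = t * ψ a)
    (hnorm : ∀ c : G, c * t = t * c → ∀ a, c * ψ a * c⁻¹ ∈ ψ.range)
    (Z₀ : Subgroup G) (hZ₀ : Odd (Nat.card Z₀))
    (hKab : ∀ x y : G, (∀ a, ψ a * x = x * ψ a) → (∀ a, ψ a * y = y * ψ a) → x * y = y * x)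
    (hfus : ∀ g z : G, (∀ a, ψ a * z = z * ψ a) →
      (∀ a, ψ a * (g * z * g⁻¹) = (g * z * g⁻¹) * ψ a) → g * t = t * g ∨ g * z * g⁻¹ ∈ Z₀) :
    Cfsg.IsStandardSubgroup ((Cfsg.layer ↥(Subgroup.centralizer ({t} : Set G))).map
      (Subgroup.centralizer ({t} : Set G)).subtype) := by
  set C := Subgroup.centralizer ({t} : Set G) with hC
  set L := ψ.range with hLdef
  have hle : L ≤ C := by
    rintro _ ⟨a, rfl⟩
    rw [hC, Subgroup.mem_centralizer_singleton_iff]
    exact hcen a
  have hmemK : ∀ z, z ∈ Subgroup.centralizer (L : Set G) ↔ ∀ a, ψ a * z = z * ψ a := by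
    intro z
    rw [Subgroup.mem_centralizer_iff]
    constructor
    · intro h a
      exact h _ ⟨a, rfl⟩
    · rintro h _ ⟨a, rfl⟩
      exact h a
  have hCN : C ≤ Subgroup.normalizer (L : Set G) := by
    intro c hc
    have hc1 : c * t = t * c := Subgroup.mem_centralizer_singleton_iff.1 hc
    have hc2 : c⁻¹ * t = t * c⁻¹ := Subgroup.mem_centralizer_singleton_iff.1 (inv_mem hc)
    rw [Subgroup.mem_normalizer_iff]
    intro h
    constructor
    · rintro ⟨a, rfl⟩
      exact hnorm c hc1 a
    · rintro ⟨a, ha⟩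
      have := hnorm c⁻¹ hc2 a
      rw [ha] at this
      have e : c⁻¹ * (c * h * c⁻¹) * c⁻¹⁻¹ = h := by group
      rwa [e] at this
  set K₁ : Subgroup C := L.subgroupOf C with hK₁
  have hKn : K₁.Normal := (Subgroup.normal_subgroupOf_iff_le_normalizer hle).2 hCN
  have e₁ : L₀ ≃* L := MonoidHom.ofInjective hinj
  have hLq : Cfsg.IsQuasisimple L := Cfsg.Agent.Lib.Helper31.IsQuasisimple.of_mulEquiv hL e₁
  have hKq : Cfsg.IsQuasisimple K₁ :=
    Cfsg.Agent.Lib.Helper31.IsQuasisimple.of_mulEquiv hLq (Subgroup.subgroupOfEquivOfLe hle).symm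
  have hcomp : Cfsg.IsComponent K₁ := ⟨hKn.isSubnormal, hKq⟩
  have hset : {K : Subgroup C | Cfsg.IsComponent K} = {K₁} := by
    ext K'
    simp only [Set.mem_ofPred_eq, Set.mem_singleton_iff]
    constructor
    · intro hK'
      by_contra hne
      have hcomm := Cfsg.Agent.Lib.Helper31.IsComponent.commutator_eq_bot_of_ne hK' hcomp hne
      rw [Subgroup.commutator_eq_bot_iff_le_centralizer] at hcomm
      apply Cfsg.Agent.Lib.Helper31.IsComponent.not_le_centralizer hK'
      have key : ∀ x ∈ K', ∀ a, ψ a * (x : G) = (x : G) * ψ a := by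
        intro x hx a
        have h1 := hcomm hx
        rw [Subgroup.mem_centralizer_iff] at h1
        have h2 := h1 ⟨ψ a, hle ⟨a, rfl⟩⟩ (by
          change _ ∈ K₁
          rw [hK₁, Subgroup.mem_subgroupOf]
          exact ⟨a, rfl⟩)
        exact congrArg Subtype.val h2
      intro x hx
      rw [Subgroup.mem_centralizer_iff]
      intro y hy
      apply Subtype.ext
      exact hKab _ _ (key y hy) (key x hx)
    · rintro rfl
      exact hcomp
  have hlayer : (Cfsg.layer C).map C.subtype = L := by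
    unfold Cfsg.layer
    rw [hset, sSup_singleton, hK₁, Subgroup.subgroupOf_map_subtype, inf_eq_left.2 hle]
  rw [hlayer]
  have htK : t ∈ Subgroup.centralizer (L : Set G) := (hmemK t).2 hcen
  have hodd2 : ∀ x : G, orderOf x = 2 → x ∉ Z₀ := by
    intro x hx hxZ
    have := orderOf_dvd_natCard (⟨x, hxZ⟩ : Z₀)
    rw [← Subgroup.orderOf_coe, hx] at this
    rw [Nat.odd_iff] at hZ₀
    omega
  refine ⟨hLq, ⟨?_, ?_⟩, ?_, ?_⟩
  · have := orderOf_dvd_natCard (⟨t, htK⟩ : Subgroup.centralizer (L : Set G))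
    rw [← Subgroup.orderOf_coe, ht] at this
    exact (even_iff_two_dvd).2 this
  · intro g hg
    have hsub : Subgroup.centralizer (L : Set G) ⊓
        (Subgroup.centralizer (L : Set G)).map (MulAut.conj g).toMonoidHom ≤ Z₀ := by
      rintro x ⟨hx1, z, hz, rfl⟩
      have hx2 : g * z * g⁻¹ ∈ Subgroup.centralizer (L : Set G) := by
        simpa [MulAut.conj_apply] using hx1
      rcases hfus g z ((hmemK z).1 hz) ((hmemK _).1 hx2) with h | h
      · exfalso
        apply hg
        apply normalizer_le_normalizer_centralizer L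
        apply hCN
        exact Subgroup.mem_centralizer_singleton_iff.2 h
      · simpa [MulAut.conj_apply] using h
    exact Odd.of_dvd_nat hZ₀ (Subgroup.card_dvd_of_le hsub)
  · intro g _ h
    rw [Subgroup.commutator_comm, Subgroup.commutator_eq_bot_iff_le_centralizer] at h
    have hc : ∀ a b : L₀, a * b = b * a := by
      intro a b
      have ha : g * ψ a * g⁻¹ ∈ Subgroup.centralizer (L : Set G) :=
        h ⟨ψ a, ⟨a, rfl⟩, by simp [MulAut.conj_apply]⟩
      have hb : g * ψ b * g⁻¹ ∈ Subgroup.centralizer (L : Set G) :=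
        h ⟨ψ b, ⟨b, rfl⟩, by simp [MulAut.conj_apply]⟩
      have := hKab _ _ ((hmemK _).1 ha) ((hmemK _).1 hb)
      apply hinj
      rw [map_mul, map_mul]
      have e1 : g * ψ a * g⁻¹ * (g * ψ b * g⁻¹) = g * (ψ a * ψ b) * g⁻¹ := by group
      have e2 : g * ψ b * g⁻¹ * (g * ψ a * g⁻¹) = g * (ψ b * ψ a) * g⁻¹ := by group
      rw [e1, e2] at this
      exact mul_left_cancel (mul_right_cancel this)
    have := hL.1
    have := Cfsg.Agent.Lib.Helper31.IsQuasisimple.nontrivial hL
    exact Group.IsPerfect.not_isSolvable L₀ (Group.isSolvable_of_comm hc)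
  · apply le_antisymm (normalizer_le_normalizer_centralizer L)
    intro g hg
    have h1 : g * t * g⁻¹ ∈ Subgroup.centralizer (L : Set G) :=
      (Subgroup.mem_normalizer_iff.1 hg t).1 htK
    rcases hfus g t hcen ((hmemK _).1 h1) with h | h
    · exact hCN (Subgroup.mem_centralizer_singleton_iff.2 h)
    · exfalso
      refine hodd2 _ ?_ h
      have : g * t * g⁻¹ = MulAut.conj g t := by simp [MulAut.conj_apply]
      rw [this, MulEquiv.orderOf_eq, ht]

section blocks

variable {F : Type*} [Field F] {m : ℕ}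

local notation "SLS" => Matrix.SpecialLinearGroup (Fin m ⊕ Unit) F
local notation "MS" => Matrix (Fin m ⊕ Unit) (Fin m ⊕ Unit) F

/-- the block embedding `SL_m → SL_{m+1}` -/
def blkS : Matrix.SpecialLinearGroup (Fin m) F →* Matrix.SpecialLinearGroup (Fin m ⊕ Unit) F where
  toFun A := ⟨Matrix.fromBlocks (A : Matrix (Fin m) (Fin m) F) 0 0 1, by
    rw [Matrix.det_fromBlocks_zero₂₁, A.det_coe, Matrix.det_one, one_mul]⟩
  map_one' := by
    apply Subtype.ext
    simp
  map_mul' A B := by
    apply Subtype.ext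
    change Matrix.fromBlocks ((A * B : Matrix.SpecialLinearGroup (Fin m) F) :
      Matrix (Fin m) (Fin m) F) 0 0 1 = Matrix.fromBlocks (A : Matrix (Fin m) (Fin m) F) 0 0 1 *
        Matrix.fromBlocks (B : Matrix (Fin m) (Fin m) F) 0 0 1
    simp [Matrix.fromBlocks_multiply]

theorem blkS_val (A : Matrix.SpecialLinearGroup (Fin m) F) :
    ((blkS A : SLS) : MS) = Matrix.fromBlocks (A : Matrix (Fin m) (Fin m) F) 0 0 1 := rfl

theorem blkS_injective : Function.Injective (blkS (F := F) (m := m)) := by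
  intro A B h
  have h1 := congrArg (fun g : SLS => (g : MS)) h
  simp only [blkS_val] at h1
  exact Subtype.ext (Matrix.fromBlocks_inj.1 h1).1

/-- `-1 ∈ SL_m` for even `m` -/
def negOne (hm : Even m) : Matrix.SpecialLinearGroup (Fin m) F :=
  ⟨-1, by rw [Matrix.det_neg, Matrix.det_one, Fintype.card_fin, hm.neg_one_pow, one_mul]⟩

theorem negOne_val (hm : Even m) :
    ((negOne hm : Matrix.SpecialLinearGroup (Fin m) F) : Matrix (Fin m) (Fin m) F) = -1 := rfl

/-- matrices commuting with `diag(-1,…,-1,1)` are block diagonal -/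
theorem block_of_commute' (h2 : (2 : F) ≠ 0) (M : MS)
    (h : M * Matrix.fromBlocks (-1) 0 0 1 = Matrix.fromBlocks (-1) 0 0 1 * M) :
    M = Matrix.fromBlocks M.toBlocks₁₁ 0 0 M.toBlocks₂₂ := by
  apply Cfsg.Agent.S1340.block_of_commute h2
  have e : (Matrix.fromBlocks (-1) 0 0 1 : MS) = - Matrix.fromBlocks 1 0 0 (-1) := by
    rw [Matrix.fromBlocks_neg]
    simp
  rw [e, Matrix.mul_neg, Matrix.neg_mul, neg_inj] at h
  exact h

theorem val_comm {x y : SLS} (h : x * y = y * x) : (x : MS) * (y : MS) = (y : MS) * (x : MS) := by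
  have := congrArg (fun g : SLS => (g : MS)) h
  simpa only [Matrix.SpecialLinearGroup.coe_mul] using this

theorem val_mul_inv (c : SLS) : (c : MS) * ((c⁻¹ : SLS) : MS) = 1 := by
  rw [← Matrix.SpecialLinearGroup.coe_mul, mul_inv_cancel, Matrix.SpecialLinearGroup.coe_one]

theorem val_inv_mul (c : SLS) : ((c⁻¹ : SLS) : MS) * (c : MS) = 1 := by
  rw [← Matrix.SpecialLinearGroup.coe_mul, inv_mul_cancel, Matrix.SpecialLinearGroup.coe_one]

/-- the range of `blkS` is normalised by the centraliser of `t0` -/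
theorem conj_mem_rangeS (h2 : (2 : F) ≠ 0) (hm : Even m) (c : SLS)
    (hc : c * blkS (negOne hm) = blkS (negOne hm) * c) (A : Matrix.SpecialLinearGroup (Fin m) F) :
    c * blkS A * c⁻¹ ∈ (blkS (F := F) (m := m)).range := by
  have hc1 := val_comm hc
  have hc' : c⁻¹ * blkS (negOne hm) = blkS (negOne hm) * c⁻¹ := by
    rw [eq_mul_inv_iff_mul_eq, mul_assoc, ← hc, ← mul_assoc, inv_mul_cancel, one_mul]
  have hc2 := val_comm hc'
  rw [blkS_val, negOne_val] at hc1 hc2
  have b1 := block_of_commute' h2 _ hc1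
  have b2 := block_of_commute' h2 _ hc2
  set a := (c : MS).toBlocks₁₁ with ha
  set d := (c : MS).toBlocks₂₂ with hd
  set a' := ((c⁻¹ : SLS) : MS).toBlocks₁₁ with ha'
  set d' := ((c⁻¹ : SLS) : MS).toBlocks₂₂ with hd'
  have hmul := val_mul_inv c
  rw [b1, b2, Matrix.fromBlocks_multiply, ← Matrix.fromBlocks_one, Matrix.fromBlocks_inj] at hmul
  obtain ⟨haa, -, -, hdd⟩ := hmul
  simp only [Matrix.mul_zero, add_zero, zero_add] at haa hdd
  have hdet : (a * (A : Matrix (Fin m) (Fin m) F) * a').det = 1 := by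
    rw [Matrix.det_mul, Matrix.det_mul, A.det_coe, mul_one, ← Matrix.det_mul, haa, Matrix.det_one]
  refine ⟨⟨a * (A : Matrix (Fin m) (Fin m) F) * a', hdet⟩, ?_⟩
  apply Subtype.ext
  rw [Matrix.SpecialLinearGroup.coe_mul, Matrix.SpecialLinearGroup.coe_mul, blkS_val A, b1, b2,
    blkS_val (⟨a * (A : Matrix (Fin m) (Fin m) F) * a', hdet⟩ : Matrix.SpecialLinearGroup (Fin m) F)]
  simp [Matrix.fromBlocks_multiply, hdd]

/-- the shape of the elements centralising the range of `blkS` -/
theorem cent_form (h2 : (2 : F) ≠ 0) (hm : Even m) (z : SLS)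
    (hz : ∀ A, blkS A * z = z * blkS A) :
    ∃ l d : F, (z : MS) = Matrix.fromBlocks (l • (1 : Matrix (Fin m) (Fin m) F)) 0 0
      (d • (1 : Matrix Unit Unit F)) := by
  have h1 := (val_comm (hz (negOne hm))).symm
  rw [blkS_val, negOne_val] at h1
  have b1 := block_of_commute' h2 _ h1
  set a := (z : MS).toBlocks₁₁ with ha
  set d := (z : MS).toBlocks₂₂ with hd
  have hcomm : ∀ A : Matrix.SpecialLinearGroup (Fin m) F,
      (A : Matrix (Fin m) (Fin m) F) * a = a * (A : Matrix (Fin m) (Fin m) F) := by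
    intro A
    have h3 := val_comm (hz A)
    rw [blkS_val, b1, Matrix.fromBlocks_multiply, Matrix.fromBlocks_multiply,
      Matrix.fromBlocks_inj] at h3
    simpa using h3.1
  obtain ⟨r, hr⟩ := Matrix.mem_range_scalar_of_commute_transvectionStruct
    (M := a) (fun t => hcomm ⟨t.toMatrix, by simp⟩)
  refine ⟨r, d () (), ?_⟩
  rw [b1]
  congr 1
  · rw [← hr]
    ext i j
    simp [Matrix.scalar_apply, Matrix.diagonal_apply, Matrix.one_apply]
  · ext i j
    simp

theorem cent_comm (h2 : (2 : F) ≠ 0) (hm : Even m) (x y : SLS)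
    (hx : ∀ A, blkS A * x = x * blkS A) (hy : ∀ A, blkS A * y = y * blkS A) : x * y = y * x := by
  obtain ⟨l, d, h⟩ := cent_form h2 hm x hx
  obtain ⟨l', d', h'⟩ := cent_form h2 hm y hy
  apply Subtype.ext
  rw [Matrix.SpecialLinearGroup.coe_mul, Matrix.SpecialLinearGroup.coe_mul, h, h']
  simp [Matrix.fromBlocks_multiply, smul_smul, mul_comm]

theorem fus (h2 : (2 : F) ≠ 0) (hm : Even m) (hm2 : 2 ≤ m) (g z : SLS)
    (hz : ∀ A, blkS A * z = z * blkS A)
    (hz' : ∀ A, blkS A * (g * z * g⁻¹) = (g * z * g⁻¹) * blkS A) :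
    g * blkS (negOne hm) = blkS (negOne hm) * g ∨ g * z * g⁻¹ ∈ Subgroup.center SLS := by
  obtain ⟨l, d, h⟩ := cent_form h2 hm z hz
  obtain ⟨l', d', h'⟩ := cent_form h2 hm _ hz'
  by_cases hld : l = d
  · right
    have hzc : z ∈ Subgroup.center SLS := by
      rw [Subgroup.mem_center_iff]
      intro x
      apply Subtype.ext
      rw [Matrix.SpecialLinearGroup.coe_mul, Matrix.SpecialLinearGroup.coe_mul, h, hld]
      have e : (Matrix.fromBlocks (d • (1 : Matrix (Fin m) (Fin m) F)) 0 0
          (d • (1 : Matrix Unit Unit F)) : MS) = d • 1 := by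
        rw [← Matrix.fromBlocks_one, Matrix.fromBlocks_smul]
        simp
      rw [e]
      simp
    have : g * z * g⁻¹ = z := by
      rw [Subgroup.mem_center_iff] at hzc
      rw [hzc g, mul_assoc, mul_inv_cancel, mul_one]
    rw [this]
    exact hzc
  · left
    have heq : (g : MS) * (z : MS) = ((g * z * g⁻¹ : SLS) : MS) * (g : MS) := by
      rw [← Matrix.SpecialLinearGroup.coe_mul, ← Matrix.SpecialLinearGroup.coe_mul,
        inv_mul_cancel_right]
    have hinv := val_inv_mul g
    rw [h, h'] at heq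
    rw [← Matrix.fromBlocks_toBlocks (g : MS)] at heq hinv
    rw [← Matrix.fromBlocks_toBlocks ((g⁻¹ : SLS) : MS)] at hinv
    set g11 := (g : MS).toBlocks₁₁
    set g12 := (g : MS).toBlocks₁₂
    set g21 := (g : MS).toBlocks₂₁
    set g22 := (g : MS).toBlocks₂₂
    set k11 := ((g⁻¹ : SLS) : MS).toBlocks₁₁
    set k12 := ((g⁻¹ : SLS) : MS).toBlocks₁₂
    set k21 := ((g⁻¹ : SLS) : MS).toBlocks₂₁
    set k22 := ((g⁻¹ : SLS) : MS).toBlocks₂₂
    rw [Matrix.fromBlocks_multiply, Matrix.fromBlocks_multiply, Matrix.fromBlocks_inj] at heq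
    rw [Matrix.fromBlocks_multiply, ← Matrix.fromBlocks_one, Matrix.fromBlocks_inj] at hinv
    obtain ⟨e11, e12, e21, e22⟩ := heq
    obtain ⟨i11, -, -, i22⟩ := hinv
    simp only [Matrix.mul_smul, Matrix.mul_one, Matrix.mul_zero, add_zero, zero_add,
      Matrix.smul_mul, Matrix.one_mul, Matrix.zero_mul] at e11 e12 e21 e22
    have hll : l = l' := by
      by_contra hne
      have h0 : g11 = 0 := by
        have : (l - l') • g11 = 0 := by rw [sub_smul, e11, sub_self]
        rcases smul_eq_zero.1 this with h | h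
        · exact absurd (sub_eq_zero.1 h) hne
        · exact h
      rw [h0, Matrix.mul_zero, zero_add] at i11
      have a00 := congrFun (congrFun i11 ⟨0, by omega⟩) ⟨0, by omega⟩
      have a11 := congrFun (congrFun i11 ⟨1, by omega⟩) ⟨1, by omega⟩
      have a01 := congrFun (congrFun i11 ⟨0, by omega⟩) ⟨1, by omega⟩
      simp only [Matrix.mul_apply, Finset.univ_unique, Finset.sum_singleton,
        Matrix.one_apply_eq] at a00 a11 a01
      rw [Matrix.one_apply_ne (by simp)] at a01
      rcases mul_eq_zero.1 a01 with h | h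
      · rw [h, zero_mul] at a00
        exact zero_ne_one a00
      · rw [h, mul_zero] at a11
        exact zero_ne_one a11
    have h12 : g12 = 0 := by
      have : (d - l') • g12 = 0 := by rw [sub_smul, e12, sub_self]
      rcases smul_eq_zero.1 this with h | h
      · exact absurd (hll.trans (sub_eq_zero.1 h).symm) hld
      · exact h
    have hdd : d = d' := by
      by_contra hne
      have h0 : g22 = 0 := by
        have : (d - d') • g22 = 0 := by rw [sub_smul, e22, sub_self]
        rcases smul_eq_zero.1 this with h | h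
        · exact absurd (sub_eq_zero.1 h) hne
        · exact h
      rw [h0, h12, Matrix.mul_zero, Matrix.mul_zero, zero_add] at i22
      have := congrFun (congrFun i22 ()) ()
      simp at this
    have h21 : g21 = 0 := by
      have : (l - d') • g21 = 0 := by rw [sub_smul, e21, sub_self]
      rcases smul_eq_zero.1 this with h | h
      · exact absurd ((sub_eq_zero.1 h).trans hdd.symm) hld
      · exact h
    apply Subtype.ext
    rw [Matrix.SpecialLinearGroup.coe_mul, Matrix.SpecialLinearGroup.coe_mul, blkS_val,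
      negOne_val, ← Matrix.fromBlocks_toBlocks (g : MS)]
    change Matrix.fromBlocks g11 g12 g21 g22 * _ = _ * Matrix.fromBlocks g11 g12 g21 g22
    rw [h12, h21]
    simp [Matrix.fromBlocks_multiply]

end blocks

/-- the centre of `SL_n(F)` has odd order for odd `n` (char ≠ 2). -/
theorem odd_card_center {F : Type*} [Field F] [Finite F] (h2 : (2 : F) ≠ 0) {ι : Type*} [Fintype ι]
    [DecidableEq ι] (hodd : Odd (Fintype.card ι)) :
    Odd (Nat.card (Subgroup.center (Matrix.SpecialLinearGroup ι F))) := by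
  by_contra hne
  rw [Nat.not_odd_iff_even, even_iff_two_dvd] at hne
  have : Fact (Nat.Prime 2) := ⟨Nat.prime_two⟩
  obtain ⟨x, hx⟩ := exists_prime_orderOf_dvd_card' 2 hne
  obtain ⟨r, hr1, hr2⟩ := Matrix.SpecialLinearGroup.mem_center_iff.1 x.2
  have hx2 : x ^ 2 = 1 := by rw [← hx]; exact pow_orderOf_eq_one x
  have hx1 : x ≠ 1 := by
    intro h
    rw [h, orderOf_one] at hx
    omega
  have : Nonempty ι := by
    rw [← Fintype.card_pos_iff]
    exact hodd.pos
  obtain ⟨i⟩ := ‹Nonempty ι›
  have hv2 : ((x : Matrix.SpecialLinearGroup ι F) : Matrix ι ι F) *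
      ((x : Matrix.SpecialLinearGroup ι F) : Matrix ι ι F) = 1 := by
    have := congrArg (fun y : Subgroup.center (Matrix.SpecialLinearGroup ι F) =>
      ((y : Matrix.SpecialLinearGroup ι F) : Matrix ι ι F)) hx2
    simpa [pow_two] using this
  rw [← hr2] at hv2
  have hrr : r * r = 1 := by
    have := congrFun (congrFun hv2 i) i
    simpa [Matrix.scalar_apply] using this
  rcases mul_self_eq_one_iff.1 hrr with h | h
  · apply hx1
    apply Subtype.ext
    apply Subtype.ext
    rw [← hr2, h]
    simp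
  · rw [h, hodd.neg_one_pow] at hr1
    apply h2
    linear_combination -hr1

/-- reindexing `SL` -/
def slRe {F : Type*} [Field F] {a b : Type*} [Fintype a] [DecidableEq a] [Fintype b] [DecidableEq b]
    (e : a ≃ b) : Matrix.SpecialLinearGroup a F ≃* Matrix.SpecialLinearGroup b F where
  toFun A := ⟨Matrix.reindex e e (A : Matrix a a F), by
    rw [Matrix.det_reindex_self]; exact A.2⟩
  invFun A := ⟨Matrix.reindex e.symm e.symm (A : Matrix b b F), by
    rw [Matrix.det_reindex_self]; exact A.2⟩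
  left_inv A := by
    apply Subtype.ext
    ext i j
    simp
  right_inv A := by
    apply Subtype.ext
    ext i j
    simp
  map_mul' A B := by
    apply Subtype.ext
    change Matrix.reindex e e ((A * B : Matrix.SpecialLinearGroup a F) : Matrix a a F) =
      Matrix.reindex e e (A : Matrix a a F) * Matrix.reindex e e (B : Matrix a a F)
    rw [Matrix.SpecialLinearGroup.coe_mul]
    simp only [Matrix.reindex_apply]
    rw [Matrix.submatrix_mul_equiv]

theorem slRe_val {F : Type*} [Field F] {a b : Type*} [Fintype a] [DecidableEq a] [Fintype b]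
    [DecidableEq b] (e : a ≃ b) (A : Matrix.SpecialLinearGroup a F) :
    ((slRe e A : Matrix.SpecialLinearGroup b F) : Matrix b b F) =
      Matrix.reindex e e (A : Matrix a a F) := rfl

/-- the index equivalence -/
def eIdx (m : ℕ) : Fin m ⊕ Unit ≃ Fin (m + 1) :=
  (Equiv.sumCongr (Equiv.refl _) (Equiv.ofUnique Unit (Fin 1))).trans finSumFinEquiv

theorem eIdx_inl (m : ℕ) (i : Fin m) : ((eIdx m (Sum.inl i) : Fin (m + 1)) : ℕ) = i := by
  simp [eIdx]

theorem eIdx_inr (m : ℕ) : ((eIdx m (Sum.inr ()) : Fin (m + 1)) : ℕ) = m := by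
  simp [eIdx]

theorem orderOf_negOne {F : Type*} [Field F] (h2 : (2 : F) ≠ 0) {m : ℕ} (hm : Even m) (hm1 : 1 ≤ m) :
    orderOf (negOne hm : Matrix.SpecialLinearGroup (Fin m) F) = 2 := by
  refine orderOf_eq_prime ?_ ?_
  · apply Subtype.ext
    rw [pow_two, Matrix.SpecialLinearGroup.coe_mul, negOne_val, Matrix.SpecialLinearGroup.coe_one]
    simp
  · intro h
    have h1 := congrArg (fun g : Matrix.SpecialLinearGroup (Fin m) F =>
      (g : Matrix (Fin m) (Fin m) F) ⟨0, by omega⟩ ⟨0, by omega⟩) h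
    simp only [negOne_val, Matrix.SpecialLinearGroup.coe_one, Matrix.neg_apply,
      Matrix.one_apply_eq] at h1
    apply h2
    linear_combination -h1

/-- Let F be a finite field of odd order, n ≥ 7 odd, and t ∈ SL(n, F) the diagonal matrix with entries −1, …, −1, 1. Then E(C(t)) is a standard subgroup of SL(n, F). -/
theorem result {F : Type*} [Field F] [Fintype F] [DecidableEq F] (hF : Odd (Fintype.card F)) (n : ℕ) (hn : 7 ≤ n) (hodd : Odd n) (t : Matrix.SpecialLinearGroup (Fin n) F) (ht : (t : Matrix (Fin n) (Fin n) F) = Matrix.diagonal (fun i : Fin n => if (i : ℕ) + 1 = n then (1 : F) else -1)) : Cfsg.IsStandardSubgroup ((Cfsg.layer ↥(Subgroup.centralizer ({t} : Set (Matrix.SpecialLinearGroup (Fin n) F)))).map (Subgroup.centralizer ({t} : Set (Matrix.SpecialLinearGroup (Fin n) F))).subtype) := by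
  obtain ⟨m, rfl⟩ : ∃ m, n = m + 1 := ⟨n - 1, by omega⟩
  have hm : Even m := by
    rcases Nat.even_or_odd m with h | h
    · exact h
    · exfalso
      have := h.add_one
      exact (Nat.not_even_iff_odd.2 hodd) this
  have h2 : (2 : F) ≠ 0 := by
    apply Ring.two_ne_zero
    intro h
    have := FiniteField.even_card_of_char_two h
    rw [Nat.odd_iff] at hF
    omega
  have hq : Cfsg.IsQuasisimple (Matrix.SpecialLinearGroup (Fin m) F) :=
    Cfsg.Agent.S1340.sl_quasisimple m (by omega) (Or.inl (by omega))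
  set Φ : Matrix.SpecialLinearGroup (Fin m ⊕ Unit) F ≃* Matrix.SpecialLinearGroup (Fin (m + 1)) F :=
    slRe (eIdx m) with hΦ
  obtain rfl : t = Φ (blkS (negOne hm)) := by
    apply Subtype.ext
    rw [ht, hΦ, slRe_val, blkS_val, negOne_val]
    ext i j
    obtain ⟨i, rfl⟩ := (eIdx m).surjective i
    obtain ⟨j, rfl⟩ := (eIdx m).surjective j
    simp only [Matrix.reindex_apply, Matrix.submatrix_apply, Equiv.symm_apply_apply]
    rw [Matrix.diagonal_apply]
    rcases i with i | ⟨⟩ <;> rcases j with j | ⟨⟩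
    · have : ((eIdx m (Sum.inl i) : Fin (m + 1)) : ℕ) + 1 ≠ m + 1 := by
        rw [eIdx_inl]; omega
      simp only [EmbeddingLike.apply_eq_iff_eq, Sum.inl.injEq, this, if_false,
        Matrix.fromBlocks_apply₁₁, Matrix.neg_apply, Matrix.one_apply]
      split_ifs <;> simp
    · simp
    · simp
    · have : ((eIdx m (Sum.inr ()) : Fin (m + 1)) : ℕ) + 1 = m + 1 := by
        rw [eIdx_inr]
      simp [this]
  have tr : ∀ x : Matrix.SpecialLinearGroup (Fin (m + 1)) F,
      (∀ a, (Φ.toMonoidHom.comp blkS) a * x = x * (Φ.toMonoidHom.comp blkS) a) →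
      ∀ a, blkS a * Φ.symm x = Φ.symm x * blkS a := by
    intro x hx a
    apply Φ.injective
    rw [map_mul, map_mul, MulEquiv.apply_symm_apply]
    exact hx a
  refine standard_of (Φ (blkS (negOne hm))) ?_ (Φ.toMonoidHom.comp blkS) ?_ hq ?_ ?_
    (Subgroup.center _) (odd_card_center h2 (by simpa using hodd)) ?_ ?_
  · rw [MulEquiv.orderOf_eq, orderOf_injective blkS blkS_injective]
    exact orderOf_negOne h2 hm (by omega)
  · exact Φ.injective.comp blkS_injective
  · intro a
    change Φ (blkS a) * Φ (blkS (negOne hm)) = Φ (blkS (negOne hm)) * Φ (blkS a)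
    rw [← map_mul, ← map_mul, ← map_mul, ← map_mul]
    congr 2
    apply Subtype.ext
    rw [Matrix.SpecialLinearGroup.coe_mul, Matrix.SpecialLinearGroup.coe_mul, negOne_val]
    simp
  · intro c hc a
    have hc0 : Φ.symm c * blkS (negOne hm) = blkS (negOne hm) * Φ.symm c := by
      apply Φ.injective
      rw [map_mul, map_mul, MulEquiv.apply_symm_apply]
      exact hc
    obtain ⟨B, hB⟩ := conj_mem_rangeS h2 hm (Φ.symm c) hc0 a
    refine ⟨B, ?_⟩
    change Φ (blkS B) = c * Φ (blkS a) * c⁻¹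
    rw [hB, map_mul, map_mul, map_inv, MulEquiv.apply_symm_apply]
  · intro x y hx hy
    apply Φ.symm.injective
    rw [map_mul, map_mul]
    exact cent_comm h2 hm _ _ (tr x hx) (tr y hy)
  · intro g z hz hz'
    have h3 := tr _ hz'
    rw [map_mul, map_mul, map_inv] at h3
    rcases fus h2 hm (by omega) (Φ.symm g) (Φ.symm z) (tr z hz) h3 with h | h
    · left
      apply Φ.symm.injective
      rw [map_mul, map_mul, MulEquiv.symm_apply_apply]
      exact h
    · right
      rw [Subgroup.mem_center_iff] at h ⊢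
      intro x
      apply Φ.symm.injective
      simp only [map_mul, map_inv]
      exact h (Φ.symm x)

end Cfsg.Agent.S1348
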