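import Cfsg.Statements.S1358
import Cfsg.Agent.Lib.Helper23.BGT2
import Cfsg.Agent.S1403
import Cfsg.Agent.S1417

set_option autoImplicit false
open Cfsg

namespace Cfsg.Agent.S1358

open Cfsg.Agent.Lib.Helper24 Cfsg.Agent.Lib.Helper34 Cfsg.Agent.Lib.Helper31.BG11 Cfsg.Agent.Lib.Helper23T

/-- Let G be a minimal simple group of odd order and M a maximal subgroup with standard factorisation M = K U M_σ. Then for every prime p, every Sylow p-subgroup of U is abelian and has no elementary abelian subgroup of order p ^ 3. -/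
theorem result {G : Type*} [Group G] [Finite G] (hG : Cfsg.IsMinSimpleOddOrder G)
    (M : Subgroup G) (hM : IsCoatom M) (K U : Subgroup G) (hKU : Cfsg.IsSigmaDecomposition M K U) :
    ∀ (p : ℕ), p.Prime → ∀ P : Sylow p U, IsMulCommutative (P : Subgroup U) ∧ Cfsg.PRankLE p 2 (P : Subgroup U) := by
  intro p hpp P
  have : Fact p.Prime := ⟨hpp⟩
  have hU : UT G := fun K hK h2 h3 => Cfsg.Agent.S1403.result hG K hK h2 h3
  have h17 : H1417 G := fun M hM p _ hp A hA => Cfsg.Agent.S1417.result hG M hM p hp A hA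
  have hUM : U ≤ M := hKU.compl.1
  have hP'M : (P : Subgroup U).map U.subtype ≤ M := (Subgroup.map_subtype_le _).trans hUM
  have hP'pg : IsPGroup p ((P : Subgroup U).map U.subtype) := P.2.map _
  by_cases hσ : p ∈ Cfsg.sigma M
  · have h1 : (P : Subgroup U).map U.subtype ≤ Cfsg.sigmaCore M := le_sc hG hU hM hσ hP'M hP'pg
    have h2 : (P : Subgroup U).map U.subtype ≤ U ⊓ (K ⊔ Cfsg.sigmaCore M) :=
      le_inf (Subgroup.map_subtype_le _) (h1.trans le_sup_right)
    rw [hKU.compl.2.2.1] at h2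
    have h3 : ∀ x : (P : Subgroup U), x = 1 := by
      intro x
      have h4 : ((x : U) : G) ∈ (⊥ : Subgroup G) := h2 ⟨x, x.2, rfl⟩
      exact Subtype.ext (Subtype.ext (Subgroup.mem_bot.1 h4))
    refine ⟨⟨⟨fun a b => by rw [h3 a, h3 b]⟩⟩, ?_⟩
    intro A _ _
    have h5 : A = ⊥ := (Subgroup.eq_bot_iff_forall A).2 fun x _ => h3 x
    rw [h5, Subgroup.card_bot]
    exact Nat.one_le_pow _ _ hpp.pos
  · refine ⟨⟨⟨fun a b => ?_⟩⟩, ?_⟩
    · apply Subtype.ext
      apply Subtype.ext
      exact commute_of_isPGroup hG hU h17 hM hσ hP'M hP'pg _ ⟨a, a.2, rfl⟩ _ ⟨b, b.2, rfl⟩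
    · exact Cfsg.Agent.Lib.Helper23.pRankLE_of_injective p 2
        ((Subgroup.inclusion hUM).comp (P : Subgroup U).subtype)
        ((Subgroup.inclusion_injective hUM).comp (Subgroup.subtype_injective _))
        (rank2_of_not_sigma hG hU hM hpp hσ)

end Cfsg.Agent.S1358
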