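import Cfsg.Statements.S1360
import Cfsg.Agent.Lib.Helper68.BG1211e
import Cfsg.Agent.Lib.Helper34.BG16b

set_option autoImplicit false
open Cfsg

namespace Cfsg.Agent.S1360

open Subgroup
open Cfsg.Agent.Lib
open Cfsg.Agent.Lib.Helper24 Cfsg.Agent.Lib.Helper34 Cfsg.Agent.Lib.Helper31.BG11
open Cfsg.Agent.Lib.Helper34.BG13 Cfsg.Agent.Lib.Helper10.BG124 Cfsg.Agent.Lib.Helper34.BG16
open Cfsg.Agent.Lib.Helper68.BG1211

theorem not_kappa_of_tau2 {G : Type*} [Group G] [Finite G] {M : Subgroup G} {p : ℕ}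
    (hτ : p ∈ tau2 M) : p ∉ kappa M := by
  intro hκ
  haveI : Fact p.Prime := ⟨hτ.1⟩
  obtain ⟨B₀, hB₀M, hB₀e, hB₀c⟩ := exists_elemAb_sq hτ.2.2.1 hτ.2.2.2
  obtain ⟨Q, hQ, hBQ⟩ := exists_isSylowIn_ge hB₀M (isPGroup_of_exponent hB₀e.2)
  have h1 : IsCyclic (Q.subgroupOf M) := by
    have := (hκ.2.2.2 hQ.toSylow).1
    rwa [hQ.coe_toSylow] at this
  haveI : IsCyclic Q := (subgroupOfEquivOfLe hQ.1).isCyclic.1 h1
  exact not_rank_one_of_le hBQ hB₀e hB₀c (pRankLE_one_of_isCyclic hτ.1.pos)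

/-- Let G be a minimal simple group of odd order and M a maximal subgroup with standard factorisation M = K U M_σ. Then U contains a subgroup U₀ with the same exponent as U such that no non-identity element of U₀ centralizes a non-identity element of M_σ. -/
theorem result {G : Type*} [Group G] [Finite G] (hG : Cfsg.IsMinSimpleOddOrder G)
    (M : Subgroup G) (hM : IsCoatom M) (K U : Subgroup G) (hKU : Cfsg.IsSigmaDecomposition M K U) :
    ∃ U₀ : Subgroup G, U₀ ≤ U ∧ Monoid.exponent U₀ = Monoid.exponent U ∧ ∀ u ∈ U₀, u ∈ Cfsg.sigmaHat M → u = 1 := by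
  obtain ⟨E, hE, hUE⟩ := exists_compl_ge hG (ut hG) hM hKU.compl.1
    (decomp_U_sigma' hG (ut hG) hM hKU)
  have hidx : ∀ p ∈ tau2 M, ¬ p ∣ U.relIndex E := by
    intro p hτ hd
    apply not_kappa_of_tau2 hτ
    apply hKU.hall.2.1 p hτ.1
    refine hd.trans ?_
    have h1 := Helper23.complIn_card_mul hE
    have h2 := Helper23.complIn_card_mul hKU.compl
    have h3 := Helper23.card_mul_relIndex hUE
    have h4 : Nat.card (K ⊔ sigmaCore M : Subgroup G) ∣ Nat.card K * Nat.card (sigmaCore M) :=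
      Helper1.card_sup_dvd (hKU.hall.1.trans (sc_norm M))
    have h5 : U.relIndex E * Nat.card (sigmaCore M) = Nat.card (K ⊔ sigmaCore M : Subgroup G) := by
      have hpos : 0 < Nat.card U := Nat.card_pos
      apply Nat.eq_of_mul_eq_mul_left hpos
      rw [h2, ← h1, ← h3, mul_assoc]
    rw [← h5] at h4
    exact Nat.dvd_of_mul_dvd_mul_right Nat.card_pos h4
  have hreg : ∀ y ∈ U, ∀ r : ℕ, r.Prime → PRankLE r 1 M → orderOf y = r →
      sigmaCore M ⊓ centralizer {y} = ⊥ := by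
    intro y hy r hr h1 hyo
    by_contra hne
    obtain ⟨x, hx, hx1⟩ : ∃ x ∈ sigmaCore M ⊓ centralizer {y}, x ≠ 1 := by
      by_contra hcon
      push Not at hcon
      exact hne ((eq_bot_iff_forall _).2 hcon)
    have hrU : r ∣ Nat.card U := by
      rw [← hyo, ← Nat.card_zpowers]
      exact card_dvd_of_le (zpowers_le.2 hy)
    have hκ : r ∈ kappa M := mem_kappa_of hG hM hr (decomp_U_sigma' hG (ut hG) hM hKU r hr hrU) h1
      (hKU.compl.1 hy) hyo (mem_inf.1 hx).1 hx1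
      (mem_centralizer_singleton_iff.1 (mem_inf.1 hx).2).symm
    exact kappa_not_dvd_card hKU hκ (hrU.trans (card_dvd_of_le le_sup_left))
  obtain ⟨U₀, hU₀U, hexp, hfin⟩ := main hG hM hE hUE hidx hreg
  refine ⟨U₀, hU₀U, hexp, ?_⟩
  rintro u hu ⟨-, y, hy, hy1, huy⟩
  by_contra hu1
  have h1 : y ∈ sigmaCore M ⊓ centralizer {u} :=
    mem_inf.2 ⟨hy, mem_centralizer_singleton_iff.2 huy.symm⟩
  rw [hfin u hu hu1, mem_bot] at h1
  exact hy1 h1

end Cfsg.Agent.S1360
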