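import Cfsg.Statements.S1361
import Cfsg.Agent.S1403
import Cfsg.Agent.S1414
import Cfsg.Agent.S1417
import Cfsg.Agent.S1418
import Cfsg.Agent.Lib.Helper34.BG16b

set_option autoImplicit false
open Cfsg

namespace Cfsg.Agent.S1361

/-- Let G be a minimal simple group of odd order and M a maximal subgroup with standard factorisation M = K U M_σ. If X is a nontrivial subgroup of U centralizing some non-identity element of M_σ, then C_G(X) ≤ M and M is the unique maximal subgroup of G containing C_G(X). -/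
theorem result {G : Type*} [Group G] [Finite G] (hG : Cfsg.IsMinSimpleOddOrder G)
    (M : Subgroup G) (hM : IsCoatom M) (K U : Subgroup G) (hKU : Cfsg.IsSigmaDecomposition M K U) (X : Subgroup G) (hXU : X ≤ U) (hX : X ≠ ⊥)
    (hXc : Cfsg.sigmaCore M ⊓ Subgroup.centralizer (X : Set G) ≠ ⊥) :
    Subgroup.centralizer (X : Set G) ≤ M ∧ ∀ L : Subgroup G, IsCoatom L → Subgroup.centralizer (X : Set G) ≤ L → L = M := by
  have hU : Cfsg.Agent.Lib.Helper24.UT G := fun K hK hK2 hK3 => Cfsg.Agent.S1403.result hG K hK hK2 hK3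
  exact Cfsg.Agent.Lib.Helper34.BG16.cent_U_uniq hG hU
    (fun L hL q hq hd hβ =>
      ⟨((Cfsg.Agent.S1414.result hG L hL).2.2.2.2 q hq hd hβ).1,
        ((Cfsg.Agent.S1414.result hG L hL).2.2.2.2 q hq hd hβ).2.1⟩)
    (fun L hL q _ hq A hA => Cfsg.Agent.S1417.result hG L hL q hq A hA)
    (fun L hL E hE q _ hq A hA => Cfsg.Agent.S1418.result hG L hL E hE q hq A hA)
    hM hKU hXU hX hXc

end Cfsg.Agent.S1361
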