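import Cfsg.Statements.S1383
import Cfsg.Agent.Lib.Helper26.BGTypesC
import Cfsg.Agent.Lib.Helper49.BG157P1
import Cfsg.Agent.S1354
import Cfsg.Agent.S1355
import Cfsg.Agent.S1356
import Cfsg.Agent.S1364
import Cfsg.Agent.S1365
import Cfsg.Agent.S1366
import Cfsg.Agent.S1368
import Cfsg.Agent.S1370


set_option autoImplicit false
open Cfsg

namespace Cfsg.Agent.S1383

/-- Let G be a minimal simple group of odd order and M a maximal subgroup with standard factorisation M = K U M_σ. Then M is of Type V if and only if K ≠ 1, U = 1 and M_F = M_σ. -/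
theorem result {G : Type*} [Group G] [Finite G] (hG : Cfsg.IsMinSimpleOddOrder G)
    (M : Subgroup G) (hM : IsCoatom M) (K U : Subgroup G) (hKU : Cfsg.IsSigmaDecomposition M K U) :
    Cfsg.IsOfTypeV M ↔ (K ≠ ⊥ ∧ U = ⊥ ∧ Cfsg.fittingHallOf M = Cfsg.sigmaCore M) := by
  have h65 := Cfsg.Agent.S1365.result hG
  constructor
  · rintro ⟨W₁, U', W₂, hP, hU', -⟩
    exact Cfsg.Agent.Lib.Helper26.BGTypes.typeV_imp hG hM hKU (Cfsg.Agent.S1355.result hG) h65 hP hU'
  · rintro ⟨hK1, hU, hH⟩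
    obtain ⟨hM', -⟩ := h65 M hM K U hKU hK1
    rw [hU, bot_sup_eq] at hM'
    have hc : IsComplIn (fittingHallOf M) ⊥ ⁅M, M⁆ := by
      rw [hM', hH]
      exact ⟨le_rfl, bot_le, inf_bot_eq _, fun m hm => ⟨m, hm, 1, one_mem _, (mul_one m).symm⟩⟩
    have hnil : Group.IsNilpotent (⊥ : Subgroup G) := inferInstance
    have hP := Cfsg.Agent.Lib.Helper26.BGTypes.typeP_of hG hM hKU hK1 (Cfsg.Agent.S1354.result hG)
      (Cfsg.Agent.S1356.result hG) (Cfsg.Agent.S1364.result hG) h65 (Cfsg.Agent.S1366.result hG)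
      (Cfsg.Agent.S1368.result hG) (Cfsg.Agent.S1370.result hG) hnil
      (by rw [Subgroup.coe_bot]; intro k _; rw [Subgroup.mem_set_normalizer_iff]; intro h; simp) hc
    refine ⟨K, ⊥, _, hP, rfl, ?_⟩
    by_cases hTI : IsTISubset (fittingHallOf M : Set G)
    · exact Or.inl hTI
    · exact Or.inr (Cfsg.Agent.Lib.Helper49.BG157.nonTI_P1 hG hM hKU hK1 hU hH hTI)

end Cfsg.Agent.S1383
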