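import Cfsg.Statements.S1413
import Cfsg.Agent.S1410
import Cfsg.Agent.S1461
import Cfsg.Agent.S1404
import Cfsg.Agent.S1403
import Cfsg.Agent.Lib.Helper24.BG10d

set_option autoImplicit false
set_option linter.style.haveILetI false
open Cfsg

namespace Cfsg.Agent.S1413

open Cfsg.Agent.Lib.Helper24 Cfsg.Agent.Lib.Helper34

theorem partC {G : Type*} [Group G] [Finite G] (hG : Cfsg.IsMinSimpleOddOrder G) (p : ℕ) [Fact p.Prime]
    (P : Sylow p G) (Q : Subgroup G) (x : G) (hQP : Q ≤ (P : Subgroup G)) (hx : cj x Q ≤ (P : Subgroup G)) :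
    ∃ y ∈ Subgroup.normalizer ((P : Subgroup G) : Set G), cj x Q = cj y Q := by
  have hU : UT G := fun K hK h2 h3 => Cfsg.Agent.S1403.result hG K hK h2 h3
  by_cases hQ1 : Q = ⊥
  · subst hQ1
    exact ⟨1, Subgroup.one_mem _, by simp [cj]⟩
  have hP1 : (P : Subgroup G) ≠ ⊥ := by
    intro h
    exact hQ1 (le_bot_iff.1 (h ▸ hQP))
  set N := Subgroup.normalizer ((P : Subgroup G) : Set G) with hN
  have hPtop : (P : Subgroup G) ≠ ⊤ := MS_isPGroup_ne_top hG P.2
  have hNtop : N ≠ ⊤ := MS_normalizer_ne_top hG hP1 hPtop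
  obtain ⟨M, hM, hNM⟩ := exists_coatom_ge hNtop
  have hPN : (P : Subgroup G) ≤ N := Subgroup.le_normalizer
  have hPM : (P : Subgroup G) ≤ M := hPN.trans hNM
  have hSM : IsSylowIn p (P : Subgroup G) M := (Sylow.isSylowIn_top P).of_le hPM le_top
  have hpM : p ∣ Nat.card M := by
    obtain ⟨k, hk⟩ := (IsPGroup.iff_card.1 P.2)
    have hk0 : k ≠ 0 := by
      rintro rfl
      rw [pow_zero] at hk
      exact hP1 (Subgroup.card_eq_one.1 hk)
    exact (hk ▸ dvd_pow_self p hk0 : p ∣ Nat.card (P : Subgroup G)).trans (Subgroup.card_dvd_of_le hPM)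
  have hσ : p ∈ Cfsg.sigma M := mem_sigma_iff.2 ⟨hpM, _, hSM, hNM⟩
  obtain ⟨m, hm, c, hc, rfl⟩ := (Cfsg.Agent.S1404.result hG M hM p hσ Q (P.2.to_le hQP) hQ1
    (hQP.trans hPM)).1 x (hx.trans hPM)
  have e1 : cj (m * c) Q = cj m Q := by
    rw [← cj_cj, cj_eq_of_mem_centralizer hc]
  rw [e1] at hx ⊢
  haveI : Group.IsSolvable M := MS_solvable hG hM.1
  have hpl : Cfsg.PLengthLE p 1 M := Cfsg.Agent.S1410.result hG p M hM.1
  have h := (Cfsg.Agent.S1461.result (G := M) p hpl hSM.toSylow).2.1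
    ((Q.subgroupOf M : Subgroup M) : Set M) ⟨m, hm⟩
  rw [hSM.coe_toSylow] at h
  obtain ⟨g, hg, c', hc', hgc⟩ := h (by
      intro z hz
      exact Subgroup.mem_subgroupOf.2 (hQP (Subgroup.mem_subgroupOf.1 hz))) (by
      rintro _ ⟨z, hz, rfl⟩
      apply Subgroup.mem_subgroupOf.2
      exact hx (conj_mem_map_conj (Subgroup.mem_subgroupOf.1 hz)))
  have hgN : (g : G) ∈ N := by
    rw [hN, Subgroup.mem_normalizer_iff]
    intro z
    constructor
    · intro hz
      have := (Subgroup.mem_normalizer_iff.1 hg ⟨z, hPM hz⟩).1 (Subgroup.mem_subgroupOf.2 hz)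
      exact Subgroup.mem_subgroupOf.1 this
    · intro hz
      have hzM : z ∈ M := by
        have h5 : (g : G)⁻¹ * ((g : G) * z * (g : G)⁻¹) * (g : G) ∈ M :=
          M.mul_mem (M.mul_mem (M.inv_mem g.2) (hPM hz)) g.2
        simpa [mul_assoc] using h5
      have := (Subgroup.mem_normalizer_iff.1 hg ⟨z, hzM⟩).2 (Subgroup.mem_subgroupOf.2 hz)
      exact Subgroup.mem_subgroupOf.1 this
  have hcC : (c' : G) ∈ Subgroup.centralizer (Q : Set G) := by
    rw [Subgroup.mem_centralizer_iff]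
    intro z hz
    have := Subgroup.mem_centralizer_iff.1 hc' ⟨z, hQP.trans hPM hz⟩ (Subgroup.mem_subgroupOf.2 hz)
    exact congrArg Subtype.val this
  refine ⟨g, hgN, ?_⟩
  have e2 : m = (g : G) * (c' : G) := by
    have := congrArg Subtype.val hgc
    exact this.symm
  rw [e2, ← cj_cj, cj_eq_of_mem_centralizer hcC]

/-- Let G be a minimal simple group of odd order, p a prime and P a Sylow p-subgroup. (c) If Q ≤ P and xQx⁻¹ ≤ P then xQx⁻¹ = yQy⁻¹ for some y ∈ N_G(P). (d) For every Q ≤ P, p does not divide the index of N_P(Q) in N_G(Q). (e) If R is a p-subgroup and Q ≤ P ∩ R is normal in N_G(P), then Q is normal in N_G(R). -/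
theorem result {G : Type*} [Group G] [Finite G] (hG : Cfsg.IsMinSimpleOddOrder G) (p : ℕ) [Fact p.Prime] (P : Sylow p G) :
    (∀ (Q : Subgroup G) (x : G), Q ≤ (P : Subgroup G) → Q.map (MulAut.conj x).toMonoidHom ≤ (P : Subgroup G) →
        ∃ y ∈ Subgroup.normalizer ((P : Subgroup G) : Set G), Q.map (MulAut.conj x).toMonoidHom = Q.map (MulAut.conj y).toMonoidHom) ∧
      (∀ Q : Subgroup G, Q ≤ (P : Subgroup G) →
        ¬ p ∣ ((P : Subgroup G) ⊓ Subgroup.normalizer (Q : Set G)).relIndex (Subgroup.normalizer (Q : Set G))) ∧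
      (∀ (R Q : Subgroup G), IsPGroup p R → Q ≤ (P : Subgroup G) ⊓ R →
        Subgroup.normalizer ((P : Subgroup G) : Set G) ≤ Subgroup.normalizer (Q : Set G) →
        Subgroup.normalizer (R : Set G) ≤ Subgroup.normalizer (Q : Set G)) := by
  refine ⟨fun Q x hQ hx => partC hG p P Q x hQ hx, ?_, ?_⟩
  · intro Q hQP
    obtain ⟨S, hS, hQS⟩ := exists_isSylowIn_ge (p := p) (Subgroup.le_normalizer : Q ≤ Subgroup.normalizer (Q : Set G))
      (P.2.to_le hQP)
    obtain ⟨x, -, hx⟩ := (Sylow.isSylowIn_top P).exists_conj_le le_top hS.2.1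
    obtain ⟨y, hy, hxy⟩ := partC hG p P Q x hQP ((cj_mono x hQS).trans hx)
    have hn : cj (y⁻¹ * x) Q = Q := by
      rw [← cj_cj, hxy, cj_inv_cj]
    have hnN : y⁻¹ * x ∈ Subgroup.normalizer (Q : Set G) := mem_normalizer_of_map_conj_eq hn
    have h1 : cj (y⁻¹ * x) S ≤ (P : Subgroup G) := by
      rw [← cj_cj]
      calc cj y⁻¹ (cj x S) ≤ cj y⁻¹ (P : Subgroup G) := cj_mono _ hx
        _ = (P : Subgroup G) := map_conj_eq_self_of_mem_normalizer (Subgroup.inv_mem _ hy)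
    have h2 := hS.map_conj (y⁻¹ * x)
    rw [map_conj_eq_self_of_mem hnN] at h2
    intro hd
    apply h2.2.2
    rw [← Subgroup.relIndex_mul_relIndex _ ((P : Subgroup G) ⊓ Subgroup.normalizer (Q : Set G)) _
      (le_inf h1 h2.1) inf_le_right]
    exact Dvd.dvd.mul_left hd _
  · intro R Q hR hQ hPQ y hy
    obtain ⟨x, -, hx⟩ := (Sylow.isSylowIn_top P).exists_conj_le le_top hR
    have hQP : Q ≤ (P : Subgroup G) := hQ.trans inf_le_left
    have hQR : Q ≤ R := hQ.trans inf_le_right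
    obtain ⟨y1, hy1, e1⟩ := partC hG p P Q x hQP ((cj_mono x hQR).trans hx)
    have h3 : cj (x * y) Q ≤ (P : Subgroup G) := by
      rw [← cj_cj]
      refine le_trans (cj_mono x ?_) hx
      calc cj y Q ≤ cj y R := cj_mono y hQR
        _ = R := map_conj_eq_self_of_mem_normalizer hy
    obtain ⟨y2, hy2, e2⟩ := partC hG p P Q (x * y) hQP h3
    have f1 : cj y1 Q = Q := map_conj_eq_self_of_mem_normalizer (hPQ hy1)
    have f2 : cj y2 Q = Q := map_conj_eq_self_of_mem_normalizer (hPQ hy2)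
    rw [f1] at e1
    rw [f2, ← cj_cj] at e2
    apply mem_normalizer_of_map_conj_eq
    have := congrArg (cj x⁻¹) (e2.trans e1.symm)
    rwa [cj_inv_cj, cj_inv_cj] at this

end Cfsg.Agent.S1413
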