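import Cfsg.Statements.S1421
import Cfsg.Agent.Lib.Helper68.BG1211e
import Cfsg.Agent.Lib.Helper34.BG16e

set_option autoImplicit false
open Cfsg

namespace Cfsg.Agent.S1421

open Subgroup
open Cfsg.Agent.Lib
open Cfsg.Agent.Lib.Helper34.BG13 Cfsg.Agent.Lib.Helper10.BG124 Cfsg.Agent.Lib.Helper34.BG16
open Cfsg.Agent.Lib.Helper68.BG1211

/-- Let G be a minimal simple group of odd order, M a maximal subgroup and E a complement to M_σ in M. Suppose that every non-identity element e of E all of whose order's prime divisors lie in τ₁(M) ∪ τ₃(M) has M_σ ∩ C_G(e) = 1. Then E has an abelian normal subgroup A₀ with E ∩ C_G(x) ≤ A₀ for every non-identity x ∈ M_σ, and E has a subgroup E₀ of the same exponent as E such that no non-identity element of E₀ centralizes a non-identity element of M_σ. -/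
theorem result {G : Type*} [Group G] [Finite G] (hG : Cfsg.IsMinSimpleOddOrder G)
    (M : Subgroup G) (hM : IsCoatom M) (E : Subgroup G) (hE : Cfsg.IsComplIn E (Cfsg.sigmaCore M) M)
    (h : ∀ e ∈ E, e ≠ 1 → (∀ p : ℕ, p.Prime → p ∣ orderOf e → p ∈ Cfsg.tau1 M ∪ Cfsg.tau3 M) →
      Cfsg.sigmaCore M ⊓ Subgroup.centralizer ({e} : Set G) = ⊥) :
    (∃ A₀ : Subgroup G, A₀ ≤ E ∧ E ≤ Subgroup.normalizer (A₀ : Set G) ∧ IsMulCommutative A₀ ∧
        ∀ x ∈ Cfsg.sigmaCore M, x ≠ 1 → E ⊓ Subgroup.centralizer ({x} : Set G) ≤ A₀) ∧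
      ∃ E₀ : Subgroup G, E₀ ≤ E ∧ Monoid.exponent E₀ = Monoid.exponent E ∧
        ∀ e ∈ E₀, e ≠ 1 → Cfsg.sigmaCore M ⊓ Subgroup.centralizer ({e} : Set G) = ⊥ := by
  refine ⟨exists_abelian_normal hG hM hE h, ?_⟩
  apply main hG hM hE le_rfl
  · intro p hτ
    rw [relIndex_self]
    exact hτ.1.one_lt.ne' ∘ Nat.dvd_one.1
  · intro y hy r hr h1 hyo
    have hy1 : y ≠ 1 := by
      rintro rfl
      rw [orderOf_one] at hyo
      exact hr.one_lt.ne hyo
    apply h y hy hy1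
    intro p hp hpd
    rw [hyo] at hpd
    have hpr : p = r := (Nat.prime_dvd_prime_iff_eq hp hr).1 hpd
    subst hpr
    have hrE : p ∣ Nat.card E := by
      rw [← hyo, ← Nat.card_zpowers]
      exact card_dvd_of_le (zpowers_le.2 hy)
    have hrσ := compl_not_sigma hG (ut hG) hM hE hp hrE
    by_cases hd : p ∣ Nat.card ↥⁅M, M⁆
    · exact Or.inr ⟨hp, hrσ, hd, h1⟩
    · exact Or.inl ⟨hp, hrσ, hrE.trans (card_dvd_of_le hE.1), hd, h1⟩

end Cfsg.Agent.S1421
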