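import Cfsg.Statements.S1435
import Cfsg.Agent.Lib.Helper25.P2.Main
import Cfsg.Agent.Lib.Helper25.P2.A
import Cfsg.Agent.Lib.Helper25.P2.B
import Cfsg.Agent.Lib.Helper25.P2.C0
import Cfsg.Agent.Lib.Helper25.P2.C
import Cfsg.Agent.Lib.Helper25.P2.K
import Cfsg.Agent.Lib.Helper25.P2.D
import Cfsg.Agent.Lib.Helper25.P2.E
import Cfsg.Agent.Lib.Helper25.P2.I
import Cfsg.Agent.S1352
import Cfsg.Agent.S1353
import Cfsg.Agent.S1354
import Cfsg.Agent.S1364
import Cfsg.Agent.S1366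
import Cfsg.Agent.S1367
import Cfsg.Agent.S1368
import Cfsg.Agent.S1369
import Cfsg.Agent.S1430
import Cfsg.Agent.S1431
import Cfsg.Agent.S1432

set_option autoImplicit false
open Cfsg

namespace Cfsg.Agent.S1435

/-- Let G be a minimal simple group of odd order, M a maximal subgroup with standard factorisation M = K U M_σ, K ≠ 1, U ≠ 1, K* = M_σ ∩ C_G(K), M* a maximal subgroup with K = M*_σ ∩ C_G(K*) and K* a Hall κ(M*)-subgroup of M*, r a prime dividing the order of U, R a Sylow r-subgroup of U, and H a maximal subgroup containing N_G(R). Then κ(H) is empty, U ≤ H_σ, M ∩ H = U ⊔ K, H ∩ N_G(U) ⊄ M, K ≤ F(H ∩ M*), and H ∩ M* is a complement to H_σ in H. -/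
theorem result {G : Type*} [Group G] [Finite G] (hG : Cfsg.IsMinSimpleOddOrder G)
    (M : Subgroup G) (hM : IsCoatom M) (K U : Subgroup G) (hKU : Cfsg.IsSigmaDecomposition M K U) (hK1 : K ≠ ⊥) (hU1 : U ≠ ⊥) (Mstar : Subgroup G) (hMstar : IsCoatom Mstar)
    (hKst : K = Cfsg.sigmaCore Mstar ⊓ Subgroup.centralizer ((Cfsg.sigmaCore M ⊓ Subgroup.centralizer (K : Set G)) : Set G))
    (hKstH : Cfsg.IsPiHallOf (Cfsg.kappa Mstar) (Cfsg.sigmaCore M ⊓ Subgroup.centralizer (K : Set G)) Mstar)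
    (r : ℕ) [Fact r.Prime] (hr : r ∣ Nat.card U) (R : Sylow r U) (H : Subgroup G) (hH : IsCoatom H)
    (hNR : Subgroup.normalizer (((R : Subgroup U).map U.subtype : Subgroup G) : Set G) ≤ H) :
    Cfsg.kappa H = ∅ ∧ U ≤ Cfsg.sigmaCore H ∧ M ⊓ H = U ⊔ K ∧ ¬ H ⊓ Subgroup.normalizer (U : Set G) ≤ M ∧
      K ≤ Cfsg.fittingOf (H ⊓ Mstar) ∧ Cfsg.IsComplIn (H ⊓ Mstar) (Cfsg.sigmaCore H) H := by
  have Rw : Cfsg.Agent.Lib.Helper25.P2.Rows G :=
    { h1352 := fun M hM K hKc hK => Cfsg.Agent.S1352.result hG M hM K hKc hK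
      h1353 := fun M hM K U hKU => Cfsg.Agent.S1353.result hG M hM K U hKU
      h1354 := fun M hM K hKc hK => Cfsg.Agent.S1354.result hG M hM K hKc hK
      h1364 := fun M hM K U hKU hK1 => Cfsg.Agent.S1364.result hG M hM K U hKU hK1
      h1366 := fun M hM K U hKU hK1 => Cfsg.Agent.S1366.result hG M hM K U hKU hK1
      h1367 := fun M hM K U hKU hK1 L hL h1 h2 =>
        Cfsg.Agent.S1367.result hG M hM K U hKU hK1 L hL h1 h2
      h1368 := fun M hM K U hKU hK1 L hL h1 h2 =>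
        Cfsg.Agent.S1368.result hG M hM K U hKU hK1 L hL h1 h2
      h1369 := fun M hM K U hKU hK1 L hL h1 h2 =>
        Cfsg.Agent.S1369.result hG M hM K U hKU hK1 L hL h1 h2
      h1430 := fun M hM K hK hK1 => Cfsg.Agent.S1430.result hG M hM K hK hK1
      h1431 := fun M hM K hK hK1 => Cfsg.Agent.S1431.result hG M hM K hK hK1
      h1432 := fun M hM x hx hx1 x' hx' hx'1 hσ =>
        Cfsg.Agent.S1432.result hG M hM x hx hx1 x' hx' hx'1 hσ }
  have hA := Cfsg.Agent.Lib.Helper25.P2.pA hG Rw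
  have hB := Cfsg.Agent.Lib.Helper25.P2.pB hG Rw
  have hC0 := Cfsg.Agent.Lib.Helper25.P2.pC0 hG Rw
  have hC := Cfsg.Agent.Lib.Helper25.P2.pC hG Rw hA hC0
  have hK := Cfsg.Agent.Lib.Helper25.P2.pK hG Rw hB hC0
  have hD := Cfsg.Agent.Lib.Helper25.P2.pD hG hK
  have hE := Cfsg.Agent.Lib.Helper25.P2.pE hG hA hC0 hK hD
  have hI := Cfsg.Agent.Lib.Helper25.P2.pI hG hK
  exact Cfsg.Agent.Lib.Helper25.P2.row1435 hC hK hD hE hI M hM K U hKU hK1 hU1 Mstar hMstar hKst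
    hKstH r hr R H hH hNR

end Cfsg.Agent.S1435
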