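import Cfsg.Statements.S1469
import Cfsg.Agent.Lib.Helper34.Puig2
import Cfsg.Agent.Lib.Helper11.SylowNormal
import Cfsg.Agent.S1468
import Cfsg.Agent.S1458
import Cfsg.Agent.Lib.Helper34.NPC

set_option autoImplicit false
open Cfsg

namespace Cfsg.Agent.S1469

open Cfsg.Agent.Lib.Helper34 Cfsg.Agent.Lib.Lead

theorem normal_of_core {G : Type*} [Group G] [Finite G] [Group.IsSolvable G]
    (hodd : Odd (Nat.card G)) (p : ℕ) [Fact p.Prime] (hp : p ≠ 2) (hO : pPrimeCore p G = ⊥)
    (S : Sylow p G) :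
    ((zPuig ↥(S : Subgroup G)).map (S : Subgroup G).subtype).Normal := by
  set T := pCore p G with hT
  have hTS : T ≤ S := pCore_le_sylow S
  have hTp : IsPGroup p T := pCore_isPGroup p G
  set LT := lsub T with hLT
  set LS := lsub (S : Subgroup G) with hLS
  have hLTLS : LT ≤ LS := by
    have := (Cfsg.Agent.S1468.result hodd p hp hO S).2.2
    rwa [map_puigSubgroup', map_puigSubgroup'] at this
  haveI hLTn : LT.Normal := lsub_normal (pCore_normal' p G)
  have hc : T ⊓ Subgroup.centralizer (LT : Set G) ≤ LT := inf_centralizer_lsub_le (p := p) T hTp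
  set V := Subgroup.centralizer (LT : Set G) with hV
  haveI hVn : V.Normal := inferInstance
  have hVp : IsPGroup p V := Cfsg.Agent.S1465.isPGroup_centralizer p LT hO hc
  have hVT : V ≤ T := le_pCore hVn hVp
  have hVLT : V ≤ LT := (le_inf hVT le_rfl).trans hc
  have hVab : IsMulCommutative V := by
    refine ⟨⟨fun x y => ?_⟩⟩
    apply Subtype.ext
    exact ((Subgroup.mem_centralizer_iff.mp x.2) y (hVLT y.2)).symm
  have hZV : LS ⊓ Subgroup.centralizer (LS : Set G) ≤ V :=
    inf_le_right.trans (Subgroup.centralizer_le hLTLS)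
  have hVlow : V ≤ llow (S : Subgroup G) :=
    le_llow_of_normal (hVT.trans hTS) hVab (by rw [Subgroup.normalizer_eq_top_iff.mpr hVn]; exact le_top)
  have key := (Cfsg.Agent.S1465.result hodd p hp V hVp
    {A : Subgroup G | A ≤ S ∧ IsMulCommutative A ∧
      llow (S : Subgroup G) ≤ Subgroup.normalizer (A : Set G)}
    (fun B hB => ⟨hB.2.1, S.2.to_le hB.1, hVlow.trans hB.2.2⟩)).1
  have hfam : sSup {A : Subgroup G | A ≤ S ∧ IsMulCommutative A ∧
      llow (S : Subgroup G) ≤ Subgroup.normalizer (A : Set G)} = LS := lstep_llow (S : Subgroup G)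
  rw [hfam] at key
  set C := Subgroup.centralizer (V : Set G) with hC
  set K := (pCore p (G ⧸ C)).comap (QuotientGroup.mk' C) with hK
  haveI hKn : K.Normal := inferInstance
  have hLSK : LS ≤ K := Subgroup.map_le_iff_le_comap.mp key
  obtain ⟨k, hk⟩ : ∃ k : ℕ, C.relIndex K = p ^ k := by
    obtain ⟨k, hk⟩ := (pCore_isPGroup p (G ⧸ C)).exists_card_eq
    refine ⟨k, ?_⟩
    have h1 := Subgroup.relIndex_ker (QuotientGroup.mk' C) (K := K)
    rw [QuotientGroup.ker_mk', hK,
      Subgroup.map_comap_eq_self_of_surjective (QuotientGroup.mk'_surjective C)] at h1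
    rw [hK, h1, hk]
  set R := (S : Subgroup G) ⊓ K with hR
  have hRS : R ≤ S := inf_le_left
  have hLR : lsub R = LS := lsub_eq_of_le (le_inf (lsub_le _) hLSK) hRS
  have hRp : IsPGroup p R := S.2.to_le hRS
  have hN1 := Cfsg.Agent.Lib.Helper34.normalizer_le_normalizer_inducedFunctor (isCharPFunctor_zPuig p) R hRp
  have hZR : inducedFunctor (G := G) (fun Q _ => zPuig Q) R
      = LS ⊓ Subgroup.centralizer (LS : Set G) := by
    show (zPuig R).map R.subtype = _
    rw [map_zPuig, hLR]
  rw [hZR] at hN1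
  rw [map_zPuig, ← hLS]
  have hN2 : C ≤ Subgroup.normalizer ((LS ⊓ Subgroup.centralizer (LS : Set G) : Subgroup G) : Set G) := by
    rw [le_normalizer_iff_conj]
    intro c hc z hz
    have h1 := (Subgroup.mem_centralizer_iff.mp hc) z (hZV hz)
    rw [← h1, mul_assoc, mul_inv_cancel, mul_one]
    exact hz
  have hN3 : R ≤ Subgroup.normalizer ((LS ⊓ Subgroup.centralizer (LS : Set G) : Subgroup G) : Set G) :=
    Subgroup.le_normalizer.trans hN1
  rw [← Subgroup.normalizer_eq_top_iff, eq_top_iff,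
    ← Cfsg.Agent.Lib.Helper11.normalizer_sylow_inf_sup_eq_top S K]
  refine sup_le hN1 ?_
  exact (Cfsg.Agent.Lib.Helper11.le_sup_sylow_inf_of_relIndex S K C k hk).trans (sup_le hN2 hN3)

/-- Let p be an odd prime, G a solvable group of odd order and S a Sylow p-subgroup, and let Z be the centre of the Puig subgroup L(S), viewed inside G. Then G is generated by O_{p'}(G) and N_G(Z); and if O_{p'}(G) = 1 then Z is normal in G. -/
theorem result {G : Type*} [Group G] [Finite G] [Group.IsSolvable G] (hodd : Odd (Nat.card G)) (p : ℕ) [Fact p.Prime] (hp : p ≠ 2) (S : Sylow p G) :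
    Cfsg.pPrimeCore p G ⊔ Subgroup.normalizer ((((Subgroup.center ↥(Cfsg.puigSubgroup ↥(S : Subgroup G))).map (Cfsg.puigSubgroup ↥(S : Subgroup G)).subtype).map (S : Subgroup G).subtype : Subgroup G) : Set G) = ⊤ ∧
      (Cfsg.pPrimeCore p G = ⊥ → (((Subgroup.center ↥(Cfsg.puigSubgroup ↥(S : Subgroup G))).map (Cfsg.puigSubgroup ↥(S : Subgroup G)).subtype).map (S : Subgroup G).subtype).Normal) := by
  refine ⟨?_, fun hO => normal_of_core hodd p hp hO S⟩
  show pPrimeCore p G ⊔ Subgroup.normalizer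
    (((zPuig ↥(S : Subgroup G)).map (S : Subgroup G).subtype : Subgroup G) : Set G) = ⊤
  set Z := (zPuig ↥(S : Subgroup G)).map (S : Subgroup G).subtype with hZ
  set N := pPrimeCore p G with hN
  set π := QuotientGroup.mk' N with hπ
  have hπs : Function.Surjective π := QuotientGroup.mk'_surjective N
  have hoddq : Odd (Nat.card (G ⧸ N)) :=
    Odd.of_dvd_nat hodd (Subgroup.card_quotient_dvd_card N)
  have hcore : pPrimeCore p (G ⧸ N) = ⊥ := pPrimeCore_quotient_pPrimeCore p G
  have hn := normal_of_core hoddq p hp hcore (Sylow.mapSurjective hπs S)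
  have hcop : (Nat.card N).Coprime p := Cfsg.Agent.Lib.Helper1.pPrimeCore_coprime (Fact.out : p.Prime)
  have hmap : (zPuig ↥((Sylow.mapSurjective hπs S : Sylow p (G ⧸ N)) : Subgroup (G ⧸ N))).map
      ((Sylow.mapSurjective hπs S : Sylow p (G ⧸ N)) : Subgroup (G ⧸ N)).subtype = Z.map π := by
    refine inducedFunctor_map_of_injOn (isCharPFunctor_zPuig p) π (S : Subgroup G)
      S.isPGroup' ?_
    intro x hx hx1
    have hxN : x ∈ N := (QuotientGroup.eq_one_iff x).mp hx1
    obtain ⟨k, hk⟩ := S.isPGroup' ⟨x, hx⟩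
    have h1 : x ^ p ^ k = 1 := congrArg Subtype.val hk
    have h2 : x ^ Nat.card N = 1 := by
      have := pow_card_eq_one' (x := (⟨x, hxN⟩ : N))
      exact congrArg Subtype.val this
    exact eq_one_of_pow_eq_one_of_coprime (Nat.Coprime.pow_right k hcop) h2 h1
  rw [hmap] at hn
  have hZp : IsPGroup p Z := S.2.to_le (Subgroup.map_subtype_le _)
  have h1 := normalizer_map_mk'_le Z N hZp hcop
  rw [Subgroup.normalizer_eq_top_iff.mpr hn] at h1
  have h2 : (Subgroup.normalizer (Z : Set G)).map π = ⊤ := top_le_iff.mp h1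
  have h3 := Subgroup.comap_map_eq π (Subgroup.normalizer (Z : Set G))
  rw [h2, Subgroup.comap_top, QuotientGroup.ker_mk'] at h3
  rw [sup_comm]
  exact h3.symm

end Cfsg.Agent.S1469
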