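import Cfsg.Statements.S1484
import Cfsg.Agent.Lib.Helper25.CNMinSimple2

set_option autoImplicit false
open Cfsg

namespace Cfsg.Agent.S1484

open Cfsg.Agent.Lib.Helper25 Cfsg.Agent.S1477 Cfsg.Agent.S1483

/-- Let G be a minimal simple group of odd order in which every non-identity element has nilpotent centralizer, and M₁, …, M_k maximal subgroups, pairwise non-conjugate, such that every maximal subgroup is conjugate to some M_i. Let H_i be the largest normal nilpotent Hall subgroup of M_i. Then the orders of the H_i are pairwise coprime, their product is the order of G, and every element of G is conjugate to an element of some H_i. -/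
theorem result {G : Type*} [Group G] [Finite G] (hG : Cfsg.IsMinSimpleOddOrder G) (hCN : Cfsg.IsCNGroup G) (k : ℕ) (Mrep : Fin k → Subgroup G) (hmax : ∀ i, IsCoatom (Mrep i))
    (hnc : ∀ i j, i ≠ j → ∀ g : G, Mrep j ≠ (Mrep i).map (MulAut.conj g).toMonoidHom) (hall : ∀ M : Subgroup G, IsCoatom M → ∃ i, ∃ g : G, M = (Mrep i).map (MulAut.conj g).toMonoidHom) :
    (∀ i j, i ≠ j → (Nat.card (Cfsg.fittingHallOf (Mrep i))).Coprime (Nat.card (Cfsg.fittingHallOf (Mrep j)))) ∧
      ∏ i, Nat.card (Cfsg.fittingHallOf (Mrep i)) = Nat.card G ∧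
      ∀ x : G, ∃ i, ∃ g : G, g * x * g⁻¹ ∈ Cfsg.fittingHallOf (Mrep i) := by
  have hex : ∀ i, ∃ H : Subgroup G, MaxNil H ∧ Mrep i = Subgroup.normalizer (H : Set G) :=
    fun i => exists_maxNil_of_isCoatom hG hCN (hmax i)
  choose H hH hM using hex
  have hF : ∀ i, fittingHallOf (Mrep i) = H i := by
    intro i
    rw [hM i]
    exact (maxNil_fittingHall hG hCN (hH i)).1
  simp only [hF]
  have hnorm : ∀ (K : Subgroup G) (g : G),
      (Subgroup.normalizer (K : Set G)).map (MulAut.conj g).toMonoidHom =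
        Subgroup.normalizer ((K.map (MulAut.conj g).toMonoidHom : Subgroup G) : Set G) :=
    fun K g => Subgroup.map_normalizer_eq_of_bijective K (MulAut.conj g).bijective
  have hcop : ∀ i j, i ≠ j → (Nat.card (H i)).Coprime (Nat.card (H j)) := by
    intro i j hij
    rcases conj_or_coprime hCN (hH i) (hH j) with ⟨g, hg⟩ | h
    · exfalso
      apply hnc i j hij g
      rw [hM i, hM j, hnorm, hg]
    · exact h
  have hcover : ∀ x : G, ∃ i, ∃ g : G, g * x * g⁻¹ ∈ H i := by
    intro x
    have hnil : Group.IsNilpotent (Subgroup.zpowers x) := by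
      let _ : CommGroup (Subgroup.zpowers x) := IsCyclic.commGroup
      exact CommGroup.isNilpotent
    obtain ⟨K, hK, hxK⟩ := exists_maxNil hnil
    obtain ⟨i, g, hg⟩ := hall _ (maxNil_normalizer_isCoatom hG hCN hK)
    rw [hM i, hnorm] at hg
    have h1 := maxNil_eq_of_normalizer_le hG hCN hK (maxNil_conj (hH i) g) hg.le
    refine ⟨i, g⁻¹, ?_⟩
    have h2 : x ∈ (H i).map (MulAut.conj g).toMonoidHom := by
      rw [h1]
      exact hxK (Subgroup.mem_zpowers x)
    rw [inv_inv]
    exact mem_map_conj.1 h2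
  refine ⟨hcop, ?_, hcover⟩
  have hdvd : ∏ i, Nat.card (H i) ∣ Nat.card G := by
    apply Fintype.prod_dvd_of_isRelPrime
    · intro i j hij
      exact Nat.coprime_iff_isRelPrime.1 (hcop i j hij)
    · intro i
      exact Subgroup.card_subgroup_dvd_card _
  obtain ⟨m, hm⟩ := hdvd
  have hm1 : m = 1 := by
    by_contra hne
    obtain ⟨p, hp, hpm⟩ := Nat.exists_prime_and_dvd hne
    have hpF : Fact p.Prime := ⟨hp⟩
    have hpG : p ∣ Nat.card G := by rw [hm]; exact hpm.mul_left _
    obtain ⟨x, hx⟩ := exists_prime_orderOf_dvd_card' p hpG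
    obtain ⟨i, g, hg⟩ := hcover x
    have hord : orderOf (g * x * g⁻¹) = p := by
      have : g * x * g⁻¹ = MulAut.conj g x := by simp
      rw [this, MulEquiv.orderOf_eq, hx]
    have hpH : p ∣ Nat.card (H i) := hord ▸ Subgroup.orderOf_dvd_natCard (H i) hg
    have hidx : p ∣ (H i).index := by
      have h1 : Nat.card (H i) * (H i).index = Nat.card (H i) * ((∏ j ∈ Finset.univ.erase i, Nat.card (H j)) * m) := by
        rw [Subgroup.card_mul_index, hm, ← mul_assoc, Finset.mul_prod_erase _ (fun j => Nat.card (H j)) (Finset.mem_univ i)]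
      have h2 := Nat.eq_of_mul_eq_mul_left Nat.card_pos h1
      rw [h2]
      exact hpm.mul_left _
    exact hp.one_lt.ne' (Nat.eq_one_of_dvd_coprimes (maxNil_coprime hCN (hH i)) hpH hidx)
  rw [hm, hm1, mul_one]

end Cfsg.Agent.S1484
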