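import Cfsg.Statements.S1515
import Cfsg.Agent.Lib.Helper26.Glue
import Cfsg.Agent.S1517

set_option autoImplicit false
open Cfsg

namespace Cfsg.Agent.S1515

open Cfsg.Agent.Lib.Helper26 Cfsg.Agent.Lib.Helper3

/-- Let (S, τ, R) be a coherence system from L to G, χ ∈ S, and ψ an integer combination of S with ⟨χ, ψ⟩ = ⟨conj χ, ψ⟩ = 0. Let τ₁ be a linear isometry on the integer combinations of χ − ψ and χ − conj χ, with virtual-character values, agreeing with τ on integer multiples of χ − conj χ. Then the sum over α ∈ R χ of the squared absolute values of ⟨τ₁(χ − ψ), α⟩ is at least ⟨χ, χ⟩; and if ⟨τ₁(χ − ψ), τ₁(χ − ψ)⟩ minus that sum is at least ⟨ψ, ψ⟩, then the sum equals ⟨χ, χ⟩ and every ⟨τ₁(χ − ψ), α⟩ with α ∈ R χ is 0 or 1. -/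
theorem result {L : Type*} [Group L] [Fintype L] {G : Type*} [Group G] [Fintype G] (S : Set (L → ℂ)) (τ : (L → ℂ) → (G → ℂ)) (R : (L → ℂ) → Finset (G → ℂ)) (hS : Cfsg.IsCoherenceSystem S τ R) (χ : L → ℂ) (hχ : χ ∈ S) (ψ : L → ℂ) (hψ : ψ ∈ Cfsg.zspan S) (h1 : Cfsg.classInner χ ψ = 0) (h2 : Cfsg.classInner (Cfsg.conjFun χ) ψ = 0) (τ₁ : (L → ℂ) → (G → ℂ)) (hτ₁ : Cfsg.IsLinearIsometryOn (Cfsg.zspan {χ - ψ, χ - Cfsg.conjFun χ}) τ₁) (hagree : ∀ n : ℤ, τ₁ (n • (χ - Cfsg.conjFun χ)) = τ (n • (χ - Cfsg.conjFun χ))) : (Cfsg.classInner χ χ).re ≤ ∑ α ∈ R χ, ‖Cfsg.classInner (τ₁ (χ - ψ)) α‖ ^ 2 ∧ ((Cfsg.classInner ψ ψ).re ≤ (Cfsg.classInner (τ₁ (χ - ψ)) (τ₁ (χ - ψ))).re - ∑ α ∈ R χ, ‖Cfsg.classInner (τ₁ (χ - ψ)) α‖ ^ 2 → (∑ α ∈ R χ, ‖Cfsg.classInner (τ₁ (χ - ψ)) α‖ ^ 2 = (Cfsg.classInner χ χ).re ∧ ∀ α ∈ R χ, Cfsg.classInner (τ₁ (χ - ψ)) α = 0 ∨ Cfsg.classInner (τ₁ (χ -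 ψ)) α = 1)) := by
  classical
  have m1 : χ - ψ ∈ zspan ({χ - ψ, χ - conjFun χ} : Set (L → ℂ)) := mem_zspan (by simp)
  have m2 : χ - conjFun χ ∈ zspan ({χ - ψ, χ - conjFun χ} : Set (L → ℂ)) := mem_zspan (by simp)
  have hX := hτ₁.2.2.2 _ m1
  obtain ⟨a, ha⟩ := S1517.exists_coeff (S1517.R_ON hS hχ) hX
  obtain ⟨N, hN⟩ := gen_norm_nat (S1517.S_gen hS χ hχ)
  have h1' : classInner ψ χ = 0 := by rw [← classInner_conj_symm, h1, map_zero]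
  have h2' : classInner ψ (conjFun χ) = 0 := by rw [← classInner_conj_symm, h2, map_zero]
  have h3 : classInner χ (conjFun χ) = 0 :=
    hS.orthogonal χ hχ _ (hS.conj_mem χ hχ) (hS.conj_ne χ hχ).symm
  have hag : τ₁ (χ - conjFun χ) = τ (χ - conjFun χ) := by simpa using hagree 1
  have hsum : ∑ α ∈ R χ, a α = (N : ℤ) := by
    have e1 : classInner (τ₁ (χ - ψ)) (∑ α ∈ R χ, α) = ((∑ α ∈ R χ, a α : ℤ) : ℂ) :=
      S1517.inner_sum ha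
    rw [← hS.sum_eq χ hχ, ← hag, hτ₁.2.2.1 _ m1 _ m2, classInner_sub_left, classInner_sub_right,
      classInner_sub_right, hN, h3, h1', h2'] at e1
    have : ((N : ℤ) : ℂ) = ((∑ α ∈ R χ, a α : ℤ) : ℂ) := by rw [← e1]; simp
    exact_mod_cast this.symm
  have hsq : ∑ α ∈ R χ, ‖classInner (τ₁ (χ - ψ)) α‖ ^ 2 = ((∑ α ∈ R χ, a α ^ 2 : ℤ) : ℝ) := by
    push_cast
    apply Finset.sum_congr rfl
    intro α hα
    rw [ha α hα, Complex.norm_intCast, sq_abs]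
  have hle : ∀ α ∈ R χ, a α ≤ a α ^ 2 := by
    intro α _
    nlinarith [sq_nonneg (a α), sq_nonneg (a α - 1), Int.le_self_sq (a α)]
  have hge : (N : ℤ) ≤ ∑ α ∈ R χ, a α ^ 2 := by
    rw [← hsum]; exact Finset.sum_le_sum hle
  have hNre : (classInner χ χ).re = (N : ℝ) := by rw [hN]; simp
  rw [hsq, hNre]
  refine ⟨by exact_mod_cast hge, ?_⟩
  intro hb
  have hXX : classInner (τ₁ (χ - ψ)) (τ₁ (χ - ψ)) = N + classInner ψ ψ := by
    rw [hτ₁.2.2.1 _ m1 _ m1, classInner_sub_left, classInner_sub_right, classInner_sub_right, hN,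
      h1, h1']
    ring
  rw [hXX] at hb
  simp only [Complex.add_re, Complex.natCast_re] at hb
  have hle2 : ((∑ α ∈ R χ, a α ^ 2 : ℤ) : ℝ) ≤ ((N : ℤ) : ℝ) := by
    push_cast at hb ⊢; linarith
  have hle3 : ∑ α ∈ R χ, a α ^ 2 ≤ (N : ℤ) := by exact_mod_cast hle2
  have heq : ∑ α ∈ R χ, a α ^ 2 = (N : ℤ) := le_antisymm hle3 hge
  refine ⟨by rw [heq]; simp, ?_⟩
  intro α hα
  have hz : ∑ α ∈ R χ, (a α ^ 2 - a α) = 0 := by
    rw [Finset.sum_sub_distrib, heq, hsum, sub_self]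
  have := (Finset.sum_eq_zero_iff_of_nonneg (fun α hα => sub_nonneg.2 (hle α hα))).1 hz α hα
  have h01 : a α * (a α - 1) = 0 := by ring_nf; ring_nf at this; linarith
  rw [ha α hα]
  rcases mul_eq_zero.1 h01 with h | h
  · left; rw [h]; simp
  · right
    have : a α = 1 := by omega
    rw [this]; simp

end Cfsg.Agent.S1515
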