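import Cfsg.Statements.S1516
import Cfsg.Agent.Lib.Helper26.Coh
import Cfsg.Agent.S1515

set_option autoImplicit false
open Cfsg

namespace Cfsg.Agent.S1516

open Cfsg.Agent.Lib.Helper26 Cfsg.Agent.Lib.Helper3
open Cfsg.Agent.S1517 (conj_conj inner_conj_conj R_ON S_gen R_orth)

theorem arith {m : ℤ} {T c : ℝ} (hc : 0 ≤ c) (hT : c < T) (h : (m : ℝ) ^ 2 * T - c * m ≤ 0) :
    m = 0 := by
  by_contra hm
  have h1 : (1 : ℤ) ≤ m ^ 2 := by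
    have : 0 < m ^ 2 := by positivity
    omega
  have h2 : m ≤ m ^ 2 := Int.le_self_sq m
  have h1' : (1 : ℝ) ≤ (m : ℝ) ^ 2 := by exact_mod_cast h1
  have h2' : (m : ℝ) ≤ (m : ℝ) ^ 2 := by exact_mod_cast h2
  nlinarith

/-- Let (S, τ, R) be a coherence system from L to G with degrees φ 1 = d φ and squared norms ⟨φ, φ⟩ = n φ for φ ∈ S. Let S₁ ⊆ S be a finite subset closed under complex conjugation such that (S₁, L minus 1, τ) is coherent, let χ ∈ S with χ ∉ S₁ and conj χ ∉ S₁, and let χ₁ ∈ S₁ with d χ₁ dividing d χ and 2 d χ d χ₁ < Σ_{φ ∈ S₁} (d φ)² / n φ. Then S₁ together with χ and conj χ is coherent. -/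
theorem result {L : Type*} [Group L] [Fintype L] {G : Type*} [Group G] [Fintype G] (S : Set (L → ℂ)) (τ : (L → ℂ) → (G → ℂ)) (R : (L → ℂ) → Finset (G → ℂ)) (hS : Cfsg.IsCoherenceSystem S τ R) (d n : (L → ℂ) → ℕ) (hd : ∀ φ ∈ S, φ 1 = (d φ : ℂ)) (hn : ∀ φ ∈ S, Cfsg.classInner φ φ = (n φ : ℂ)) (S₁ : Finset (L → ℂ)) (hS₁ : ↑S₁ ⊆ S) (hS₁c : ∀ φ ∈ S₁, Cfsg.conjFun φ ∈ S₁) (hcoh : Cfsg.IsCoherent (↑S₁ : Set (L → ℂ)) {1}ᶜ τ) (χ : L → ℂ) (hχ : χ ∈ S) (hχ₁ : χ ∉ S₁) (hχ₂ : Cfsg.conjFun χ ∉ S₁) (χ₁ : L → ℂ) (hχ₁S : χ₁ ∈ S₁) (hdvd : d χ₁ ∣ d χ) (hineq : (2 * d χ * d χ₁ : ℝ) < ∑ φ ∈ S₁, ((d φ : ℝ) ^ 2 / (n φ : ℝ))) : Cfsg.IsCoherent (↑S₁ ∪ {χ, Cfsg.conjFun χ} : Set (L → ℂ)) {1}ᶜ τ := by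
  classical
  obtain ⟨⟨α₀, hα₀, hα₀ne⟩, τ₀, hτ₀, hagree⟩ := hcoh
  obtain ⟨a, ha⟩ := hdvd
  have hτ := hS.isometry
  have hZ := isZMod_zspanOn S ({1}ᶜ : Set L)
  have hZ₁ := isZMod_zspan (↑S₁ : Set (L → ℂ))
  have hgenS := S_gen hS
  have hm : ∀ ξ ∈ S₁, ξ ∈ zspan (↑S₁ : Set (L → ℂ)) := fun ξ h => mem_zspan h
  have hmS : ∀ ξ ∈ S₁, ξ ∈ S := fun ξ h => hS₁ h
  have hne1 : ∀ ξ ∈ S₁, χ ≠ ξ := fun ξ h e => hχ₁ (e ▸ h)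
  have hne2 : ∀ ξ ∈ S₁, χ ≠ conjFun ξ := fun ξ h e => hχ₁ (e ▸ hS₁c ξ h)
  have hne3 : ∀ ξ ∈ S₁, conjFun χ ≠ ξ := fun ξ h e => hχ₂ (e ▸ h)
  have hχξ : ∀ ξ ∈ S₁, classInner χ ξ = 0 := fun ξ h => hS.orthogonal χ hχ ξ (hS₁ h) (hne1 ξ h)
  have hξχ : ∀ ξ ∈ S₁, classInner ξ χ = 0 :=
    fun ξ h => hS.orthogonal ξ (hS₁ h) χ hχ (hne1 ξ h).symm
  have hχcξ : ∀ ξ ∈ S₁, classInner (conjFun χ) ξ = 0 :=
    fun ξ h => hS.orthogonal _ (hS.conj_mem χ hχ) ξ (hS₁ h) (hne3 ξ h)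
  have hnpos : ∀ ξ ∈ S, 0 < n ξ := by
    intro ξ hξ
    obtain ⟨k, hk0, hk⟩ := sys_norm hS hξ
    have : (n ξ : ℂ) = k := by rw [← hn ξ hξ, hk]
    have : n ξ = k := by exact_mod_cast this
    omega
  have hdpos : ∀ ξ ∈ S, 0 < d ξ := by
    intro ξ hξ
    obtain ⟨k, hk0, hk⟩ := sys_degree hS hξ
    have : (d ξ : ℂ) = k := by rw [← hd ξ hξ, hk]
    have : d ξ = k := by exact_mod_cast this
    omega
  have hχ₁' := hmS χ₁ hχ₁S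
  have hβ : χ - (a : ℤ) • χ₁ ∈ zspanOn S {1}ᶜ :=
    mem_zspanOn_one.2 ⟨zspan_sub (mem_zspan hχ) (zspan_zsmul _ (mem_zspan hχ₁')), by
      simp [hd χ hχ, hd χ₁ hχ₁', ha, mul_comm]⟩
  have hδ := sys_sub_conj_mem hS hχ
  set B := τ (χ - (a : ℤ) • χ₁) with hB
  have hBgen : IsGeneralizedCharacter G B := iso_gen hτ hβ
  have hτ₀gen : ∀ ξ ∈ S₁, IsGeneralizedCharacter G (τ₀ ξ) := fun ξ h => iso_gen hτ₀ (hm ξ h)
  have hbex : ∀ ξ, ∃ k : ℤ, ξ ∈ S₁ → classInner B (τ₀ ξ) = k := by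
    intro ξ
    by_cases hξ : ξ ∈ S₁
    · obtain ⟨k, hk⟩ := gen_inner_int hBgen (hτ₀gen ξ hξ)
      exact ⟨k, fun _ => hk⟩
    · exact ⟨0, fun h => absurd h hξ⟩
  choose b hb using hbex
  have hinner : ∀ ξ ∈ S₁, ∀ ξ' ∈ S₁, classInner ξ ξ' = if ξ = ξ' then (n ξ : ℂ) else 0 := by
    intro ξ hξ ξ' hξ'
    split_ifs with h
    · rw [← h, hn ξ (hmS ξ hξ)]
    · exact hS.orthogonal ξ (hmS ξ hξ) ξ' (hmS ξ' hξ') h
  set m : ℤ := b χ₁ + a * n χ₁ with hmdef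
  have hstar : ∀ ξ ∈ S₁, (d χ₁ : ℤ) * b ξ =
      (d ξ : ℤ) * m - (if ξ = χ₁ then (a : ℤ) * d χ₁ * n χ₁ else 0) := by
    intro ξ hξ
    have hγ1 : ((d χ₁ : ℤ) • ξ) ∈ zspan (↑S₁ : Set (L → ℂ)) := zspan_zsmul _ (hm ξ hξ)
    have hγ2 : ((d ξ : ℤ) • χ₁) ∈ zspan (↑S₁ : Set (L → ℂ)) := zspan_zsmul _ (hm χ₁ hχ₁S)
    have hγ : ((d χ₁ : ℤ) • ξ - (d ξ : ℤ) • χ₁) ∈ zspanOn (↑S₁ : Set (L → ℂ)) {1}ᶜ :=
      mem_zspanOn_one.2 ⟨zspan_sub hγ1 hγ2, by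
        simp [hd ξ (hmS ξ hξ), hd χ₁ hχ₁', mul_comm]⟩
    have h1 : classInner B (τ₀ ((d χ₁ : ℤ) • ξ - (d ξ : ℤ) • χ₁)) =
        classInner (χ - (a : ℤ) • χ₁) ((d χ₁ : ℤ) • ξ - (d ξ : ℤ) • χ₁) := by
      rw [hagree _ hγ, hB, iso_inner hτ hβ (zspanOn_mono _ hS₁ hγ)]
    rw [iso_sub hτ₀ hZ₁ hγ1 hγ2, iso_zsmul hτ₀ _ (hm ξ hξ), iso_zsmul hτ₀ _ (hm χ₁ hχ₁S)] at h1
    simp only [classInner_sub_left, classInner_sub_right, classInner_zsmul_left,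
      classInner_zsmul_right, hb ξ hξ, hb χ₁ hχ₁S, hχξ ξ hξ, hχξ χ₁ hχ₁S,
      hinner χ₁ hχ₁S ξ hξ, hinner χ₁ hχ₁S χ₁ hχ₁S, if_true] at h1
    by_cases hξχ₁ : ξ = χ₁
    · subst hξχ₁
      simp only [if_true]
      rw [hmdef]; ring
    · rw [if_neg hξχ₁]
      rw [if_neg (Ne.symm hξχ₁)] at h1
      have h2 : (((d χ₁ : ℤ) * b ξ - (d ξ : ℤ) * b χ₁ : ℤ) : ℂ) =
          (((a : ℤ) * (d ξ : ℤ) * n χ₁ : ℤ) : ℂ) := by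
        push_cast at h1 ⊢
        linear_combination h1
      have h3 : (d χ₁ : ℤ) * b ξ - (d ξ : ℤ) * b χ₁ = (a : ℤ) * (d ξ : ℤ) * n χ₁ := by
        exact_mod_cast h2
      rw [hmdef]; linarith
  have hagc : ∀ ξ ∈ S₁, τ₀ (ξ - conjFun ξ) = τ (ξ - conjFun ξ) := by
    intro ξ hξ
    apply hagree
    exact mem_zspanOn_one.2 ⟨zspan_sub (hm ξ hξ) (hm _ (hS₁c ξ hξ)), by
      simp [sys_conj_one hS (hS₁ hξ)]⟩
  have hξR : ∀ ξ ∈ S₁, ∀ α ∈ R χ, classInner (τ₀ ξ) α = 0 := fun ξ hξ =>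
    coh_orth hS hχ (hS₁ hξ) (hne1 ξ hξ) (hne2 ξ hξ) hZ₁ hτ₀ (hm ξ hξ) (hm _ (hS₁c ξ hξ))
      (hagc ξ hξ)
  -- Bessel
  have hBB : classInner B B = ((n χ + a ^ 2 * n χ₁ : ℕ) : ℂ) := by
    rw [hB, iso_inner hτ hβ hβ]
    simp only [classInner_sub_left, classInner_sub_right, classInner_zsmul_left,
      classInner_zsmul_right, hn χ hχ, hn χ₁ hχ₁', hχξ χ₁ hχ₁S, hξχ χ₁ hχ₁S]
    push_cast; ring
  have hbes := bessel_le ((R χ).disjSum S₁) (Sum.elim id τ₀)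
    (Sum.elim (fun _ => 1) (fun ξ => (n ξ : ℝ)))
    (by
      intro i hi
      rcases i with α | ξ
      · simp
      · have hξ : ξ ∈ S₁ := by simpa using hi
        simpa using (hnpos ξ (hmS ξ hξ)).ne')
    (by
      intro i hi j hj
      rcases i with α | ξ <;> rcases j with β | ξ'
      · have hα : α ∈ R χ := by simpa using hi
        have hβ' : β ∈ R χ := by simpa using hj
        have := hS.orthonormal χ hχ α hα β hβ'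
        simp only [Sum.elim_inl, id, Sum.inl.injEq]
        rw [this]
        by_cases h : α = β <;> simp [h]
      · have hα : α ∈ R χ := by simpa using hi
        have hξ' : ξ' ∈ S₁ := by simpa using hj
        simp only [Sum.elim_inl, Sum.elim_inr, id, reduceCtorEq, if_false]
        rw [gen_inner_comm (hS.virtual χ hχ α hα) (hτ₀gen ξ' hξ')]
        exact hξR ξ' hξ' α hα
      · have hξ : ξ ∈ S₁ := by simpa using hi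
        have hβ' : β ∈ R χ := by simpa using hj
        simp only [Sum.elim_inl, Sum.elim_inr, id, reduceCtorEq, if_false]
        exact hξR ξ hξ β hβ'
      · have hξ : ξ ∈ S₁ := by simpa using hi
        have hξ' : ξ' ∈ S₁ := by simpa using hj
        simp only [Sum.elim_inr, Sum.inr.injEq]
        rw [iso_inner hτ₀ (hm ξ hξ) (hm ξ' hξ'), hinner ξ hξ ξ' hξ']
        by_cases h : ξ = ξ' <;> simp [h]) B
  rw [Finset.sum_disjSum, hBB, Complex.natCast_re] at hbes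
  simp only [Sum.elim_inl, Sum.elim_inr, id, div_one] at hbes
  have hsub : zspan ({χ - (a : ℤ) • χ₁, χ - conjFun χ} : Set (L → ℂ)) ⊆ zspanOn S {1}ᶜ := by
    intro θ hθ
    induction hθ using Submodule.span_induction with
    | mem x hx =>
      rcases hx with rfl | hx
      · exact hβ
      · rw [Set.mem_singleton_iff.1 hx]; exact hδ
    | zero => exact hZ.zero
    | add x y _ _ hx hy => exact hZ.add hx hy
    | smul k x _ hx => exact hZ.zsmul k hx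
  have h15 := (Cfsg.Agent.S1515.result S τ R hS χ hχ ((a : ℤ) • χ₁)
    (zspan_zsmul _ (mem_zspan hχ₁')) (by rw [classInner_zsmul_right, hχξ χ₁ hχ₁S, mul_zero])
    (by rw [classInner_zsmul_right, hχcξ χ₁ hχ₁S, mul_zero]) τ (iso_mono hτ hsub)
    (fun _ => rfl)).1
  rw [hn χ hχ, Complex.natCast_re, ← hB] at h15
  have hsumb : ∑ ξ ∈ S₁, ‖classInner B (τ₀ ξ)‖ ^ 2 / (n ξ : ℝ) ≤ (a : ℝ) ^ 2 * n χ₁ := by
    push_cast at hbes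
    linarith
  set T : ℝ := ∑ φ ∈ S₁, ((d φ : ℝ) ^ 2 / (n φ : ℝ)) with hT
  have hd₁pos : (0 : ℝ) < d χ₁ := by exact_mod_cast hdpos χ₁ hχ₁'
  have hn₁pos : (0 : ℝ) < n χ₁ := by exact_mod_cast hnpos χ₁ hχ₁'
  have hsumsq : (d χ₁ : ℝ) ^ 2 * ∑ ξ ∈ S₁, ‖classInner B (τ₀ ξ)‖ ^ 2 / (n ξ : ℝ) =
      (m : ℝ) ^ 2 * T - 2 * a * (d χ₁ : ℝ) ^ 2 * m + (a : ℝ) ^ 2 * (d χ₁ : ℝ) ^ 2 * n χ₁ := by
    rw [Finset.mul_sum]
    have h1 : ∀ ξ ∈ S₁, (d χ₁ : ℝ) ^ 2 * (‖classInner B (τ₀ ξ)‖ ^ 2 / (n ξ : ℝ)) =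
        (m : ℝ) ^ 2 * ((d ξ : ℝ) ^ 2 / (n ξ : ℝ)) -
        (if ξ = χ₁ then 2 * a * (d χ₁ : ℝ) ^ 2 * m - (a : ℝ) ^ 2 * (d χ₁ : ℝ) ^ 2 * n χ₁ else 0) := by
      intro ξ hξ
      have h2 := hstar ξ hξ
      have h2' : (d χ₁ : ℝ) * (b ξ : ℝ) =
          (d ξ : ℝ) * m - (if ξ = χ₁ then (a : ℝ) * d χ₁ * n χ₁ else 0) := by
        have := congrArg (Int.cast : ℤ → ℝ) h2
        push_cast at this
        exact this
      rw [hb ξ hξ, Complex.norm_intCast, sq_abs]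
      have hnξ : (n ξ : ℝ) ≠ 0 := by exact_mod_cast (hnpos ξ (hmS ξ hξ)).ne'
      have h3 : (d χ₁ : ℝ) ^ 2 * ((b ξ : ℝ) ^ 2 / (n ξ : ℝ)) =
          ((d χ₁ : ℝ) * (b ξ : ℝ)) ^ 2 / (n ξ : ℝ) := by ring
      rw [h3, h2']
      by_cases hξχ₁ : ξ = χ₁
      · subst hξχ₁; simp only [if_true]; field_simp; ring
      · simp only [if_neg hξχ₁]; ring
    rw [Finset.sum_congr rfl h1, Finset.sum_sub_distrib, ← Finset.mul_sum,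
      Finset.sum_ite_eq' S₁ χ₁, if_pos hχ₁S]
    ring
  have hm0 : m = 0 := by
    apply arith (T := T) (c := 2 * a * (d χ₁ : ℝ) ^ 2) (by positivity)
    · have : (d χ : ℝ) = d χ₁ * a := by exact_mod_cast ha
      rw [this] at hineq
      calc 2 * (a : ℝ) * (d χ₁ : ℝ) ^ 2 = 2 * (d χ₁ * a) * d χ₁ := by ring
        _ < T := hineq
    · have h1 : (d χ₁ : ℝ) ^ 2 * ∑ ξ ∈ S₁, ‖classInner B (τ₀ ξ)‖ ^ 2 / (n ξ : ℝ) ≤
          (d χ₁ : ℝ) ^ 2 * ((a : ℝ) ^ 2 * n χ₁) :=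
        mul_le_mul_of_nonneg_left hsumb (by positivity)
      rw [hsumsq] at h1
      linarith
  have hb₁ : b χ₁ = -(a * n χ₁ : ℤ) := by rw [hmdef] at hm0; linarith
  -- extension
  have hXgen : IsGeneralizedCharacter G (B + (a : ℤ) • τ₀ χ₁) :=
    gen_add hBgen (gen_zsmul (hτ₀gen χ₁ hχ₁S) _)
  have hτ₀₁ : classInner (τ₀ χ₁) (τ₀ χ₁) = n χ₁ := by
    rw [iso_inner hτ₀ (hm χ₁ hχ₁S) (hm χ₁ hχ₁S), hn χ₁ hχ₁']
  have hτ₀B : classInner (τ₀ χ₁) B = b χ₁ := by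
    rw [gen_inner_comm (hτ₀gen χ₁ hχ₁S) hBgen, hb χ₁ hχ₁S]
  obtain ⟨τ₂, hτ₂, hag₂, -, -, -⟩ := extend_with hS hS₁ hS₁c hτ₀ hagree hχ hχ₁ hχ₁S
    (a := (a : ℤ)) (by rw [hd χ hχ, hd χ₁ hχ₁', ha]; push_cast; ring) hXgen
    (by
      simp only [classInner_add_left, classInner_add_right, classInner_zsmul_left,
        classInner_zsmul_right, hBB, hb χ₁ hχ₁S, hτ₀B, hτ₀₁, hb₁, hn χ hχ]
      push_cast; ring)
    (by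
      simp only [classInner_add_left, classInner_zsmul_left, hb χ₁ hχ₁S, hτ₀₁, hb₁]
      push_cast; ring)
    (by rw [← hB]; abel)
  exact ⟨⟨α₀, zspanOn_mono _ Set.subset_union_left hα₀, hα₀ne⟩, τ₂, hτ₂, hag₂⟩

end Cfsg.Agent.S1516
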