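import Cfsg.Statements.S1534
import Cfsg.Agent.Lib.Helper26.FeitSibley
import Cfsg.Agent.S1535

set_option autoImplicit false
open Cfsg

namespace Cfsg.Agent.S1534

open Cfsg.Agent.Lib Cfsg.Agent.Lib.Helper26 Cfsg.Agent.Lib.Helper15
open scoped commutatorElement

theorem arith {idx e m : ℕ} (hidx : idx ∣ 2 ^ m) (he : Odd e) (he2 : 2 ≤ e)
    (hle : idx ≤ 4 * e ^ 2 + 1) : idx < 4 * e ^ 2 := by
  obtain ⟨j, _, rfl⟩ := (Nat.dvd_prime_pow Nat.prime_two).1 hidx
  by_contra hlt
  have hcases : 2 ^ j = 4 * e ^ 2 ∨ 2 ^ j = 4 * e ^ 2 + 1 := by omega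
  rcases hcases with h | h
  · have hd : e ∣ 2 ^ j := by
      rw [h]
      exact Dvd.intro_left (4 * e) (by ring)
    obtain ⟨i, _, hi⟩ := (Nat.dvd_prime_pow Nat.prime_two).1 hd
    rcases Nat.eq_zero_or_pos i with rfl | hpos
    · simp at hi; omega
    · rw [hi] at he
      exact (Nat.not_odd_iff_even.2 ((Nat.even_pow.2 ⟨even_two, hpos.ne'⟩))) he
  · rcases Nat.eq_zero_or_pos j with rfl | hpos
    · simp at h
      omega
    · have h1 : Even (2 ^ j) := Nat.even_pow.2 ⟨even_two, hpos.ne'⟩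
      rw [h] at h1
      have h2 : Odd (4 * e ^ 2 + 1) := ⟨2 * e ^ 2, by ring⟩
      exact (Nat.not_even_iff_odd.2 h2) h1

theorem aux {G : Type*} [Group G] [Fintype G] (H L : Subgroup G) [Fintype L]
    (hN : Subgroup.normalizer (H : Set G) = L) (hH1 : H ≠ ⊥) (hnil : Group.IsNilpotent H)
    (hTI : IsTISubset (H : Set G)) (hlt : H < L)
    (hC : ∀ k ∈ H, k ≠ 1 → Subgroup.centralizer ({k} : Set G) ≤ H) :
    (Nat.card {χ : L → ℂ // IsIrrCharacter L χ ∧ ∃ x : L, (x : G) ∈ H ∧ χ x ≠ χ 1} = 1 ∧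
      Nat.card H = (H.subgroupOf L).index + 1 ∧ ∃ p : ℕ, p.Prime ∧ IsElementaryAbelian p H) ∨
    (Nat.card H = 2 ^ (Nat.card G).factorization 2 ∧
      (⁅H, H⁆.subgroupOf H).index < 4 * (H.subgroupOf L).index ^ 2) ∨
    IsCoherent {χ : L → ℂ | IsIrrCharacter L χ ∧ ∃ x : L, (x : G) ∈ H ∧ χ x ≠ χ 1} {1}ᶜ
      (fun α => indFun L α) := by
  classical
  have hHL : H ≤ L := hlt.le
  have hKn := SibleyCore.normal_of_normalizer H L hN
  set K := H.subgroupOf L with hKdef
  have hC' := SibleyCore.hC_of H L hC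
  have hSeq : {χ : L → ℂ | IsIrrCharacter L χ ∧ ∃ x : L, (x : G) ∈ H ∧ χ x ≠ χ 1} =
      inducedIrrAbove K ⊥ := (SibleyCore.S_eq K hC').symm
  have hcardK : Nat.card K = Nat.card H :=
    Nat.card_congr (Subgroup.subgroupOfEquivOfLe hHL).toEquiv
  have hnilK : Group.IsNilpotent K :=
    @Group.nilpotent_of_mulEquiv _ _ _ _ hnil (Subgroup.subgroupOfEquivOfLe hHL).symm
  have hKbot : K ≠ ⊥ := by
    intro h
    apply hH1
    rw [eq_bot_iff]
    intro x hx
    have hm : (⟨x, hHL hx⟩ : L) ∈ K := Subgroup.mem_subgroupOf.2 hx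
    rw [h, Subgroup.mem_bot] at hm
    exact Subgroup.mem_bot.2 (congrArg Subtype.val hm)
  have hKtop : K ≠ ⊤ := by
    intro h
    rw [hKdef, Subgroup.subgroupOf_eq_top] at h
    exact absurd h (not_le_of_gt hlt)
  have hK'K : ⁅K, K⁆ < K := FrobKer.comm_lt K hnilK hKbot
  obtain ⟨hiso, hone⟩ := Cfsg.Agent.S1524.ti_isometry H L hTI hN
  have habH : (∀ x ∈ K, ∀ y ∈ K, x * y = y * x) → IsMulCommutative H := by
    intro hab
    apply isMulCommutative_iff.2
    intro a b
    have := hab ⟨a, hHL a.2⟩ (Subgroup.mem_subgroupOf.2 a.2) ⟨b, hHL b.2⟩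
      (Subgroup.mem_subgroupOf.2 b.2)
    exact Subtype.ext (congrArg (fun w : L => (w : G)) this)
  -- the abelian case
  by_cases hab : ∀ x ∈ K, ∀ y ∈ K, x * y = y * x
  · rcases FeitSibley.abelian_case K hKbot hC' hab _ hiso hone with ⟨h1, h2⟩ | h
    · left
      have hne1 : Nat.card K ≠ 1 := fun h => hKbot ((Subgroup.card_eq_one).1 h)
      obtain ⟨p, hp, hpd⟩ := Nat.exists_prime_and_dvd hne1
      refine ⟨?_, ?_, p, hp, habH hab, ?_⟩
      · rw [← h1]
        exact Nat.card_congr (Equiv.subtypeEquivRight (fun χ => by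
          rw [← hSeq]; rfl))
      · rw [← hcardK]; exact h2
      · intro a ha
        have := FeitSibley.pow_eq_one_of_card K hC' hab h2 p hp hpd ⟨a, hHL ha⟩
          (Subgroup.mem_subgroupOf.2 ha)
        have h3 := congrArg (fun w : L => (w : G)) this
        simpa using h3
    · right; right
      rw [hSeq]
      exact h
  -- the nonabelian case
  have hcomm : ⁅K, K⁆ ≠ ⊥ := by
    intro h
    apply hab
    intro x hx y hy
    have h1 : ⁅x, y⁆ ∈ ⁅K, K⁆ := Subgroup.commutator_mem_commutator hx hy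
    rw [h, Subgroup.mem_bot, commutatorElement_def] at h1
    calc x * y = x * y * x⁻¹ * y⁻¹ * (y * x) := by group
      _ = y * x := by rw [h1, one_mul]
  obtain ⟨Z, hZn, hZ1, hZK', hZc⟩ := FrobKer.exists_central K hnilK hcomm
  have hZK : Z ≤ K := hZK'.trans hK'K.le
  have hedvd := FrobKer.index_dvd_card_sub_one K Z hZK hZc hC'
  have hZcard1 : 1 < Nat.card Z := (Subgroup.one_lt_card_iff_ne_bot Z).2 hZ1
  have hne : Nat.card K ≠ K.index + 1 := by
    intro h
    have h1 : K.index ≤ Nat.card Z - 1 := Nat.le_of_dvd (by omega) hedvd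
    have h2 : Nat.card Z < Nat.card K := by
      have h3 : Nat.card Z ≤ Nat.card (⁅K, K⁆ : Subgroup L) := Subgroup.card_le_of_le hZK'
      have h4 : Nat.card (⁅K, K⁆ : Subgroup L) < Nat.card K := by
        apply Set.ncard_lt_ncard (s := ((⁅K, K⁆ : Subgroup L) : Set L)) (t := (K : Set L)) _
          (Set.toFinite _)
        exact hK'K
      omega
    omega
  right
  rcases Cfsg.Agent.S1535.result K hKbot hKtop hC' hne (fun α : L → ℂ => indFun L α)
    (by rw [← SibleyCore.S_eq K hC']; exact hiso) (by rw [← SibleyCore.S_eq K hC']; exact hone)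
    with h | ⟨p, hp, ⟨m, hm⟩, _, hidx⟩
  · right
    exact h
  · by_cases hp2 : p = 2
    · left
      subst hp2
      have := Fact.mk hp
      have hcardH : Nat.card H = 2 ^ m := by rw [← hcardK, hm]
      have hpH : IsPGroup 2 H := IsPGroup.of_card hcardH
      have heodd : Odd K.index := by
        have h3 : Nat.card Z ∣ 2 ^ m := by
          rw [← hm]; exact Subgroup.card_dvd_of_le hZK
        obtain ⟨i, _, hi⟩ := (Nat.dvd_prime_pow hp).1 h3
        have hi0 : i ≠ 0 := by
          rintro rfl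
          rw [hi] at hZcard1
          simp at hZcard1
        have h4 : Odd (Nat.card Z - 1) := by
          rw [hi]
          exact Nat.Even.sub_odd (Nat.one_le_two_pow) (Nat.even_pow.2 ⟨even_two, hi0⟩) odd_one
        exact Odd.of_dvd_nat h4 hedvd
      have hnd : ¬ 2 ∣ H.index := by
        have h := Sylow.card_quotient_normalizer_modEq_card_quotient (G := G) (H := H) hcardH
        intro hdvd
        have hpe : ¬ 2 ∣ K.index := fun h => (Nat.not_even_iff_odd.2 heodd) (even_iff_two_dvd.2 h)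
        apply hpe
        subst hN
        have h' : (H.subgroupOf (Subgroup.normalizer (H : Set G))).index ≡ H.index [MOD 2] := h
        exact (Nat.modEq_zero_iff_dvd.1 (h'.trans (Nat.modEq_zero_iff_dvd.2 hdvd)))
      refine ⟨?_, ?_⟩
      · have h1 := Sylow.card_eq_multiplicity (hpH.toSylow hnd)
        rw [IsPGroup.toSylow_coe] at h1
        exact h1
      · have hrel : (⁅H, H⁆.subgroupOf H).index = (⁅K, K⁆.subgroupOf K).index := by
          have h1 := Subgroup.relIndex_map_map_of_injective (f := L.subtype) ⁅K, K⁆ K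
            L.subtype_injective
          rw [Subgroup.map_commutator, hKdef, Subgroup.map_subgroupOf_eq_of_le hHL] at h1
          exact h1
        rw [hrel]
        have he2 : 2 ≤ K.index := by
          have h0 : K.index ≠ 0 := Subgroup.index_ne_zero_of_finite
          have h1 : K.index ≠ 1 := fun h => hKtop (Subgroup.index_eq_one.1 h)
          omega
        refine arith (m := m) ?_ heodd he2 hidx
        rw [← hm]
        exact Subgroup.relIndex_dvd_card _ _
    · right
      rw [hSeq]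
      have hpodd : Odd p := hp.odd_of_ne_two hp2
      have hKodd : Odd (Nat.card K) := by
        rw [hm]
        exact hpodd.pow
      have hodd : Odd (Nat.card L) := SibleyCore.odd_of_nonabelian K hC' hKodd hab
      exact SibleyCore.core H L hodd hHL hH1 hlt.ne hnil hC' hTI hN

/-- Let G be a finite group and K a nontrivial nilpotent subgroup whose underlying set is a TI-subset of G, properly contained in its set normaliser N, with C_G(k) ≤ K for every non-identity k ∈ K; let e be the index of K in N and S the set of irreducible characters χ of N with χ k ≠ χ 1 for some k ∈ K. Then one of: S has exactly one member, Nat.card K = e + 1 and K is an elementary abelian p-group for some prime p; or K is a Sylow 2-subgroup of G (Nat.card K is the largest power of 2 dividing Nat.card G) and [K : [K,K]] < 4e²; or (S, N minus 1, induction to G) is coherent. -/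
theorem result {G : Type*} [Group G] [Fintype G] (K : Subgroup G) (hK1 : K ≠ ⊥) (hnil : Group.IsNilpotent K) (hTI : Cfsg.IsTISubset (K : Set G)) (hlt : K < Subgroup.normalizer (K : Set G)) (hC : ∀ k ∈ K, k ≠ 1 → Subgroup.centralizer ({k} : Set G) ≤ K) [Fintype ↥(Subgroup.normalizer (K : Set G))] : (Nat.card {χ : ↥(Subgroup.normalizer (K : Set G)) → ℂ // Cfsg.IsIrrCharacter ↥(Subgroup.normalizer (K : Set G)) χ ∧ ∃ k : ↥(Subgroup.normalizer (K : Set G)), (k : G) ∈ K ∧ χ k ≠ χ 1} = 1 ∧ Nat.card K = (K.subgroupOf (Subgroup.normalizer (K : Set G))).index + 1 ∧ ∃ p : ℕ, p.Prime ∧ Cfsg.IsElementaryAbelian p K) ∨ (Nat.card K = 2 ^ (Nat.card G).factorization 2 ∧ (⁅K, K⁆.subgroupOf K).index < 4 * (K.subgroupOf (Subgroup.normalizer (K : Set G))).index ^ 2) ∨ Cfsg.IsCoherent {χ : ↥(Subgroup.normalizer (K : Set G)) → ℂ | Cfsg.IsIrrCharacter ↥(Subgroup.normalizer (K : Set G)) χ ∧ ∃ k : ↥(Subgroup.normalizer (K : Set G)), (k : G) ∈ K ∧ χ k ≠ χ 1} {1}ᶜ (fun α => Cfsg.indFun (Subgroup.normalizer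 (K : Set G)) α) := by
  exact aux K _ rfl hK1 hnil hTI hlt hC

end Cfsg.Agent.S1534
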