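import Cfsg.Statements.S1554
import Cfsg.Agent.Lib.Helper30.OctadStab
import Cfsg.Agent.Lib.Helper27.OctadFlags

set_option autoImplicit false
open scoped Pointwise
open Cfsg

namespace Cfsg.Agent.S1554

open Cfsg.Agent.Lib.Helper27 Cfsg.Agent.Lib.Helper30

/-- An element of `M24` fixing an octad pointwise and a further point is trivial. -/
theorem eq_one_of_fix {o : Finset GolayPt} (ho : o ∈ octads) {p : GolayPt} (hp : p ∉ o)
    {g : Equiv.Perm GolayPt} (hg : g ∈ M24) (hgo : ∀ x ∈ o, g x = x) (hgp : g p = p) : g = 1 := by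
  obtain ⟨t, ht, hm⟩ := oflag_out ho hp
  simp only [maps_cons] at hm
  obtain ⟨h1, h2, _⟩ := hm
  rw [smul_singleton_eq (by norm_num)] at h1
  have hfix : ∀ q ∈ unmask 8536111, (t * g * t⁻¹) q = q := by
    intro q hq
    rw [← h2] at hq
    obtain ⟨x, hx, rfl⟩ := Finset.mem_smul_finset.mp hq
    change t (g (t⁻¹ (t x))) = t x
    rw [perm_inv_apply_self, hgo x hx]
  have hfix4 : (t * g * t⁻¹) (pt 4) = pt 4 := by
    rw [← h1]
    change t (g (t⁻¹ (t p))) = t p
    rw [perm_inv_apply_self, hgp]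
  have hmem : t * g * t⁻¹ ∈ fixer L7 := by
    refine ⟨M24.mul_mem (M24.mul_mem ht hg) (M24.inv_mem ht), ?_⟩
    have hstd : ∀ i, i ∈ [5, 3, 2, 1, 0, 23] → pt i ∈ unmask 8536111 := by decide +kernel
    intro m hm
    simp only [L7, List.mem_cons, List.not_mem_nil, or_false] at hm
    rcases hm with rfl | rfl | rfl | rfl | rfl | rfl | rfl
    · exact (smul_unmask_two_pow (by norm_num) _).mpr (hfix _ (hstd 5 (by simp)))
    · exact (smul_unmask_two_pow (by norm_num) _).mpr hfix4
    · exact (smul_unmask_two_pow (by norm_num) _).mpr (hfix _ (hstd 3 (by simp)))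
    · exact (smul_unmask_two_pow (by norm_num) _).mpr (hfix _ (hstd 2 (by simp)))
    · exact (smul_unmask_two_pow (by norm_num) _).mpr (hfix _ (hstd 1 (by simp)))
    · exact (smul_unmask_two_pow (by norm_num) _).mpr (hfix _ (hstd 0 (by simp)))
    · exact (smul_unmask_two_pow (by norm_num) _).mpr (hfix _ (hstd 23 (by simp)))
  rw [fixer_L7, Subgroup.mem_bot] at hmem
  calc g = t⁻¹ * (t * g * t⁻¹) * t := by group
    _ = 1 := by rw [hmem]; group

/-- The octad stabiliser is transitive on the points outside the octad. -/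
theorem octStab_trans {o : Finset GolayPt} (ho : o ∈ octads) {y y' : GolayPt} (hy : y ∉ o)
    (hy' : y' ∉ o) : ∃ k ∈ octStab o, k y = y' := by
  obtain ⟨A, hAo, hA⟩ := Finset.exists_subset_card_eq (s := o) (n := 5) (by rw [ho.2]; norm_num)
  obtain ⟨k, hk, hkA, hky⟩ := exists_fix_five hA ho hAo (fun h => hy (hAo h)) (fun h => hy' (hAo h))
    (by simp [hy, hy'])
  exact ⟨k, ⟨hk, smul_octad_eq hk ho (smul_eq_of_fixes hkA) hAo hA.ge⟩, hky⟩

theorem card_joint {o : Finset GolayPt} (ho : o ∈ octads) {p : GolayPt} (hp : p ∉ o) :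
    Nat.card ↥(octStab o ⊓ MulAction.stabilizer (Equiv.Perm GolayPt) p) = 20160 := by
  have h := card_step (G := Equiv.Perm GolayPt) (octStab o) p ((oᶜ : Finset GolayPt) : Set GolayPt)
    (fun y hy => octStab_trans ho hp (by simpa using hy)) (fun g hg => by
      have : g p ∉ o := fun hc => hp ((mem_iff_of_smul_eq hg.2 p).mp hc)
      simpa using this)
  rw [card_octStab ho, Set.ncard_coe_finset, Finset.card_compl, ho.2] at h
  have h24 : Fintype.card GolayPt = 24 := by decide
  rw [h24] at h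
  omega

/-- An octad stabiliser is a split extension: the joint stabiliser of the octad and a point outside it is a complement to the pointwise stabiliser of the octad, and is isomorphic to the alternating group of degree 8. -/
theorem result (o : Finset Cfsg.GolayPt) (ho : o ∈ Cfsg.octads) (p : Cfsg.GolayPt) (hp : p ∉ o) : (Cfsg.M24 ⊓ fixingSubgroup (Equiv.Perm Cfsg.GolayPt) (o : Set Cfsg.GolayPt)) ⊓ (Cfsg.M24 ⊓ MulAction.stabilizer (Equiv.Perm Cfsg.GolayPt) o ⊓ MulAction.stabilizer (Equiv.Perm Cfsg.GolayPt) p) = ⊥ ∧ (Cfsg.M24 ⊓ fixingSubgroup (Equiv.Perm Cfsg.GolayPt) (o : Set Cfsg.GolayPt)) ⊔ (Cfsg.M24 ⊓ MulAction.stabilizer (Equiv.Perm Cfsg.GolayPt) o ⊓ MulAction.stabilizer (Equiv.Perm Cfsg.GolayPt) p) = (Cfsg.M24 ⊓ MulAction.stabilizer (Equiv.Perm Cfsg.GolayPt) o) ∧ Nonempty (↥(Cfsg.M24 ⊓ MulAction.stabilizer (Equiv.Perm Cfsg.GolayPt) o ⊓ MulAction.stabilizer (Equiv.Perm Cfsg.GolayPt) p) ≃* alternatingGroup (Fin 8)) := by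
  set A := octFix o with hA
  set B := octStab o ⊓ MulAction.stabilizer (Equiv.Perm GolayPt) p with hB
  have hAB : A ⊓ B = ⊥ := by
    rw [eq_bot_iff]
    rintro g ⟨hgA, hgB⟩
    rw [Subgroup.mem_bot]
    have h1 := mem_octFix_iff.mp hgA
    exact eq_one_of_fix ho hp h1.1 h1.2 hgB.2
  have hBle : B ≤ octStab o := inf_le_left
  refine ⟨hAB, ?_, ?_⟩
  · apply le_antisymm (sup_le (octFix_le_octStab o) hBle)
    intro g hg
    -- the orbit of `p` under `A` is the complement of `o`
    set S : Set GolayPt := {y | ∃ a ∈ A, a p = y} with hS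
    have hSsub : S ⊆ ((oᶜ : Finset GolayPt) : Set GolayPt) := by
      rintro _ ⟨a, ha, rfl⟩
      have ha' := octFix_le_octStab o ha
      have : a p ∉ o := fun hc => hp ((mem_iff_of_smul_eq ha'.2 p).mp hc)
      simpa using this
    have hcard := card_step (G := Equiv.Perm GolayPt) A p S (fun y hy => hy)
      (fun a ha => ⟨a, ha, rfl⟩)
    have hbot : A ⊓ MulAction.stabilizer (Equiv.Perm GolayPt) p = ⊥ := by
      rw [eq_bot_iff]
      rintro a ⟨haA, hap⟩
      rw [Subgroup.mem_bot]
      have h1 := mem_octFix_iff.mp haA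
      exact eq_one_of_fix ho hp h1.1 h1.2 hap
    rw [hbot, Subgroup.card_bot, mul_one, (Cfsg.Agent.S0381.result o ho).1] at hcard
    have hSeq : S = ((oᶜ : Finset GolayPt) : Set GolayPt) := by
      apply Set.eq_of_subset_of_ncard_le hSsub
      rw [← hcard, Set.ncard_coe_finset, Finset.card_compl, ho.2]
      decide
    have hgp : g p ∈ S := by
      rw [hSeq]
      have : g p ∉ o := fun hc => hp ((mem_iff_of_smul_eq hg.2 p).mp hc)
      simpa using this
    obtain ⟨a, ha, hap⟩ := hgp
    have hb : a⁻¹ * g ∈ B := by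
      refine ⟨(octStab o).mul_mem ((octStab o).inv_mem (octFix_le_octStab o ha)) hg, ?_⟩
      change a⁻¹ (g p) = p
      rw [← hap, perm_inv_apply_self]
    have : g = a * (a⁻¹ * g) := by group
    rw [this]
    exact Subgroup.mul_mem_sup ha hb
  · -- the isomorphism
    let ρ : ↥B →* Equiv.Perm ↥o := (octRes o).comp (Subgroup.inclusion hBle)
    have hinj : Function.Injective ρ := by
      rw [injective_iff_map_eq_one]
      intro b hb
      have h1 : Subgroup.inclusion hBle b ∈ (octRes o).ker := hb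
      rw [mem_ker_octRes] at h1
      have h2 : b.1 ∈ A ⊓ B := ⟨h1, b.2⟩
      rw [hAB, Subgroup.mem_bot] at h2
      exact Subtype.ext h2
    have hrange : ρ.range = alternatingGroup ↥o := by
      apply eq_alternatingGroup_of_card ho
      rw [← Nat.card_congr (MonoidHom.ofInjective hinj).toEquiv]
      exact card_joint ho hp
    exact ⟨((MonoidHom.ofInjective hinj).trans (MulEquiv.subgroupCongr hrange)).trans
      (Equiv.altCongrHom (Finset.equivFinOfCardEq ho.2))⟩

end Cfsg.Agent.S1554
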