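import Cfsg.Statements.S1896
import Cfsg.Agent.Lib.Helper64.TwoCyc
import Cfsg.Agent.Lib.Helper64.FratAut
import Cfsg.Agent.Lib.Helper64.MetaData

set_option autoImplicit false
open Cfsg

namespace Cfsg.Agent.S1896

open Subgroup Cfsg.Agent.Lib.Helper64 Cfsg.Agent.Lib.Helper2

/-- the elements on which `α` is the identity modulo the normal subgroup `N`. -/
def eqMod {X : Type*} [Group X] (N : Subgroup X) [N.Normal] (α : MulAut X) : Subgroup X :=
  MonoidHom.eqLocus ((QuotientGroup.mk' N).comp α.toMonoidHom) (QuotientGroup.mk' N)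

theorem mem_eqMod {X : Type*} [Group X] {N : Subgroup X} [N.Normal] {α : MulAut X} {x : X} :
    x ∈ eqMod N α ↔ α x * x⁻¹ ∈ N := by
  have h : x ∈ eqMod N α ↔ ((α x : X) : X ⧸ N) = (x : X ⧸ N) := Iff.rfl
  rw [h, QuotientGroup.eq_iff_div_mem, div_eq_mul_inv]

theorem mem_sup_frattini {X : Type*} [Group X] [Finite X] {a x : X} :
    x ∈ zpowers a ⊔ frattini X ↔ ∃ i : ℕ, ∃ f ∈ frattini X, x = a ^ i * f := by
  constructor
  · intro h
    rw [← SetLike.mem_coe, Subgroup.mul_normal, Set.mem_mul] at h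
    obtain ⟨y, hy, f, hf, rfl⟩ := h
    obtain ⟨i, rfl⟩ := exists_pow_of_mem_zpowers hy
    exact ⟨i, f, hf, rfl⟩
  · rintro ⟨i, f, hf, rfl⟩
    exact Subgroup.mul_mem _ (le_sup_left (a := zpowers a) (Subgroup.pow_mem _ (mem_zpowers a) i))
      (le_sup_right (a := zpowers a) hf)

theorem aut_two_of_fix {X : Type*} [Group X] [Finite X] (hX : IsPGroup 2 X) {a b : X}
    {κ m k n : ℕ} (D : MetaData 2 a b κ m k n) (α : MulAut X)
    (h : α a ∈ zpowers a ⊔ frattini X) : ∃ e : ℕ, α ^ 2 ^ e = 1 := by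
  have hna : (zpowers a).Normal := D.normal
  have hev : ∀ (x : X) (q : ℕ), x ^ (2 * q) ∈ frattini X := by
    intro x q
    rw [pow_mul]
    exact Subgroup.pow_mem _ (pow_p_mem_frattini hX x) q
  have haM : a ∈ zpowers a ⊔ frattini X := le_sup_left (a := zpowers a) (mem_zpowers a)
  have hΦM : frattini X ≤ zpowers a ⊔ frattini X := le_sup_right
  have h1 : α a * a⁻¹ ∈ frattini X := by
    obtain ⟨i, f, hf, hi⟩ := mem_sup_frattini.1 h
    rcases Nat.even_or_odd' i with ⟨q, rfl | rfl⟩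
    · have h2 : α a ∈ frattini X := hi ▸ (frattini X).mul_mem (hev a q) hf
      exact (frattini X).mul_mem h2 ((frattini X).inv_mem ((map_mem_frattini_iff α).1 h2))
    · have h2 : α a * a⁻¹ = a ^ (2 * q) * (a * f * a⁻¹) := by
        rw [hi, pow_succ]; group
      rw [h2]
      exact (frattini X).mul_mem (hev a q) (Subgroup.Normal.conj_mem inferInstance f hf a)
  have h2 : ∀ y ∈ zpowers a ⊔ frattini X, α y * y⁻¹ ∈ frattini X := by
    have : zpowers a ⊔ frattini X ≤ eqMod (frattini X) α := by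
      refine sup_le (zpowers_le.2 (mem_eqMod.2 h1)) ?_
      intro f hf
      exact mem_eqMod.2 ((frattini X).mul_mem ((map_mem_frattini_iff α).2 hf)
        ((frattini X).inv_mem hf))
    intro y hy
    exact mem_eqMod.1 (this hy)
  have h3 : ∀ x, α x * x⁻¹ ∈ zpowers a ⊔ frattini X := by
    have hb : α b * b⁻¹ ∈ zpowers a ⊔ frattini X := by
      obtain ⟨j, i, hji⟩ := D.gen (α b)
      rcases Nat.even_or_odd' i with ⟨q, rfl | rfl⟩
      · have hbM : α b ∈ zpowers a ⊔ frattini X :=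
          hji ▸ Subgroup.mul_mem _ (Subgroup.pow_mem _ haM j) (hΦM (hev b q))
        have hall : ∀ x, α x ∈ zpowers a ⊔ frattini X := by
          intro x
          obtain ⟨j', i', rfl⟩ := D.gen x
          rw [map_mul, map_pow, map_pow]
          exact Subgroup.mul_mem _ (Subgroup.pow_mem _ h j') (Subgroup.pow_mem _ hbM i')
        have := hall (α⁻¹ (α b * b⁻¹))
        rwa [MulAut.apply_inv_self] at this
      · have : α b * b⁻¹ = a ^ j * b ^ (2 * q) := by
          rw [hji, pow_succ]; group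
        rw [this]
        exact Subgroup.mul_mem _ (Subgroup.pow_mem _ haM j) (hΦM (hev b q))
    intro x
    rw [← mem_eqMod]
    obtain ⟨j, i, rfl⟩ := D.gen x
    refine Subgroup.mul_mem _ (Subgroup.pow_mem _ (mem_eqMod.2 ?_) j)
      (Subgroup.pow_mem _ (mem_eqMod.2 hb) i)
    exact Subgroup.mul_mem _ h (Subgroup.inv_mem _ haM)
  have h4 : α ^ 2 ∈ frattiniKer X := by
    intro x
    have e1 : (α ^ 2) x * x⁻¹ = (α (α x * x⁻¹) * (α x * x⁻¹)⁻¹) * (α x * x⁻¹) ^ 2 := by
      rw [sq, sq, MulAut.mul_apply, map_mul, map_inv]; group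
    rw [e1]
    exact (frattini X).mul_mem (h2 _ (h3 x)) (pow_p_mem_frattini hX _)
  obtain ⟨e, he⟩ := isPGroup_frattiniKer hX ⟨α ^ 2, h4⟩
  refine ⟨e + 1, ?_⟩
  have he' : (α ^ 2) ^ 2 ^ e = 1 := by
    have := congrArg Subtype.val he
    simpa using this
  rw [pow_succ', pow_mul]
  exact he'

/-- A finite metacyclic 2-group whose automorphism group is not a 2-group is isomorphic to the quaternion group of order 8 or to a homocyclic abelian group Z_{2^n} × Z_{2^n}. -/
theorem result {X : Type*} [Group X] [Finite X] (hX : IsPGroup 2 X)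
    (hm : Cfsg.IsMetacyclic X) (hA : ¬ IsPGroup 2 (MulAut X)) :
    Nonempty (X ≃* QuaternionGroup 2) ∨
      ∃ n : ℕ, Nonempty (X ≃* Multiplicative (ZMod (2 ^ n)) × Multiplicative (ZMod (2 ^ n))) := by
  obtain ⟨a, b, κ, m, k, n, D⟩ := exists_metaData hX hm
  have hna : (zpowers a).Normal := D.normal
  obtain ⟨α, hα⟩ : ∃ α : MulAut X, ∀ e : ℕ, α ^ 2 ^ e ≠ 1 := by
    unfold IsPGroup at hA
    push Not at hA
    exact hA
  have hev : ∀ (x : X) (q : ℕ), x ^ (2 * q) ∈ frattini X := by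
    intro x q
    rw [pow_mul]
    exact Subgroup.pow_mem _ (pow_p_mem_frattini hX x) q
  have haM : a ∈ zpowers a ⊔ frattini X := le_sup_left (a := zpowers a) (mem_zpowers a)
  have hΦM : frattini X ≤ zpowers a ⊔ frattini X := le_sup_right
  have hcM : α a ∉ zpowers a ⊔ frattini X := by
    intro h
    obtain ⟨e, he⟩ := aut_two_of_fix hX D α h
    exact hα e he
  have hdM : α (α a) ∉ zpowers a ⊔ frattini X := by
    intro h
    obtain ⟨e, he⟩ := aut_two_of_fix hX D (α ^ 2) (by rw [sq, MulAut.mul_apply]; exact h)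
    apply hα (e + 1)
    rw [pow_succ', pow_mul]
    exact he
  have hnc : (zpowers (α a)).Normal := by
    have h1 : (zpowers a).map α.toMonoidHom = zpowers (α a) := by
      rw [MonoidHom.map_zpowers]; rfl
    rw [← h1]
    exact Subgroup.Normal.map hna _ α.surjective
  have htop : zpowers a ⊔ zpowers (α a) = ⊤ := by
    rcases eq_top_or_exists_le_coatom (zpowers a ⊔ zpowers (α a)) with h | ⟨K, hK, hle⟩
    · exact h
    · exfalso
      have haK : a ∈ K := hle (le_sup_left (a := zpowers a) (mem_zpowers a))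
      have hcK : α a ∈ K := hle (le_sup_right (a := zpowers a) (mem_zpowers (α a)))
      have hΦK : frattini X ≤ K := frattini_le_coatom hK
      obtain ⟨j, i, hji⟩ := D.gen (α a)
      rcases Nat.even_or_odd' i with ⟨q, rfl | rfl⟩
      · apply hcM
        rw [hji]
        exact Subgroup.mul_mem _ (Subgroup.pow_mem _ haM j) (hΦM (hev b q))
      · have hbK : b ∈ K := by
          have e1 : b = (b ^ (2 * q))⁻¹ * ((a ^ j)⁻¹ * α a) := by
            rw [hji, pow_succ]; group
          rw [e1]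
          exact K.mul_mem (K.inv_mem (hΦK (hev b q))) (K.mul_mem (K.inv_mem (K.pow_mem haK j)) hcK)
        apply hK.1
        rw [eq_top_iff]
        intro x _
        obtain ⟨j', i', rfl⟩ := D.gen x
        exact K.mul_mem (K.pow_mem haK j') (K.pow_mem hbK i')
  have hgen : ∀ x : X, ∃ i j : ℕ, x = a ^ i * (α a) ^ j := by
    intro x
    have hx : x ∈ zpowers a ⊔ zpowers (α a) := by rw [htop]; trivial
    rw [← SetLike.mem_coe, Subgroup.mul_normal, Set.mem_mul] at hx
    obtain ⟨y, hy, z, hz, rfl⟩ := hx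
    obtain ⟨i, rfl⟩ := exists_pow_of_mem_zpowers hy
    obtain ⟨j, rfl⟩ := exists_pow_of_mem_zpowers hz
    exact ⟨i, j, rfl⟩
  obtain ⟨r, s, hrs⟩ := hgen (α (α a))
  have hr : Odd r := by
    rcases Nat.even_or_odd' r with ⟨q, rfl | rfl⟩
    · exfalso
      apply hcM
      have e1 : α a = α⁻¹ (a ^ (2 * q)) * a ^ s := by
        apply α.injective
        rw [map_mul, MulAut.apply_inv_self, map_pow]
        exact hrs
      rw [e1]
      exact Subgroup.mul_mem _ (hΦM ((map_mem_frattini_iff α⁻¹).2 (hev a q)))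
        (Subgroup.pow_mem _ haM s)
    · exact ⟨q, rfl⟩
  have hs : Odd s := by
    rcases Nat.even_or_odd' s with ⟨q, rfl | rfl⟩
    · exfalso
      apply hdM
      rw [hrs]
      exact Subgroup.mul_mem _ (Subgroup.pow_mem _ haM r) (hΦM (hev _ q))
    · exact ⟨q, rfl⟩
  have hoc : orderOf (α a) = 2 ^ m := by rw [MulEquiv.orderOf_eq, D.ha]
  have hod : orderOf (a ^ r * (α a) ^ s) = 2 ^ m := by
    rw [← hrs, MulEquiv.orderOf_eq, hoc]
  rcases q8_or_homocyclic D.ha hoc hod hr hs hna hnc hgen with h | h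
  · exact Or.inl h
  · exact Or.inr ⟨m, h⟩

end Cfsg.Agent.S1896
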