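import Cfsg.Statements.S1902
import Cfsg.Agent.S1302
import Cfsg.Agent.S0629
import Cfsg.Agent.Lib.Helper69.PSolv

set_option autoImplicit false
open Cfsg

namespace Cfsg.Agent.S1902

open scoped Pointwise

theorem aux {G : Type*} [Group G] [Finite G] {p : ℕ} [Fact p.Prime] (C B : Subgroup G)
    (hB : Cfsg.IsElementaryAbelian p B) (P : Sylow p ↥C)
    (hBP : B = Subgroup.closure {x : G | x ∈ ((P : Subgroup ↥C).map C.subtype : Subgroup G) ∧ orderOf x = p})
    (hBC : B ≤ C) (x : G) (hxC : x ∈ C) (hx : x ∈ Subgroup.centralizer (B : Set G)) (hxo : orderOf x = p) :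
    x ∈ B := by
  have hBp : IsPGroup p B := fun b => ⟨1, by rw [pow_one]; exact Subtype.ext (hB.2 b b.2)⟩
  have hxp : IsPGroup p (Subgroup.zpowers x) := by
    rw [IsPGroup.iff_card]
    exact ⟨1, by rw [Nat.card_zpowers, hxo, pow_one]⟩
  have hR : IsPGroup p (Subgroup.zpowers x ⊔ B : Subgroup G) := by
    apply IsPGroup.to_sup_of_normal_right' hxp hBp
    rw [Subgroup.zpowers_le]
    exact Subgroup.centralizer_le_normalizer _ hx
  have hRC : Subgroup.zpowers x ⊔ B ≤ C := sup_le ((Subgroup.zpowers_le (g := x)).2 hxC) hBC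
  obtain ⟨P', hP'⟩ := (hR.comap_subtype (K := C)).exists_le_sylow
  obtain ⟨g, hg⟩ := MulAction.exists_smul_eq C P P'
  set c : G →* G := (MulAut.conj (g : G)).toMonoidHom with hc
  set Ω' := Subgroup.closure {y : G | y ∈ ((P' : Subgroup C).map C.subtype : Subgroup G) ∧ orderOf y = p}
    with hΩ'
  have h1 : Ω' ≤ B.map c := by
    rw [hΩ', Subgroup.closure_le]
    rintro y ⟨⟨y', hy', rfl⟩, hyo⟩
    have hy'' : y' ∈ MulAut.conj g • (P : Subgroup C) := by
      rw [← Sylow.coe_subgroup_smul, hg]; exact hy'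
    rw [Subgroup.mem_pointwise_smul_iff_inv_smul_mem] at hy''
    refine ⟨(g : G)⁻¹ * (y' : G) * g, ?_, ?_⟩
    · rw [hBP]
      apply Subgroup.subset_closure
      refine ⟨⟨g⁻¹ * y' * g, ?_, by simp⟩, ?_⟩
      · have h6 : g⁻¹ * y' * g ∈ (P : Subgroup C) := by
          simpa [MulAut.smul_def, mul_assoc] using hy''
        exact h6
      · have h5 := (MulAut.conj (g : G)⁻¹).orderOf_eq (y' : G)
        rw [MulAut.conj_apply, inv_inv] at h5
        rw [h5]
        exact hyo
    · simp [hc, mul_assoc]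
  have hmemP' : ∀ y ∈ Subgroup.zpowers x ⊔ B, y ∈ ((P' : Subgroup C).map C.subtype : Subgroup G) :=
    fun y hy => ⟨⟨y, hRC hy⟩, hP' (Subgroup.mem_subgroupOf.2 hy), rfl⟩
  have h2 : B ≤ Ω' := by
    intro b hb
    by_cases hb1 : b = 1
    · rw [hb1]; exact one_mem _
    · exact Subgroup.subset_closure ⟨hmemP' b ((le_sup_right : B ≤ _) hb),
        orderOf_eq_prime (hB.2 b hb) hb1⟩
  have h3 : Nat.card Ω' ≤ Nat.card B := by
    have := Subgroup.card_le_of_le h1
    rwa [Subgroup.card_map_of_injective (MulAut.conj (g : G)).injective] at this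
  have h4 : B = Ω' := Subgroup.eq_of_le_of_card_ge h2 h3
  rw [h4]
  exact Subgroup.subset_closure ⟨hmemP' x ((le_sup_left : Subgroup.zpowers x ≤ _) (Subgroup.mem_zpowers x)), hxo⟩

/-- Let p be an odd prime, G a finite p-solvable group, and B an elementary abelian subgroup of order p² such that B is the subgroup generated by the elements of order p of some Sylow p-subgroup of C_G(b₀), for some nontrivial b₀ ∈ B. Then every B-invariant subgroup of G of order prime to p lies in O_{p'}(G). -/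
theorem result {G : Type*} [Group G] [Finite G] {p : ℕ} [Fact p.Prime] (hp : p ≠ 2)
    (hG : Cfsg.IsPSolvable p G) (B : Subgroup G) (hB : Cfsg.IsElementaryAbelian p B) (hBc : Nat.card B = p ^ 2)
    (b₀ : G) (hb₀ : b₀ ∈ B) (hb₁ : b₀ ≠ 1) (P : Sylow p ↥(Subgroup.centralizer ({b₀} : Set G)))
    (hBP : B = Subgroup.closure {x : G | x ∈ ((P : Subgroup ↥(Subgroup.centralizer ({b₀} : Set G))).map
      (Subgroup.centralizer ({b₀} : Set G)).subtype : Subgroup G) ∧ orderOf x = p})
    (Q : Subgroup G) (hQ : ¬ p ∣ Nat.card Q) (hinv : ∀ b ∈ B, ∀ x ∈ Q, b * x * b⁻¹ ∈ Q) :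
    Q ≤ Cfsg.pPrimeCore p G := by
  have hpc : Cfsg.IsPConstrained p G :=
    Cfsg.Agent.S0629.result (default : Sylow p ↥(Cfsg.pPrimePCore p G))
      (Cfsg.Agent.Lib.Helper69.isPSolvable_subgroup _ hG)
  have hBp : IsPGroup p B := fun b => ⟨1, by rw [pow_one]; exact Subtype.ext (hB.2 b b.2)⟩
  refine Cfsg.Agent.S1302.result p hp hpc B hB.1 hBp ?_ Q hQ ?_
  · intro x hx hxo
    have hBcomm : ∀ a ∈ B, ∀ b ∈ B, a * b = b * a := fun a ha b hb =>
      congrArg Subtype.val (hB.1.is_comm.comm ⟨a, ha⟩ ⟨b, hb⟩)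
    exact aux _ B hB P hBP
      (fun b hb => Subgroup.mem_centralizer_singleton_iff.2 (hBcomm b hb b₀ hb₀)) x
      (Subgroup.mem_centralizer_singleton_iff.2 ((Subgroup.mem_centralizer_iff.1 hx b₀ hb₀).symm)) hx hxo
  · intro b hb
    rw [Subgroup.mem_normalizer_iff]
    intro y
    refine ⟨fun hy => hinv b hb y hy, fun hy => ?_⟩
    have := hinv b⁻¹ (B.inv_mem hb) _ hy
    simpa [mul_assoc] using this

end Cfsg.Agent.S1902
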