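import Cfsg.Statements.S1910
import Cfsg.Agent.Lib.Helper32.Tight

set_option autoImplicit false
open Cfsg

namespace Cfsg.Agent.S1910

open Subgroup Cfsg.Agent.Lib.Helper33 Cfsg.Agent.Lib.Helper32 in
open scoped Pointwise in
theorem lemmaL {G : Type*} [Group G] [Finite G] (Q : Subgroup G) (hQ : Cfsg.IsTightlyEmbedded Q)
    (g : G) (hg : g ∉ normalizer (Q : Set G)) (T : Subgroup G) (hT1 : T ≠ ⊥)
    (hT : RelSyl 2 T (MulAut.conj g • Q ⊓ normalizer (Q : Set G)))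
    (S : Subgroup G) (hTS : T ≤ S) (hS : RelSyl 2 S (Q ⊔ T)) :
    T ⊓ Q = ⊥ ∧ ⁅T, S ⊓ normalizer (T : Set G) ⊓ Q⁆ = ⊥ ∧
      T ⊔ (S ⊓ normalizer (T : Set G) ⊓ Q) = S ⊓ normalizer (T : Set G) ∧
      S ⊓ normalizer (T : Set G) ⊓ Q ≤ normalizer ((MulAut.conj g • Q : Subgroup G) : Set G) ∧
      ∃ f : T →* ↥(S ⊓ normalizer (T : Set G) ⊓ Q), Function.Injective f := by
  classical
  have : Fact (Nat.Prime 2) := ⟨Nat.prime_two⟩
  have hTp : IsPGroup 2 T := hT.2.1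
  have hSp : IsPGroup 2 S := hS.2.1
  have hTQg : T ≤ MulAut.conj g • Q := hT.1.trans inf_le_left
  have hTN : T ≤ normalizer (Q : Set G) := hT.1.trans inf_le_right
  have hQg : Cfsg.IsTightlyEmbedded (MulAut.conj g • Q) := IsTightlyEmbedded.conj hQ g
  have ha : T ⊓ Q = ⊥ := by
    apply eq_bot_of_isPGroup_two_of_le_odd (hTp.to_le inf_le_left) _ (hQ.2 g hg)
    exact le_inf inf_le_right (inf_le_left.trans hTQg)
  set R₀ := S ⊓ normalizer (T : Set G) ⊓ Q with hR₀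
  have hR₀N : R₀ ≤ normalizer (T : Set G) := inf_le_left.trans inf_le_right
  have hR₀Q : R₀ ≤ Q := inf_le_right
  have hR₀S : R₀ ≤ S := inf_le_left.trans inf_le_left
  have hb : ⁅T, R₀⁆ = ⊥ := by
    rw [eq_bot_iff, ← ha]
    apply le_inf
    · exact le_normalizer_iff_commutator_le_left.mp hR₀N
    · exact (commutator_mono le_rfl hR₀Q).trans (le_normalizer_iff_commutator_le_right.mp hTN)
  have hcomm : ∀ t ∈ T, ∀ r ∈ R₀, t * r = r * t := by
    intro t ht r hr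
    have h1 := commutator_eq_bot_iff_le_centralizer.mp hb ht
    exact ((mem_centralizer_iff.mp h1) r hr).symm
  have hc : T ⊔ R₀ = S ⊓ normalizer (T : Set G) := by
    apply le_antisymm
    · exact sup_le (le_inf hTS le_normalizer) inf_le_left
    · intro x hx
      obtain ⟨q, hq, t, ht, rfl⟩ :=
        (Cfsg.Agent.Lib.Helper22.mem_sup_of_le_normalizer hTN).mp (hS.1 hx.1)
      have hq' : q ∈ R₀ := by
        have e : q = (q * t) * t⁻¹ := by group
        refine ⟨⟨?_, ?_⟩, hq⟩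
        · rw [e]; exact S.mul_mem hx.1 (S.inv_mem (hTS ht))
        · rw [e]; exact (normalizer (T : Set G)).mul_mem hx.2 ((normalizer (T : Set G)).inv_mem (le_normalizer ht))
      exact mul_mem (mem_sup_right hq') (mem_sup_left ht)
  have hd : R₀ ≤ normalizer ((MulAut.conj g • Q : Subgroup G) : Set G) := by
    intro r hr
    apply IsTightlyEmbedded.mem_normalizer hQg hT1 hTp hTQg
    intro t ht
    rw [mem_conj_smul]
    have e : r⁻¹ * t * r = t := by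
      rw [mul_assoc, hcomm t ht r hr]; group
    rw [e]; exact hTQg ht
  refine ⟨ha, hb, hc, hd, ?_⟩
  have hQTN : Q ⊔ T ≤ normalizer (Q : Set G) := sup_le le_normalizer hTN
  by_cases hcase : S ≤ normalizer (T : Set G)
  · -- `R₀ = S ∩ Q` is a Sylow subgroup of `Q`
    have hRsyl : RelSyl 2 (S ⊓ Q) Q := RelSyl.inf_normal hS le_sup_left hQTN
    have h1 : MulAut.conj g⁻¹ • T ≤ Q := by
      rw [conj_smul_le_iff, inv_inv]; exact hTQg
    obtain ⟨x, _, hx⟩ := hRsyl.exists_conj_le h1 (isPGroup_conj_smul hTp g⁻¹)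
    rw [conj_smul_smul'] at hx
    obtain ⟨f, hf, _⟩ := exists_injective_of_conj_mem (T := T) (R := R₀) (x * g⁻¹) (by
      intro t ht
      have h2 : (x * g⁻¹) * t * (x * g⁻¹)⁻¹ ∈ S ⊓ Q := hx ⟨t, ht, rfl⟩
      exact ⟨⟨h2.1, hcase h2.1⟩, h2.2⟩)
    exact ⟨f, hf⟩
  · have hlt : S ⊓ normalizer (T : Set G) < S :=
      lt_of_le_of_ne inf_le_left (fun h => hcase (h ▸ inf_le_right))
    have h2 := lt_inf_normalizer hSp hlt
    obtain ⟨x, hx1, hx2⟩ := SetLike.exists_of_lt h2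
    have hxS : x ∈ S := hx1.1
    have hxNT : x ∉ normalizer (T : Set G) := fun h => hx2 ⟨hxS, h⟩
    have hxT : MulAut.conj x • T ≤ T ⊔ R₀ := by
      rw [hc]
      have h3 : MulAut.conj x • (S ⊓ normalizer (T : Set G)) = S ⊓ normalizer (T : Set G) :=
        mem_normalizer_iff_smul.mp hx1.2
      rw [← h3]
      exact pointwise_smul_le_pointwise_smul_iff.mpr (le_inf hTS le_normalizer)
    have hxNQ : x ∈ normalizer (Q : Set G) := hQTN (hS.1 hxS)
    have hxNQg : x ∉ normalizer ((MulAut.conj g • Q : Subgroup G) : Set G) := by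
      intro h
      apply hxNT
      have h4 : MulAut.conj x • T ≤ MulAut.conj g • Q ⊓ normalizer (Q : Set G) := by
        have h5 : MulAut.conj x • (MulAut.conj g • Q ⊓ normalizer (Q : Set G)) =
            MulAut.conj g • Q ⊓ normalizer (Q : Set G) := by
          rw [smul_inf, mem_normalizer_iff_smul.mp h, smul_normalizer,
            mem_normalizer_iff_smul.mp hxNQ]
        rw [← h5]
        exact pointwise_smul_le_pointwise_smul_iff.mpr hT.1
      have hxTS : MulAut.conj x • T ≤ S := by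
        intro y hy
        rw [mem_conj_smul] at hy
        have e : y = x * (x⁻¹ * y * x) * x⁻¹ := by group
        rw [e]
        exact S.mul_mem (S.mul_mem hxS (hTS hy)) (S.inv_mem hxS)
      have h6 : T = T ⊔ MulAut.conj x • T :=
        hT.eq_of_le (sup_le hT.1 h4) (hSp.to_le (sup_le hTS hxTS)) le_sup_left
      have h7 : MulAut.conj x • T ≤ T := by
        conv_rhs => rw [h6]
        exact le_sup_right
      exact mem_normalizer_iff_smul.mpr (conj_smul_eq_of_le h7)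
    have hdisj : MulAut.conj x • T ⊓ T = ⊥ := by
      apply eq_bot_of_isPGroup_two_of_le_odd (hTp.to_le inf_le_right) _ (hQg.2 x hxNQg)
      apply le_inf (inf_le_right.trans hTQg)
      rw [map_conj]
      exact inf_le_left.trans (pointwise_smul_le_pointwise_smul_iff.mpr hTQg)
    have hTR₀ : T ⊓ R₀ = ⊥ := by
      rw [eq_bot_iff, ← ha]
      exact inf_le_inf_left _ hR₀Q
    obtain ⟨π, hπ⟩ := exists_proj_of_commute hcomm hTR₀
    obtain ⟨f, hf, hfv⟩ := exists_injective_of_conj_mem (T := T) (R := T ⊔ R₀) x (by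
      intro t ht
      exact hxT ⟨t, ht, rfl⟩)
    refine ⟨π.comp f, ?_⟩
    rw [injective_iff_map_eq_one]
    intro t ht
    have h8 : ((f t : ↥(T ⊔ R₀)) : G) ∈ T := hπ _ ht
    rw [hfv] at h8
    have h9 : x * (t : G) * x⁻¹ ∈ MulAut.conj x • T ⊓ T := ⟨⟨t, t.2, rfl⟩, h8⟩
    rw [hdisj, mem_bot] at h9
    apply Subtype.ext
    have : (t : G) = x⁻¹ * (x * (t : G) * x⁻¹) * x := by group
    rw [this, h9]; simp

open scoped Pointwise in
theorem aux {G : Type*} [Group G] [Finite G] (Q : Subgroup G) (hQ : Cfsg.IsTightlyEmbedded Q)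
    (g : G) (hg : g ∉ Subgroup.normalizer (Q : Set G))
    (T : Subgroup G) (hT1 : T ≠ ⊥) (hT : T ≤ Q.map (MulAut.conj g).toMonoidHom ⊓ Subgroup.normalizer (Q : Set G))
    (hTsyl : IsPGroup 2 T ∧ ¬ 2 ∣ T.relIndex (Q.map (MulAut.conj g).toMonoidHom ⊓ Subgroup.normalizer (Q : Set G)))
    (S : Subgroup G) (hTS : T ≤ S) (hS : S ≤ Q ⊔ T) (hSsyl : IsPGroup 2 S ∧ ¬ 2 ∣ S.relIndex (Q ⊔ T)) :
    T ⊓ Q = ⊥ ∧
      T ⊓ (S ⊓ Subgroup.normalizer (T : Set G) ⊓ Q) = ⊥ ∧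
      ⁅T, S ⊓ Subgroup.normalizer (T : Set G) ⊓ Q⁆ = ⊥ ∧
      T ⊔ (S ⊓ Subgroup.normalizer (T : Set G) ⊓ Q) = S ⊓ Subgroup.normalizer (T : Set G) ∧
      Nonempty (↥(S ⊓ Subgroup.normalizer (T : Set G) ⊓ Q) ≃* T) := by
  classical
  have : Fact (Nat.Prime 2) := ⟨Nat.prime_two⟩
  have hT' : Cfsg.Agent.Lib.Helper33.RelSyl 2 T
      (MulAut.conj g • Q ⊓ Subgroup.normalizer (Q : Set G)) := ⟨hT, hTsyl.1, hTsyl.2⟩
  have hS' : Cfsg.Agent.Lib.Helper33.RelSyl 2 S (Q ⊔ T) := ⟨hS, hSsyl.1, hSsyl.2⟩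
  set R₀ := S ⊓ Subgroup.normalizer (T : Set G) ⊓ Q with hR₀
  obtain ⟨ha, hb, hc, hd, f, hf⟩ : T ⊓ Q = ⊥ ∧ ⁅T, R₀⁆ = ⊥ ∧
      T ⊔ R₀ = S ⊓ Subgroup.normalizer (T : Set G) ∧
      R₀ ≤ Subgroup.normalizer ((MulAut.conj g • Q : Subgroup G) : Set G) ∧
      ∃ f : T →* ↥R₀, Function.Injective f := lemmaL Q hQ g hg T hT1 hT' S hTS hS'
  have hR₀Q : R₀ ≤ Q := inf_le_right
  have hR₀p : IsPGroup 2 R₀ := hSsyl.1.to_le (inf_le_left.trans inf_le_left)
  refine ⟨ha, ?_, hb, hc, ?_⟩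
  · rw [eq_bot_iff, ← ha]; exact inf_le_inf_left _ hR₀Q
  -- the symmetric configuration
  have hcard1 : Nat.card T ≤ Nat.card R₀ := Nat.card_le_card_of_injective f hf
  have hQg : Cfsg.IsTightlyEmbedded (MulAut.conj g • Q) :=
    Cfsg.Agent.Lib.Helper32.IsTightlyEmbedded.conj hQ g
  have hback : MulAut.conj g⁻¹ • (MulAut.conj g • Q) = Q := by
    rw [Cfsg.Agent.Lib.Helper33.conj_smul_smul', inv_mul_cancel,
      Cfsg.Agent.Lib.Helper33.conj_one_smul']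
  have hg' : g⁻¹ ∉ Subgroup.normalizer ((MulAut.conj g • Q : Subgroup G) : Set G) := by
    intro h
    apply hg
    have h1 := Cfsg.Agent.Lib.Helper33.mem_normalizer_iff_smul.mp h
    rw [hback] at h1
    exact Cfsg.Agent.Lib.Helper33.mem_normalizer_iff_smul.mpr h1.symm
  obtain ⟨T', hT'syl, hR₀T'⟩ := Cfsg.Agent.Lib.Helper33.exists_relSyl_ge (p := 2)
    (le_inf hR₀Q hd : R₀ ≤ Q ⊓ Subgroup.normalizer ((MulAut.conj g • Q : Subgroup G) : Set G)) hR₀p
  have hT'1 : T' ≠ ⊥ := by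
    intro h
    rw [h, le_bot_iff] at hR₀T'
    rw [hR₀T', Subgroup.card_bot] at hcard1
    apply hT1
    exact Subgroup.eq_bot_of_card_le T hcard1
  obtain ⟨S', hS'syl, hT'S'⟩ := Cfsg.Agent.Lib.Helper33.exists_relSyl_ge (p := 2)
    (le_sup_right : T' ≤ MulAut.conj g • Q ⊔ T') hT'syl.2.1
  obtain ⟨_, _, _, hd', f', hf'⟩ := lemmaL (MulAut.conj g • Q) hQg g⁻¹ hg' T' hT'1
    (by rw [hback]; exact hT'syl) S' hT'S' hS'syl
  rw [hback] at hd'
  have hcard2 : Nat.card R₀ ≤ Nat.card T' := Nat.card_mono (Set.toFinite _) hR₀T'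
  have hcard3 : Nat.card T' ≤ Nat.card ↥(S' ⊓ Subgroup.normalizer (T' : Set G) ⊓ MulAut.conj g • Q) :=
    Nat.card_le_card_of_injective f' hf'
  have hcard4 : Nat.card ↥(S' ⊓ Subgroup.normalizer (T' : Set G) ⊓ MulAut.conj g • Q) ≤ Nat.card T :=
    hT'.card_le (le_inf inf_le_right hd') (hS'syl.2.1.to_le (inf_le_left.trans inf_le_left))
  have hcard : Nat.card R₀ ≤ Nat.card T := hcard2.trans (hcard3.trans hcard4)
  have hbij : Function.Bijective f := hf.bijective_of_nat_card_le hcard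
  exact ⟨(MulEquiv.ofBijective f hbij).symm⟩


/-- Let Q be a tightly embedded subgroup of a finite group G, g an element outside N_G(Q), T a nontrivial Sylow 2-subgroup of Q^g ∩ N_G(Q), and S a Sylow 2-subgroup of QT containing T. Then T ∩ Q = 1, and N_S(T) is the direct product of T and N_S(T) ∩ Q, with N_S(T) ∩ Q isomorphic to T. -/
theorem result {G : Type*} [Group G] [Finite G] (Q : Subgroup G) (hQ : Cfsg.IsTightlyEmbedded Q)
    (g : G) (hg : g ∉ Subgroup.normalizer (Q : Set G))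
    (T : Subgroup G) (hT1 : T ≠ ⊥) (hT : T ≤ Q.map (MulAut.conj g).toMonoidHom ⊓ Subgroup.normalizer (Q : Set G))
    (hTsyl : IsPGroup 2 T ∧ ¬ 2 ∣ T.relIndex (Q.map (MulAut.conj g).toMonoidHom ⊓ Subgroup.normalizer (Q : Set G)))
    (S : Subgroup G) (hTS : T ≤ S) (hS : S ≤ Q ⊔ T) (hSsyl : IsPGroup 2 S ∧ ¬ 2 ∣ S.relIndex (Q ⊔ T)) :
    T ⊓ Q = ⊥ ∧
      T ⊓ (S ⊓ Subgroup.normalizer (T : Set G) ⊓ Q) = ⊥ ∧
      ⁅T, S ⊓ Subgroup.normalizer (T : Set G) ⊓ Q⁆ = ⊥ ∧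
      T ⊔ (S ⊓ Subgroup.normalizer (T : Set G) ⊓ Q) = S ⊓ Subgroup.normalizer (T : Set G) ∧
      Nonempty (↥(S ⊓ Subgroup.normalizer (T : Set G) ⊓ Q) ≃* T) := by
  exact aux Q hQ g hg T hT1 hT hTsyl S hTS hS hSsyl

end Cfsg.Agent.S1910
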