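import Cfsg.Statements.S1921
import Cfsg.Agent.Lib.Helper31.Components
import Cfsg.Agent.Lib.Helper21.Layer
import Cfsg.Agent.Lib.Helper32.Subnormal

set_option autoImplicit false
open Cfsg

namespace Cfsg.Agent.S1921

/-- Let a be an involution of a finite group H and L a component of H with a L a⁻¹ ≠ L; put M = ⟨L, aLa⁻¹⟩ and let J be the subgroup generated by the elements x · a x a⁻¹ with x ∈ L (the diagonal). Then every element of M outside J·Z(M) generates M together with J. -/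
theorem result {H : Type*} [Group H] [Finite H] (a : H) (ha : orderOf a = 2) (L : Subgroup H) (hL : Cfsg.IsComponent L)
    (hLa : L.map (MulAut.conj a).toMonoidHom ≠ L) (x : H) (hxM : x ∈ L ⊔ L.map (MulAut.conj a).toMonoidHom)
    (hxJ : x ∉ Subgroup.closure {y : H | ∃ l ∈ L, y = l * (a * l * a⁻¹)} ⊔
      ((L ⊔ L.map (MulAut.conj a).toMonoidHom) ⊓ Subgroup.centralizer ((L ⊔ L.map (MulAut.conj a).toMonoidHom : Subgroup H) : Set H))) :
    Subgroup.closure {y : H | ∃ l ∈ L, y = l * (a * l * a⁻¹)} ⊔ Subgroup.zpowers x = L ⊔ L.map (MulAut.conj a).toMonoidHom := by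
  classical
  set L' : Subgroup H := L.map (MulAut.conj a).toMonoidHom with hL'def
  set J : Subgroup H := Subgroup.closure {y : H | ∃ l ∈ L, y = l * (a * l * a⁻¹)} with hJdef
  have hL' : Cfsg.IsComponent L' :=
    Cfsg.Agent.Lib.Helper31.IsComponent.map_equiv hL (MulAut.conj a)
  have hbot : ⁅L, L'⁆ = ⊥ :=
    Cfsg.Agent.Lib.Helper31.IsComponent.commutator_eq_bot_of_ne hL hL' (Ne.symm hLa)
  have hcen : L ≤ Subgroup.centralizer (L' : Set H) :=
    Subgroup.commutator_eq_bot_iff_le_centralizer.mp hbot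
  have hcomm : ∀ l ∈ L, ∀ m ∈ L', l * m = m * l := by
    intro l hl m hm
    exact ((Subgroup.mem_centralizer_iff.mp (hcen hl)) m hm).symm
  have hconj : ∀ l ∈ L, a * l * a⁻¹ ∈ L' := by
    intro l hl
    exact ⟨l, hl, by simp [MulAut.conj_apply]⟩
  have hgen : ∀ l ∈ L, l * (a * l * a⁻¹) ∈ J := by
    intro l hl
    exact Subgroup.subset_closure ⟨l, hl, rfl⟩
  apply le_antisymm
  · apply sup_le
    · rw [hJdef, Subgroup.closure_le]
      rintro y ⟨l, hl, rfl⟩
      exact mul_mem (Subgroup.mem_sup_left hl) (Subgroup.mem_sup_right (hconj l hl))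
    · rw [Subgroup.zpowers_le]
      exact hxM
  · set Y : Subgroup H := J ⊔ Subgroup.zpowers x with hYdef
    obtain ⟨l₁, hl₁, m, hm, hx⟩ := Cfsg.Agent.Lib.Helper21.mem_sup_of_commute
      (A := L) (T := L') (fun l hl m hm => hcomm l hl m hm) hxM
    obtain ⟨l₂, hl₂, hm2⟩ := hm
    have hm2' : m = a * l₂ * a⁻¹ := by
      rw [← hm2]; simp [MulAut.conj_apply]
    have hxY : x ∈ Y := Subgroup.mem_sup_right (Subgroup.mem_zpowers x)
    have hJY : J ≤ Y := le_sup_left
    have hlL : l₁ * l₂⁻¹ ∈ L := mul_mem hl₁ (inv_mem hl₂)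
    have hlx : l₁ * l₂⁻¹ = x * (l₂ * (a * l₂ * a⁻¹))⁻¹ := by
      rw [← hx, hm2']; group
    have hlY : l₁ * l₂⁻¹ ∈ Y := by
      rw [hlx]
      exact mul_mem hxY (inv_mem (hJY (hgen l₂ hl₂)))
    have hnorm : L ≤ Subgroup.normalizer ((Y ⊓ L : Subgroup H) : Set H) := by
      apply Cfsg.Agent.Lib.Helper32.le_normalizer_of_conj_mem
      intro g hg n hn
      refine ⟨?_, L.mul_mem (L.mul_mem hg hn.2) (L.inv_mem hg)⟩
      have h1 : (a * g * a⁻¹) * n = n * (a * g * a⁻¹) := (hcomm n hn.2 _ (hconj g hg)).symm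
      have e : g * n * g⁻¹ = (g * (a * g * a⁻¹)) * n * (g * (a * g * a⁻¹))⁻¹ := by
        have : (g * (a * g * a⁻¹)) * n * (g * (a * g * a⁻¹))⁻¹
            = g * ((a * g * a⁻¹) * n) * (a * g * a⁻¹)⁻¹ * g⁻¹ := by group
        rw [this, h1]; group
      rw [e]
      exact Y.mul_mem (Y.mul_mem (hJY (hgen g hg)) hn.1) (Y.inv_mem (hJY (hgen g hg)))
    rcases Cfsg.Agent.Lib.Helper31.IsComponent.eq_or_le_centralizer hL
      (inf_le_right : Y ⊓ L ≤ L) hnorm with h | h
    · have hLY : L ≤ Y := h ▸ inf_le_left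
      apply sup_le hLY
      rintro _ ⟨l, hl, rfl⟩
      have e : (MulAut.conj a).toMonoidHom l = l⁻¹ * (l * (a * l * a⁻¹)) := by
        simp [MulAut.conj_apply]
      rw [e]
      exact mul_mem (inv_mem (hLY hl)) (hJY (hgen l hl))
    · exfalso
      apply hxJ
      have hc1 : l₁ * l₂⁻¹ ∈ Subgroup.centralizer (L : Set H) := h ⟨hlY, hlL⟩
      have hc2 : l₁ * l₂⁻¹ ∈ Subgroup.centralizer (L' : Set H) := hcen hlL
      have hle : L ⊔ L' ≤ Subgroup.centralizer ({l₁ * l₂⁻¹} : Set H) := by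
        apply sup_le
        · intro y hy
          rw [Subgroup.mem_centralizer_singleton_iff]
          exact (Subgroup.mem_centralizer_iff.mp hc1) y hy
        · intro y hy
          rw [Subgroup.mem_centralizer_singleton_iff]
          exact (Subgroup.mem_centralizer_iff.mp hc2) y hy
      have hc : l₁ * l₂⁻¹ ∈ Subgroup.centralizer ((L ⊔ L' : Subgroup H) : Set H) := by
        rw [Subgroup.mem_centralizer_iff]
        intro y hy
        exact Subgroup.mem_centralizer_singleton_iff.mp (hle hy)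
      have e : x = (l₁ * l₂⁻¹) * (l₂ * (a * l₂ * a⁻¹)) := by
        rw [hlx]; group
      rw [e]
      exact mul_mem (Subgroup.mem_sup_right ⟨Subgroup.mem_sup_left hlL, hc⟩)
        (Subgroup.mem_sup_left (hgen l₂ hl₂))

end Cfsg.Agent.S1921
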