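import Cfsg.Statements.S1922
import Cfsg.Agent.Lib.Helper32.Invol
import Cfsg.Agent.Lib.Helper32.Basic
import Cfsg.Agent.Lib.Helper21.Fusion

set_option autoImplicit false
open Cfsg

namespace Cfsg.Agent.S1922

theorem exists_conj_mem_sylow_of_le {S : Type*} [Group S] [Finite S] {p : ℕ} [Fact p.Prime]
    (M : Subgroup S) (X : Sylow p M) (Y : Subgroup S) (hYM : Y ≤ M) (hY : IsPGroup p Y) :
    ∃ m ∈ M, ∀ y ∈ Y, m⁻¹ * y * m ∈ (X : Subgroup M).map M.subtype := by
  have hY' : IsPGroup p (Y.subgroupOf M) := hY.comap_subtype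
  obtain ⟨Q, hQ⟩ := hY'.exists_le_sylow
  obtain ⟨m, rfl⟩ := MulAction.exists_smul_eq M X Q
  refine ⟨m, m.2, fun y hy => ?_⟩
  have h1 : (⟨y, hYM hy⟩ : M) ∈ ((m • X : Sylow p M) : Subgroup M) :=
    hQ (by simpa [Subgroup.mem_subgroupOf] using hy)
  rw [Cfsg.Agent.Lib.Helper21.mem_sylow_smul_iff] at h1
  exact ⟨_, h1, rfl⟩

/-- Let z be an involution of a finite group G and H a proper subgroup such that z lies in gHg⁻¹ exactly when g ∈ H. Then the following are equivalent: (1) for every conjugate t ≠ z of z commuting with z, the product zt lies in gHg⁻¹ exactly when g ∈ H; (2) z lies in the centre of some Sylow 2-subgroup of G, and for every conjugate t ≠ z of z commuting with z, the centralizer of zt is contained in H. -/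
theorem result {G : Type*} [Group G] [Finite G] (z : G) (hz : orderOf z = 2) (H : Subgroup G) (hH : H ≠ ⊤)
    (h0 : ∀ g : G, z ∈ H.map (MulAut.conj g).toMonoidHom ↔ g ∈ H) :
    (∀ t : G, IsConj z t → t ≠ z → t * z = z * t → ∀ g : G, z * t ∈ H.map (MulAut.conj g).toMonoidHom ↔ g ∈ H) ↔
      ((∃ P : Sylow 2 G, z ∈ (Subgroup.center ↥(P : Subgroup G)).map (P : Subgroup G).subtype) ∧
        ∀ t : G, IsConj z t → t ≠ z → t * z = z * t → Subgroup.centralizer ({z * t} : Set G) ≤ H) := by
  classical
  have hzz : z * z = 1 := by rw [← pow_two, ← hz, pow_orderOf_eq_one]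
  have hz1 : z ≠ 1 := by
    intro h; rw [h, orderOf_one] at hz; omega
  have hzinv : z⁻¹ = z := Cfsg.Agent.Lib.Helper19.invol_inv hzz
  have memc : ∀ (g x : G), x ∈ H.map (MulAut.conj g).toMonoidHom ↔ g⁻¹ * x * g ∈ H :=
    Cfsg.Agent.Lib.Helper21.mem_map_conj_iff H
  have h0' : ∀ g, g⁻¹ * z * g ∈ H ↔ g ∈ H := fun g => (memc g z).symm.trans (h0 g)
  have hB4 : ∀ k, k * z * k⁻¹ ∈ H ↔ k ∈ H := by
    intro k
    have := h0' k⁻¹
    rw [inv_inv, inv_mem_iff] at this
    exact this
  have zH : z ∈ H := by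
    have := (hB4 1).mpr H.one_mem
    simpa using this
  have hCz : ∀ c, c * z = z * c → c ∈ H := by
    intro c hc
    rw [← hB4 c]
    have : c * z * c⁻¹ = z := by rw [hc]; group
    rw [this]; exact zH
  have hD2 : ∀ d, IsConj z d → d * d = 1 := by
    intro d hd
    obtain ⟨k, rfl⟩ := isConj_iff.mp hd
    calc k * z * k⁻¹ * (k * z * k⁻¹) = k * (z * z) * k⁻¹ := by group
      _ = 1 := by rw [hzz]; group
  constructor
  · intro h1
    have h1' : ∀ d₁ d₂, IsConj z d₁ → IsConj z d₂ → d₁ ≠ d₂ → d₁ * d₂ = d₂ * d₁ →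
        d₁ * d₂ ∈ H → d₁ ∈ H := by
      intro d₁ d₂ hd₁ hd₂ hne hcomm hmem
      obtain ⟨k, rfl⟩ := isConj_iff.mp hd₁
      have ht : IsConj z (k⁻¹ * d₂ * k) := by
        refine hd₂.trans (isConj_iff.mpr ⟨k⁻¹, by group⟩)
      have htne : k⁻¹ * d₂ * k ≠ z := by
        intro h
        apply hne
        rw [← h]; group
      have htc : k⁻¹ * d₂ * k * z = z * (k⁻¹ * d₂ * k) := by
        calc k⁻¹ * d₂ * k * z = k⁻¹ * (d₂ * (k * z * k⁻¹)) * k := by group
          _ = k⁻¹ * ((k * z * k⁻¹) * d₂) * k := by rw [hcomm]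
          _ = z * (k⁻¹ * d₂ * k) := by group
      have := (h1 _ ht htne htc k⁻¹).mp (by
        rw [memc]
        have e : k⁻¹⁻¹ * (z * (k⁻¹ * d₂ * k)) * k⁻¹ = k * z * k⁻¹ * d₂ := by group
        rw [e]; exact hmem)
      rw [hB4]
      exact inv_mem_iff.mp this
    refine ⟨?_, ?_⟩
    swap
    · intro t ht htne htc c hc
      rw [Subgroup.mem_centralizer_singleton_iff] at hc
      have h2 : z * t ∈ H := by
        have := (h1 t ht htne htc 1).mpr H.one_mem
        rw [memc] at this
        simpa using this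
      apply (h1 t ht htne htc c).mp
      rw [memc]
      have e : c⁻¹ * (z * t) * c = z * t := by
        calc c⁻¹ * (z * t) * c = c⁻¹ * (c * (z * t)) := by rw [hc]; group
          _ = z * t := by group
      rw [e]; exact h2
    -- odd order
    have hodd : ∀ d, IsConj z d → d ∉ H → Odd (orderOf (z * d)) := by
      intro d hd hdH
      by_contra hcon
      rw [Nat.not_odd_iff_even] at hcon
      obtain ⟨c, hc1, hcc, hcz, hcd, a, ha⟩ :=
        Cfsg.Agent.Lib.Helper32.exists_central_invol_conj_of_even hzz (hD2 d hd) hcon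
      have ht : IsConj z (z * c) := by
        rcases ha with ha | ha
        · exact isConj_iff.mpr ⟨a, ha.symm⟩
        · exact hd.trans (isConj_iff.mpr ⟨a, ha.symm⟩)
      have htne : z * c ≠ z := by
        intro h
        exact hc1 (by simpa using h)
      have htc : z * c * z = z * (z * c) := by rw [mul_assoc, hcz]
      obtain ⟨k, rfl⟩ := isConj_iff.mp hd
      apply hdH
      rw [hB4]
      apply (h1 _ ht htne htc k).mp
      rw [memc]
      have e : z * (z * c) = c := by rw [← mul_assoc, hzz, one_mul]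
      rw [e]
      apply hCz
      calc k⁻¹ * c * k * z = k⁻¹ * (c * (k * z * k⁻¹)) * k := by group
        _ = k⁻¹ * ((k * z * k⁻¹) * c) * k := by rw [hcd]
        _ = z * (k⁻¹ * c * k) := by group
    obtain ⟨g₀, hg₀⟩ : ∃ g, g ∉ H := by
      by_contra hcon
      push Not at hcon
      exact hH (eq_top_iff.mpr fun x _ => hcon x)
    set w₀ := g₀ * z * g₀⁻¹ with hw₀
    have hw₀D : IsConj z w₀ := isConj_iff.mpr ⟨g₀, rfl⟩
    have hw₀H : w₀ ∉ H := fun h => hg₀ ((hB4 g₀).mp h)
    have hw₀2 : w₀ * w₀ = 1 := hD2 w₀ hw₀D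
    have hw₀inv : w₀⁻¹ = w₀ := Cfsg.Agent.Lib.Helper19.invol_inv hw₀2
    let _ : Fintype G := Fintype.ofFinite G
    set D : Finset G := Finset.univ.filter (fun d => IsConj z d) with hDdef
    have hmemD : ∀ d, d ∈ D ↔ IsConj z d := by intro d; simp [hDdef]
    -- P1
    have hP1 : Even (D.filter (fun d => d ∉ H)).card := by
      apply Cfsg.Agent.Lib.Helper32.even_card_of_involution _ (fun d => z * d * z)
      · intro d hd
        rw [Finset.mem_filter, hmemD] at hd ⊢
        refine ⟨hd.1.trans (isConj_iff.mpr ⟨z, by rw [hzinv]⟩), fun h => hd.2 ?_⟩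
        have e : d = z * (z * d * z) * z := by
          calc d = (z * z) * d * (z * z) := by rw [hzz]; group
            _ = z * (z * d * z) * z := by group
        rw [e]
        exact H.mul_mem (H.mul_mem zH h) zH
      · intro d _
        calc z * (z * d * z) * z = (z * z) * d * (z * z) := by group
          _ = d := by rw [hzz]; group
      · intro d hd h
        rw [Finset.mem_filter] at hd
        apply hd.2
        apply hCz
        calc d * z = (z * d * z) * z := by rw [h]
          _ = z * d * (z * z) := by group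
          _ = z * d := by rw [hzz, mul_one]
    -- the set W
    set W : Finset G := D.filter (fun w => w₀ * w ∈ H) with hWdef
    have hmemW : ∀ w, w ∈ W ↔ IsConj z w ∧ w₀ * w ∈ H := by
      intro w; rw [hWdef, Finset.mem_filter, hmemD]
    have hw₀W : w₀ ∈ W := by
      rw [hmemW]; exact ⟨hw₀D, by rw [hw₀2]; exact H.one_mem⟩
    have hP3 : Even (W.erase w₀).card := by
      apply Cfsg.Agent.Lib.Helper32.even_card_of_involution _ (fun w => w₀ * w * w₀)
      · intro w hw
        rw [Finset.mem_erase, hmemW] at hw ⊢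
        obtain ⟨hne, hwD, hwH⟩ := hw
        have hw2 := hD2 w hwD
        refine ⟨fun h => hne ?_, hwD.trans (isConj_iff.mpr ⟨w₀, by rw [hw₀inv]⟩), ?_⟩
        · have h2 : w₀ * w = 1 := by
            have := congrArg (fun x => x * w₀) h
            simp only [mul_assoc, hw₀2, mul_one] at this
            exact this
          calc w = (w₀ * w₀) * w := by rw [hw₀2, one_mul]
            _ = w₀ * (w₀ * w) := by group
            _ = w₀ := by rw [h2, mul_one]
        · have e : w₀ * (w₀ * w * w₀) = (w₀ * w)⁻¹ := by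
            rw [mul_inv_rev, hw₀inv, Cfsg.Agent.Lib.Helper19.invol_inv hw2]
            calc w₀ * (w₀ * w * w₀) = (w₀ * w₀) * w * w₀ := by group
              _ = w * w₀ := by rw [hw₀2, one_mul]
          rw [e]; exact H.inv_mem hwH
      · intro w _
        calc w₀ * (w₀ * w * w₀) * w₀ = (w₀ * w₀) * w * (w₀ * w₀) := by group
          _ = w := by rw [hw₀2]; group
      · intro w hw h
        rw [Finset.mem_erase, hmemW] at hw
        obtain ⟨hne, hwD, hwH⟩ := hw
        apply hw₀H
        apply h1' w₀ w hw₀D hwD (Ne.symm hne) _ hwH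
        calc w₀ * w = w₀ * w * (w₀ * w₀) := by rw [hw₀2, mul_one]
          _ = (w₀ * w * w₀) * w₀ := by group
          _ = w * w₀ := by rw [h]
    have hWodd : Odd W.card := by
      rw [← Finset.card_erase_add_one hw₀W]
      exact hP3.add_one
    -- uniqueness of the swapping involution
    have huniq : ∀ (d : G) (j : ℕ), d ∉ H →
        ((z * d) ^ j * z * ((z * d) ^ j)⁻¹) * z * ((z * d) ^ j * z * ((z * d) ^ j)⁻¹) = d →
        ∀ w, IsConj z w → w * z * w = d → w = (z * d) ^ j * z * ((z * d) ^ j)⁻¹ := by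
      intro d j hdH hj w hwD hwd
      set a := (z * d) ^ j with ha
      set w₁ := a * z * a⁻¹ with hw₁
      have hw₁D : IsConj z w₁ := isConj_iff.mpr ⟨a, rfl⟩
      have hw2 := hD2 w hwD
      have hw₁2 := hD2 w₁ hw₁D
      by_contra hne
      have hcz : (w * w₁) * z = z * (w * w₁) := by
        have h3 : w₁ * z = d * w₁ := by
          calc w₁ * z = (w₁ * z * w₁) * w₁ := by rw [mul_assoc (w₁ * z), hw₁2, mul_one]
            _ = d * w₁ := by rw [hj]
        have h4 : w * d = z * w := by
          rw [← hwd]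
          calc w * (w * z * w) = (w * w) * z * w := by group
            _ = z * w := by rw [hw2, one_mul]
        calc w * w₁ * z = w * (w₁ * z) := by group
          _ = (w * d) * w₁ := by rw [h3]; group
          _ = z * (w * w₁) := by rw [h4]; group
      have hcd : (w * w₁) * d = d * (w * w₁) := by
        have h3 : w₁ * d = z * w₁ := by
          rw [← hj]
          calc w₁ * (w₁ * z * w₁) = (w₁ * w₁) * z * w₁ := by group
            _ = z * w₁ := by rw [hw₁2, one_mul]
        have h4 : w * z = d * w := by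
          calc w * z = (w * z * w) * w := by rw [mul_assoc (w * z), hw2, mul_one]
            _ = d * w := by rw [hwd]
        calc w * w₁ * d = w * (w₁ * d) := by group
          _ = (w * z) * w₁ := by rw [h3]; group
          _ = d * (w * w₁) := by rw [h4]; group
      have hca : Commute (w * w₁) a := by
        rw [ha]
        apply Commute.pow_right
        exact Commute.mul_right hcz hcd
      have hcw₁ : Commute (w * w₁) w₁ := by
        rw [hw₁]
        exact (hca.mul_right hcz).mul_right hca.inv_right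
      have hcomm : w₁ * w = w * w₁ := by
        have h5 : w * w₁ * w₁ = w₁ * (w * w₁) := hcw₁
        rw [mul_assoc, hw₁2, mul_one] at h5
        calc w₁ * w = w₁ * (w * (w₁ * w₁)) := by rw [hw₁2, mul_one]
          _ = (w₁ * (w * w₁)) * w₁ := by group
          _ = w * w₁ := by rw [← h5]
      have hmem : w₁ * w ∈ H := by rw [hcomm]; exact hCz _ hcz
      have hw₁H : w₁ ∈ H := h1' w₁ w hw₁D hwD (Ne.symm hne) hcomm hmem
      apply hdH
      rw [← hj]
      exact H.mul_mem (H.mul_mem hw₁H zH) hw₁H
    -- P2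
    have hP2 : W.card = (D.filter (fun d => d ∈ H)).card := by
      apply Finset.card_bij (fun w _ => (w₀ * w) * z * (w₀ * w)⁻¹)
      · intro w hw
        rw [hmemW] at hw
        rw [Finset.mem_filter, hmemD]
        exact ⟨isConj_iff.mpr ⟨_, rfl⟩, (hB4 _).mpr hw.2⟩
      · intro w hw w' hw' heq
        rw [hmemW] at hw hw'
        have hw2 := hD2 w hw.1
        have hw'2 := hD2 w' hw'.1
        have hwi := Cfsg.Agent.Lib.Helper19.invol_inv hw2
        have hw'i := Cfsg.Agent.Lib.Helper19.invol_inv hw'2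
        have heq2 : w * z * w = w' * z * w' := by
          have e1 : ∀ v : G, v⁻¹ = v → v * z * v = w₀⁻¹ * ((w₀ * v) * z * (w₀ * v)⁻¹) * w₀ := by
            intro v hv
            have e2 : (w₀ * v)⁻¹ = v * w₀⁻¹ := by rw [mul_inv_rev, hv]
            rw [e2]; group
          rw [e1 w hwi, e1 w' hw'i, heq]
        have hwH : w ∉ H := by
          intro h
          apply hw₀H
          have : w₀ = (w₀ * w) * w⁻¹ := by group
          rw [this]; exact H.mul_mem hw.2 (H.inv_mem h)
        have hdH : w * z * w ∉ H := by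
          intro h
          apply hwH
          rw [← hB4, hwi]; exact h
        have hdD : IsConj z (w * z * w) := isConj_iff.mpr ⟨w, by rw [hwi]⟩
        obtain ⟨j, hj⟩ := Cfsg.Agent.Lib.Helper32.exists_conj_swap_of_odd hzz (hD2 _ hdD)
          (hodd _ hdD hdH)
        rw [huniq _ j hdH hj w hw.1 rfl, huniq _ j hdH hj w' hw'.1 heq2.symm]
      · intro d' hd'
        rw [Finset.mem_filter, hmemD] at hd'
        obtain ⟨hd'D, hd'H⟩ := hd'
        have hdD : IsConj z (w₀ * d' * w₀) := hd'D.trans (isConj_iff.mpr ⟨w₀, by rw [hw₀inv]⟩)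
        have hdH : w₀ * d' * w₀ ∉ H := by
          obtain ⟨k, rfl⟩ := isConj_iff.mp hd'D
          have hk : k ∈ H := (hB4 k).mp hd'H
          intro h
          have e : w₀ * (k * z * k⁻¹) * w₀ = (w₀ * k) * z * (w₀ * k)⁻¹ := by
            rw [mul_inv_rev, hw₀inv]; group
          rw [e, hB4] at h
          apply hw₀H
          have : w₀ = (w₀ * k) * k⁻¹ := by group
          rw [this]; exact H.mul_mem h (H.inv_mem hk)
        obtain ⟨j, hj⟩ := Cfsg.Agent.Lib.Helper32.exists_conj_swap_of_odd hzz (hD2 _ hdD)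
          (hodd _ hdD hdH)
        set w₁ := (z * (w₀ * d' * w₀)) ^ j * z * ((z * (w₀ * d' * w₀)) ^ j)⁻¹ with hw₁
        have hw₁D : IsConj z w₁ := isConj_iff.mpr ⟨_, rfl⟩
        have hw₁i := Cfsg.Agent.Lib.Helper19.invol_inv (hD2 w₁ hw₁D)
        have hval : (w₀ * w₁) * z * (w₀ * w₁)⁻¹ = d' := by
          rw [mul_inv_rev, hw₀inv, hw₁i]
          calc w₀ * w₁ * z * (w₁ * w₀) = w₀ * (w₁ * z * w₁) * w₀ := by group
            _ = w₀ * (w₀ * d' * w₀) * w₀ := by rw [hj]
            _ = (w₀ * w₀) * d' * (w₀ * w₀) := by group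
            _ = d' := by rw [hw₀2]; group
        refine ⟨w₁, ?_, hval⟩
        rw [hmemW]
        refine ⟨hw₁D, ?_⟩
        rw [← hB4, hval]; exact hd'H
    have hDodd : Odd D.card := by
      rw [← Finset.card_filter_add_card_filter_not (s := D) (fun d => d ∈ H), ← hP2]
      exact hWodd.add_even hP1
    -- a Sylow 2-subgroup fixing a conjugate of `z`
    let P : Sylow 2 G := default
    let act : MulAction (P : Subgroup G) {d : G // IsConj z d} :=
      { smul := fun g d => ⟨(g : G) * d.1 * (g : G)⁻¹, d.2.trans (isConj_iff.mpr ⟨g, rfl⟩)⟩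
        one_smul := fun d => Subtype.ext (by show ((1 : (P : Subgroup G)) : G) * d.1 * ((1 : (P : Subgroup G)) : G)⁻¹ = d.1; simp)
        mul_smul := fun g h d => Subtype.ext (by
          show ((g * h : (P : Subgroup G)) : G) * d.1 * ((g * h : (P : Subgroup G)) : G)⁻¹
            = (g : G) * ((h : G) * d.1 * (h : G)⁻¹) * (g : G)⁻¹
          rw [Subgroup.coe_mul]; group) }
    have hcard : ¬ 2 ∣ Nat.card {d : G // IsConj z d} := by
      have : Nat.card {d : G // IsConj z d} = D.card := by
        rw [Nat.card_eq_fintype_card, Fintype.card_subtype]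
      rw [this, ← even_iff_two_dvd, Nat.not_even_iff_odd]
      exact hDodd
    obtain ⟨⟨d, hd⟩, hfix⟩ := P.2.nonempty_fixed_point_of_prime_not_dvd_card _ hcard
    have hfix' : ∀ g ∈ (P : Subgroup G), g * d * g⁻¹ = d := by
      intro g hg
      exact congrArg Subtype.val (hfix ⟨g, hg⟩)
    obtain ⟨k, rfl⟩ := isConj_iff.mp hd
    have hcen : ∀ x ∈ ((k⁻¹ • P : Sylow 2 G) : Subgroup G), x * z = z * x := by
      intro x hx
      rw [Cfsg.Agent.Lib.Helper21.mem_sylow_smul_iff, inv_inv] at hx
      have := hfix' _ hx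
      calc x * z = k⁻¹ * ((k * x * k⁻¹) * (k * z * k⁻¹) * (k * x * k⁻¹)⁻¹) * k * x := by group
        _ = k⁻¹ * (k * z * k⁻¹) * k * x := by rw [this]
        _ = z * x := by group
    have hzn : z ∈ Subgroup.normalizer (((k⁻¹ • P : Sylow 2 G) : Subgroup G) : Set G) := by
      rw [Subgroup.mem_normalizer_iff]
      intro x
      constructor
      · intro hx
        have : z * x * z⁻¹ = x := by rw [← hcen x hx]; group
        rw [this]; exact hx
      · intro hx
        have h2 := hcen _ hx
        have : x = z * x * z⁻¹ := by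
          calc x = z⁻¹ * (z * x * z⁻¹ * z) := by group
            _ = z⁻¹ * (z * (z * x * z⁻¹)) := by rw [h2]
            _ = z * x * z⁻¹ := by group
        rw [this]; exact hx
    have hzP : z ∈ ((k⁻¹ • P : Sylow 2 G) : Subgroup G) :=
      Cfsg.Agent.Lib.Helper32.mem_of_sylow_le_of_mem_normalizer (k⁻¹ • P) _ le_rfl hzn (a := 1)
        (by rw [pow_one, pow_two]; exact hzz)
    refine ⟨k⁻¹ • P, ⟨z, hzP⟩, ?_, rfl⟩
    show (⟨z, hzP⟩ : ((k⁻¹ • P : Sylow 2 G) : Subgroup G)) ∈ Subgroup.center _
    rw [Subgroup.mem_center_iff]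
    intro x
    exact Subtype.ext (hcen x x.2)
  · rintro ⟨⟨P, hzP⟩, h2⟩ t ht htne htc g
    have htH : t ∈ H := hCz t htc
    have ht2 := hD2 t ht
    constructor
    · intro hmem
      rw [memc] at hmem
      -- `P ≤ H`
      obtain ⟨c, hc, hcz⟩ := hzP
      have hPz : ∀ x ∈ (P : Subgroup G), x * z = z * x := by
        intro x hx
        have := Subgroup.mem_center_iff.mp hc ⟨x, hx⟩
        have h3 := congrArg Subtype.val this
        rw [← hcz]
        exact h3
      have hPH : (P : Subgroup G) ≤ H := fun x hx => hCz x (hPz x hx)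
      set y := g⁻¹ * (z * t) * g with hy
      have hy2 : y * y = 1 := by
        calc y * y = g⁻¹ * (z * (t * z) * t) * g := by rw [hy]; group
          _ = g⁻¹ * ((z * z) * (t * t)) * g := by rw [htc]; group
          _ = 1 := by rw [hzz, ht2]; group
      have hp : IsPGroup 2 (Subgroup.zpowers y) := by
        rw [IsPGroup.iff_orderOf]
        rintro ⟨x, hx⟩
        have h3 : x ^ 2 = 1 := by
          obtain ⟨n, rfl⟩ := Subgroup.mem_zpowers_iff.mp hx
          rw [← zpow_natCast, ← zpow_mul, mul_comm, zpow_mul, zpow_natCast, pow_two, hy2, one_zpow]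
        have h4 : orderOf x ∣ 2 ^ 1 := by rw [pow_one]; exact orderOf_dvd_of_pow_eq_one h3
        obtain ⟨m, _, hm⟩ := (Nat.dvd_prime_pow Nat.prime_two).mp h4
        exact ⟨m, by rw [Subgroup.orderOf_mk]; exact hm⟩
      obtain ⟨h, hh, hconj⟩ := exists_conj_mem_sylow_of_le H (P.subtype hPH) (Subgroup.zpowers y)
        (by rw [Subgroup.zpowers_le]; exact hmem) hp
      obtain ⟨x, hx, hxy⟩ := hconj y (Subgroup.mem_zpowers y)
      have hxP : h⁻¹ * y * h ∈ (P : Subgroup G) := by
        rw [← hxy]
        have hx' : x ∈ (P : Subgroup G).subgroupOf H := by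
          rw [← Sylow.coe_subtype P hPH]; exact hx
        exact Subgroup.mem_subgroupOf.mp hx'
      have hcomm := hPz _ hxP
      -- `z' = (g h) z (g h)⁻¹` commutes with `z t`
      have hz' : (g * h) * z * (g * h)⁻¹ ∈ H := by
        apply h2 t ht htne htc
        rw [Subgroup.mem_centralizer_singleton_iff]
        calc (g * h) * z * (g * h)⁻¹ * (z * t)
            = (g * h) * (z * (h⁻¹ * y * h)) * (g * h)⁻¹ := by rw [hy]; group
          _ = (g * h) * ((h⁻¹ * y * h) * z) * (g * h)⁻¹ := by rw [hcomm]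
          _ = z * t * ((g * h) * z * (g * h)⁻¹) := by rw [hy]; group
      rw [hB4] at hz'
      have : g = (g * h) * h⁻¹ := by group
      rw [this]; exact H.mul_mem hz' (H.inv_mem hh)
    · intro hg
      rw [memc]
      exact H.mul_mem (H.mul_mem (H.inv_mem hg) (H.mul_mem zH htH)) hg

end Cfsg.Agent.S1922
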