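import Cfsg.Statements.S1932
import Cfsg.Agent.S2010
import Cfsg.Agent.Lib.Helper33.QuadOffenderS4
import Cfsg.Agent.Lib.Helper11.PStable2

set_option autoImplicit false
open Cfsg

namespace Cfsg.Agent.S1932

open Subgroup
open scoped Pointwise commutatorElement

/-- The core case: `O_{2'}(H) = 1`. -/
theorem thompson_le_pCore {H : Type*} [Group H] [Finite H]
    (hS4 : ¬ Involves (Equiv.Perm (Fin 4)) H)
    (hCU : centralizer (pCore 2 H : Set H) ≤ pCore 2 H)
    (hcl : ∀ T : Sylow 2 H, ⁅⁅(T : Subgroup H), (T : Subgroup H)⁆, (T : Subgroup H)⁆ = ⊥) :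
    thompsonSubgroup 2 H ≤ pCore 2 H := by
  have : Fact (Nat.Prime 2) := ⟨Nat.prime_two⟩
  set U := pCore 2 H with hU
  have hUn : U.Normal := inferInstance
  have hUp : IsPGroup 2 U := Cfsg.Agent.Lib.Lead.pCore_isPGroup 2 H
  set ZU := U ⊓ centralizer (U : Set H) with hZU
  have hZUn : ZU.Normal := inferInstance
  have hZUc : ∀ x ∈ ZU, ∀ y ∈ ZU, x * y = y * x :=
    fun x hx y hy => (mem_centralizer_iff.mp hy.2 x hx.1)
  have hZUp : IsPGroup 2 ZU := hUp.to_le inf_le_left
  set V := Cfsg.Agent.Lib.Helper10.omegaSub 2 ZU hZUc with hVdef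
  have hVn : V.Normal := Cfsg.Agent.Lib.Helper10.omegaSub_normal 2 ZU hZUc hZUn
  have hV : IsElementaryAbelian 2 V :=
    Cfsg.Agent.Lib.Helper10.isEA_iff.mpr
      ⟨fun x hx y hy => hZUc x hx.1 y hy.1, fun a ha => ha.2⟩
  have hVZ : V ≤ ZU := Cfsg.Agent.Lib.Helper10.omegaSub_le 2 ZU hZUc
  have hUV : U ≤ centralizer (V : Set H) := by
    rw [le_centralizer_iff]; exact hVZ.trans inf_le_right
  set N := sectionKernel U ZU with hNdef
  have hNn : N.Normal := Cfsg.Agent.Lib.Helper47.sectionKernel_normal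
  have hUT : ∀ T : Sylow 2 H, U ≤ T := Cfsg.Agent.Lib.Lead.pCore_le_sylow
  have hTT : ∀ T : Sylow 2 H, ⁅(T : Subgroup H), (T : Subgroup H)⁆ ≤ centralizer (U : Set H) := by
    intro T
    refine (commutator_eq_bot_iff_le_centralizer.mp (hcl T)).trans ?_
    exact centralizer_le (by exact_mod_cast hUT T)
  obtain ⟨T0⟩ : Nonempty (Sylow 2 H) := inferInstance
  have hUN : U ≤ N := by
    rw [hNdef, ← Cfsg.Agent.Lib.Helper47.commutator_le_iff_le_sectionKernel]
    exact le_inf (commutator_le_left U U) ((commutator_mono (hUT T0) (hUT T0)).trans (hTT T0))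
  have hN : N ⊓ centralizer (V : Set H) ≤ U := by
    apply Cfsg.Agent.Lib.Lead.le_pCore inferInstance
    apply Cfsg.Agent.Lib.Helper61.OmegaCoprime.isPGroup_of_coprime_trivial Nat.prime_two
    intro x hx hxo
    have h1 : ⁅U, zpowers x⁆ ≤ ZU := by
      rw [Cfsg.Agent.Lib.Helper47.commutator_le_iff_le_sectionKernel, zpowers_le]
      exact hx.1
    have h2 : ∀ z ∈ ZU, Commute z x := by
      apply Cfsg.Agent.Lib.Helper61.OmegaCoprime.commute_of_centralizes_omega hZUc hZUp
        (fun z hz => hZUn.conj_mem z hz x) hxo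
      intro z hz hz2
      exact (mem_centralizer_iff.mp hx.2) z ⟨hz, hz2⟩
    have h3 := Cfsg.Agent.Lib.Helper47.centralizes_of_step hxo hZUp
      (fun u (hu : u ∈ U) => h1 (commutator_mem_commutator hu (mem_zpowers x))) h2
    have h4 : x ∈ U := by
      apply hCU
      rw [mem_centralizer_iff]
      intro u hu
      exact (h3 u hu).eq
    exact Cfsg.Agent.Lib.Helper47.eq_one_of_mem_pGroup_of_coprime hUp h4 hxo
  apply sSup_le
  intro A hA
  have hA2 : IsPGroup 2 A := Cfsg.Agent.Lib.Helper10.IsEA.isPGroup hA.1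
  obtain ⟨T, hAT⟩ := hA2.exists_le_sylow
  have hAN : A ≤ N := by
    rw [hNdef, ← Cfsg.Agent.Lib.Helper47.commutator_le_iff_le_sectionKernel]
    exact le_inf (commutator_le_left U A) ((commutator_mono (hUT T) hAT).trans (hTT T))
  by_cases hAV : A ≤ centralizer (V : Set H)
  · exact (le_inf hAN hAV).trans hN
  · exfalso
    apply hS4
    exact Cfsg.Agent.Lib.Helper33.QuadOffender.involves_s4_of_offender_class_two V N A hV hUV hN hAN
      hA2 hcl (Cfsg.Agent.S0606.result V hV A hA).1 hAV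


/-- Let G be a finite group that is 2-constrained and has no section isomorphic to the symmetric group of degree 4, and let S be a Sylow 2-subgroup of G of nilpotency class at most 2. Then G = N_G(J(S))·O_{2'}(G), where J(S) is the Thompson subgroup generated by the elementary abelian subgroups of S of largest order. -/
theorem result {G : Type*} [Group G] [Finite G] (hcon : Cfsg.IsPConstrained 2 G) (hS4 : ¬ Cfsg.Involves (Equiv.Perm (Fin 4)) G) (S : Sylow 2 G) (hcl : Subgroup.lowerCentralSeries (S : Subgroup G) 2 = ⊥) : Subgroup.normalizer ((Cfsg.thompsonSubgroupOf 2 (S : Subgroup G)) : Set G) ⊔ Cfsg.pPrimeCore 2 G = ⊤ := by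
  have : Fact (Nat.Prime 2) := ⟨Nat.prime_two⟩
  set O := pPrimeCore 2 G with hO
  have hOn : O.Normal := inferInstance
  have hOc : (Nat.card O).Coprime 2 := Cfsg.Agent.Lib.Lead.card_pPrimeCore_coprime 2
  let π : G →* G ⧸ O := QuotientGroup.mk' O
  have hπs : Function.Surjective π := QuotientGroup.mk'_surjective O
  let T : Sylow 2 (G ⧸ O) := S.mapSurjective hπs
  have hT : (T : Subgroup (G ⧸ O)) = (S : Subgroup G).map π := Sylow.coe_mapSurjective _ _
  have hcl' : ⁅⁅(S : Subgroup G), (S : Subgroup G)⁆, (S : Subgroup G)⁆ = ⊥ := hcl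
  have hclT : ∀ T' : Sylow 2 (G ⧸ O),
      ⁅⁅(T' : Subgroup (G ⧸ O)), (T' : Subgroup (G ⧸ O))⁆, (T' : Subgroup (G ⧸ O))⁆ = ⊥ := by
    intro T'
    obtain ⟨g, rfl⟩ := MulAction.exists_smul_eq (G ⧸ O) T T'
    have h1 : ((g • T : Sylow 2 (G ⧸ O)) : Subgroup (G ⧸ O)) =
        (S : Subgroup G).map ((MulAut.conj g).toMonoidHom.comp π) := by
      rw [Sylow.coe_subgroup_smul, hT, ← Subgroup.map_map]; rfl
    rw [h1, ← map_commutator, ← map_commutator, hcl', Subgroup.map_bot]
  have hJ := thompson_le_pCore (H := G ⧸ O)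
    (fun h => hS4 (Cfsg.Agent.Lib.Helper33.involves_quotient O h))
    (Cfsg.Agent.Lib.Helper11.centralizer_pCore_quotient_le hcon) hclT
  have hJT : thompsonSubgroupOf 2 (T : Subgroup (G ⧸ O)) = thompsonSubgroup 2 (G ⧸ O) :=
    Cfsg.Agent.S0603.result _ (hJ.trans (Cfsg.Agent.Lib.Lead.pCore_le_sylow T))
  have hJn : (thompsonSubgroupOf 2 (T : Subgroup (G ⧸ O))).Normal := by
    rw [hJT]
    have := (Cfsg.Agent.S0602.result (G := G ⧸ O) (p := 2)).1
    exact normal_of_characteristic _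
  set J := thompsonSubgroupOf 2 (S : Subgroup G) with hJdef
  have hJS : J ≤ S := by
    rw [hJdef]; unfold thompsonSubgroupOf
    exact map_subtype_le _
  have hJp : IsPGroup 2 J := S.2.to_le hJS
  have hJsolv : Group.IsSolvable J := by
    have := hJp.isNilpotent
    infer_instance
  have hcop : (Nat.card J).Coprime (Nat.card O) := by
    obtain ⟨n, hn⟩ := IsPGroup.iff_card.mp hJp
    rw [hn]
    exact (Nat.Coprime.pow_right n hOc).symm
  have hmap : J.map π = thompsonSubgroupOf 2 (T : Subgroup (G ⧸ O)) := by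
    rw [hT, Cfsg.Agent.S2010.thompsonSubgroupOf_map]
    intro x hx hx1
    have hxO : x ∈ O := (QuotientGroup.eq_one_iff x).mp hx1
    apply Cfsg.Agent.Lib.Helper47.eq_one_of_mem_pGroup_of_coprime S.2 hx
    have h1 : orderOf x ∣ Nat.card O := by
      have := orderOf_dvd_natCard (⟨x, hxO⟩ : O)
      rwa [Subgroup.orderOf_mk] at this
    exact Nat.Coprime.coprime_dvd_left h1 hOc
  have hL : (J ⊔ O).Normal := by
    have h1 : (J.map π).comap π = J ⊔ O := by
      rw [comap_map_eq, QuotientGroup.ker_mk']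
    rw [← h1, hmap]
    exact hJn.comap π
  rw [eq_top_iff]
  intro g _
  have hB : MulAut.conj g • J ≤ J ⊔ O := by
    intro x hx
    rw [Cfsg.Agent.Lib.Helper1.mem_conj_smul_iff] at hx
    have := hL.conj_mem _ (mem_sup_left hx) g
    convert this using 1
    group
  obtain ⟨k, hk, hk2⟩ := Cfsg.Agent.Lib.Helper1.sz_conj_rel O J (MulAut.conj g • J)
    le_normalizer_of_normal hcop (Or.inl hJsolv) hB
    (Cfsg.Agent.Lib.Helper1.card_conj_smul g J)
  have h1 : k⁻¹ * g ∈ normalizer (J : Set G) := by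
    rw [← Cfsg.Agent.Lib.Helper10.conj_smul_eq_iff_mem_normalizer,
      Cfsg.Agent.Lib.Helper1.conj_mul_smul, ← hk2, ← Cfsg.Agent.Lib.Helper1.conj_mul_smul,
      inv_mul_cancel, map_one, one_smul]
  have h2 : g = k * (k⁻¹ * g) := by group
  rw [h2]
  exact mul_mem (mem_sup_right hk) (mem_sup_left h1)


end Cfsg.Agent.S1932
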