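import Cfsg.Statements.S1953
import Cfsg.Agent.Lib.Helper34.Ctl4

set_option autoImplicit false
open Cfsg

namespace Cfsg.Agent.S1953

open Cfsg.Agent.Lib.Helper34 Cfsg.Agent.Lib.Helper33
open scoped Pointwise

variable {G : Type*} [Group G] [Finite G] {p : ℕ} [Fact p.Prime]

theorem le_of_inf_normalizer_le (P : Sylow p G) {W R : Subgroup G} (hWP : W ≤ (P : Subgroup G))
    (hRP : R ≤ (P : Subgroup G)) (hRW : R ≤ Subgroup.normalizer (W : Set G))
    (hY : W ⊓ Subgroup.normalizer (R : Set G) ≤ R) : W ≤ R := by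
  have hD : R = R ⊔ W := by
    refine eq_of_inf_normalizer_le (p := p) (P.2.to_le (sup_le hRP hWP)) le_sup_left ?_
    intro d hd
    obtain ⟨hd1, hd2⟩ := Subgroup.mem_inf.mp hd
    rw [← SetLike.mem_coe, Subgroup.coe_mul_of_left_le_normalizer_right R W hRW,
      Set.mem_mul] at hd1
    obtain ⟨u, hu, w, hw, rfl⟩ := hd1
    refine R.mul_mem hu (hY (Subgroup.mem_inf.mpr ⟨hw, ?_⟩))
    have e : w = u⁻¹ * (u * w) := by group
    rw [e]
    exact Subgroup.mul_mem _ (Subgroup.inv_mem _ (Subgroup.le_normalizer hu)) hd2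
  rw [hD]
  exact le_sup_right

theorem normalizer_le_normalizer_sup_centralizer (R : Subgroup G) :
    Subgroup.normalizer (R : Set G) ≤
      Subgroup.normalizer ((R ⊔ Subgroup.centralizer (R : Set G) : Subgroup G) : Set G) := by
  intro n hn
  apply mem_normalizer_of_map_conj_eq
  rw [Subgroup.map_sup, ← centralizer_map_conj, map_conj_eq_self_of_mem_normalizer hn]

/-- a subgroup whose normalizer controls strong fusion lies in every centric radical subgroup. -/
theorem le_of_cr (P : Sylow p G) {W R : Subgroup G} (hW : Ctl ⊤ (P : Subgroup G) W)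
    (hWP : W ≤ (P : Subgroup G)) (hRP : R ≤ (P : Subgroup G))
    (hsyl : ∃ S : Sylow p ↥(Subgroup.centralizer (R : Set G)),
      (S : Subgroup ↥(Subgroup.centralizer (R : Set G))).map (Subgroup.centralizer (R : Set G)).subtype
        = R ⊓ Subgroup.centralizer (R : Set G))
    (hrad : ∀ X : Subgroup G, X ≤ Subgroup.normalizer (R : Set G) →
      (∀ n ∈ Subgroup.normalizer (R : Set G), X.map (MulAut.conj n).toMonoidHom = X) →
      R ⊔ Subgroup.centralizer (R : Set G) ≤ X →
      (∃ k : ℕ, (R ⊔ Subgroup.centralizer (R : Set G)).relIndex X = p ^ k) →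
      X = R ⊔ Subgroup.centralizer (R : Set G)) : W ≤ R := by
  set M := Subgroup.normalizer (R : Set G) with hM
  set C := Subgroup.centralizer (R : Set G) with hC
  have hPW : (P : Subgroup G) ≤ Subgroup.normalizer (W : Set G) := hW.le_normalizer hWP le_top
  have hYp : IsPGroup p (W ⊔ R : Subgroup G) := P.2.to_le (sup_le hWP hRP)
  have hCM : C ≤ M := Subgroup.centralizer_le_normalizer _
  set X := M ⊓ actLike (W ⊔ R) R with hX
  have hXinv : ∀ n ∈ M, X.map (MulAut.conj n).toMonoidHom = X := by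
    intro n hn
    refine eq_of_le_of_card_le ?_ (by rw [card_map_conj])
    rintro _ ⟨x, hx, rfl⟩
    obtain ⟨hx1, hx2⟩ := Subgroup.mem_inf.mp hx
    show n * x * n⁻¹ ∈ X
    refine Subgroup.mem_inf.mpr ⟨Subgroup.mul_mem _ (Subgroup.mul_mem _ hn hx1)
      (Subgroup.inv_mem _ hn), ?_⟩
    obtain ⟨h₁, hh₁, c, hc, rfl⟩ := hW R hRP n (Subgroup.mem_top _)
      ((map_conj_eq_self_of_mem_normalizer hn).le.trans hRP)
    have hh₁M : h₁ ∈ M := by
      have e : h₁ = h₁ * c * c⁻¹ := by group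
      rw [e]
      exact Subgroup.mul_mem _ hn (Subgroup.inv_mem _ (hCM (Subgroup.mem_inf.mp hc).2))
    exact actLike_conj hx2 (normalizer_inf_le_normalizer_sup W R
      (Subgroup.mem_inf.mpr ⟨(Subgroup.mem_inf.mp hh₁).2, hh₁M⟩)) hh₁M (Subgroup.mem_inf.mp hc).2
  have hRC : R ⊔ C ≤ X := by
    refine sup_le ?_ ?_
    · intro r hr
      exact Subgroup.mem_inf.mpr ⟨Subgroup.le_normalizer hr, r, (le_sup_right : R ≤ W ⊔ R) hr,
        Subgroup.le_normalizer hr, fun _ _ => rfl⟩
    · intro c hc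
      refine Subgroup.mem_inf.mpr ⟨hCM hc, 1, Subgroup.one_mem _, Subgroup.one_mem _, fun u hu => ?_⟩
      rw [← Subgroup.mem_centralizer_iff.mp hc u hu]
      group
  have hpow : ∀ x ∈ X, ∃ k : ℕ, x ^ p ^ k ∈ C := by
    intro x hx
    refine actLike_pow (Subgroup.mem_inf.mp hx).2 ?_
    intro y hy _
    obtain ⟨k, hk⟩ := hYp ⟨y, hy⟩
    refine ⟨k, ?_⟩
    have hk' : y ^ p ^ k = 1 := congrArg Subtype.val hk
    rw [hk']
    exact Subgroup.one_mem _
  have hidx : ∃ k : ℕ, (R ⊔ C).relIndex X = p ^ k := by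
    haveI : ((R ⊔ C).subgroupOf X).Normal :=
      (Subgroup.normal_subgroupOf_iff_le_normalizer hRC).mpr
        (inf_le_left.trans (normalizer_le_normalizer_sup_centralizer R))
    have hq : IsPGroup p (↥X ⧸ (R ⊔ C).subgroupOf X) := by
      intro g
      obtain ⟨x, rfl⟩ := QuotientGroup.mk'_surjective _ g
      obtain ⟨k, hk⟩ := hpow x x.2
      refine ⟨k, ?_⟩
      rw [← map_pow]
      exact (QuotientGroup.eq_one_iff _).mpr
        (Subgroup.mem_subgroupOf.mpr ((le_sup_right : C ≤ R ⊔ C) hk))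
    obtain ⟨k, hk⟩ := (IsPGroup.iff_card).mp hq
    exact ⟨k, by rw [Subgroup.relIndex, Subgroup.index_eq_card, hk]⟩
  have hXeq := hrad X inf_le_left hXinv hRC hidx
  -- `p`-subgroups of `C` lie in `R`
  have hPC : (P : Subgroup G) ⊓ C ≤ R := by
    obtain ⟨S, hS⟩ := hsyl
    haveI hSn : (S : Subgroup ↥C).Normal := by
      refine ⟨fun s hs g => ?_⟩
      have hsR : (s : G) ∈ R := by
        have : (s : G) ∈ (S : Subgroup ↥C).map C.subtype := ⟨s, hs, rfl⟩
        rw [hS] at this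
        exact (Subgroup.mem_inf.mp this).1
      have h1 : g * s = s * g := Subtype.ext (Subgroup.mem_centralizer_iff.mp g.2 s hsR).symm
      rw [h1]
      simpa using hs
    obtain ⟨S', hS'⟩ := (Cfsg.Agent.Lib.Helper33.isPGroup_subgroupOf
      (P.2.to_le (inf_le_left : (P : Subgroup G) ⊓ C ≤ P)) C).exists_le_sylow
    obtain ⟨g, hg⟩ := MulAction.exists_smul_eq ↥C S S'
    rw [Sylow.smul_eq_of_normal] at hg
    intro x hx
    have h1 : (⟨x, (Subgroup.mem_inf.mp hx).2⟩ : ↥C) ∈ (S : Subgroup ↥C) := by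
      rw [hg]
      exact hS' (Subgroup.mem_subgroupOf.mpr hx)
    have h2 : x ∈ (S : Subgroup ↥C).map C.subtype := ⟨_, h1, rfl⟩
    rw [hS] at h2
    exact (Subgroup.mem_inf.mp h2).1
  refine le_of_inf_normalizer_le P hWP hRP (hRP.trans hPW) ?_
  intro w hw
  obtain ⟨hw1, hw2⟩ := Subgroup.mem_inf.mp hw
  have hwX : w ∈ X := Subgroup.mem_inf.mpr ⟨hw2, w, (le_sup_left : W ≤ W ⊔ R) hw1, hw2,
    fun _ _ => rfl⟩
  rw [hXeq, ← SetLike.mem_coe, Subgroup.coe_mul_of_left_le_normalizer_right R C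
    (Subgroup.le_normalizer.trans (by
      intro n hn
      apply mem_normalizer_of_map_conj_eq
      rw [hC, ← centralizer_map_conj, map_conj_eq_self_of_mem_normalizer hn])), Set.mem_mul] at hwX
  obtain ⟨r, hr, c, hc, rfl⟩ := hwX
  refine R.mul_mem hr (hPC (Subgroup.mem_inf.mpr ⟨?_, hc⟩))
  have e : c = r⁻¹ * (r * c) := by group
  rw [e]
  exact Subgroup.mul_mem _ (Subgroup.inv_mem _ (hRP hr)) (hWP hw1)

/-- a maximal subgroup whose normalizer controls strong fusion is radical (if it is centric). -/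
theorem radical_of_max (P : Sylow p G) {Q : Subgroup G} (hQ : Ctl ⊤ (P : Subgroup G) Q)
    (hQP : Q ≤ (P : Subgroup G)) (hcen : (P : Subgroup G) ⊓ Subgroup.centralizer (Q : Set G) ≤ Q)
    (hmax : ∀ W : Subgroup G, W ≤ (P : Subgroup G) → Ctl ⊤ (P : Subgroup G) W →
      Nat.card W ≤ Nat.card Q)
    (X : Subgroup G) (hXN : X ≤ Subgroup.normalizer (Q : Set G))
    (hXinv : ∀ n ∈ Subgroup.normalizer (Q : Set G), X.map (MulAut.conj n).toMonoidHom = X)
    (hQC : Q ⊔ Subgroup.centralizer (Q : Set G) ≤ X) (k : ℕ)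
    (hk : (Q ⊔ Subgroup.centralizer (Q : Set G)).relIndex X = p ^ k) :
    X = Q ⊔ Subgroup.centralizer (Q : Set G) := by
  set N := Subgroup.normalizer (Q : Set G) with hN
  set C := Subgroup.centralizer (Q : Set G) with hC
  have hPN : (P : Subgroup G) ≤ N := hQ.le_normalizer hQP le_top
  have hNC : N ≤ Subgroup.normalizer (C : Set G) := by
    intro n hn
    apply mem_normalizer_of_map_conj_eq
    rw [hC, ← centralizer_map_conj, map_conj_eq_self_of_mem_normalizer hn]
  have hPQ₁ : (P : Subgroup G) ≤ Subgroup.normalizer (((P : Subgroup G) ⊓ X : Subgroup G) : Set G) := by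
    intro x hx
    apply mem_normalizer_of_map_conj_eq
    rw [map_conj_inf, map_conj_eq_self_of_mem hx, hXinv x (hPN hx)]
  haveI hBn : ((Q ⊔ C).subgroupOf X).Normal :=
    (Subgroup.normal_subgroupOf_iff_le_normalizer hQC).mpr
      (hXN.trans (normalizer_le_normalizer_sup_centralizer Q))
  obtain ⟨a, ha⟩ := (IsPGroup.iff_card).mp (P.2.to_le hQP)
  have hctl : Ctl ⊤ (P : Subgroup G) ((P : Subgroup G) ⊓ X) := by
    have main := ctl_of_AGFam P (Subgroup.normalizer (((P : Subgroup G) ⊓ X : Subgroup G) : Set G)) (by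
      intro U hU m hm
      have hUP : U ≤ (P : Subgroup G) := hU.1.1
      have hdec : ∀ m ∈ Subgroup.normalizer (U : Set G), ∃ h ∈ N ⊓ Subgroup.normalizer (U : Set G),
          ∃ c ∈ Subgroup.centralizer (U : Set G), m = h * c := by
        intro m hm
        obtain ⟨h₁, hh₁, c, hc, rfl⟩ := hQ U hUP m (Subgroup.mem_top _)
          ((map_conj_eq_self_of_mem_normalizer hm).le.trans hUP)
        refine ⟨h₁, Subgroup.mem_inf.mpr ⟨(Subgroup.mem_inf.mp hh₁).2, ?_⟩, c,
          (Subgroup.mem_inf.mp hc).2, rfl⟩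
        have e : h₁ = h₁ * c * c⁻¹ := by group
        rw [e]
        exact Subgroup.mul_mem _ hm (Subgroup.inv_mem _
          (Subgroup.centralizer_le_normalizer _ (Subgroup.mem_inf.mp hc).2))
      obtain ⟨b, hb⟩ := (IsPGroup.iff_card).mp (P.2.to_le ((inf_le_left : U ⊓ C ≤ U).trans hUP))
      have hβ : ∀ y ∈ X, y ∈ Subgroup.normalizer (U : Set G) →
          ∃ j : ℕ, y ^ p ^ j ∈ Subgroup.centralizer (U : Set G) := by
        intro y hyX hyM
        have h1 : y ^ p ^ k ∈ Q ⊔ C := by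
          have := Subgroup.pow_index_mem ((Q ⊔ C).subgroupOf X) ⟨y, hyX⟩
          rw [← hk]
          exact Subgroup.mem_subgroupOf.mp this
        rw [← SetLike.mem_coe, Subgroup.coe_mul_of_left_le_normalizer_right Q C
          (Subgroup.le_normalizer.trans hNC), Set.mem_mul] at h1
        obtain ⟨q, hq, c, hc, e⟩ := h1
        have hqc : Commute q c := Subgroup.mem_centralizer_iff.mp hc q hq
        have hq1 : q ^ p ^ a = 1 := by
          have := pow_card_eq_one' (G := Q) (x := ⟨q, hq⟩)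
          rw [ha] at this
          exact congrArg Subtype.val this
        have h2 : (y ^ p ^ k) ^ p ^ a = c ^ p ^ a := by
          rw [← e, hqc.mul_pow, hq1, one_mul]
        have h2C : (y ^ p ^ k) ^ p ^ a ∈ C := by rw [h2]; exact Subgroup.pow_mem _ hc _
        have h2M : (y ^ p ^ k) ^ p ^ a ∈ Subgroup.normalizer (U : Set G) :=
          Subgroup.pow_mem _ (Subgroup.pow_mem _ hyM _) _
        refine ⟨k + a + b, ?_⟩
        rw [pow_add, pow_add, pow_mul, pow_mul, ← hb]
        refine pow_card_mem_centralizer_of_stabilizes (U₀ := U ⊓ C) ?_ ?_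
        · intro z hz
          have hzQ : z ∈ Q := hcen (Subgroup.mem_inf.mpr
            ⟨hUP (Subgroup.mem_inf.mp hz).1, (Subgroup.mem_inf.mp hz).2⟩)
          rw [← Subgroup.mem_centralizer_iff.mp h2C z hzQ]
          group
        · intro u hu
          refine Subgroup.mem_inf.mpr ⟨U.mul_mem (U.inv_mem hu)
            ((Subgroup.mem_normalizer_iff.mp h2M u).mp hu), ?_⟩
          have e2 : u⁻¹ * ((y ^ p ^ k) ^ p ^ a * u * ((y ^ p ^ k) ^ p ^ a)⁻¹)
              = (u⁻¹ * (y ^ p ^ k) ^ p ^ a * u⁻¹⁻¹) * ((y ^ p ^ k) ^ p ^ a)⁻¹ := by group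
          rw [e2]
          exact C.mul_mem ((Subgroup.mem_normalizer_iff.mp
            (hNC (hPN (Subgroup.inv_mem _ (hUP hu)))) _).mp h2C) (C.inv_mem h2C)
      have hQ₁U : (P : Subgroup G) ⊓ X ≤ U := by
        refine le_of_AGFam P hU inf_le_left hPQ₁
          (Subgroup.normalizer (U : Set G) ⊓ actLike X U) inf_le_left ?_ ?_ ?_
        · intro m hm x hx
          obtain ⟨hx1, hx2⟩ := Subgroup.mem_inf.mp hx
          refine Subgroup.mem_inf.mpr ⟨Subgroup.mul_mem _ (Subgroup.mul_mem _ hm hx1)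
            (Subgroup.inv_mem _ hm), ?_⟩
          obtain ⟨h₁, hh₁, c, hc, rfl⟩ := hdec m hm
          exact actLike_conj hx2 (mem_normalizer_of_map_conj_eq (hXinv h₁ (Subgroup.mem_inf.mp hh₁).1))
            (Subgroup.mem_inf.mp hh₁).2 hc
        · intro x hx
          exact actLike_pow (Subgroup.mem_inf.mp hx).2 hβ
        · intro y hy
          obtain ⟨hy1, hy2⟩ := Subgroup.mem_inf.mp hy
          exact Subgroup.mem_inf.mpr ⟨hy2, y, (Subgroup.mem_inf.mp hy1).2, hy2, fun _ _ => rfl⟩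
      obtain ⟨h₁, hh₁, c, hc, rfl⟩ := hdec m hm
      obtain ⟨hh₁N, hh₁M⟩ := Subgroup.mem_inf.mp hh₁
      refine ⟨h₁, ?_, ?_⟩
      · apply mem_normalizer_of_conj_le
        rintro _ ⟨q, hq, rfl⟩
        show h₁ * q * h₁⁻¹ ∈ (P : Subgroup G) ⊓ X
        refine Subgroup.mem_inf.mpr ⟨hUP ((Subgroup.mem_normalizer_iff.mp hh₁M q).mp (hQ₁U hq)), ?_⟩
        rw [← hXinv h₁ hh₁N]
        exact conj_mem_map_conj (Subgroup.mem_inf.mp hq).2
      · intro u hu
        have h1 : c * u * c⁻¹ = u := by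
          rw [← Subgroup.mem_centralizer_iff.mp hc u hu]; group
        calc h₁ * u * h₁⁻¹ = h₁ * (c * u * c⁻¹) * h₁⁻¹ := by rw [h1]
          _ = h₁ * c * u * (h₁ * c)⁻¹ := by group)
    intro A hA n _ hAn
    obtain ⟨h₁, hh₁, c, hc, e⟩ := main A hA n hAn
    exact ⟨h₁, Subgroup.mem_inf.mpr ⟨Subgroup.mem_top _, hh₁⟩, c,
      Subgroup.mem_inf.mpr ⟨Subgroup.mem_top _, hc⟩, e⟩
  have hQ₁ : Q = (P : Subgroup G) ⊓ X :=
    eq_of_le_of_card_le (le_inf hQP (le_sup_left.trans hQC)) (hmax _ inf_le_left hctl)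
  have hRelP : RelSyl p (P : Subgroup G) N := (relSyl_top P).mono hPN le_top
  have hRel : RelSyl p ((P : Subgroup G) ⊓ X) X :=
    relSyl_inf_normal hRelP hXN (fun h hh => hXinv h hh)
  rw [← hQ₁] at hRel
  have hdvd : (Q ⊔ C).relIndex X ∣ Q.relIndex X := Subgroup.relIndex_dvd_of_le_left X le_sup_left
  rw [hk] at hdvd
  have hk0 : k = 0 := by
    by_contra hne
    exact hRel.2.2 ((dvd_pow_self p hne).trans hdvd)
  rw [hk0, pow_zero, Subgroup.relIndex_eq_one] at hk
  exact le_antisymm hk hQC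

/-- Let p be an odd prime and P a Sylow p-subgroup of the finite group G, and suppose that for no p-subgroup Q of G does N_G(Q)/C_G(Q) have a section isomorphic to SL₂(p). Call a subgroup Q of P centric-radical when Z(Q) is a Sylow p-subgroup of C_G(Q) and the only normal subgroup X of N_G(Q) containing Q·C_G(Q) such that the index of Q·C_G(Q) in X is a power of p is Q·C_G(Q) itself (that is, N_G(Q)/Q·C_G(Q) has no nontrivial normal p-subgroup). Then there is a centric-radical subgroup Q of P contained in every centric-radical subgroup of P; it is normal in P, and N_G(Q) controls strong fusion in P: whenever a subgroup A of P has g A g⁻¹ ≤ P, the element g is a product h c with h in N_G(Q) and c centralizing A. -/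
theorem result {G : Type*} [Group G] [Finite G] {p : ℕ} [Fact p.Prime] (hp : p ≠ 2) (P : Sylow p G)
    (hfree : ∀ Q : Subgroup G, IsPGroup p ↥Q → ¬ ∃ (H K : Subgroup G) (_ : (K.subgroupOf H).Normal),
      Subgroup.centralizer (Q : Set G) ≤ K ∧ K ≤ H ∧ H ≤ Subgroup.normalizer (Q : Set G) ∧
      Nonempty ((↥H ⧸ K.subgroupOf H) ≃* Matrix.SpecialLinearGroup (Fin 2) (ZMod p)))
    (cr : Subgroup G → Prop)
    (hcr : ∀ Q : Subgroup G, cr Q ↔ (Q ≤ (P : Subgroup G) ∧
      (∃ R : Sylow p ↥(Subgroup.centralizer (Q : Set G)),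
        (R : Subgroup ↥(Subgroup.centralizer (Q : Set G))).map (Subgroup.centralizer (Q : Set G)).subtype = Q ⊓ Subgroup.centralizer (Q : Set G)) ∧
      ∀ X : Subgroup G, X ≤ Subgroup.normalizer (Q : Set G) →
        (∀ n ∈ Subgroup.normalizer (Q : Set G), X.map (MulAut.conj n).toMonoidHom = X) →
        Q ⊔ Subgroup.centralizer (Q : Set G) ≤ X → (∃ k : ℕ, (Q ⊔ Subgroup.centralizer (Q : Set G)).relIndex X = p ^ k) →
        X = Q ⊔ Subgroup.centralizer (Q : Set G))) :
    ∃ Q : Subgroup G, cr Q ∧ (∀ R : Subgroup G, cr R → Q ≤ R) ∧ (∀ x ∈ (P : Subgroup G), Q.map (MulAut.conj x).toMonoidHom = Q) ∧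
      ∀ A : Subgroup G, A ≤ (P : Subgroup G) → ∀ g : G, A.map (MulAut.conj g).toMonoidHom ≤ (P : Subgroup G) →
        ∃ h ∈ Subgroup.normalizer (Q : Set G), ∃ c ∈ Subgroup.centralizer (A : Set G), g = h * c := by
  have hqd : ¬ Involves ↥(qd p) G := not_involves_qd_of_automizers hfree
  obtain ⟨Q, ⟨hQP, hQ⟩, hmax⟩ := Set.exists_max_image
    {W : Subgroup G | W ≤ (P : Subgroup G) ∧ Ctl ⊤ (P : Subgroup G) W} (fun W => Nat.card W)
    (Set.toFinite _) ⟨⊥, bot_le, by
      intro A _ n _ _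
      refine ⟨n, Subgroup.mem_inf.mpr ⟨Subgroup.mem_top _, ?_⟩, 1, Subgroup.one_mem _, by simp⟩
      apply mem_normalizer_of_map_conj_eq
      simp⟩
  have hmax' : ∀ W : Subgroup G, W ≤ (P : Subgroup G) → Ctl ⊤ (P : Subgroup G) W →
      Nat.card W ≤ Nat.card Q := fun W h1 h2 => hmax W ⟨h1, h2⟩
  have hcen : (P : Subgroup G) ⊓ Subgroup.centralizer (Q : Set G) ≤ Q := by
    by_contra hnc
    obtain ⟨Q', h1, h2, h3⟩ := Ctl.grow hp hqd P hQP hQ hnc
    exact absurd (hmax' Q' h1 h2) (not_le_of_gt h3)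
  have hPN : (P : Subgroup G) ≤ Subgroup.normalizer (Q : Set G) := hQ.le_normalizer hQP le_top
  refine ⟨Q, ?_, ?_, ?_, ?_⟩
  · rw [hcr]
    refine ⟨hQP, ?_, ?_⟩
    · have hRelP : RelSyl p (P : Subgroup G) (Subgroup.normalizer (Q : Set G)) :=
        (relSyl_top P).mono hPN le_top
      have hRelR : RelSyl p ((P : Subgroup G) ⊓ Subgroup.centralizer (Q : Set G))
          (Subgroup.centralizer (Q : Set G)) :=
        relSyl_inf_normal hRelP (Subgroup.centralizer_le_normalizer _) (fun h hh => by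
          rw [← Cfsg.Agent.Lib.Helper33.map_conj, ← centralizer_map_conj,
            map_conj_eq_self_of_mem_normalizer hh])
      refine ⟨hRelR.toSylow, ?_⟩
      rw [RelSyl.coe_toSylow, Subgroup.map_subgroupOf_eq_of_le inf_le_right]
      exact le_antisymm (le_inf hcen inf_le_right) (inf_le_inf_right _ hQP)
    · intro X hXN hXinv hQC hk
      obtain ⟨k, hk⟩ := hk
      exact radical_of_max P hQ hQP hcen hmax' X hXN hXinv hQC k hk
  · intro R hR
    rw [hcr] at hR
    exact le_of_cr P hQ hQP hR.1 hR.2.1 hR.2.2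
  · intro x hx
    exact map_conj_eq_self_of_mem_normalizer (hPN hx)
  · intro A hA g hAg
    obtain ⟨h₁, hh₁, c, hc, e⟩ := hQ A hA g (Subgroup.mem_top _) hAg
    exact ⟨h₁, (Subgroup.mem_inf.mp hh₁).2, c, (Subgroup.mem_inf.mp hc).2, e⟩

end Cfsg.Agent.S1953
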