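import Cfsg.Statements.S2029
import Cfsg.Agent.Lib.Helper50.KM.PA
import Cfsg.Agent.Lib.Helper50.KM.PI
import Cfsg.Agent.Lib.Helper50.KM.PJ
import Cfsg.Agent.Lib.Helper50.KM.PL

set_option autoImplicit false
open Cfsg

namespace Cfsg.Agent.S2029

/-- Let p be an odd prime and G a finite group that is both of local characteristic p (p divides its order and every p-local subgroup N satisfies C_N(O_p(N)) ≤ O_p(N)) and of characteristic 2 type (even order and every 2-local subgroup M satisfies C_M(O_2(M)) ≤ O_2(M)). Then every 2-local subgroup of G has p-rank at most 2. -/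
theorem result {G : Type*} [Group G] [Finite G] (p : ℕ) [Fact p.Prime] (hp : p ≠ 2) (hGp : Cfsg.IsOfLocalCharacteristic p G) (hG2 : Cfsg.IsCharacteristicTwoType G) : Cfsg.TwoLocalPRankLE p 2 G := by
  classical
  intro H hH A hAc hAe
  by_contra hcon
  have hcon' : p ^ 2 < Nat.card A := not_le.mp hcon
  obtain ⟨T, hT2, hT1, rfl⟩ := hH
  have hA'ea : IsElementaryAbelian p (A.map (Subgroup.subtype _)) := by
    refine ⟨⟨⟨?_⟩⟩, ?_⟩
    · rintro ⟨a, ha⟩ ⟨b, hb⟩
      obtain ⟨a', ha', rfl⟩ := Subgroup.mem_map.mp ha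
      obtain ⟨b', hb', rfl⟩ := Subgroup.mem_map.mp hb
      apply Subtype.ext
      have h := hAc.is_comm.comm ⟨a', ha'⟩ ⟨b', hb'⟩
      have h2 : a' * b' = b' * a' := congrArg Subtype.val h
      have h3 : (a' : G) * (b' : G) = (b' : G) * (a' : G) := congrArg Subtype.val h2
      exact h3
    · intro a ha
      obtain ⟨a', ha', rfl⟩ := Subgroup.mem_map.mp ha
      have := hAe a' ha'
      have h2 := congrArg Subtype.val this
      simpa using h2
  have hA'tl : Lib.Helper50.KM.InTL (A.map (Subgroup.subtype _)) :=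
    ⟨T, hT2, hT1, Subgroup.map_subtype_le A⟩
  have hA'card : Nat.card (A.map (Subgroup.subtype _)) = Nat.card A :=
    Subgroup.card_map_of_injective (Subgroup.subtype_injective _)
  obtain ⟨E, hES, hmax⟩ := Set.exists_max_image
    {B : Subgroup G | IsElementaryAbelian p B ∧ Lib.Helper50.KM.InTL B} (fun B => Nat.card B)
    (Set.toFinite _) ⟨_, hA'ea, hA'tl⟩
  obtain ⟨n, hn⟩ := (IsPGroup.iff_card).mp (Lib.Helper50.KM.ea_isPGroup hES.1)
  have hp1 : 1 < p := (Fact.out : p.Prime).one_lt
  have hn3 : 3 ≤ n := by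
    have h1 : Nat.card A ≤ Nat.card E := by
      rw [← hA'card]
      exact hmax _ ⟨hA'ea, hA'tl⟩
    have h2 : p ^ 2 < p ^ n := by
      rw [← hn]
      exact lt_of_lt_of_le hcon' h1
    exact (Nat.pow_lt_pow_iff_right hp1).mp h2
  have HH : Lib.Helper50.KM.Hyp G p n :=
    { odd := hp
      three := hn3
      pside := Lib.Helper50.KM.pside_of hGp
      tside := Lib.Helper50.KM.tside_of hG2
      hmax := fun B hB hBl => by
        rw [← hn]
        exact hmax B ⟨hB, hBl⟩ }
  obtain ⟨Q, z, C⟩ := Lib.Helper50.KM.exists_cfg HH hES.1 hn hES.2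
  obtain ⟨D1, D2, R1, R2, B⟩ := Lib.Helper50.KM.exists_blocks HH C
  by_cases hp3 : p = 3
  · subst hp3
    exact Lib.Helper50.KM.false_of_three HH C B
  · exact Lib.Helper50.KM.false_of_ne_three HH hp3 C B

end Cfsg.Agent.S2029
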