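import Cfsg.Statements.S2036
import Cfsg.Agent.Lib.Helper66.M22Upper
import Cfsg.Agent.Lib.Helper66.LowerTC
import Cfsg.Agent.Lib.Helper66.M22C4
import Cfsg.Agent.Lib.Helper66.M22C3

set_option autoImplicit false
set_option maxRecDepth 100000
open Cfsg

namespace Cfsg.Agent.S2036

open Cfsg.Agent.Lib.Helper66 Cfsg.Agent.Lib.Helper66.TCE Cfsg.Agent.Lib.Helper66.M22G
  Cfsg.Agent.Lib.Helper66.M22U

theorem RG_lt : ∀ w ∈ SR ++ EX, ∀ a ∈ w, a / 2 < 6 := by decide

theorem RG_one : ∀ w ∈ SR ++ EX, ev gb w = 1 := by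
  intro w hw
  rcases List.mem_append.mp hw with h | h
  · exact ev_gb_of_chk (List.all_eq_true.mp SR_chk w h)
  · exact ev_gb_of_chk (List.all_eq_true.mp EX_chk w h)

instance : Finite ↥Spor.M22 := Nat.finite_of_card_ne_zero (by rw [card_M22]; norm_num)

theorem four_dvd : 2 ^ (1 + 1) ∣ Monoid.exponent (schurM ↥Spor.M22) := by
  have : Fact (Nat.Prime 2) := ⟨Nat.prime_two⟩
  exact model_dvd_exponent gb 6 closure_gb (SR ++ EX) RG_lt RG_one PB M22C4.tab 4928 M22C4.chk_valid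
    (by norm_num) M22C4.vals (by decide) M22C4.chk_rels M22C4.chk_comm M22C4.w0 M22C4.v0 M22C4.m0
    (by decide) (ev_gb_of_chk (by decide +kernel)) M22C4.chk_w0 M22C4.chk_perm 2 1
    M22C4.chk_ord1 M22C4.chk_ord2

theorem three_dvd : 3 ^ (0 + 1) ∣ Monoid.exponent (schurM ↥Spor.M22) := by
  have : Fact (Nat.Prime 3) := ⟨Nat.prime_three⟩
  exact model_dvd_exponent gb 6 closure_gb (SR ++ EX) RG_lt RG_one PB M22C3.tab 11088 M22C3.chk_valid
    (by norm_num) M22C3.vals (by decide) M22C3.chk_rels M22C3.chk_comm M22C3.w0 M22C3.v0 M22C3.m0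
    (by decide) (ev_gb_of_chk (by decide +kernel)) M22C3.chk_w0 M22C3.chk_perm 3 0
    M22C3.chk_ord1 M22C3.chk_ord2

theorem card_schurM_le : Nat.card (schurM ↥Spor.M22) ≤ 12 := by
  obtain ⟨⟨Γ, _, _, σ, hσ, ⟨e⟩⟩, -⟩ := hasSchurMultiplier_schurM ↥Spor.M22
  rw [← Nat.card_congr e.toEquiv]
  exact card_ker_le Γ σ hσ

/-- The Schur multiplier of the Mathieu group M₂₂ is cyclic of order 12. -/
theorem result : Cfsg.HasCyclicSchurMultiplier ↥Cfsg.Spor.M22 12 := by
  have hfin : Finite (schurM ↥Spor.M22) := inferInstance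
  have h12 : 12 ∣ Monoid.exponent (schurM ↥Spor.M22) := by
    have h4 := four_dvd
    have h3 := three_dvd
    have : Nat.Coprime (2 ^ (1 + 1)) (3 ^ (0 + 1)) := by norm_num
    simpa using this.mul_dvd_of_dvd_of_dvd h4 h3
  have hdvd : Monoid.exponent (schurM ↥Spor.M22) ∣ Nat.card (schurM ↥Spor.M22) :=
    Group.exponent_dvd_nat_card
  have hpos : 0 < Nat.card (schurM ↥Spor.M22) := Nat.card_pos
  have hcard : Nat.card (schurM ↥Spor.M22) = 12 :=
    le_antisymm card_schurM_le (Nat.le_of_dvd hpos (h12.trans hdvd))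
  have hexp : Monoid.exponent (schurM ↥Spor.M22) = 12 := by
    rw [hcard] at hdvd
    exact Nat.dvd_antisymm hdvd h12
  have hcyc : IsCyclic (schurM ↥Spor.M22) := by
    rw [IsCyclic.iff_exponent_eq_card, hexp, hcard]
  have e : schurM ↥Spor.M22 ≃* Multiplicative (ZMod 12) :=
    (zmodCyclicMulEquiv hcyc).symm.trans (by rw [hcard])
  exact HasSchurMultiplier.congr e (hasSchurMultiplier_schurM _)

end Cfsg.Agent.S2036
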