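import Cfsg.Statements.S2080
import Cfsg.Agent.Lib.Helper40.Out23.Main

set_option autoImplicit false
open Cfsg

namespace Cfsg.Agent.S2080

/-- The outer automorphism group of the Fischer group Fi₂₃ (the finitely presented group of the definitions) is trivial: every automorphism is inner. -/
theorem result : Nat.card (Cfsg.Out Cfsg.Spor.Fi23) = 1 := by
  show (Cfsg.Inn Cfsg.Spor.Fi23).index = 1
  rw [Subgroup.index_eq_one, eq_top_iff]
  intro α _
  obtain ⟨u, hu⟩ := Cfsg.Agent.Lib.Helper40.PE.O23.inner α
  exact ⟨u, MulEquiv.ext fun x => (hu x).symm⟩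

end Cfsg.Agent.S2080
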