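import Cfsg.Statements.S2098
import Cfsg.Agent.Lib.Helper66.O8Upper
import Cfsg.Agent.Lib.Helper66.O8C
import Cfsg.Agent.Lib.Helper66.SchurUniv
import Cfsg.Agent.Lib.Helper57.IsoPerm
import Cfsg.Agent.Lib.Helper5.OmegaSimple

set_option autoImplicit false
set_option maxRecDepth 100000
open Cfsg

namespace Cfsg.Agent.S2098

open Cfsg.Agent.Lib.Helper66 Cfsg.Agent.Lib.Helper66.TCE Cfsg.Agent.Lib.Helper66.O8G
  Cfsg.Agent.Lib.Helper66.O8U

theorem RG_lt : ∀ w ∈ SR ++ EX, ∀ a ∈ w, a / 2 < 8 := by decide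

theorem RG_one : ∀ w ∈ SR ++ EX, ev gb w = 1 := by
  intro w hw
  rcases List.mem_append.mp hw with h | h
  · exact ev_gb_of_chk (List.all_eq_true.mp SR_chk w h)
  · exact ev_gb_of_chk (List.all_eq_true.mp EX_chk w h)

theorem card_schurM_le : Nat.card (schurM PO) ≤ 4 := by
  obtain ⟨⟨Γ, _, _, σ, hσ, ⟨e⟩⟩, -⟩ := hasSchurMultiplier_schurM PO
  rw [← Nat.card_congr e.toEquiv]
  exact card_ker_le Γ σ hσ

/-- a commutative group with at most four elements mapping onto a four-group is a four-group -/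
theorem klein_of_hom {M P : Type*} [CommGroup M] [Finite M] [Group P] (hM : Nat.card M ≤ 4)
    (φ : M →* P) (a b : P) (ha : a ∈ φ.range) (hb : b ∈ φ.range) (ha1 : a ≠ 1) (hb1 : b ≠ 1)
    (hab : a ≠ b) (ha2 : a * a = 1) (hb2 : b * b = 1) : IsKleinFour M := by
  classical
  obtain ⟨m1, rfl⟩ := ha
  obtain ⟨m2, rfl⟩ := hb
  have : Fintype M := Fintype.ofFinite M
  have h12 : φ (m1 * m2) ≠ 1 := by
    intro h
    rw [map_mul] at h
    apply hab
    calc φ m1 = φ m1 * (φ m2 * φ m2) := by rw [hb2, mul_one]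
      _ = (φ m1 * φ m2) * φ m2 := by rw [mul_assoc]
      _ = φ m2 := by rw [h, one_mul]
  have d1 : (1 : M) ≠ m1 := fun h => ha1 (by rw [← h, map_one])
  have d2 : (1 : M) ≠ m2 := fun h => hb1 (by rw [← h, map_one])
  have d3 : (1 : M) ≠ m1 * m2 := fun h => h12 (by rw [← h, map_one])
  have d4 : m1 ≠ m2 := fun h => hab (by rw [h])
  have d5 : m1 ≠ m1 * m2 := fun h => d2 (show m2 = 1 by simpa using h).symm
  have d6 : m2 ≠ m1 * m2 := fun h => d1 (show m1 = 1 by simpa using h).symm
  have hcardS : ({1, m1, m2, m1 * m2} : Finset M).card = 4 := by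
    rw [Finset.card_insert_of_notMem, Finset.card_insert_of_notMem, Finset.card_insert_of_notMem,
      Finset.card_singleton]
    · simpa using d6
    · simp [d4, d5]
    · simp [d1, d2, d3]
  have hcard : Fintype.card M = 4 := by
    have h1 := Finset.card_le_univ ({1, m1, m2, m1 * m2} : Finset M)
    rw [hcardS] at h1
    rw [Nat.card_eq_fintype_card] at hM
    omega
  have huniv : ({1, m1, m2, m1 * m2} : Finset M) = Finset.univ :=
    Finset.eq_univ_of_card _ (by rw [hcardS, hcard])
  have hall : ∀ m : M, m = 1 ∨ m = m1 ∨ m = m2 ∨ m = m1 * m2 := by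
    intro m
    have := Finset.mem_univ m
    rw [← huniv] at this
    simpa using this
  have hker : ∀ m : M, φ m = 1 → m = 1 := by
    intro m hm
    rcases hall m with rfl | rfl | rfl | rfl
    · rfl
    · exact absurd hm ha1
    · exact absurd hm hb1
    · exact absurd hm h12
  have hs1 : m1 * m1 = 1 := hker _ (by rw [map_mul, ha2])
  have hs2 : m2 * m2 = 1 := hker _ (by rw [map_mul, hb2])
  have hsq : ∀ m : M, m ^ 2 = 1 := by
    intro m
    rw [pow_two]
    rcases hall m with rfl | rfl | rfl | rfl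
    · simp
    · exact hs1
    · exact hs2
    · calc m1 * m2 * (m1 * m2) = (m1 * m1) * (m2 * m2) := by
            rw [mul_mul_mul_comm]
        _ = 1 := by rw [hs1, hs2, one_mul]
  refine ⟨by rw [Nat.card_eq_fintype_card, hcard], ?_⟩
  have hdvd : Monoid.exponent M ∣ 2 := Monoid.exponent_dvd_of_forall_pow_eq_one hsq
  rcases (Nat.dvd_prime Nat.prime_two).mp hdvd with h | h
  · exfalso
    have := Monoid.exp_eq_one_iff.mp h
    exact d1 (Subsingleton.elim _ _)
  · exact h

theorem main : Cfsg.HasSchurMultiplier PO (Multiplicative (ZMod 2 × ZMod 2)) := by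
  obtain ⟨φ, hφ⟩ := model_hom gb 8 2 closure_gb (SR ++ EX) RG_lt RG_one PB O8C.tab 480
    O8C.chk_valid O8C.vals (by decide) (by decide) O8C.chk_rels O8C.chk_comm
  have hz := hφ O8C.wz O8C.vz (by decide) (ev_gb_of_chk (by decide +kernel)) O8C.chk_permz
  have hc := hφ O8C.wc O8C.vc (by decide) (ev_gb_of_chk (by decide +kernel)) O8C.chk_permc
  have lz : ∀ a ∈ O8C.wz, a < 2 * (8 + 2) := by decide
  have lc : ∀ a ∈ O8C.wc, a < 2 * (8 + 2) := by decide
  have l0 : ∀ a ∈ ([] : List ℕ), a < 2 * (8 + 2) := by simp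
  have hK : IsKleinFour (schurM PO) := by
    apply klein_of_hom card_schurM_le φ _ _ hz hc
    · have := ev_pe_ne_at O8C.chk_valid lz l0 0 (by norm_num) O8C.chk_z0
      simpa using this
    · have := ev_pe_ne_at O8C.chk_valid lc l0 240 (by norm_num) O8C.chk_c0
      simpa using this
    · exact ev_pe_ne_at O8C.chk_valid lz lc 240 (by norm_num) O8C.chk_zc
    · have := ev_pe_eq O8C.chk_valid (w := O8C.wz ++ O8C.wz) (w' := [])
        (by intro a ha; rcases List.mem_append.mp ha with h | h <;> exact lz a h) l0 O8C.chk_z2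
      rw [ev_append] at this
      simpa using this
    · have := ev_pe_eq O8C.chk_valid (w := O8C.wc ++ O8C.wc) (w' := [])
        (by intro a ha; rcases List.mem_append.mp ha with h | h <;> exact lc a h) l0 O8C.chk_c2
      rw [ev_append] at this
      simpa using this
  obtain ⟨e⟩ : Nonempty (schurM PO ≃* Multiplicative (ZMod 2 × ZMod 2)) :=
    IsKleinFour.nonempty_mulEquiv
  exact HasSchurMultiplier.congr e (hasSchurMultiplier_schurM _)

/-- Exceptional Schur multiplier: over the field with 2 elements, PΩ⁺₈ (for the form Σ xᵢyᵢ) has Schur multiplier a four-group, the product of two cyclic groups of order 2 (here the Schur multiplier is described through stem extensions, as in the definitions). -/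
theorem result {F : Type*} [Field F] [Fintype F] (hF : Fintype.card F = 2) : Cfsg.HasSchurMultiplier (Cfsg.POmega F (Cfsg.quadFormPlus 4 F)) (Multiplicative (ZMod 2 × ZMod 2)) := by
  let e : ZMod 2 ≃+* F := ZMod.ringEquivOfPrime F Nat.prime_two hF
  have h : ∀ v, e (Cfsg.quadFormPlus 4 (ZMod 2) v) = Cfsg.quadFormPlus 4 F (e ∘ v) := by
    intro v
    simp [Cfsg.quadFormPlus, map_sum, map_mul]
  exact hasSchurMultiplier_congr_univ
    (Cfsg.Agent.Lib.Helper5.quotCenterEquiv (Cfsg.Agent.Lib.Helper5.commutatorEquiv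
      (Cfsg.Agent.Lib.Helper57.isometryGroupCongr e _ _ h))) main

end Cfsg.Agent.S2098
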