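import Cfsg.Statements.S2101
import Cfsg.Agent.Lib.Helper66.G23Upper
import Cfsg.Agent.Lib.Helper66.LowerTC
import Cfsg.Agent.Lib.Helper66.G23C
import Cfsg.Agent.Lib.Helper66.SchurUniv

set_option autoImplicit false
set_option maxRecDepth 100000
open Cfsg

namespace Cfsg.Agent.S2101

open Cfsg.Agent.Lib.Helper66 Cfsg.Agent.Lib.Helper66.TCE Cfsg.Agent.Lib.Helper66.G23L
  Cfsg.Agent.Lib.Helper66.G23G Cfsg.Agent.Lib.Helper66.G23U

theorem RG_lt : ∀ w ∈ SR ++ EX, ∀ a ∈ w, a / 2 < 7 := by decide

theorem RG_one : ∀ w ∈ SR ++ EX, ev gb w = 1 := by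
  intro w hw
  rcases List.mem_append.mp hw with h | h
  · exact ev_gb_of_chk (List.all_eq_true.mp SR_chk w h)
  · exact ev_gb_of_chk (List.all_eq_true.mp EX_chk w h)

theorem three_dvd : 3 ^ (0 + 1) ∣ Monoid.exponent (schurM P) := by
  have : Fact (Nat.Prime 3) := ⟨Nat.prime_three⟩
  exact model_dvd_exponent gb 7 closure_gb (SR ++ EX) RG_lt RG_one PB G23C.tab 2268 G23C.chk_valid
    (by norm_num) G23C.vals (by decide) G23C.chk_rels G23C.chk_comm G23C.w0 G23C.v0 G23C.m0
    (by decide) (ev_gb_of_chk (by decide +kernel)) G23C.chk_w0 G23C.chk_perm 3 0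
    G23C.chk_ord1 G23C.chk_ord2

theorem card_schurM_le : Nat.card (schurM P) ≤ 3 := by
  obtain ⟨⟨Γ, _, _, σ, hσ, ⟨e⟩⟩, -⟩ := hasSchurMultiplier_schurM P
  rw [← Nat.card_congr e.toEquiv]
  exact card_ker_le Γ σ hσ

theorem main : Cfsg.HasCyclicSchurMultiplier P 3 := by
  have hfin : Finite (schurM P) := inferInstance
  have h2 : 3 ∣ Monoid.exponent (schurM P) := by simpa using three_dvd
  have hdvd : Monoid.exponent (schurM P) ∣ Nat.card (schurM P) :=
    Group.exponent_dvd_nat_card
  have hpos : 0 < Nat.card (schurM P) := Nat.card_pos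
  have hcard : Nat.card (schurM P) = 3 :=
    le_antisymm card_schurM_le (Nat.le_of_dvd hpos (h2.trans hdvd))
  have hexp : Monoid.exponent (schurM P) = 3 := by
    rw [hcard] at hdvd
    exact Nat.dvd_antisymm hdvd h2
  have hcyc : IsCyclic (schurM P) := by
    rw [IsCyclic.iff_exponent_eq_card, hexp, hcard]
  have e : schurM P ≃* Multiplicative (ZMod 3) :=
    (zmodCyclicMulEquiv hcyc).symm.trans (by rw [hcard])
  exact HasSchurMultiplier.congr e (hasSchurMultiplier_schurM _)

/-- Exceptional Schur multiplier: over the field with 3 elements the Chevalley group of type G₂ has Schur multiplier cyclic of order 3 (here the Schur multiplier is described through stem extensions, as in the definitions). -/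
theorem result {F : Type*} [Field F] [Fintype F] (hF : Fintype.card F = 3) : Cfsg.HasCyclicSchurMultiplier ↥(Cfsg.Lie.chevG2.group F) 3 := by
  haveI : Fact (Nat.Prime 3) := ⟨by norm_num⟩
  have e : ZMod 3 ≃+* F := ZMod.ringEquivOfPrime F (by norm_num) hF
  exact hasSchurMultiplier_congr_univ
    ((Cfsg.Agent.Lib.Helper27.ChevIso.groupIso Cfsg.Lie.chevG2 e.symm).trans
      Cfsg.Agent.Lib.Helper27.G3P.iso).symm main

end Cfsg.Agent.S2101
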