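import Cfsg.Statements.S2118
import Cfsg.Agent.Lib.Helper66.AltSixSeven
import Cfsg.Agent.Lib.Helper66.AltSixSevenUpper
import Cfsg.Agent.Lib.Helper66.PSL2Mult
import Cfsg.Agent.Lib.Helper66.PerfectLemmas
import Cfsg.Agent.Lib.Helper75.Ord360b
import Cfsg.Agent.Lib.Helper17.ClassCount
import Cfsg.Agent.S3335
import Cfsg.Agent.S3957

set_option autoImplicit false
open Cfsg

namespace Cfsg.Agent.S2118

open Cfsg.Agent.Lib.Helper66 Cfsg.Agent.Lib.Helper66.AltStem Cfsg.Agent.Lib.Helper5

universe u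

/-- `PSL₂(9)` has Carmichael's presentation of `A₆`. -/
theorem exists_presentation {F : Type u} [Field F] [Fintype F] (hF : Fintype.card F = 9) :
    Nonempty (PresentedGroup (carRels 4) ≃* Matrix.ProjectiveSpecialLinearGroup (Fin 2) F) := by
  have : IsSimpleGroup (alternatingGroup (Fin 6)) := alternatingGroup.isSimpleGroup (by simp)
  have h360 : Nat.card (alternatingGroup (Fin 6)) = 360 := by
    rw [nat_card_alternatingGroup]
    simp [Nat.factorial]
  obtain ⟨K, _, _, hK, ⟨e₁⟩⟩ := Cfsg.Agent.Lib.Helper75.Ord360.exists_psl h360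
  obtain ⟨e₂⟩ := Cfsg.Agent.Lib.Helper17.nonempty_psl_equiv (n := Fin 2)
    (FiniteField.ringEquivOfCardEq (hK.trans hF.symm))
  obtain ⟨φ₀⟩ := Cfsg.Agent.S3335.result 6 (by norm_num)
  have φ₁ : PresentedGroup (carRels 4) ≃* alternatingGroup (Fin 6) := φ₀
  exact ⟨φ₁.trans (e₁.trans e₂)⟩

theorem sq_eq_one_iff_of_ne_neg_one_aux {F : Type*} [Field F] {x : F} (h : x ^ 2 = 1) :
    x = 1 ∨ x = -1 := sq_eq_one_iff.mp h

theorem comp_stem {E G Q : Type*} [Group E] [Group G] [Group Q] (hG : commutator G = ⊤)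
    (σ : E →* G) (hσ : Cfsg.IsStemExtension σ) (p : G →* Q) (hp : Cfsg.IsStemExtension p) :
    Cfsg.IsStemExtension (p.comp σ) := by
  have hE : commutator E = ⊤ := by
    apply IsStemExtension.eq_top_of_map_eq_top hσ
    rw [commutator_def, Subgroup.map_commutator, ← MonoidHom.range_eq_map,
      MonoidHom.range_eq_top.mpr hσ.1, ← commutator_def, hG]
  refine ⟨hp.1.comp hσ.1, ?_, by rw [hE]; exact le_top⟩
  intro x hx
  have hx' : σ x ∈ Subgroup.center G := hp.2.1 hx
  have h1 : (MulAut.conj x).toMonoidHom = MonoidHom.id E := by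
    apply hom_eq_of_perfect_of_central hE σ hσ.2.1
    ext e
    simp only [MonoidHom.comp_apply, MulEquiv.coe_toMonoidHom, MulAut.conj_apply, map_mul, map_inv,
      MonoidHom.id_apply]
    rw [← (Subgroup.mem_center_iff.mp hx' (σ e)), mul_inv_cancel_right]
  rw [Subgroup.mem_center_iff]
  intro e
  have h2 := congrArg (fun f : E →* E => f e) h1
  simp only [MulEquiv.coe_toMonoidHom, MulAut.conj_apply, MonoidHom.id_apply] at h2
  rw [mul_inv_eq_iff_eq_mul] at h2
  exact h2.symm

theorem card_schurM {F : Type u} [Field F] [Fintype F] (hF : Fintype.card F = 9) :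
    Nat.card (schurM (Matrix.SpecialLinearGroup (Fin 2) F)) = 3 := by
  classical
  obtain ⟨a, ha0, ha1⟩ : ∃ a : F, a ≠ 0 ∧ a ^ 2 ≠ 1 := by
    by_contra hcon
    push Not at hcon
    have h1 : ∀ x : F, x ∈ ({0, 1, -1} : Finset F) := by
      intro x
      by_cases hx : x = 0
      · simp [hx]
      · have := hcon x hx
        rcases sq_eq_one_iff_of_ne_neg_one_aux this with h | h <;> simp [h]
    have h3 : Fintype.card F ≤ ({0, 1, -1} : Finset F).card := by
      rw [← Finset.card_univ]
      exact Finset.card_le_card (fun x _ => h1 x)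
    have h4 : ({0, 1, -1} : Finset F).card ≤ 3 := Finset.card_le_three
    omega
  have hperf : commutator (Matrix.SpecialLinearGroup (Fin 2) F) = ⊤ :=
    Matrix.SL2.commutator_eq_top ha0 ha1
  have hZ : Nat.card (Subgroup.center (Matrix.SpecialLinearGroup (Fin 2) F)) = 2 := by
    rw [card_center_SL, hF]; rfl
  obtain ⟨φ⟩ := exists_presentation hF
  obtain ⟨p, hpdef⟩ : ∃ p : Matrix.SpecialLinearGroup (Fin 2) F →*
      Matrix.ProjectiveSpecialLinearGroup (Fin 2) F,
      p = QuotientGroup.mk' (Subgroup.center (Matrix.SpecialLinearGroup (Fin 2) F)) := ⟨_, rfl⟩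
  have hpker : p.ker = Subgroup.center (Matrix.SpecialLinearGroup (Fin 2) F) := by
    rw [hpdef, QuotientGroup.ker_mk']
  have hp : Cfsg.IsStemExtension p := by
    refine ⟨by rw [hpdef]; exact QuotientGroup.mk'_surjective _, by rw [hpker], ?_⟩
    rw [hperf]; exact le_top
  -- lower bound
  have h3 : 3 ∣ Nat.card (schurM (Matrix.SpecialLinearGroup (Fin 2) F)) := by
    have h3Q := three_dvd_card_schurM 4 le_rfl (by norm_num) φ
    obtain ⟨Γ, _, _, σ', hσ', ⟨e'⟩, β, hβ, hcomp⟩ := Cfsg.Agent.S3957.result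
      (hasSchurMultiplier_schurM (Matrix.ProjectiveSpecialLinearGroup (Fin 2) F)) p hp
    rw [← Nat.card_congr e'.toEquiv] at h3Q
    obtain ⟨⟨c, hc⟩, hc3⟩ := exists_prime_orderOf_dvd_card' (G := σ'.ker) 3 h3Q
    have hc3' : orderOf c = 3 := by rw [← hc3, ← Subgroup.orderOf_coe]
    have hβc : β c = 1 := by
      have h1 : β c ∈ Subgroup.center (Matrix.SpecialLinearGroup (Fin 2) F) := by
        rw [← hpker, MonoidHom.mem_ker, ← MonoidHom.comp_apply, hcomp]
        exact hc
      have h2 : (β c) ^ 2 = 1 := by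
        have h5 : (⟨β c, h1⟩ : Subgroup.center (Matrix.SpecialLinearGroup (Fin 2) F)) ^
            Nat.card (Subgroup.center (Matrix.SpecialLinearGroup (Fin 2) F)) = 1 := pow_card_eq_one'
        rw [hZ] at h5
        exact congrArg Subtype.val h5
      have h4 : (β c) ^ 3 = 1 := by rw [← map_pow, ← hc3', pow_orderOf_eq_one, map_one]
      calc β c = (β c) ^ 3 * ((β c) ^ 2)⁻¹ := by group
        _ = 1 := by rw [h2, h4]; simp
    have hkerβ : β.ker ≤ σ'.ker := by
      intro x hx
      rw [MonoidHom.mem_ker, ← hcomp, MonoidHom.comp_apply, MonoidHom.mem_ker.mp hx, map_one]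
    rw [← hc3']
    exact orderOf_dvd_card_schurM _ β hβ (hkerβ.trans hσ'.2.1) c hβc (hσ'.2.2 hc)
  -- upper bound
  have hle : Nat.card (schurM (Matrix.SpecialLinearGroup (Fin 2) F)) ≤ 3 := by
    obtain ⟨⟨E, _, _, σ, hσ, ⟨e⟩⟩, -⟩ :=
      hasSchurMultiplier_schurM (Matrix.SpecialLinearGroup (Fin 2) F)
    rw [← Nat.card_congr e.toEquiv]
    have hτ := comp_stem hperf σ hσ p hp
    have h6 := card_ker_le_six 4 le_rfl φ (p.comp σ) hτ
    have hle : σ.ker ≤ (p.comp σ).ker := by
      intro x hx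
      rw [MonoidHom.mem_ker, MonoidHom.comp_apply, MonoidHom.mem_ker.mp hx, map_one]
    obtain ⟨k, hk⟩ := Subgroup.card_dvd_of_le hle
    have hne : Nat.card σ.ker ≠ Nat.card (p.comp σ).ker := by
      intro heq
      have h7 := Subgroup.eq_of_le_of_card_ge hle heq.ge
      have hnt : Nontrivial (Subgroup.center (Matrix.SpecialLinearGroup (Fin 2) F)) := by
        rw [← Finite.one_lt_card_iff_nontrivial, hZ]; norm_num
      obtain ⟨⟨g, hg⟩, hg1⟩ := exists_ne (1 : Subgroup.center (Matrix.SpecialLinearGroup (Fin 2) F))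
      obtain ⟨x, rfl⟩ := hσ.1 g
      have h8 : x ∈ (p.comp σ).ker := by
        rw [MonoidHom.mem_ker, MonoidHom.comp_apply, ← MonoidHom.mem_ker, hpker]
        exact hg
      rw [← h7] at h8
      exact hg1 (Subtype.ext h8)
    have hpos : 0 < Nat.card σ.ker := Nat.card_pos
    have hpos' : 0 < Nat.card (p.comp σ).ker := Nat.card_pos
    have hk2 : 2 ≤ k := by
      by_contra hk2
      have hk01 : k = 0 ∨ k = 1 := by omega
      rcases hk01 with rfl | rfl
      · rw [mul_zero] at hk; omega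
      · rw [mul_one] at hk; exact hne hk.symm
    nlinarith
  have hpos : 0 < Nat.card (schurM (Matrix.SpecialLinearGroup (Fin 2) F)) := Nat.card_pos
  have := Nat.le_of_dvd hpos h3
  omega

/-- For the field with 9 elements, the special linear group SL₂ has Schur multiplier cyclic of order 3 (here the Schur multiplier is described through stem extensions, as in the definitions). -/
theorem result {F : Type*} [Field F] [Fintype F] (hF : Fintype.card F = 9) : Cfsg.HasCyclicSchurMultiplier (Matrix.SpecialLinearGroup (Fin 2) F) 3 := by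
  have hcard := card_schurM hF
  have : Fact (Nat.Prime 3) := ⟨by norm_num⟩
  have hcyc : IsCyclic (schurM (Matrix.SpecialLinearGroup (Fin 2) F)) := isCyclic_of_prime_card hcard
  rw [HasCyclicSchurMultiplier, hasSchurMultiplier_iff]
  have e := zmodCyclicMulEquiv hcyc
  rw [hcard] at e
  exact ⟨e⟩

end Cfsg.Agent.S2118
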