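import Cfsg.Statements.S4623
import Cfsg.Agent.Lib.Helper1.Tools
import Cfsg.Agent.Lib.Helper22.SupLemmas

set_option autoImplicit false
open Cfsg

namespace Cfsg.Agent.S4623

open Cfsg.Agent.Lib

/-- the group is generated by its elements of order dividing `p` -/
def GenT (p : ℕ) (K : Type*) [Group K] : Prop := Subgroup.closure {x : K | x ^ p = 1} = ⊤

/-- the subgroup is generated by its elements of order dividing `p` -/
def Gen (p : ℕ) {G : Type*} [Group G] (H : Subgroup G) : Prop :=
  H ≤ Subgroup.closure {x : G | x ∈ H ∧ x ^ p = 1}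

theorem pow_mem_commutator {p : ℕ} {K : Type*} [Group K] (h : GenT p K) (x : K) :
    x ^ p ∈ commutator K := by
  have hker : ((powMonoidHom p).comp (Abelianization.of (G := K))).ker = ⊤ := by
    rw [eq_top_iff, ← h, Subgroup.closure_le]
    intro y hy
    have hy' : y ^ p = 1 := hy
    rw [SetLike.mem_coe, MonoidHom.mem_ker]
    simp only [MonoidHom.comp_apply, powMonoidHom_apply, ← map_pow]
    rw [hy', map_one]
  have h1 : x ∈ ((powMonoidHom p).comp (Abelianization.of (G := K))).ker := hker ▸ Subgroup.mem_top x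
  rw [MonoidHom.mem_ker] at h1
  rw [← Abelianization.ker_of K, MonoidHom.mem_ker, map_pow]
  exact h1

theorem GenT.of_gen {p : ℕ} {G : Type*} [Group G] {H : Subgroup G} (h : Gen p H) : GenT p ↥H := by
  have h1 : (Subgroup.closure {x : H | x ^ p = 1}).map H.subtype =
      Subgroup.closure {x : G | x ∈ H ∧ x ^ p = 1} := by
    rw [MonoidHom.map_closure]
    congr 1
    ext y
    constructor
    · rintro ⟨z, hz, rfl⟩
      exact ⟨z.2, congrArg Subtype.val hz⟩
    · rintro ⟨hy, hyp⟩
      exact ⟨⟨y, hy⟩, Subtype.ext hyp, rfl⟩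
  rw [GenT, eq_top_iff]
  intro x _
  have h2 := h x.2
  rw [← h1] at h2
  obtain ⟨z, hz, hzx⟩ := h2
  have : z = x := Subtype.ext hzx
  rwa [← this]

theorem GenT.of_surjective {p : ℕ} {K K' : Type*} [Group K] [Group K'] (f : K →* K')
    (hf : Function.Surjective f) (h : GenT p K) : GenT p K' := by
  rw [GenT, eq_top_iff, ← Subgroup.map_top_of_surjective f hf, ← h, MonoidHom.map_closure]
  apply Subgroup.closure_mono
  rintro _ ⟨x, hx, rfl⟩
  have hx' : x ^ p = 1 := hx
  change f x ^ p = 1
  rw [← map_pow, hx', map_one]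

theorem Gen.sup {p : ℕ} {G : Type*} [Group G] {A B : Subgroup G} (hA : Gen p A) (hB : Gen p B) :
    Gen p (A ⊔ B) := by
  apply sup_le
  · exact hA.trans (Subgroup.closure_mono fun x hx => ⟨(le_sup_left : A ≤ A ⊔ B) hx.1, hx.2⟩)
  · exact hB.trans (Subgroup.closure_mono fun x hx => ⟨(le_sup_right : B ≤ A ⊔ B) hx.1, hx.2⟩)

theorem Gen.map {p : ℕ} {G G' : Type*} [Group G] [Group G'] {A : Subgroup G} (hA : Gen p A)
    (f : G →* G') : Gen p (A.map f) := by
  refine (Subgroup.map_mono hA).trans ?_
  rw [MonoidHom.map_closure]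
  apply Subgroup.closure_mono
  rintro _ ⟨x, hx, rfl⟩
  exact ⟨⟨x, hx.1, rfl⟩, by rw [← map_pow, hx.2, map_one]⟩

theorem Gen.of_exp {p : ℕ} {G : Type*} [Group G] {A : Subgroup G} (hA : ∀ x ∈ A, x ^ p = 1) :
    Gen p A := fun x hx => Subgroup.subset_closure ⟨hx, hA x hx⟩

section construction

variable (p : ℕ) [Fact p.Prime] (β : Type)

/-- the base group -/
def bHom : Multiplicative (β → ZMod p) →* Equiv.Perm (β × ZMod p) where
  toFun f :=
    { toFun := fun x => (x.1, x.2 + (Multiplicative.toAdd f) x.1)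
      invFun := fun x => (x.1, x.2 - (Multiplicative.toAdd f) x.1)
      left_inv := fun x => by simp
      right_inv := fun x => by simp }
  map_one' := by ext x <;> simp
  map_mul' f g := by
    ext x
    · simp
    · simp only [Equiv.coe_fn_mk, Equiv.Perm.coe_mul, Function.comp_apply, toAdd_mul, Pi.add_apply]
      abel

/-- the top group -/
def tHom : Equiv.Perm β →* Equiv.Perm (β × ZMod p) where
  toFun π := Equiv.prodCongrLeft (fun _ : ZMod p => π)
  map_one' := by ext x <;> simp [Equiv.prodCongrLeft]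
  map_mul' f g := by ext x <;> simp [Equiv.prodCongrLeft]

theorem bHom_injective : Function.Injective (bHom p β) := by
  intro f g h
  apply Multiplicative.toAdd.injective
  funext x
  have := congrArg (fun e : Equiv.Perm (β × ZMod p) => (e (x, 0)).2) h
  simpa [bHom] using this

theorem tHom_injective : Function.Injective (tHom p β) := by
  intro f g h
  ext x
  have := congrArg (fun e : Equiv.Perm (β × ZMod p) => (e (x, 0)).1) h
  simpa [tHom, Equiv.prodCongrLeft] using this

theorem bHom_pow (f : Multiplicative (β → ZMod p)) : (bHom p β f) ^ p = 1 := by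
  rw [← map_pow]
  have : f ^ p = 1 := by
    apply Multiplicative.toAdd.injective
    funext x
    simp [toAdd_pow]
  rw [this, map_one]

theorem tHom_conj (π : Equiv.Perm β) (f : Multiplicative (β → ZMod p)) :
    tHom p β π * bHom p β f * (tHom p β π)⁻¹ =
      bHom p β (Multiplicative.ofAdd (fun x => (Multiplicative.toAdd f) (π⁻¹ x))) := by
  rw [mul_inv_eq_iff_eq_mul]
  ext x <;> simp [tHom, bHom, Equiv.prodCongrLeft]

theorem tHom_mem_normalizer (π : Equiv.Perm β) :
    tHom p β π ∈ Subgroup.normalizer ((bHom p β).range : Set (Equiv.Perm (β × ZMod p))) := by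
  rw [Subgroup.mem_normalizer_iff]
  intro h
  constructor
  · rintro ⟨f, rfl⟩
    exact ⟨_, (tHom_conj p β π f).symm⟩
  · rintro ⟨f, hf⟩
    have h1 := tHom_conj p β π⁻¹ f
    rw [hf, map_inv] at h1
    refine ⟨_, h1.symm.trans ?_⟩
    group

theorem range_inf_map (W : Subgroup (Equiv.Perm β)) :
    W.map (tHom p β) ⊓ (bHom p β).range = ⊥ := by
  rw [eq_bot_iff]
  rintro _ ⟨⟨π, -, rfl⟩, ⟨f, hf⟩⟩
  rw [Subgroup.mem_bot]
  have : π = 1 := by
    ext x
    have := congrArg (fun e : Equiv.Perm (β × ZMod p) => (e (x, 0)).1) hf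
    simpa [tHom, bHom, Equiv.prodCongrLeft] using this.symm
  rw [this, map_one]

theorem card_K [Finite β] (W : Subgroup (Equiv.Perm β)) :
    Nat.card (W.map (tHom p β) ⊔ (bHom p β).range : Subgroup (Equiv.Perm (β × ZMod p))) =
      p ^ Nat.card β * Nat.card W := by
  have h1 := Helper1.card_sup_mul_card_inf (H := W.map (tHom p β)) (K := (bHom p β).range) (by
    rintro _ ⟨π, -, rfl⟩
    exact tHom_mem_normalizer p β π)
  rw [range_inf_map, Subgroup.card_bot, mul_one, Subgroup.card_map_of_injective (tHom_injective p β)] at h1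
  rw [h1, mul_comm]
  congr 1
  rw [Nat.card_congr (MonoidHom.ofInjective (bHom_injective p β)).toEquiv.symm]
  change Nat.card (β → ZMod p) = _
  rw [Nat.card_fun, Nat.card_zmod]

theorem gen_K (W : Subgroup (Equiv.Perm β)) (hW : Gen p W) :
    Gen p (W.map (tHom p β) ⊔ (bHom p β).range) := by
  apply Gen.sup (hW.map _)
  apply Gen.of_exp
  rintro _ ⟨f, rfl⟩
  exact bHom_pow p β f

end construction

theorem le_alternating_of_odd {p : ℕ} [Fact p.Prime] (hp2 : p ≠ 2) {α : Type*} [Fintype α] [DecidableEq α]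
    (W : Subgroup (Equiv.Perm α)) (hW : IsPGroup p W) : W ≤ alternatingGroup α := by
  intro x hx
  rw [Equiv.Perm.mem_alternatingGroup]
  obtain ⟨k, hk⟩ := hW ⟨x, hx⟩
  have hk' : x ^ p ^ k = 1 := congrArg Subtype.val hk
  have h1 : Equiv.Perm.sign x ^ p ^ k = 1 := by rw [← map_pow, hk', map_one]
  rcases Int.units_eq_one_or (Equiv.Perm.sign x) with h | h
  · exact h
  · exfalso
    rw [h] at h1
    have hodd : Odd (p ^ k) := ((Fact.out : p.Prime).odd_of_ne_two hp2).pow
    rw [hodd.neg_one_pow] at h1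
    exact absurd h1 (by decide)

theorem sign_tHom_two (β : Type) [Fintype β] [DecidableEq β] (π : Equiv.Perm β) :
    Equiv.Perm.sign (tHom 2 β π) = 1 := by
  change Equiv.Perm.sign (Equiv.prodCongrLeft (fun _ : ZMod 2 => π)) = 1
  rw [Equiv.Perm.sign_prodCongrLeft, Finset.prod_const, Finset.card_univ, ZMod.card]
  exact Int.units_sq _

theorem gen_K_alt_two (β : Type) [Fintype β] [DecidableEq β] (W : Subgroup (Equiv.Perm β)) (hW : Gen 2 W) :
    Gen 2 ((W.map (tHom 2 β) ⊔ (bHom 2 β).range) ⊓ alternatingGroup (β × ZMod 2)) := by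
  have hT : W.map (tHom 2 β) ≤ alternatingGroup (β × ZMod 2) := by
    rintro _ ⟨π, -, rfl⟩
    rw [Equiv.Perm.mem_alternatingGroup]
    exact sign_tHom_two β π
  have heq : (W.map (tHom 2 β) ⊔ (bHom 2 β).range) ⊓ alternatingGroup (β × ZMod 2) =
      W.map (tHom 2 β) ⊔ ((bHom 2 β).range ⊓ alternatingGroup (β × ZMod 2)) := by
    apply le_antisymm
    · intro x hx
      have hx1 : x ∈ W.map (tHom 2 β) ⊔ (bHom 2 β).range := hx.1
      have hx2 : x ∈ alternatingGroup (β × ZMod 2) := hx.2
      have hx1' : x ∈ (bHom 2 β).range ⊔ W.map (tHom 2 β) := by rw [sup_comm]; exact hx1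
      obtain ⟨b, hb, t, ht, rfl⟩ := (Helper22.mem_sup_of_le_normalizer (by
        rintro _ ⟨π, -, rfl⟩
        exact tHom_mem_normalizer 2 β π)).1 hx1'
      have hbA : b ∈ alternatingGroup (β × ZMod 2) := by
        have := mul_mem hx2 (inv_mem (hT ht))
        simpa using this
      exact mul_mem ((le_sup_right : _ ≤ W.map (tHom 2 β) ⊔ ((bHom 2 β).range ⊓ alternatingGroup (β × ZMod 2))) ⟨hb, hbA⟩)
        ((le_sup_left : _ ≤ W.map (tHom 2 β) ⊔ ((bHom 2 β).range ⊓ alternatingGroup (β × ZMod 2))) ht)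
    · exact sup_le (le_inf le_sup_left hT) (le_inf (inf_le_left.trans le_sup_right) inf_le_right)
  rw [heq]
  apply Gen.sup (hW.map _)
  apply Gen.of_exp
  rintro _ ⟨⟨f, rfl⟩, -⟩
  exact bHom_pow 2 β f

theorem sign_viaEmbeddingHom {α γ : Type*} [Fintype α] [DecidableEq α] [Fintype γ] [DecidableEq γ]
    (ι : α ↪ γ) (e : Equiv.Perm α) :
    Equiv.Perm.sign (Equiv.Perm.viaEmbeddingHom ι e) = Equiv.Perm.sign e := by
  classical
  rw [Equiv.Perm.viaEmbeddingHom_apply]
  unfold Equiv.Perm.viaEmbedding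
  convert Equiv.Perm.sign_extendDomain e (Equiv.ofInjective ι.1 ι.2)

theorem main_exists (p : ℕ) [Fact p.Prime] : ∀ n : ℕ, ∃ W : Subgroup (Equiv.Perm (Fin n)),
    Nat.card W = p ^ padicValNat p n.factorial ∧ Gen p W ∧ Gen p (W ⊓ alternatingGroup (Fin n)) := by
  intro n
  induction n using Nat.strong_induction_on with
  | _ n ih =>
  have hp : p.Prime := Fact.out
  rcases Nat.eq_zero_or_pos n with rfl | hn
  · refine ⟨⊥, by simp, Gen.of_exp (by simp), Gen.of_exp ?_⟩
    intro x hx
    have hx1 : x ∈ (⊥ : Subgroup (Equiv.Perm (Fin 0))) := hx.1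
    rw [Subgroup.mem_bot] at hx1
    rw [hx1, one_pow]
  obtain ⟨W, hWc, hWg, -⟩ := ih (n / p) (Nat.div_lt_self hn hp.one_lt)
  obtain ⟨ι⟩ : Nonempty (Fin (n / p) × ZMod p ↪ Fin n) := by
    apply Function.Embedding.nonempty_of_card_le
    rw [Fintype.card_prod, Fintype.card_fin, ZMod.card, Fintype.card_fin]
    exact Nat.div_mul_le_self n p
  have hcard : Nat.card ((W.map (tHom p (Fin (n / p))) ⊔ (bHom p (Fin (n / p))).range).map
      (Equiv.Perm.viaEmbeddingHom ι)) = p ^ padicValNat p n.factorial := by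
    rw [Subgroup.card_map_of_injective (Equiv.Perm.viaEmbeddingHom_injective ι), card_K, hWc,
      Nat.card_eq_fintype_card, Fintype.card_fin, ← pow_add, ← padicValNat_mul_div_factorial n,
      padicValNat_factorial_mul, add_comm]
  refine ⟨_, hcard, (gen_K p _ W hWg).map _, ?_⟩
  by_cases hp2 : p = 2
  · subst hp2
    have heq : (W.map (tHom 2 (Fin (n / 2))) ⊔ (bHom 2 (Fin (n / 2))).range).map
        (Equiv.Perm.viaEmbeddingHom ι) ⊓ alternatingGroup (Fin n) =
        ((W.map (tHom 2 (Fin (n / 2))) ⊔ (bHom 2 (Fin (n / 2))).range) ⊓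
          alternatingGroup (Fin (n / 2) × ZMod 2)).map (Equiv.Perm.viaEmbeddingHom ι) := by
      ext x
      constructor
      · rintro ⟨⟨y, hy, rfl⟩, hx2⟩
        refine ⟨y, ⟨hy, ?_⟩, rfl⟩
        have h3 := Equiv.Perm.mem_alternatingGroup.1 hx2
        rw [sign_viaEmbeddingHom] at h3
        exact Equiv.Perm.mem_alternatingGroup.2 h3
      · rintro ⟨y, ⟨hy, hy2⟩, rfl⟩
        refine ⟨⟨y, hy, rfl⟩, ?_⟩
        apply Equiv.Perm.mem_alternatingGroup.2
        rw [sign_viaEmbeddingHom]
        exact Equiv.Perm.mem_alternatingGroup.1 hy2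
    rw [heq]
    exact (gen_K_alt_two _ W hWg).map _
  · rw [inf_eq_left.2 (le_alternating_of_odd hp2 _ (IsPGroup.of_card hcard))]
    exact (gen_K p _ W hWg).map _

/-- For every prime p and every n, a Sylow p-subgroup P of the symmetric group on n letters has P/P' elementary abelian (the p-th power of every element of P lies in the derived subgroup of P), and the same holds for a Sylow p-subgroup of the alternating group on n letters. -/
theorem result (p : ℕ) [Fact p.Prime] (n : ℕ) (P : Sylow p (Equiv.Perm (Fin n))) (Q : Sylow p (alternatingGroup (Fin n))) :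
    (∀ x : (P : Subgroup (Equiv.Perm (Fin n))), x ^ p ∈ commutator (P : Subgroup (Equiv.Perm (Fin n)))) ∧
    (∀ x : (Q : Subgroup (alternatingGroup (Fin n))), x ^ p ∈ commutator (Q : Subgroup (alternatingGroup (Fin n)))) := by
  obtain ⟨W, hc, hg, hga⟩ := main_exists p n
  have hcard : Nat.card W = p ^ (Nat.card (Equiv.Perm (Fin n))).factorization p := by
    rw [hc, Nat.card_perm, Nat.card_eq_fintype_card, Fintype.card_fin, Nat.factorization_def _ Fact.out]
  constructor
  · have h1 : GenT p ↥((Sylow.ofCard W hcard : Sylow p (Equiv.Perm (Fin n))) : Subgroup (Equiv.Perm (Fin n))) :=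
      GenT.of_gen hg
    exact pow_mem_commutator (GenT.of_surjective (Sylow.equiv (Sylow.ofCard W hcard) P).toMonoidHom
      (Sylow.equiv (Sylow.ofCard W hcard) P).surjective h1)
  · have hWp : IsPGroup p W := IsPGroup.of_card hc
    have hp0 : IsPGroup p ((W ⊓ alternatingGroup (Fin n)).subgroupOf (alternatingGroup (Fin n))) :=
      (hWp.to_le inf_le_left).comap_subtype
    have hidx : ¬ p ∣ ((W ⊓ alternatingGroup (Fin n)).subgroupOf (alternatingGroup (Fin n))).index := by
      change ¬ p ∣ (W ⊓ alternatingGroup (Fin n)).relIndex (alternatingGroup (Fin n))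
      have h1 := Helper1.card_sup_mul_card_inf (H := W) (K := alternatingGroup (Fin n)) (by
        rw [Subgroup.normalizer_eq_top]; exact le_top)
      have h2 := Helper1.relIndex_mul_card (inf_le_right : W ⊓ alternatingGroup (Fin n) ≤ alternatingGroup (Fin n))
      have h3 := Helper1.relIndex_mul_card (le_sup_left : W ≤ W ⊔ alternatingGroup (Fin n))
      have h4 : (W ⊓ alternatingGroup (Fin n)).relIndex (alternatingGroup (Fin n)) =
          W.relIndex (W ⊔ alternatingGroup (Fin n)) := by
        have hpos1 : 0 < Nat.card W := Nat.card_pos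
        have hpos2 : 0 < Nat.card (W ⊓ alternatingGroup (Fin n) : Subgroup (Equiv.Perm (Fin n))) := Nat.card_pos
        rw [← h2, ← h3] at h1
        have h5 : W.relIndex (W ⊔ alternatingGroup (Fin n)) *
            (Nat.card W * Nat.card (W ⊓ alternatingGroup (Fin n) : Subgroup (Equiv.Perm (Fin n)))) =
            (W ⊓ alternatingGroup (Fin n)).relIndex (alternatingGroup (Fin n)) *
            (Nat.card W * Nat.card (W ⊓ alternatingGroup (Fin n) : Subgroup (Equiv.Perm (Fin n)))) := by
          calc _ = _ := by ring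
            _ = _ := h1
            _ = _ := by ring
        exact (Nat.eq_of_mul_eq_mul_right (Nat.mul_pos hpos1 hpos2) h5).symm
      rw [h4]
      intro hdvd
      exact (Sylow.ofCard W hcard).not_dvd_index
        (hdvd.trans (Subgroup.relIndex_dvd_index_of_le le_sup_left))
    have h1 : GenT p ↥((hp0.toSylow hidx : Sylow p (alternatingGroup (Fin n))) : Subgroup (alternatingGroup (Fin n))) :=
      GenT.of_surjective
        (Subgroup.subgroupOfEquivOfLe (inf_le_right : W ⊓ alternatingGroup (Fin n) ≤ alternatingGroup (Fin n))).symm.toMonoidHom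
        (Subgroup.subgroupOfEquivOfLe (inf_le_right : W ⊓ alternatingGroup (Fin n) ≤ alternatingGroup (Fin n))).symm.surjective
        (GenT.of_gen hga)
    exact pow_mem_commutator (GenT.of_surjective (Sylow.equiv (hp0.toSylow hidx) Q).toMonoidHom
      (Sylow.equiv (hp0.toSylow hidx) Q).surjective h1)

end Cfsg.Agent.S4623
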