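import Cfsg.Statements.S2257
import Cfsg.Agent.Lib.Helper19.Solz.SolA
import Cfsg.Agent.Lib.Helper19.Solz.SolB
import Cfsg.Agent.Lib.Helper19.Solz.SolC
import Cfsg.Agent.Lib.Helper19.Solz.Conc1
import Cfsg.Agent.Lib.Helper19.Solz.Conc2

set_option autoImplicit false
open Cfsg

namespace Cfsg.Agent.S2257

/-- Let G = PSL_2(F) with F a field of order q = 2^p, p prime, and for x ∈ G call the solubilizer of x the set of y ∈ G such that x and y generate a solvable subgroup. Then the solubilizer of an involution has 3q(q − 1) elements; that of a non-identity element of order dividing q − 1 has 2q(q − 1) elements; and that of a non-identity element of order dividing q + 1 has 2(q + 1) elements. -/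
theorem result (p : ℕ) (hp : p.Prime) {F : Type*} [Field F] [Fintype F]
    (hF : Fintype.card F = 2 ^ p) (x : Matrix.ProjectiveSpecialLinearGroup (Fin 2) F) :
    (orderOf x = 2 → Nat.card {y : Matrix.ProjectiveSpecialLinearGroup (Fin 2) F // Group.IsSolvable ↥(Subgroup.closure ({x, y} : Set (Matrix.ProjectiveSpecialLinearGroup (Fin 2) F)))} = 3 * 2 ^ p * (2 ^ p - 1)) ∧
    (x ≠ 1 → orderOf x ∣ 2 ^ p - 1 → Nat.card {y : Matrix.ProjectiveSpecialLinearGroup (Fin 2) F // Group.IsSolvable ↥(Subgroup.closure ({x, y} : Set (Matrix.ProjectiveSpecialLinearGroup (Fin 2) F)))} = 2 * 2 ^ p * (2 ^ p - 1)) ∧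
    (x ≠ 1 → orderOf x ∣ 2 ^ p + 1 → Nat.card {y : Matrix.ProjectiveSpecialLinearGroup (Fin 2) F // Group.IsSolvable ↥(Subgroup.closure ({x, y} : Set (Matrix.ProjectiveSpecialLinearGroup (Fin 2) F)))} = 2 * (2 ^ p + 1)) := by
  obtain ⟨Ω, _, h⟩ := Cfsg.Agent.Lib.Helper19.Solz.exists_S3 p hp hF
  have m := Cfsg.Agent.Lib.Helper19.Solz.maxH p hp hF
  refine ⟨fun hx => ?_, fun hx1 hx => ?_, fun hx1 hx => ?_⟩
  · have hx2 : x ^ 2 = 1 := by
      have h0 := pow_orderOf_eq_one x
      rwa [hx] at h0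
    have hx1 : x ≠ 1 := by
      rintro rfl
      simp at hx
    obtain ⟨c, hc, -⟩ := h.fix_invol x hx2 hx1
    rw [← h.card_invol_set x hx2 hx1 c hc]
    exact Nat.card_congr (Equiv.subtypeEquivRight (fun y => h.sol_iff_invol m x hx2 hx1 c hc y))
  · obtain ⟨a, b, hab, ha, hb⟩ := h.fix_split x hx1 hx
    rw [← h.card_split_set a b hab]
    exact Nat.card_congr (Equiv.subtypeEquivRight (fun y => h.sol_iff_split m x hx1 hx a b hab ha hb y))
  · exact h.card_sol_nonsplit m x hx1 hx

end Cfsg.Agent.S2257
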