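import Cfsg.Statements.S2277
import Cfsg.Agent.Lib.Helper38.TwoGenC

set_option autoImplicit false
open Cfsg

namespace Cfsg.Agent.S2277

/-- Let p ≥ 3 be prime and G a finite group with a Sylow p-subgroup P and a normal p-complement N (N normal, of order prime to p, with NP = G). Suppose P is generated by a subset C and also by a subset D, and that ⟨x c x⁻¹, d⟩ is a p-group for all x ∈ N, c ∈ C, d ∈ D. Then P centralizes N, so that G = N × P. -/
theorem result {G : Type*} [Group G] [Finite G] (p : ℕ) [Fact p.Prime] (hp3 : 3 ≤ p) (P : Sylow p G)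
    (N : Subgroup G) [N.Normal] (hN : (Nat.card N).Coprime p) (hNP : N ⊔ (P : Subgroup G) = ⊤)
    (C D : Set G) (hC : Subgroup.closure C = (P : Subgroup G)) (hD : Subgroup.closure D = (P : Subgroup G))
    (h : ∀ x ∈ N, ∀ c ∈ C, ∀ d ∈ D, IsPGroup p ↥(Subgroup.closure ({x * c * x⁻¹, d} : Set G))) :
    ⁅(P : Subgroup G), N⁆ = ⊥ := by
  have H : Cfsg.Agent.Lib.Helper38.TGHyp p (P : Subgroup G) N C D :=
    ⟨inferInstance, P.2, hN, hNP, hC, hD, fun x hx c hc d hd g hg => by
      obtain ⟨k, hk⟩ := h x hx c hc d hd ⟨g, hg⟩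
      exact ⟨k, congrArg Subtype.val hk⟩⟩
  rw [Subgroup.commutator_eq_bot_iff_le_centralizer]
  intro u hu
  rw [Subgroup.mem_centralizer_iff]
  intro x hx
  exact (Cfsg.Agent.Lib.Helper38.tg_main hp3 _ G (P : Subgroup G) N C D H rfl u hu x hx).symm

end Cfsg.Agent.S2277
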