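import Cfsg.Statements.S2300
import Cfsg.Agent.Lib.Helper39.GL2Char.SEven

set_option autoImplicit false
open Cfsg

namespace Cfsg.Agent.S2300

open Cfsg.Agent.Lib.Helper39

/-- Over a finite field F with q elements, q even, every irreducible complex character of SL₂ has degree 1, q − 1, q or q + 1; and when q ≥ 4 (so that these four numbers are distinct) there are exactly one irreducible character of degree 1, one of degree q, (q − 2)/2 of degree q + 1 and q/2 of degree q − 1. -/
theorem result {F : Type*} [Field F] [Fintype F] [CharP F 2] :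
    (∀ χ : Matrix.SpecialLinearGroup (Fin 2) F → ℂ, Cfsg.IsIrrCharacter (Matrix.SpecialLinearGroup (Fin 2) F) χ →
      χ 1 = 1 ∨ χ 1 = (Fintype.card F : ℂ) - 1 ∨ χ 1 = (Fintype.card F : ℂ) ∨ χ 1 = (Fintype.card F : ℂ) + 1) ∧
    (4 ≤ Fintype.card F →
      Nat.card {χ : Cfsg.IrrCharacter (Matrix.SpecialLinearGroup (Fin 2) F) // (χ : Matrix.SpecialLinearGroup (Fin 2) F → ℂ) 1 = 1} = 1 ∧
      Nat.card {χ : Cfsg.IrrCharacter (Matrix.SpecialLinearGroup (Fin 2) F) // (χ : Matrix.SpecialLinearGroup (Fin 2) F → ℂ) 1 = (Fintype.card F : ℂ)} = 1 ∧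
      Nat.card {χ : Cfsg.IrrCharacter (Matrix.SpecialLinearGroup (Fin 2) F) // (χ : Matrix.SpecialLinearGroup (Fin 2) F → ℂ) 1 = (Fintype.card F : ℂ) + 1} = (Fintype.card F - 2) / 2 ∧
      Nat.card {χ : Cfsg.IrrCharacter (Matrix.SpecialLinearGroup (Fin 2) F) // (χ : Matrix.SpecialLinearGroup (Fin 2) F → ℂ) 1 = (Fintype.card F : ℂ) - 1} = Fintype.card F / 2) := by
  classical
  have hq0 := card_F_ne_zero (F := F)
  have hq1 := card_F_ne_one (F := F)
  constructor
  · intro χ hχ
    rcases irr_SL2_even_cases hχ with rfl | rfl | ⟨α, -, rfl⟩ | ⟨-, h2⟩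
    · exact Or.inl rfl
    · exact Or.inr (Or.inr (Or.inl stS_one))
    · exact Or.inr (Or.inr (Or.inr (psS_one α)))
    · exact Or.inr (Or.inl h2)
  · intro hq
    have hq2 : (Fintype.card F : ℂ) ≠ 2 := by
      intro h
      have : Fintype.card F = 2 := by exact_mod_cast h
      omega
    have e1 : (irrSet (Matrix.SpecialLinearGroup (Fin 2) F)).filter (fun χ => χ 1 = 1)
        = {fun _ => 1} := by
      ext χ
      rw [Finset.mem_filter, mem_irrSet, Finset.mem_singleton]
      constructor
      · rintro ⟨hχ, h1⟩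
        rcases irr_SL2_even_cases hχ with h | rfl | ⟨α, -, rfl⟩ | ⟨-, h2⟩
        · exact h
        · rw [stS_one] at h1
          exact absurd h1 hq1
        · rw [psS_one] at h1
          exact absurd (by linear_combination h1) hq0
        · rw [h2] at h1
          exact absurd (by linear_combination h1) hq2
      · rintro rfl
        exact ⟨one_irr_S, rfl⟩
    have e2 : (irrSet (Matrix.SpecialLinearGroup (Fin 2) F)).filter
        (fun χ => χ 1 = (Fintype.card F : ℂ)) = {stS} := by
      ext χ
      rw [Finset.mem_filter, mem_irrSet, Finset.mem_singleton]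
      constructor
      · rintro ⟨hχ, h1⟩
        rcases irr_SL2_even_cases hχ with rfl | h | ⟨α, -, rfl⟩ | ⟨-, h2⟩
        · exact absurd h1.symm hq1
        · exact h
        · rw [psS_one] at h1
          exact absurd (by linear_combination h1 : (1 : ℂ) = 0) one_ne_zero
        · rw [h2] at h1
          exact absurd (by linear_combination -h1 : (1 : ℂ) = 0) one_ne_zero
      · rintro rfl
        exact ⟨stS_irr, stS_one⟩
    have e3 : (irrSet (Matrix.SpecialLinearGroup (Fin 2) F)).filter
        (fun χ => χ 1 = (Fintype.card F : ℂ) + 1) = setPS := by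
      ext χ
      rw [Finset.mem_filter, mem_irrSet, mem_setPS]
      constructor
      · rintro ⟨hχ, h1⟩
        rcases irr_SL2_even_cases hχ with rfl | rfl | h | ⟨-, h2⟩
        · exact absurd (by linear_combination -h1) hq0
        · rw [stS_one] at h1
          exact absurd (by linear_combination -h1 : (1 : ℂ) = 0) one_ne_zero
        · exact h
        · rw [h2] at h1
          exact absurd (by linear_combination (-1/2 : ℂ) * h1 : (1 : ℂ) = 0) one_ne_zero
      · rintro ⟨α, hne, rfl⟩
        exact ⟨(psS_irr_iff α).2 hne, psS_one α⟩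
    have e4 : (irrSet (Matrix.SpecialLinearGroup (Fin 2) F)).filter
        (fun χ => χ 1 = (Fintype.card F : ℂ) - 1) = setCS := by
      ext χ
      rw [Finset.mem_filter, mem_irrSet, mem_setCS]
      constructor
      · rintro ⟨hχ, h1⟩
        refine ⟨hχ, ?_⟩
        rcases irr_SL2_even_cases hχ with rfl | rfl | ⟨α, -, rfl⟩ | ⟨h2, -⟩
        · exact absurd (by linear_combination -h1) hq2
        · rw [stS_one] at h1
          exact absurd (by linear_combination h1 : (1 : ℂ) = 0) one_ne_zero
        · rw [psS_one] at h1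
          exact absurd (by linear_combination (1/2 : ℂ) * h1 : (1 : ℂ) = 0) one_ne_zero
        · exact h2
      · rintro ⟨hχ, h1⟩
        exact ⟨hχ, cuspidal_even hχ h1⟩
    rw [card_subtype_irr (fun χ => χ 1 = 1), card_subtype_irr (fun χ => χ 1 = (Fintype.card F : ℂ)),
      card_subtype_irr (fun χ => χ 1 = (Fintype.card F : ℂ) + 1),
      card_subtype_irr (fun χ => χ 1 = (Fintype.card F : ℂ) - 1), e1, e2, e3, e4]
    refine ⟨Finset.card_singleton _, Finset.card_singleton _, ?_, ?_⟩
    · have h := card_setPS_even (F := F)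
      omega
    · have h := card_setCS_even (F := F)
      omega

end Cfsg.Agent.S2300
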