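import Cfsg.Statements.S2347
import Cfsg.Agent.Lib.Helper39.Weil.Siegel
import Cfsg.Agent.Lib.Helper39.Weil.Sp

set_option autoImplicit false
open Cfsg

namespace Cfsg.Agent.S2347

/-- Smallest degree of a non-linear irreducible complex representation of the symplectic group Sp_{2n} over a finite field of odd order q, n ≥ 2: every irreducible complex representation of degree at least 2 has degree at least (q^n − 1)/2, and there is an irreducible complex representation of exactly that degree (a Weil representation). -/
theorem result {F : Type*} [Field F] [Fintype F] [DecidableEq F] (n : ℕ) (hn : 2 ≤ n) (hodd : Odd (Fintype.card F)) :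
    (∀ (k : ℕ) (ρ : Representation ℂ (Matrix.symplecticGroup (Fin n) F) (Fin k → ℂ)), ρ.IsIrreducible → 2 ≤ k → (Fintype.card F ^ n - 1) / 2 ≤ k) ∧
    (∃ ρ : Representation ℂ (Matrix.symplecticGroup (Fin n) F) (Fin ((Fintype.card F ^ n - 1) / 2) → ℂ), ρ.IsIrreducible) := by
  classical
  constructor
  · intro k ρ hρ hk
    have h1 : Cfsg.IsIrrCharacter (Matrix.symplecticGroup (Fin n) F) ρ.character := ⟨k, ρ, hρ, rfl⟩
    have h3 : ρ.character 1 = (k : ℂ) := by
      rw [Representation.char_one]
      simp
    have h4 := Cfsg.Agent.Lib.Helper39.Weil.sp_odd_bound n hn hodd h1 (by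
      rw [h3]
      intro h
      have : k = 1 := by exact_mod_cast h
      omega) h3
    omega
  · obtain ⟨χ₁, -, ⟨k, ρ, hρ, hc⟩, -, h1, -⟩ :=
      Cfsg.Agent.Lib.Helper39.Weil.sp_weil (F := F) n (by omega) hodd
    have h3 : ρ.character 1 = (k : ℂ) := by
      rw [Representation.char_one]
      simp
    rw [hc, h1] at h3
    have h4 : (Fintype.card F ^ n - 1) / 2 = k := by exact_mod_cast h3
    rw [h4]
    exact ⟨ρ, hρ⟩

end Cfsg.Agent.S2347
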