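import Cfsg.Statements.S2468
import Cfsg.Agent.Lib.Helper38.FpfCore
import Cfsg.Agent.Lib.Helper38.FpfGlue
import Cfsg.Agent.Lib.Helper38.FpfNT

set_option autoImplicit false
open Cfsg

namespace Cfsg.Agent.S2468

theorem exists_unit_orderOf {F : Type*} [Field F] [Fintype F] (p : ℕ) [Fact p.Prime] [CharP F p]
    (d : ℕ) [NeZero d] (t : ℕ) [Fact t.Prime] (h : t ∣ Fintype.card F ^ d - 1) :
    ∃ u : (FiniteField.Extension F p d)ˣ, orderOf u = t := by
  classical
  have hK : Nat.card (FiniteField.Extension F p d) = Fintype.card F ^ d := by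
    rw [FiniteField.natCard_extension, Nat.card_eq_fintype_card]
  have : Fintype (FiniteField.Extension F p d) := Fintype.ofFinite _
  have hKu : Nat.card (FiniteField.Extension F p d)ˣ = Fintype.card F ^ d - 1 := by
    rw [Nat.card_eq_fintype_card, Fintype.card_units, ← Nat.card_eq_fintype_card, hK]
  exact exists_prime_orderOf_dvd_card' t (by rw [hKu]; exact h)

/-- Adjacency of two odd primes in the prime graph of PSL(n,q): let F be a finite field of characteristic p with q elements, n ≥ 2 with PSL(n,F) simple, and let r ≠ s be odd primes different from p dividing the order of PSL(n,F). Let k and l be the multiplicative orders of q modulo r and modulo s, and suppose 2 ≤ k ≤ l. Then PSL(n,F) has NO element of order r·s if and only if k + l > n and k does not divide l. -/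
theorem result {F : Type*} [Field F] [Fintype F] (p : ℕ) [Fact p.Prime] [CharP F p] (n : ℕ) (hn : 2 ≤ n) (hsmall : n = 2 → 4 ≤ Fintype.card F)
    (r s : ℕ) (hr : r.Prime) (hs : s.Prime) (hr2 : r ≠ 2) (hs2 : s ≠ 2) (hrp : r ≠ p) (hsp : s ≠ p) (hrs : r ≠ s)
    (hrG : r ∣ Nat.card (Matrix.ProjectiveSpecialLinearGroup (Fin n) F)) (hsG : s ∣ Nat.card (Matrix.ProjectiveSpecialLinearGroup (Fin n) F))
    (k l : ℕ) (hk : k = orderOf ((Fintype.card F : ℕ) : ZMod r)) (hl : l = orderOf ((Fintype.card F : ℕ) : ZMod s))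
    (h2k : 2 ≤ k) (hkl : k ≤ l) :
    (r * s ∉ Set.range (orderOf : Matrix.ProjectiveSpecialLinearGroup (Fin n) F → ℕ)) ↔ (n < k + l ∧ ¬ k ∣ l) := by
  classical
  have : Fact r.Prime := ⟨hr⟩
  have : Fact s.Prime := ⟨hs⟩
  have hpp : p.Prime := Fact.out
  set q := Fintype.card F with hq
  have hq2 : 2 ≤ q := Fintype.one_lt_card
  have hnotdvd : ∀ t : ℕ, t.Prime → t ≠ p → ¬ t ∣ q := by
    intro t ht htp h
    obtain ⟨⟨f, hf0⟩, -, hf⟩ := FiniteField.card F p
    rw [hq, hf] at h
    exact htp ((Nat.prime_dvd_prime_iff_eq ht hpp).1 (ht.dvd_of_dvd_pow h))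
  have hrq := hnotdvd r hr hrp
  have hsq := hnotdvd s hs hsp
  have hr1 : ¬ r ∣ q - 1 := by
    intro h
    have h1 : r ∣ q ^ 1 - 1 := by rwa [pow_one]
    rw [Cfsg.Agent.Lib.Helper38.Homo.dvd_pow_sub_one_iff (by omega), ← hk, Nat.dvd_one] at h1
    omega
  have hs1 : ¬ s ∣ q - 1 := by
    intro h
    have h1 : s ∣ q ^ 1 - 1 := by rwa [pow_one]
    rw [Cfsg.Agent.Lib.Helper38.Homo.dvd_pow_sub_one_iff (by omega), ← hl, Nat.dvd_one] at h1
    omega
  have hcop : Nat.Coprime (q - 1) (r * s) :=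
    Nat.Coprime.mul_right ((Nat.coprime_comm.1 ((Nat.Prime.coprime_iff_not_dvd hr).2 hr1)))
      ((Nat.coprime_comm.1 ((Nat.Prime.coprime_iff_not_dvd hs).2 hs1)))
  have hcrs : Nat.Coprime r s := (Nat.coprime_primes hr hs).2 hrs
  have hZ : ∀ z ∈ Subgroup.center (Matrix.SpecialLinearGroup (Fin n) F), z ^ (q - 1) = 1 :=
    fun z hz => Cfsg.Agent.Lib.Helper38.Fpf.center_pow_card_sub_one z hz
  constructor
  · intro hno
    by_contra hcon
    apply hno
    have hex : ∃ x : Matrix.SpecialLinearGroup (Fin n) F, orderOf x = r * s := by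
      have hcase : k + l ≤ n ∨ k ∣ l := by
        by_contra h
        push Not at h
        exact hcon ⟨by omega, h.2⟩
      have : NeZero k := ⟨by omega⟩
      have : NeZero l := ⟨by omega⟩
      have hrk : r ∣ q ^ k - 1 :=
        (Cfsg.Agent.Lib.Helper38.Homo.dvd_pow_sub_one_iff (by omega) k).2 (by rw [hk])
      have hsl : s ∣ q ^ l - 1 :=
        (Cfsg.Agent.Lib.Helper38.Homo.dvd_pow_sub_one_iff (by omega) l).2 (by rw [hl])
      obtain ⟨u2, hu2⟩ := exists_unit_orderOf (F := F) p l s hsl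
      rcases hcase with hc | hc
      · obtain ⟨u1, hu1⟩ := exists_unit_orderOf (F := F) p k r hrk
        apply Cfsg.Agent.Lib.Helper38.Fpf.exists_SL_orderOf
          (FiniteField.Extension F p k × FiniteField.Extension F p l) n
          (by rw [Module.finrank_prod, FiniteField.finrank_extension,
            FiniteField.finrank_extension]; exact hc)
          (MulEquiv.prodUnits.symm (u1, u2)) (r * s) _ hcop
        rw [MulEquiv.orderOf_eq, Prod.orderOf_mk, hu1, hu2]
        exact hcrs.lcm_eq_mul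
      · have hrl : r ∣ q ^ l - 1 :=
          (Cfsg.Agent.Lib.Helper38.Homo.dvd_pow_sub_one_iff (by omega) l).2 (by rw [← hk]; exact hc)
        obtain ⟨u1, hu1⟩ := exists_unit_orderOf (F := F) p l r hrl
        have hln : l ≤ n := by
          rw [hl]
          apply Cfsg.Agent.Lib.Helper38.Fpf.orderOf_le_of_dvd_card_GL s n hsq
          have : Nonempty (Fin n) := ⟨⟨0, by omega⟩⟩
          rw [Cfsg.Agent.Lib.Helper5.card_GL_eq_card_SL_mul_card_units]
          exact Dvd.dvd.mul_right (dvd_trans hsG (Subgroup.card_quotient_dvd_card _)) _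
        apply Cfsg.Agent.Lib.Helper38.Fpf.exists_SL_orderOf
          (FiniteField.Extension F p l) n
          (by rw [FiniteField.finrank_extension]; exact hln)
          (u1 * u2) (r * s) _ hcop
        rw [(Commute.all u1 u2).orderOf_mul_eq_mul_orderOf_of_coprime (by rw [hu1, hu2]; exact hcrs),
          hu1, hu2]
    obtain ⟨x, hx⟩ := hex
    exact ⟨(x : Matrix.SpecialLinearGroup (Fin n) F ⧸ Subgroup.center _),
      Cfsg.Agent.Lib.Helper38.Fpf.orderOf_mk_of_coprime _ (q - 1) (r * s) hZ hcop x hx⟩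
  · rintro ⟨h1, h2⟩ ⟨x, hx⟩
    obtain ⟨y, hyx, hy⟩ := Cfsg.Agent.Lib.Helper38.Fpf.exists_lift_pow_eq_one
      (Subgroup.center (Matrix.SpecialLinearGroup (Fin n) F)) (q - 1) (r * s) hZ hcop x
      (by rw [← hx]; exact pow_orderOf_eq_one x)
    have hne : ∀ j : ℕ, ¬ r * s ∣ j → y ^ j ≠ 1 := by
      intro j hj h
      apply hj
      rw [← hx]
      apply orderOf_dvd_of_pow_eq_one
      rw [← hyx, ← QuotientGroup.mk_pow, h]
      rfl
    have hys : y ^ s ≠ 1 := by
      apply hne
      intro h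
      have := Nat.le_of_dvd hs.pos h
      have := hr.two_le
      have := hs.pos
      nlinarith
    have hyr : y ^ r ≠ 1 := by
      apply hne
      intro h
      have := Nat.le_of_dvd hr.pos h
      have := hs.two_le
      have := hr.pos
      nlinarith
    apply Cfsg.Agent.Lib.Helper38.Fpf.core_two (F := F) (V := Fin n → F) r s
      (Cfsg.Agent.Lib.Helper38.Fpf.cast_ne_zero_of_ne p r hrp)
      (Cfsg.Agent.Lib.Helper38.Fpf.cast_ne_zero_of_ne p s hsp)
      (Cfsg.Agent.Lib.Helper38.Fpf.toE n (y ^ s)) (Cfsg.Agent.Lib.Helper38.Fpf.toE n (y ^ r))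
      (((Commute.refl y).pow_pow s r).map _)
      (by rw [← map_pow, ← pow_mul, mul_comm, hy, map_one])
      (by rw [← map_pow, ← pow_mul, hy, map_one])
      (fun h => hys (Cfsg.Agent.Lib.Helper38.Fpf.toE_injective n (by rw [h, map_one])))
      (fun h => hyr (Cfsg.Agent.Lib.Helper38.Fpf.toE_injective n (by rw [h, map_one])))
      k l hk hl hkl (by rw [Module.finrank_fin_fun]; exact h1) h2

end Cfsg.Agent.S2468
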