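import Cfsg.Statements.S2470
import Mathlib
import Cfsg.Agent.Lib.Helper42.PGraphL3
import Cfsg.Agent.S2475
import Cfsg.Agent.S2476

set_option autoImplicit false
open Cfsg

namespace Cfsg.Agent.S2470

open Cfsg.Agent.Lib.Helper42.SpecPSL Cfsg.Agent.Lib.Helper42.PGraphL

section aux
variable {F : Type*} [Field F] [Fintype F]

lemma p_dvd_card (p : ℕ) [Fact p.Prime] [CharP F p] : p ∣ Fintype.card F := by
  rw [← CharP.cast_eq_zero_iff F p]
  exact Nat.cast_card_eq_zero F

lemma not_dvd_sub (p : ℕ) [Fact p.Prime] [CharP F p] (i : ℕ) (hi : 1 ≤ i) :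
    ¬ p ∣ Fintype.card F ^ i - 1 :=
  (Nat.Prime.coprime_iff_not_dvd Fact.out).mp (coprime_card_pow_sub_one (F := F) p i hi)

end aux

/-- Adjacency of an odd prime and the characteristic in the prime graph of PSL(n,q): let F be a finite field of characteristic p with q elements, n ≥ 2 with PSL(n,F) simple, and let r ≠ p be an odd prime dividing the order of PSL(n,F), with k the multiplicative order of q modulo r. Then PSL(n,F) has NO element of order r·p if and only if either k > n − 2, or n = 3, r = 3 and 3 divides q − 1 exactly once. -/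
theorem result {F : Type*} [Field F] [Fintype F] (p : ℕ) [Fact p.Prime] [CharP F p] (n : ℕ) (hn : 2 ≤ n) (hsmall : n = 2 → 4 ≤ Fintype.card F)
    (r : ℕ) (hr : r.Prime) (hr2 : r ≠ 2) (hrp : r ≠ p) (hrG : r ∣ Nat.card (Matrix.ProjectiveSpecialLinearGroup (Fin n) F))
    (k : ℕ) (hk : k = orderOf ((Fintype.card F : ℕ) : ZMod r)) :
    (r * p ∉ Set.range (orderOf : Matrix.ProjectiveSpecialLinearGroup (Fin n) F → ℕ)) ↔
      (n - 2 < k ∨ (n = 3 ∧ r = 3 ∧ 3 ∣ Fintype.card F - 1 ∧ ¬ 9 ∣ Fintype.card F - 1)) := by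
  classical
  have hp : p.Prime := Fact.out
  have : Fact r.Prime := ⟨hr⟩
  set q := Fintype.card F with hq
  have hq2 : 2 ≤ q := Fintype.one_lt_card
  have hpq : p ∣ q := p_dvd_card p
  have hcop : Nat.Coprime r p := (Nat.coprime_primes hr hp).mpr hrp
  have hrq : ¬ r ∣ q := by
    intro h
    obtain ⟨f, hf⟩ : ∃ f, q = p ^ f := by
      obtain ⟨⟨f, _⟩, _, hf⟩ := FiniteField.card F p
      exact ⟨f, hf⟩
    rw [hf] at h
    exact hrp ((Nat.prime_dvd_prime_iff_eq hr hp).mp (hr.dvd_of_dvd_pow h))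
  have hq0 : ((q : ℕ) : ZMod r) ≠ 0 := by
    rw [Ne, ZMod.natCast_eq_zero_iff]
    exact hrq
  have hk1 : 1 ≤ k := by
    rw [hk]
    have : ((q : ℕ) : ZMod r) ^ (r - 1) = 1 := ZMod.pow_card_sub_one_eq_one hq0
    exact orderOf_pos_iff.mpr (isOfFinOrder_iff_pow_eq_one.mpr ⟨r - 1, by have := hr.two_le; omega, this⟩)
  have hdvd_iff : ∀ j : ℕ, r ∣ q ^ j - 1 ↔ k ∣ j := by
    intro j
    rw [hk, orderOf_dvd_iff_pow_eq_one, ← Nat.cast_pow]
    have h1 : 1 ≤ q ^ j := Nat.one_le_pow _ _ (by omega)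
    rw [← ZMod.natCast_eq_zero_iff, Nat.cast_sub h1, Nat.cast_one, sub_eq_zero]
  constructor
  · -- constructions
    intro hno
    by_contra hcon
    push Not at hcon
    obtain ⟨hkn, hexc⟩ := hcon
    apply hno
    by_cases hk2 : 2 ≤ k
    · obtain ⟨t, ht⟩ : ∃ t, n = k + 2 + t := ⟨n - 2 - k, by omega⟩
      subst ht
      have h1 : r ∣ (q ^ k - 1) / (q - 1) := by
        have h2 : r ∣ q ^ k - 1 := (hdvd_iff k).mpr dvd_rfl
        have h3 : q - 1 ∣ q ^ k - 1 := by simpa using Nat.sub_dvd_pow_sub_pow q 1 k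
        have h4 : ¬ r ∣ q - 1 := by
          intro h
          have := (hdvd_iff 1).mp (by rwa [pow_one])
          have := Nat.le_of_dvd one_pos this
          omega
        obtain ⟨M, hM⟩ := h3
        rw [hM, Nat.mul_div_cancel_left _ (by omega)]
        rw [hM] at h2
        exact (hr.dvd_mul.mp h2).resolve_left h4
      obtain ⟨S, hS, hoS⟩ := exists_sl_order (F := F) p k (by omega) r h1
      obtain ⟨g, hg⟩ := exists_with_J2 p k t S hS
      exact ⟨g, by rw [hg, hoS, hcop.lcm_eq_mul]⟩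
    have hk' : k = 1 := by omega
    have hrq1 : r ∣ q - 1 := by
      have := (hdvd_iff 1).mpr (by rw [hk'])
      rwa [pow_one] at this
    by_cases hn4 : 4 ≤ n
    · obtain ⟨t, ht⟩ : ∃ t, n = 2 + 2 + t := ⟨n - 4, by omega⟩
      subst ht
      obtain ⟨S, hS, hoS⟩ := exists_sl2_order (F := F) r hrq1
      obtain ⟨g, hg⟩ := exists_with_J2 p 2 t S hS
      exact ⟨g, by rw [hg, hoS, hcop.lcm_eq_mul]⟩
    have hn3 : n = 3 := by omega
    subst hn3
    rw [Cfsg.Agent.S2476.result p]
    right; right; right; left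
    have hd1 : Nat.gcd 3 (q - 1) ∣ q - 1 := Nat.gcd_dvd_right _ _
    rw [Nat.mul_div_assoc _ hd1, mul_comm]
    apply Nat.mul_dvd_mul_left
    by_cases hr3 : r = 3
    · subst hr3
      have h9 : 9 ∣ q - 1 := hexc rfl rfl hrq1
      have : Nat.gcd 3 (q - 1) = 3 := Nat.gcd_eq_left hrq1
      rw [this]
      obtain ⟨m, hm⟩ := h9
      rw [hm]
      exact ⟨m, by omega⟩
    · obtain ⟨m, hm⟩ := hd1
      have hd0 : 0 < Nat.gcd 3 (q - 1) := Nat.gcd_pos_of_pos_left _ (by norm_num)
      have hc3 : Nat.Coprime r (Nat.gcd 3 (q - 1)) := by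
        apply Nat.Coprime.coprime_dvd_right (Nat.gcd_dvd_left 3 (q - 1))
        exact (Nat.coprime_primes hr Nat.prime_three).mpr hr3
      have h5 : (q - 1) / Nat.gcd 3 (q - 1) = m := Nat.div_eq_of_eq_mul_right hd0 hm
      rw [h5]
      have h6 : r ∣ Nat.gcd 3 (q - 1) * m := hm ▸ hrq1
      exact hc3.dvd_of_dvd_mul_left h6
  · -- non-existence
    rintro hcond ⟨g, hg⟩
    have hoa : orderOf (g ^ r) = p := by
      rw [orderOf_pow_of_dvd hr.ne_zero (by rw [hg]; exact dvd_mul_right _ _), hg]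
      exact Nat.mul_div_cancel_left _ hr.pos
    have hob : orderOf (g ^ p) = r := by
      rw [orderOf_pow_of_dvd hp.ne_zero (by rw [hg]; exact dvd_mul_left _ _), hg]
      exact Nat.mul_div_cancel _ hp.pos
    have hab : Commute (g ^ r) (g ^ p) := (Commute.refl g).pow_pow _ _
    by_cases hk2 : 2 ≤ k
    · have h1 := psl_core p (g ^ r) (g ^ p) hoa r hrp hob hab (by rw [← hq, ← hk]; exact hk2)
      rw [← hq, ← hk] at h1
      rcases hcond with h | ⟨-, h3, h4, -⟩
      · omega
      · have := (hdvd_iff 1).mp (by rw [pow_one, h3]; exact h4)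
        have := Nat.le_of_dvd one_pos this
        omega
    have hk' : k = 1 := by omega
    have hmem : r * p ∈ Set.range (orderOf : Matrix.ProjectiveSpecialLinearGroup (Fin n) F → ℕ) :=
      ⟨g, hg⟩
    have hpd : ∀ N : ℕ, r * p ∣ N → p ∣ N := fun N h => (dvd_mul_left p r).trans h
    have hnq1 : ¬ p ∣ q - 1 := by
      have := not_dvd_sub (F := F) p 1 le_rfl
      rwa [pow_one] at this
    rcases hcond with h | ⟨h3, hr3, h4, h9⟩
    · have hn2 : n = 2 := by omega
      subst hn2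
      rw [Cfsg.Agent.S2475.result p (hsmall rfl)] at hmem
      rcases hmem with h | h | h
      · have := Nat.le_of_dvd hp.pos h
        have h2 := hr.two_le
        nlinarith [hp.pos]
      · exact hnq1 ((hpd _ h).trans (Nat.div_dvd_of_dvd (Nat.gcd_dvd_right _ _)))
      · have h5 : p ∣ q + 1 := by
          have h6 : Nat.gcd 2 (q - 1) ∣ q + 1 := by
            have : q + 1 = (q - 1) + 2 := by omega
            rw [this]
            exact Nat.dvd_add (Nat.gcd_dvd_right _ _) (Nat.gcd_dvd_left _ _)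
          exact (hpd _ h).trans (Nat.div_dvd_of_dvd h6)
        have := (Nat.dvd_add_right hpq).mp h5
        exact hp.one_lt.ne' (Nat.dvd_one.mp this)
    · subst h3
      rw [Cfsg.Agent.S2476.result p] at hmem
      have hd : Nat.gcd 3 (q - 1) = 3 := Nat.gcd_eq_left h4
      have hd1 : Nat.gcd 3 (q - 1) ∣ q - 1 := Nat.gcd_dvd_right _ _
      rcases hmem with h | h | h | h | ⟨h2, h⟩
      · have h5 : p ∣ q ^ 2 + q + 1 := by
          have h6 : Nat.gcd 3 (q - 1) ∣ q ^ 2 + q + 1 := by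
            obtain ⟨t, ht⟩ : ∃ t, q = t + 1 := ⟨q - 1, by omega⟩
            rw [ht]
            simp only [Nat.add_sub_cancel]
            have : (t + 1) ^ 2 + (t + 1) + 1 = 3 + (t + 3) * t := by ring
            rw [this]
            exact Nat.dvd_add (Nat.gcd_dvd_left _ _) ((Nat.gcd_dvd_right _ _).mul_left _)
          exact (hpd _ h).trans (Nat.div_dvd_of_dvd h6)
        have h7 : p ∣ q ^ 2 + q := Nat.dvd_add (hpq.trans (dvd_pow_self _ (by norm_num))) hpq
        have := (Nat.dvd_add_right h7).mp h5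
        exact hp.one_lt.ne' (Nat.dvd_one.mp this)
      · have h6 : Nat.gcd 3 (q - 1) ∣ q ^ 2 - 1 :=
          hd1.trans (by simpa using Nat.sub_dvd_pow_sub_pow q 1 2)
        exact not_dvd_sub (F := F) p 2 (by norm_num) ((hpd _ h).trans (Nat.div_dvd_of_dvd h6))
      · exact hnq1 (hpd _ h)
      · rw [Nat.mul_div_assoc _ hd1, mul_comm r p, hd, hr3] at h
        have h5 := Nat.dvd_of_mul_dvd_mul_left hp.pos h
        apply h9
        obtain ⟨m, hm⟩ := h5
        obtain ⟨m', hm'⟩ := h4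
        exact ⟨m, by omega⟩
      · rw [hr3, h2] at h
        revert h
        decide

end Cfsg.Agent.S2470
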