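import Cfsg.Statements.S2474
import Mathlib
import Cfsg.Agent.Lib.Helper42.SpecO13
import Cfsg.Agent.Lib.Helper42.SpecO14

set_option autoImplicit false
open Cfsg

namespace Cfsg.Agent.S2474

open Cfsg.Agent.Lib.Helper42.SpecO Cfsg.Agent.Lib.Helper42.SpecPSp

lemma exists_eta (k : ℕ) : ∃ η, (Odd k ∧ η = k) ∨ (Even k ∧ 2 * η = k) := by
  rcases Nat.even_or_odd k with h | h
  · obtain ⟨c, hc⟩ := h
    exact ⟨c, Or.inr ⟨⟨c, hc⟩, by omega⟩⟩
  · exact ⟨k, Or.inl ⟨h, rfl⟩⟩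

/-- For q odd and n ≥ 3 the simple groups PΩ(2n+1,q) and PSp(2n,q) (which have the same order but different sets of element orders) have the same prime graph: for all distinct primes r, s, one of them has an element of order r·s if and only if the other does. -/
theorem result {F : Type*} [Field F] [Fintype F] (hodd : Odd (Fintype.card F)) (n : ℕ) (hn : 3 ≤ n) (r s : ℕ) (hr : r.Prime) (hs : s.Prime) (hrs : r ≠ s) :
    (r * s ∈ Set.range (orderOf : Cfsg.POmega F (Cfsg.quadFormOdd n F) → ℕ)) ↔ (r * s ∈ Set.range (orderOf : Cfsg.PSp n F → ℕ)) := by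
  obtain ⟨p, hchar⟩ := CharP.exists F
  have hp : p.Prime := (CharP.char_is_prime_or_zero F p).resolve_right (CharP.char_ne_zero_of_finite F p)
  have : Fact p.Prime := ⟨hp⟩
  obtain ⟨f, hf⟩ : ∃ f, Fintype.card F = p ^ f := by
    obtain ⟨⟨f, _⟩, _, hf⟩ := FiniteField.card F p
    exact ⟨f, hf⟩
  have hp2 : p ≠ 2 := by
    rintro rfl
    rw [hf] at hodd
    have hf0 : f ≠ 0 := by
      rintro rfl
      have := Fintype.one_lt_card (α := F)
      rw [hf] at this
      simp at this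
    exact absurd hodd (by rw [Nat.not_odd_iff_even]; exact (Nat.even_pow.mpr ⟨even_two, hf0⟩))
  have h2 : (2 : F) ≠ 0 := two_ne_zero_of_char p hp2
  -- the four cases
  have caseC : (2 * p ∈ Set.range (orderOf : Cfsg.POmega F (Cfsg.quadFormOdd n F) → ℕ)) ↔
      (2 * p ∈ Set.range (orderOf : Cfsg.PSp n F → ℕ)) := by
    rw [pomega_iff h2 n (by omega)]
    exact ⟨fun _ => psp_C p hp2 n (by omega), fun _ => omega_C p h2 hp2 hodd n (by omega)⟩
  have caseD : ∀ r : ℕ, r.Prime → r ≠ 2 → r ≠ p →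
      ((2 * r ∈ Set.range (orderOf : Cfsg.POmega F (Cfsg.quadFormOdd n F) → ℕ)) ↔
      (2 * r ∈ Set.range (orderOf : Cfsg.PSp n F → ℕ))) := by
    intro r hr hr2 hrp
    obtain ⟨η, hη⟩ := exists_eta (orderOf ((Fintype.card F : ℕ) : ZMod r))
    rw [pomega_iff h2 n (by omega), omega_D p h2 hodd n (by omega) r hr hr2 hrp η hη,
      psp_D p hp2 n (by omega) r hr hr2 hrp η hη]
  have caseB : ∀ r : ℕ, r.Prime → r ≠ 2 → r ≠ p →
      ((r * p ∈ Set.range (orderOf : Cfsg.POmega F (Cfsg.quadFormOdd n F) → ℕ)) ↔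
      (r * p ∈ Set.range (orderOf : Cfsg.PSp n F → ℕ))) := by
    intro r hr hr2 hrp
    obtain ⟨η, hη⟩ := exists_eta (orderOf ((Fintype.card F : ℕ) : ZMod r))
    rw [pomega_iff h2 n (by omega), omega_B p h2 hp2 n r hr hr2 hrp η hη,
      psp_B p n hn r hr hr2 hrp η hη]
  have caseA : ∀ r s : ℕ, r.Prime → s.Prime → r ≠ 2 → s ≠ 2 → r ≠ p → s ≠ p → r ≠ s →
      ((r * s ∈ Set.range (orderOf : Cfsg.POmega F (Cfsg.quadFormOdd n F) → ℕ)) ↔
      (r * s ∈ Set.range (orderOf : Cfsg.PSp n F → ℕ))) := by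
    intro r s hr hs hr2 hs2 hrp hsp hrs
    obtain ⟨ηk, hηk⟩ := exists_eta (orderOf ((Fintype.card F : ℕ) : ZMod r))
    obtain ⟨ηl, hηl⟩ := exists_eta (orderOf ((Fintype.card F : ℕ) : ZMod s))
    rcases le_total ηk ηl with hkl | hkl
    · rw [pomega_iff h2 n (by omega),
        omega_A p h2 n r s hr hs hr2 hs2 hrp hsp hrs _ _ ηk ηl rfl rfl hηk hηl hkl,
        psp_A p n hn r s hr hs hr2 hs2 hrp hsp hrs _ _ ηk ηl rfl rfl hηk hηl hkl]
    · rw [mul_comm r s, pomega_iff h2 n (by omega),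
        omega_A p h2 n s r hs hr hs2 hr2 hsp hrp hrs.symm _ _ ηl ηk rfl rfl hηl hηk hkl,
        psp_A p n hn s r hs hr hs2 hr2 hsp hrp hrs.symm _ _ ηl ηk rfl rfl hηl hηk hkl]
  by_cases hr2 : r = 2
  · subst hr2
    by_cases hsp : s = p
    · subst hsp; exact caseC
    · exact caseD s hs hrs.symm hsp
  by_cases hs2 : s = 2
  · subst hs2
    rw [mul_comm]
    by_cases hrp : r = p
    · subst hrp; exact caseC
    · exact caseD r hr hr2 hrp
  by_cases hrp : r = p
  · subst hrp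
    rw [mul_comm]
    exact caseB s hs hs2 hrs.symm
  by_cases hsp : s = p
  · subst hsp
    exact caseB r hr hr2 hrp
  exact caseA r s hr hs hr2 hs2 hrp hsp hrs

end Cfsg.Agent.S2474
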