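import Cfsg.Statements.S2477
import Mathlib

set_option autoImplicit false
open Cfsg

namespace Cfsg.Agent.S2477

/-- the list of element orders -/
def spec : List ℕ := [1, 2, 3, 4, 5, 6, 7, 8, 9, 10, 12, 15, 21]

/-- exhaustive search over all ways of adding parts `≥ 2` with total at most `budget`;
`par` records whether `sum + card` of the parts chosen so far is odd, `l` is their lcm. -/
def check : ℕ → ℕ → Bool → ℕ → Bool
  | 0, _, _, _ => false
  | fuel + 1, budget, par, l =>
    (par || decide (l ∈ spec)) &&
      (List.range (budget + 1)).all
        (fun a => decide (a < 2) || check fuel (budget - a) (xor par (decide (a % 2 = 0))) (Nat.lcm l a))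

theorem check_sound : ∀ (fuel budget : ℕ) (par : Bool) (l : ℕ), check fuel budget par l = true →
    ∀ m : Multiset ℕ, (∀ a ∈ m, 2 ≤ a) → m.sum ≤ budget →
      (xor par (decide ((m.sum + Multiset.card m) % 2 = 1)) = false) → Nat.lcm l m.lcm ∈ spec := by
  intro fuel
  induction fuel with
  | zero => intro budget par l h; simp [check] at h
  | succ fuel ih =>
    intro budget par l h m hm hsum hpar
    rw [check, Bool.and_eq_true] at h
    obtain ⟨h1, h2⟩ := h
    rcases Multiset.empty_or_exists_mem m with rfl | ⟨a, ha⟩
    · simp at hpar
      subst hpar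
      simpa using h1
    · obtain ⟨t, rfl⟩ := Multiset.exists_cons_of_mem ha
      rw [Multiset.sum_cons] at hsum
      rw [List.all_eq_true] at h2
      have h3 := h2 a (List.mem_range.2 (by omega))
      have ha2 : 2 ≤ a := hm a ha
      have h4 : check fuel (budget - a) (xor par (decide (a % 2 = 0))) (Nat.lcm l a) = true := by
        rcases Bool.or_eq_true_iff.1 h3 with h | h
        · simp at h; omega
        · exact h
      have := ih (budget - a) _ _ h4 t (fun b hb => hm b (Multiset.mem_cons_of_mem hb)) (by omega) (by
        rw [Multiset.sum_cons, Multiset.card_cons] at hpar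
        rcases Nat.mod_two_eq_zero_or_one a with h0 | h0 <;>
        rcases Nat.mod_two_eq_zero_or_one (t.sum + Multiset.card t) with h5 | h5 <;>
        cases par <;> simp_all <;> omega)
      rw [Multiset.lcm_cons]
      rw [Nat.lcm_assoc] at this
      exact this

theorem check_true : check 7 10 false 1 = true := by decide

theorem exists_of_type (m : Multiset ℕ) (h1 : m.sum ≤ 10) (h2 : ∀ a ∈ m, 2 ≤ a)
    (h3 : Even (m.sum + Multiset.card m)) :
    m.lcm ∈ Set.range (orderOf : alternatingGroup (Fin 10) → ℕ) := by
  obtain ⟨g, hg⟩ := (Equiv.Perm.exists_with_cycleType_iff (α := Fin 10) (m := m)).2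
      ⟨by simpa using h1, h2⟩
  have hsign : Equiv.Perm.sign g = 1 := by
    rw [Equiv.Perm.sign_of_cycleType, hg]
    exact h3.neg_one_pow
  refine ⟨⟨g, Equiv.Perm.mem_alternatingGroup.2 hsign⟩, ?_⟩
  rw [Subgroup.orderOf_mk, ← Equiv.Perm.lcm_cycleType, hg]

/-- The set of element orders of the alternating group of degree 10 is {1, 2, 3, 4, 5, 6, 7, 8, 9, 10, 12, 15, 21}. -/
theorem result : Set.range (orderOf : alternatingGroup (Fin 10) → ℕ) = {1, 2, 3, 4, 5, 6, 7, 8, 9, 10, 12, 15, 21} := by
  apply Set.Subset.antisymm
  · rintro _ ⟨⟨σ, hσ⟩, rfl⟩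
    rw [Subgroup.orderOf_mk]
    have hsum := σ.sum_cycleType_le
    rw [Fintype.card_fin] at hsum
    have hsign : Equiv.Perm.sign σ = 1 := Equiv.Perm.mem_alternatingGroup.1 hσ
    rw [Equiv.Perm.sign_of_cycleType] at hsign
    have heven : Even (σ.cycleType.sum + Multiset.card σ.cycleType) := by
      by_contra hne
      rw [Nat.not_even_iff_odd] at hne
      rw [hne.neg_one_pow] at hsign
      exact absurd hsign (by decide)
    have := check_sound 7 10 false 1 check_true σ.cycleType
      (fun x hx => Equiv.Perm.two_le_of_mem_cycleType hx) hsum (by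
        have := Nat.even_iff.1 heven
        simp [this])
    rw [Nat.lcm_one_left, Equiv.Perm.lcm_cycleType] at this
    simpa [spec] using this
  · intro x hx
    simp only [Set.mem_insert_iff, Set.mem_singleton_iff] at hx
    rcases hx with rfl | rfl | rfl | rfl | rfl | rfl | rfl | rfl | rfl | rfl | rfl | rfl | rfl
    · exact exists_of_type 0 (by decide) (by decide) (by decide)
    · exact exists_of_type {2, 2} (by decide) (by decide) (by decide)
    · exact exists_of_type {3} (by decide) (by decide) (by decide)
    · exact exists_of_type {4, 2} (by decide) (by decide) (by decide)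
    · exact exists_of_type {5} (by decide) (by decide) (by decide)
    · exact exists_of_type {3, 2, 2} (by decide) (by decide) (by decide)
    · exact exists_of_type {7} (by decide) (by decide) (by decide)
    · exact exists_of_type {8, 2} (by decide) (by decide) (by decide)
    · exact exists_of_type {9} (by decide) (by decide) (by decide)
    · exact exists_of_type {5, 2, 2} (by decide) (by decide) (by decide)
    · exact exists_of_type {4, 3, 2} (by decide) (by decide) (by decide)
    · exact exists_of_type {5, 3} (by decide) (by decide) (by decide)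
    · exact exists_of_type {7, 3} (by decide) (by decide) (by decide)

end Cfsg.Agent.S2477
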