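import Cfsg.Statements.S2495
import Mathlib
import Cfsg.Agent.S2904
import Cfsg.Agent.S2513
import Cfsg.Agent.Lib.Helper42.Singer

set_option autoImplicit false
open Cfsg

namespace Cfsg.Agent.S2495

section nt

theorem gcd_dvd_of_lt {k Q : ℕ} (hk : 0 < k) (hQ : 0 < Q)
    (h : padicValNat 2 Q < padicValNat 2 (2 * k)) : Nat.gcd (2 * k) Q ∣ k := by
  have h1 : padicValNat 2 (2 * k) = padicValNat 2 k + 1 := by
    rw [padicValNat.mul (by norm_num) hk.ne']; simp [add_comm]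
  obtain ⟨s, u, hu, rfl⟩ := Nat.exists_eq_two_pow_mul_odd hQ.ne'
  have h2 : padicValNat 2 (2 ^ s * u) = s := by
    have hu0 : u ≠ 0 := by rintro rfl; simp at hu
    rw [padicValNat.mul (by positivity) hu0, padicValNat.prime_pow,
      padicValNat.eq_zero_of_not_dvd hu.not_two_dvd_nat, add_zero]
  rw [h2, h1] at h
  have h3 : 2 ^ s ∣ k := (padicValNat_dvd_iff_le hk.ne').2 (by omega)
  obtain ⟨k', rfl⟩ := h3
  have h4 : Nat.gcd (2 * (2 ^ s * k')) (2 ^ s * u) ∣ (2 ^ s * k') * u := by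
    have : (2 ^ s * k') * u = (2 ^ s * u) * k' := by ring
    rw [this]
    exact (Nat.gcd_dvd_right _ _).mul_right _
  have h5 : Nat.gcd (2 * (2 ^ s * k')) (2 ^ s * u) ∣ (2 ^ s * k') * 2 := by
    rw [mul_comm (2 ^ s * k') 2]
    exact Nat.gcd_dvd_left _ _
  have h6 := Nat.dvd_gcd h4 h5
  rw [Nat.gcd_mul_left, (Nat.coprime_two_right.2 hu : Nat.gcd u 2 = 1), mul_one] at h6
  exact h6

theorem lt_of_gcd_dvd {k Q : ℕ} (hk : 0 < k) (hQ : 0 < Q) (h : Nat.gcd (2 * k) Q ∣ k) :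
    padicValNat 2 Q < padicValNat 2 (2 * k) := by
  by_contra hcon
  push Not at hcon
  have h1 : padicValNat 2 (2 * k) = padicValNat 2 k + 1 := by
    rw [padicValNat.mul (by norm_num) hk.ne']; simp [add_comm]
  have h2 : 2 ^ (padicValNat 2 (2 * k)) ∣ 2 * k := pow_padicValNat_dvd
  have h3 : 2 ^ (padicValNat 2 (2 * k)) ∣ Q := (padicValNat_dvd_iff_le hQ.ne').2 hcon
  have h4 : 2 ^ (padicValNat 2 (2 * k)) ∣ k := (Nat.dvd_gcd h2 h3).trans h
  have h5 := (padicValNat_dvd_iff_le hk.ne').1 h4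
  omega

theorem geom_mul (q k : ℕ) (hq : 1 ≤ q) :
    (∑ i ∈ Finset.range k, q ^ i) * (q - 1) + 1 = q ^ k := by
  induction k with
  | zero => simp
  | succ k ih =>
    rw [Finset.sum_range_succ, add_mul, add_right_comm, ih, pow_succ]
    obtain ⟨c, rfl⟩ : ∃ c, q = c + 1 := ⟨q - 1, by omega⟩
    simp only [Nat.add_sub_cancel]
    ring

theorem geom_modEq (q k : ℕ) (hq : 1 ≤ q) :
    (∑ i ∈ Finset.range k, q ^ i) ≡ k [MOD (q - 1)] := by
  rw [← ZMod.natCast_eq_natCast_iff]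
  have h1 : ((q : ℕ) : ZMod (q - 1)) = 1 := by
    have : ((q - 1 : ℕ) : ZMod (q - 1)) = 0 := ZMod.natCast_self _
    rw [Nat.cast_sub hq] at this
    simpa [sub_eq_zero] using this
  push_cast
  simp [h1]

theorem big_modEq (q k : ℕ) (hq : 1 ≤ q) :
    (q ^ k + 1) * (∑ i ∈ Finset.range k, q ^ i) ≡ 2 * k [MOD (q - 1)] := by
  have h1 : q ≡ 1 [MOD (q - 1)] := by
    have : q = 1 + (q - 1) := by omega
    conv_lhs => rw [this]
    simp [Nat.ModEq]
  have h2 : q ^ k + 1 ≡ 2 [MOD (q - 1)] := by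
    have := (h1.pow k).add_right 1
    simpa using this
  exact h2.mul (geom_modEq q k hq)

theorem big_mul (q k : ℕ) (hq : 1 ≤ q) :
    ((q ^ k + 1) * (∑ i ∈ Finset.range k, q ^ i)) * (q - 1) = q ^ (2 * k) - 1 := by
  have h := geom_mul q k hq
  have h2 : (∑ i ∈ Finset.range k, q ^ i) * (q - 1) = q ^ k - 1 := by omega
  rw [mul_assoc, h2]
  have h3 : 1 ≤ q ^ k := Nat.one_le_pow _ _ hq
  obtain ⟨c, hc⟩ : ∃ c, q ^ k = c + 1 := ⟨q ^ k - 1, by omega⟩
  rw [two_mul, pow_add, hc]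
  simp only [Nat.add_sub_cancel]
  have : (c + 1) * (c + 1) = (c + 1 + 1) * c + 1 := by ring
  rw [this, Nat.add_sub_cancel]

end nt

open Matrix Matrix.SpecialLinearGroup in
/-- Let q be an odd prime power, n ≥ 4 even, and L = PSL(n,q). Then L has an element of order q^(n/2) + 1 if and only if the 2-part of n exceeds the 2-part of q − 1. -/
theorem result {F : Type*} [Field F] [Fintype F] {q : ℕ} (hF : Fintype.card F = q) (hodd : Odd q)
    {n : ℕ} (hn : 4 ≤ n) (heven : Even n) :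
    (∃ g : Matrix.ProjectiveSpecialLinearGroup (Fin n) F, orderOf g = q ^ (n / 2) + 1) ↔
      padicValNat 2 (q - 1) < padicValNat 2 n := by
  obtain ⟨k, rfl⟩ : ∃ k, n = 2 * k := by
    obtain ⟨k, hk⟩ := heven
    exact ⟨k, by omega⟩
  have hk : 2 ≤ k := by omega
  have hnk : 2 * k / 2 = k := by omega
  rw [hnk]
  have hq3 : 3 ≤ q := by
    have h1 : 1 < q := hF ▸ Fintype.one_lt_card
    obtain ⟨c, hc⟩ := hodd
    omega
  set M := ∑ i ∈ Finset.range k, q ^ i with hM
  set N := (q ^ k + 1) * M with hN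
  set d := Nat.gcd (2 * k) (q - 1) with hd
  have hNq : N * (q - 1) = q ^ (2 * k) - 1 := big_mul q k (by omega)
  have hdiv : (q ^ (2 * k) - 1) / (q - 1) = N := Nat.div_eq_of_eq_mul_left (by omega) hNq.symm
  have hdM : d ∣ M ↔ d ∣ k := (geom_modEq q k (by omega)).dvd_iff (Nat.gcd_dvd_right _ _)
  have hdN : d ∣ N :=
    ((big_modEq q k (by omega)).dvd_iff (Nat.gcd_dvd_right _ _)).2 (Nat.gcd_dvd_left _ _)
  have hdpos : 0 < d := Nat.gcd_pos_of_pos_left _ (by omega)
  have hcenter : ∀ g : SpecialLinearGroup (Fin (2 * k)) F,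
      g ∈ Subgroup.center (SpecialLinearGroup (Fin (2 * k)) F) →
      ∃ μ : F, μ ^ d = 1 ∧ (g : Matrix (Fin (2 * k)) (Fin (2 * k)) F) = scalar (Fin (2 * k)) μ := by
    intro g hg
    obtain ⟨μ, hμ, hμg⟩ := mem_center_iff.1 hg
    rw [Fintype.card_fin] at hμ
    have hμ0 : μ ≠ 0 := by
      rintro rfl
      rw [zero_pow (by omega)] at hμ
      exact zero_ne_one hμ
    have hμ2 : μ ^ (q - 1) = 1 := by
      rw [← hF]; exact FiniteField.pow_card_sub_one_eq_one μ hμ0
    exact ⟨μ, pow_gcd_eq_one.2 ⟨hμ, hμ2⟩, hμg.symm⟩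
  constructor
  · rintro ⟨gbar, hgbar⟩
    obtain ⟨g, rfl⟩ := QuotientGroup.mk_surjective gbar
    obtain ⟨r, hr, hrdvd, hrmin⟩ := Cfsg.Agent.S2904.result q (2 * k) (by omega) (by omega)
      (by rintro ⟨h, _⟩; omega) (by rintro ⟨h, _⟩; omega)
    have : Fact r.Prime := ⟨hr⟩
    set m := q ^ k + 1 with hm
    have hqk : 1 ≤ q ^ k := Nat.one_le_pow _ _ (by omega)
    have hrm : r ∣ m := by
      have h1 : q ^ (2 * k) - 1 = (q ^ k - 1) * (q ^ k + 1) := by
        obtain ⟨c, hc⟩ : ∃ c, q ^ k = c + 1 := ⟨q ^ k - 1, by omega⟩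
        rw [two_mul, pow_add, hc]
        simp only [Nat.add_sub_cancel]
        have : (c + 1) * (c + 1) = c * (c + 1 + 1) + 1 := by ring
        rw [this, Nat.add_sub_cancel]
      rw [h1] at hrdvd
      exact (hr.dvd_mul.1 hrdvd).resolve_left (hrmin k (by omega) (by omega))
    obtain ⟨m', hm'⟩ := hrm
    have hm'pos : 0 < m' := by
      rcases Nat.eq_zero_or_pos m' with h | h
      · rw [h, mul_zero] at hm'; omega
      · exact h
    have hgm : g ^ m ∈ Subgroup.center (SpecialLinearGroup (Fin (2 * k)) F) := by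
      rw [← QuotientGroup.eq_one_iff, QuotientGroup.mk_pow, ← hgbar]
      exact pow_orderOf_eq_one _
    obtain ⟨μ, hμ, hμg⟩ := hcenter _ hgm
    have hμq : μ ^ (q - 1) = 1 := by
      obtain ⟨e, he⟩ := Nat.gcd_dvd_right (2 * k) (q - 1)
      rw [he, pow_mul, hμ, one_pow]
    set x : Matrix (Fin (2 * k)) (Fin (2 * k)) F :=
      (g : Matrix (Fin (2 * k)) (Fin (2 * k)) F) ^ (m' * (q - 1)) with hx
    have hxr : x ^ r = 1 := by
      have h1 : m' * (q - 1) * r = m * (q - 1) := by rw [hm']; ring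
      rw [hx, ← pow_mul, h1, pow_mul, ← coe_pow, hμg, ← map_pow, hμq, map_one]
    have hx1 : x ≠ 1 := by
      intro hx'
      have h5 : g ^ (m' * (q - 1)) = 1 := Subtype.ext (by rw [coe_pow]; exact hx')
      have h6 : (QuotientGroup.mk g : ProjectiveSpecialLinearGroup (Fin (2 * k)) F) ^ (m' * (q - 1)) = 1 := by
        rw [← QuotientGroup.mk_pow, h5]; rfl
      have h7 : m ∣ m' * (q - 1) := hgbar ▸ orderOf_dvd_of_pow_eq_one h6
      rw [hm', mul_comm r m'] at h7
      have h8 : r ∣ q - 1 := Nat.dvd_of_mul_dvd_mul_left hm'pos h7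
      exact hrmin 1 one_pos (by omega) (by simpa using h8)
    have hord : orderOf ((Fintype.card F : ℕ) : ZMod r) = 2 * k := by
      rw [hF, orderOf_eq_iff (by omega)]
      constructor
      · have h1 := (ZMod.natCast_eq_zero_iff (q ^ (2 * k) - 1) r).2 hrdvd
        rw [Nat.cast_sub (Nat.one_le_pow _ _ (by omega))] at h1
        push_cast at h1
        exact sub_eq_zero.1 h1
      · intro j hj hj0 hcon
        apply hrmin j hj0 hj
        rw [← ZMod.natCast_eq_zero_iff, Nat.cast_sub (Nat.one_le_pow _ _ (by omega))]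
        push_cast
        rw [hcon, sub_self]
    have hcomm : Commute (g : Matrix (Fin (2 * k)) (Fin (2 * k)) F) x := (Commute.refl _).pow_right _
    obtain ⟨hA, -⟩ := Cfsg.Agent.Lib.Helper42.matrix_ppd x r hxr hx1 hord (by omega) _ hcomm
    have hgN : (g : Matrix (Fin (2 * k)) (Fin (2 * k)) F) ^ N = 1 := by
      have h1 := hA g.2
      rwa [hF, hdiv] at h1
    obtain ⟨N', hN'⟩ := hdN
    obtain ⟨-, hB⟩ := Cfsg.Agent.Lib.Helper42.matrix_ppd x r hxr hx1 hord (by omega) _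
      (hcomm.pow_left N')
    have hwq : ((g : Matrix (Fin (2 * k)) (Fin (2 * k)) F) ^ N') ^ (Fintype.card F) =
        (g : Matrix (Fin (2 * k)) (Fin (2 * k)) F) ^ N' := by
      have h1 : ((g : Matrix (Fin (2 * k)) (Fin (2 * k)) F) ^ N') ^ (q - 1) = 1 := by
        obtain ⟨e, he⟩ := Nat.gcd_dvd_right (2 * k) (q - 1)
        rw [← pow_mul, he, ← mul_assoc, mul_comm N' _, ← hd, ← hN', pow_mul, hgN, one_pow]
      rw [hF]
      conv_lhs => rw [show q = (q - 1) + 1 by omega, pow_succ, h1, one_mul]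
    obtain ⟨a, ha⟩ := hB hwq
    have hcen : g ^ N' ∈ Subgroup.center (SpecialLinearGroup (Fin (2 * k)) F) := by
      rw [mem_center_iff]
      refine ⟨a, ?_, by rw [coe_pow, ha]⟩
      have h1 := (g ^ N').2
      rw [coe_pow, ha] at h1
      simpa using h1
    have h9 : (QuotientGroup.mk g : ProjectiveSpecialLinearGroup (Fin (2 * k)) F) ^ N' = 1 := by
      rw [← QuotientGroup.mk_pow]
      exact (QuotientGroup.eq_one_iff _).2 hcen
    have h10 : m ∣ N' := hgbar ▸ orderOf_dvd_of_pow_eq_one h9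
    obtain ⟨e, he⟩ := h10
    have h11 : m * M = m * (d * e) := by
      rw [← hN, hN', he]; ring
    have hdM' : d ∣ M := ⟨e, Nat.eq_of_mul_eq_mul_left (by omega) h11⟩
    exact lt_of_gcd_dvd (by omega) (by omega) (hdM.1 hdM')
  · intro hlt
    have hdk : d ∣ k := gcd_dvd_of_lt (by omega) (by omega) hlt
    obtain ⟨c, hc⟩ := hdM.2 hdk
    obtain ⟨p, hp⟩ := CharP.exists F
    have : Fact p.Prime := ⟨CharP.char_is_prime F p⟩
    obtain ⟨A, hA⟩ := Cfsg.Agent.S2513.exists_singer (F := F) p (2 * k) (2 * k) (by omega) le_rfl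
    rw [Nat.card_eq_fintype_card, hF] at hA
    have hqn : 1 < q ^ (2 * k) := Nat.one_lt_pow (by omega) (by omega)
    have hApow : A ^ (q ^ (2 * k) - 1) = 1 := by rw [← hA]; exact pow_orderOf_eq_one A
    have hdetA : A.det ≠ 0 := by
      intro h0
      have h1 := congrArg Matrix.det hApow
      rw [Matrix.det_pow, h0, zero_pow (by omega), Matrix.det_one] at h1
      exact zero_ne_one h1
    have hdet1 : (A ^ (q - 1)).det = 1 := by
      rw [Matrix.det_pow, ← hF]; exact FiniteField.pow_card_sub_one_eq_one _ hdetA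
    set g0 : SpecialLinearGroup (Fin (2 * k)) F := ⟨A ^ (q - 1), hdet1⟩ with hg0
    have hord0 : orderOf g0 = N := by
      rw [← orderOf_injective coeMonoidHom coeMonoidHom_injective g0]
      change orderOf (A ^ (q - 1)) = N
      rw [orderOf_pow_of_dvd (by omega) (by rw [hA, ← hNq]; exact dvd_mul_left _ _), hA, hdiv]
    set m0 := orderOf (QuotientGroup.mk g0 : ProjectiveSpecialLinearGroup (Fin (2 * k)) F) with hm0
    have hm0pos : 0 < m0 := orderOf_pos _
    have h1 : g0 ^ m0 ∈ Subgroup.center (SpecialLinearGroup (Fin (2 * k)) F) := by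
      rw [← QuotientGroup.eq_one_iff, QuotientGroup.mk_pow]
      exact pow_orderOf_eq_one _
    obtain ⟨μ, hμ, hμg⟩ := hcenter _ h1
    have h2 : g0 ^ (m0 * d) = 1 := by
      rw [pow_mul]
      apply Subtype.ext
      rw [coe_pow, hμg, ← map_pow, hμ, map_one]
      rfl
    have h3 : N ∣ m0 * d := hord0 ▸ orderOf_dvd_of_pow_eq_one h2
    have h4 : (q ^ k + 1) ∣ m0 := by
      have h5 : (q ^ k + 1) * c * d ∣ m0 * d := by
        convert h3 using 1
        rw [hN, hc]; ring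
      exact dvd_of_mul_right_dvd (Nat.dvd_of_mul_dvd_mul_right hdpos h5)
    refine ⟨(QuotientGroup.mk g0 : ProjectiveSpecialLinearGroup (Fin (2 * k)) F) ^ (m0 / (q ^ k + 1)), ?_⟩
    have h6 : m0 / (q ^ k + 1) ≠ 0 := by
      have := Nat.div_pos (Nat.le_of_dvd hm0pos h4) (by omega : 0 < q ^ k + 1)
      omega
    rw [orderOf_pow_of_dvd h6 (Nat.div_dvd_of_dvd h4), ← hm0, Nat.div_div_self h4 hm0pos.ne']

end Cfsg.Agent.S2495
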