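import Cfsg.Statements.S2496
import Mathlib
import Cfsg.Agent.Lib.Helper42.PGraphU4
import Cfsg.Agent.Lib.Helper42.PGraphU5
import Cfsg.Agent.Lib.Helper42.SpecPSU10
import Cfsg.Agent.S2904

set_option autoImplicit false
open Cfsg

namespace Cfsg.Agent.S2496

open Cfsg.Agent.Lib.Helper13 Cfsg.Agent.Lib.Helper39.SUDeg
open Cfsg.Agent.Lib.Helper42.PGraphU Cfsg.Agent.Lib.Helper42.SpecPSU

lemma dvd_sub_one_iff (q r j : ℕ) (hq : 1 ≤ q) : r ∣ q ^ j - 1 ↔ ((q : ℕ) : ZMod r) ^ j = 1 := by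
  have h1 : 1 ≤ q ^ j := Nat.one_le_pow _ _ hq
  rw [← ZMod.natCast_eq_zero_iff, Nat.cast_sub h1, Nat.cast_one, sub_eq_zero, Nat.cast_pow]

lemma dvd_add_one_iff (q r j : ℕ) : r ∣ q ^ j + 1 ↔ ((q : ℕ) : ZMod r) ^ j = -1 := by
  rw [← ZMod.natCast_eq_zero_iff]
  push_cast
  exact add_eq_zero_iff_eq_neg

lemma ppd_facts (q m r : ℕ) (hr : r.Prime) (hq : Odd q) (hm : 2 ≤ m)
    (h : (Even m ∧ r ∣ q ^ (2 * m) - 1 ∧ ∀ k, 0 < k → k < 2 * m → ¬ r ∣ q ^ k - 1) ∨
      (Odd m ∧ r ∣ q ^ m - 1 ∧ ∀ k, 0 < k → k < m → ¬ r ∣ q ^ k - 1)) :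
    orderOf (((q ^ 2 : ℕ) : ℕ) : ZMod r) = m ∧ ¬ r ∣ q ^ 2 - 1 ∧ (∀ d, Odd d → ¬ r ∣ q ^ d + 1) ∧
      ¬ r ∣ q ∧ r ∣ (if Even m then q ^ m + 1 else q ^ m - 1) := by
  have : Fact r.Prime := ⟨hr⟩
  have hq1 : 1 ≤ q := hq.pos
  set x : ZMod r := ((q : ℕ) : ZMod r) with hx
  have hcast : (((q ^ 2 : ℕ) : ℕ) : ZMod r) = x ^ 2 := by push_cast; rfl
  rw [hcast]
  simp only [dvd_sub_one_iff q r _ hq1, dvd_add_one_iff q r, ← hx] at h ⊢
  have key : orderOf (x ^ 2) = m ∧ (∀ d, Odd d → ¬ x ^ d = -1) ∧ x ^ (2 * m) = 1 ∧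
      r ∣ (if Even m then q ^ m + 1 else q ^ m - 1) := by
    rcases h with ⟨he, h1, h2⟩ | ⟨ho, h1, h2⟩
    · have hord : orderOf (x ^ 2) = m := by
        rw [orderOf_eq_iff (by omega)]
        refine ⟨by rw [← pow_mul]; exact h1, ?_⟩
        intro j hj hj0
        rw [← pow_mul]
        exact h2 (2 * j) (by omega) (by omega)
      refine ⟨hord, ?_, h1, ?_⟩
      · intro d hd hxd
        have h3 : m ∣ d := by
          rw [← hord, orderOf_dvd_iff_pow_eq_one, ← pow_mul, mul_comm, pow_mul, hxd]; simp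
        obtain ⟨c, hc⟩ := h3
        rw [hc] at hd
        exact (Nat.not_even_iff_odd.mpr (Nat.odd_mul.mp hd).1) he
      · rw [if_pos he, dvd_add_one_iff, ← hx]
        have h3 : x ^ m * x ^ m = 1 := by rw [← pow_add, ← two_mul]; exact h1
        rcases mul_self_eq_one_iff.mp h3 with h4 | h4
        · exact absurd h4 (h2 m (by omega) (by omega))
        · exact h4
    · have hord : orderOf (x ^ 2) = m := by
        rw [orderOf_eq_iff (by omega)]
        refine ⟨by rw [← pow_mul, mul_comm, pow_mul, h1, one_pow], ?_⟩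
        intro j hj hj0 hxj
        rw [← pow_mul] at hxj
        have h3 := pow_gcd_eq_one.mpr ⟨hxj, h1⟩
        have h4 : Nat.gcd (2 * j) m = Nat.gcd j m :=
          Nat.Coprime.gcd_mul_left_cancel j (Nat.coprime_two_left.mpr ho)
        rw [h4] at h3
        exact h2 _ (Nat.gcd_pos_of_pos_left _ hj0) (lt_of_le_of_lt (Nat.gcd_le_left _ hj0) hj) h3
      refine ⟨hord, ?_, by rw [mul_comm, pow_mul, h1, one_pow], ?_⟩
      · intro d hd hxd
        have h3 : m ∣ d := by
          rw [← hord, orderOf_dvd_iff_pow_eq_one, ← pow_mul, mul_comm, pow_mul, hxd]; simp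
        obtain ⟨c, hc⟩ := h3
        rw [hc, pow_mul, h1, one_pow] at hxd
        have h4 : ((2 : ℕ) : ZMod r) = 0 := by
          push_cast
          linear_combination hxd
        rw [ZMod.natCast_eq_zero_iff] at h4
        have hr2 : r = 2 := (Nat.prime_dvd_prime_iff_eq hr Nat.prime_two).mp h4
        apply h2 1 one_pos (by omega)
        rw [← dvd_sub_one_iff q r 1 hq1, pow_one, hr2]
        obtain ⟨c', hc'⟩ := hq
        exact ⟨c', by omega⟩
      · rw [if_neg (Nat.not_even_iff_odd.mpr ho), dvd_sub_one_iff q r _ hq1]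
        exact h1
  obtain ⟨hord, htype, hx2m, hN⟩ := key
  refine ⟨hord, ?_, htype, ?_, hN⟩
  · intro h3
    have h4 : orderOf (x ^ 2) = 1 := orderOf_eq_one_iff.mpr h3
    omega
  · intro h3
    have h4 : x = 0 := (ZMod.natCast_eq_zero_iff _ _).mpr h3
    rw [h4, zero_pow (by omega)] at hx2m
    exact zero_ne_one hx2m

/-- Let q be an odd prime power, n ≥ 4 even, and U = PSU(n,q) (realised over the field with q² elements). Then U has an element of order q^(n/2) + (−1)^(n/2) — that is, q^(n/2) + 1 when n/2 is even and q^(n/2) − 1 when n/2 is odd — if and only if the 2-part of n exceeds the 2-part of q + 1. -/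
theorem result {F : Type*} [Field F] [Fintype F] {q : ℕ} (hF : Fintype.card F = q ^ 2) (hodd : Odd q)
    {n : ℕ} (hn : 4 ≤ n) (heven : Even n) :
    (∃ g : Cfsg.PSU n F q, orderOf g = if Even (n / 2) then q ^ (n / 2) + 1 else q ^ (n / 2) - 1) ↔
      padicValNat 2 (q + 1) < padicValNat 2 n := by
  classical
  obtain ⟨m, hm⟩ : ∃ m, n = 2 * m := by
    obtain ⟨m, hm⟩ := heven
    exact ⟨m, by omega⟩
  have hm2 : 2 ≤ m := by omega
  have hnm : n / 2 = m := by omega
  rw [hnm]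
  have hq2 : 2 ≤ q := two_le_of_card_sq hF
  obtain ⟨p, k, hp, hchar, hqp⟩ := exists_char_pow hF
  have : Fact p.Prime := ⟨hp⟩
  set N := (if Even m then q ^ m + 1 else q ^ m - 1) with hN
  set N' := (if Even m then q ^ m - 1 else q ^ m + 1) with hN'
  have hqm : 4 ≤ q ^ m := by
    calc 4 = 2 ^ 2 := by norm_num
      _ ≤ q ^ 2 := Nat.pow_le_pow_left hq2 2
      _ ≤ q ^ m := Nat.pow_le_pow_right (by omega) hm2
  have hNN : N * N' = q ^ (2 * m) - 1 := by
    obtain ⟨t, ht⟩ : ∃ t, q ^ m = t + 1 := ⟨q ^ m - 1, by omega⟩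
    have h1 : q ^ (2 * m) = (t + 1) * (t + 1) := by rw [two_mul, pow_add, ht]
    rw [hN, hN', h1, ht]
    split_ifs
    · simp only [Nat.add_sub_cancel]
      have : (t + 1) * (t + 1) = (t + 1 + 1) * t + 1 := by ring
      rw [this, Nat.add_sub_cancel]
    · simp only [Nat.add_sub_cancel]
      have : (t + 1) * (t + 1) = t * (t + 1 + 1) + 1 := by ring
      rw [this, Nat.add_sub_cancel]
  have hN'Z : (N' : ℤ) = (q : ℤ) ^ m - (-1) ^ m := by
    rw [hN']
    split_ifs with he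
    · rw [he.neg_one_pow, Nat.cast_sub (by omega)]; push_cast; ring
    · rw [(Nat.not_even_iff_odd.mp he).neg_one_pow]; push_cast; ring
  obtain ⟨R, hR⟩ : (q + 1) ∣ N' := by
    rw [← Int.natCast_dvd_natCast, hN'Z]
    have h1 := geom_sum₂_mul (q : ℤ) (-1) m
    rw [sub_neg_eq_add] at h1
    rw [← h1]
    push_cast
    exact dvd_mul_left _ _
  have hRZ : (R : ℤ) * ((q : ℤ) + 1) = (q : ℤ) ^ m - (-1) ^ m := by
    rw [← hN'Z, hR]; push_cast; ring
  have hMU : MU q n = N * R := by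
    have h1 := MU_mul q n (by omega)
    have h2 : AA q n = q ^ (2 * m) - 1 := by
      rw [AA, if_pos heven, hm]
    rw [h2, ← hNN, hR] at h1
    have h3 : (q + 1) * MU q n = (q + 1) * (N * R) := by rw [h1]; ring
    exact Nat.eq_of_mul_eq_mul_left (by omega) h3
  have hNU : NU q n = (N * R) / Nat.gcd (N * R) (q + 1) := by rw [NU, hMU]
  have hNpos : 0 < N := by
    rw [hN]; split_ifs <;> omega
  have hN2 : 2 ∣ N := by
    have h1 : Odd (q ^ m) := hodd.pow
    obtain ⟨c, hc⟩ := h1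
    rw [hN]
    split_ifs
    · exact ⟨c + 1, by omega⟩
    · exact ⟨c, by omega⟩
  have hNgcd : Nat.gcd N (q + 1) ∣ 2 := by
    set d := Nat.gcd N (q + 1) with hd
    have h1 : d ∣ q + 1 := Nat.gcd_dvd_right _ _
    have h2 : d ∣ N := Nat.gcd_dvd_left _ _
    have hq' : ((q : ℕ) : ZMod d) = -1 := by
      have := (ZMod.natCast_eq_zero_iff (q + 1) d).mpr h1
      push_cast at this
      exact eq_neg_of_add_eq_zero_left this
    rw [← ZMod.natCast_eq_zero_iff] at h2 ⊢
    rw [hN] at h2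
    split_ifs at h2 with he
    · push_cast at h2
      rw [hq', he.neg_one_pow] at h2
      push_cast
      linear_combination h2
    · rw [Nat.cast_sub (by omega)] at h2
      push_cast at h2
      rw [hq', (Nat.not_even_iff_odd.mp he).neg_one_pow] at h2
      push_cast
      linear_combination -h2
  have hkey := key q m N R (by omega) hN2 hNpos hNgcd (fun D hD => R_mod q m R D hD hRZ)
  rw [← hNU, ← hm] at hkey
  rw [← hkey]
  constructor
  · rintro ⟨g, hg⟩
    obtain ⟨x, rfl⟩ := QuotientGroup.mk_surjective g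
    obtain ⟨r, hr, hfacts⟩ : ∃ r : ℕ, r.Prime ∧
        ((Even m ∧ r ∣ q ^ (2 * m) - 1 ∧ ∀ k, 0 < k → k < 2 * m → ¬ r ∣ q ^ k - 1) ∨
        (Odd m ∧ r ∣ q ^ m - 1 ∧ ∀ k, 0 < k → k < m → ¬ r ∣ q ^ k - 1)) := by
      have hq2' : q ≠ 2 := by
        rintro rfl
        exact absurd hodd (by decide)
      rcases Nat.even_or_odd m with he | ho
      · obtain ⟨r, hr, h1, h2⟩ := Cfsg.Agent.S2904.result q (2 * m) (by omega) (by omega)
          (fun h => hq2' h.1) (fun h => by omega)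
        exact ⟨r, hr, Or.inl ⟨he, h1, h2⟩⟩
      · obtain ⟨r, hr, h1, h2⟩ := Cfsg.Agent.S2904.result q m (by omega) (by omega)
          (fun h => hq2' h.1) (fun h => by
            obtain ⟨h3, -⟩ := h
            rw [h3] at ho
            exact absurd ho (by decide))
        exact ⟨r, hr, Or.inr ⟨ho, h1, h2⟩⟩
    obtain ⟨hord, hrq, htype, hrq', hrN⟩ := ppd_facts q m r hr hodd hm2 hfacts
    have : Fact r.Prime := ⟨hr⟩
    have hrF : (r : F) ≠ 0 := by
      rw [Ne, CharP.cast_eq_zero_iff F p]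
      intro h
      have h1 : p = r := (Nat.prime_dvd_prime_iff_eq hp hr).mp h
      apply hrq'
      rw [hqp, ← h1]
      apply dvd_pow_self
      rintro rfl
      rw [pow_zero] at hqp
      omega
    have h1 := order_dvd_NU hF n m hm (by omega) r hrF (by rw [hF]; exact hrq)
      (by rw [hF]; exact hord) htype x (by rw [hg]; exact hrN) (by rw [hg]; exact hNpos)
    rw [hg] at h1
    exact h1
  · rintro ⟨c, hc⟩
    subst hm
    obtain ⟨g0, hg0⟩ := exists_torus_even hF p m (by omega)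
    have hNUpos : 0 < NU q (2 * m) := by
      rw [← hg0]
      have : Finite (Cfsg.PSU (2 * m) F q) := inferInstance
      exact orderOf_pos g0
    have hc0 : c ≠ 0 := by
      rintro rfl
      rw [mul_zero] at hc
      omega
    refine ⟨g0 ^ c, ?_⟩
    rw [orderOf_pow_of_dvd hc0 (by rw [hg0, hc]; exact dvd_mul_left _ _), hg0, hc]
    exact Nat.mul_div_cancel _ (Nat.pos_of_ne_zero hc0)

end Cfsg.Agent.S2496
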