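import Cfsg.Statements.S2507
import Mathlib
import Cfsg.Agent.Lib.Helper42.SL2Class
import Cfsg.Agent.Lib.Helper42.SL2Count
import Cfsg.Agent.Lib.Helper42.ClassSize
import Cfsg.Agent.Lib.Helper61.SL2Char2

set_option autoImplicit false
open Cfsg

namespace Cfsg.Agent.S2507

open Matrix Cfsg.Agent.Lib.Helper41 Cfsg.Agent.Lib.Helper42 Cfsg.Agent.Lib.Helper61

section
variable {F : Type*} [Field F] [Fintype F] [CharP F 2]

theorem isConj_comp_one (M : SpecialLinearGroup (Fin 2) F) (hM : M ≠ 1) :
    IsConj M (comp' 1 (Matrix.trace (M : Matrix (Fin 2) (Fin 2) F)) one_ne_zero) := by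
  have h2 : (2 : F) = 0 := two_eq_zero_F
  have hnc : ¬ ((M : Matrix (Fin 2) (Fin 2) F) = 1 ∨ (M : Matrix (Fin 2) (Fin 2) F) = -1) := by
    have hneg : (-1 : Matrix (Fin 2) (Fin 2) F) = 1 := by
      have : (1 : Matrix (Fin 2) (Fin 2) F) + 1 = 0 := by
        rw [← two_smul F (1 : Matrix (Fin 2) (Fin 2) F), h2, zero_smul]
      exact neg_eq_of_add_eq_zero_left this
    rw [hneg, or_self]
    intro h
    exact hM (Subtype.ext h)
  obtain ⟨x, y, hxy⟩ := exists_Dform_ne_zero M hnc
  obtain ⟨l, hl⟩ := FiniteField.isSquare_of_char_two (ringChar.eq F 2) (Dform M x y)⁻¹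
  apply isConj_comp' M (l * x) (l * y) 1 one_ne_zero
  rw [Dform_smul, pow_two, ← hl, inv_mul_cancel₀ hxy]

theorem class_eq (g : SpecialLinearGroup (Fin 2) F) (hg : g ≠ 1) :
    {h : SpecialLinearGroup (Fin 2) F | IsConj g h} =
      {h : SpecialLinearGroup (Fin 2) F | Matrix.trace (h : Matrix (Fin 2) (Fin 2) F) =
        Matrix.trace (g : Matrix (Fin 2) (Fin 2) F)} \ {1} := by
  ext h
  simp only [Set.mem_ofPred_eq, Set.mem_sdiff, Set.mem_singleton_iff]
  constructor
  · intro hc
    refine ⟨trace_eq_of_isConj hc, ?_⟩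
    rintro rfl
    exact hg (isConj_one_left.1 hc)
  · rintro ⟨ht, h1⟩
    have e1 := isConj_comp_one g hg
    have e2 := isConj_comp_one h h1
    rw [ht] at e2
    exact e1.trans e2.symm

omit [Fintype F] in
theorem trace_one' : Matrix.trace ((1 : SpecialLinearGroup (Fin 2) F) : Matrix (Fin 2) (Fin 2) F) = 0 := by
  have h2 : (2 : F) = 0 := two_eq_zero_F
  simp [h2]

theorem index_zero [DecidableEq F] (g : SpecialLinearGroup (Fin 2) F) (hg : g ≠ 1)
    (ht : Matrix.trace (g : Matrix (Fin 2) (Fin 2) F) = 0) :
    (Subgroup.centralizer ({g} : Set (SpecialLinearGroup (Fin 2) F))).index = Fintype.card F ^ 2 - 1 := by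
  have h2 : (2 : F) = 0 := two_eq_zero_F
  rw [index_centralizer_eq_ncard, class_eq g hg, ht, Set.ncard_sdiff_singleton_of_mem
    (show (1 : SpecialLinearGroup (Fin 2) F) ∈ {h : SpecialLinearGroup (Fin 2) F |
      Matrix.trace (h : Matrix (Fin 2) (Fin 2) F) = 0} from trace_one'),
    ncard_trace, rootCount_eq_one 0 1 (by linear_combination -h2) (by linear_combination h2)]
  have hq : 1 ≤ Fintype.card F := Fintype.card_pos
  obtain ⟨c, hc⟩ : ∃ c, Fintype.card F = c + 1 := ⟨Fintype.card F - 1, by omega⟩
  rw [hc]
  simp only [Nat.add_sub_cancel]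
  congr 1
  ring

theorem index_ne_zero [DecidableEq F] (g : SpecialLinearGroup (Fin 2) F)
    (ht : Matrix.trace (g : Matrix (Fin 2) (Fin 2) F) ≠ 0) :
    (Subgroup.centralizer ({g} : Set (SpecialLinearGroup (Fin 2) F))).index =
      Fintype.card F * (Fintype.card F - 1) +
        Fintype.card F * rootCount (Matrix.trace (g : Matrix (Fin 2) (Fin 2) F)) := by
  have hg : g ≠ 1 := by
    rintro rfl
    exact ht trace_one'
  rw [index_centralizer_eq_ncard, class_eq g hg, Set.sdiff_singleton_eq_self, ncard_trace]
  intro h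
  exact ht (h.symm.trans trace_one')

theorem rootCount_cases [DecidableEq F] (t : F) (ht : t ≠ 0) : rootCount t = 0 ∨ rootCount t = 2 := by
  have h2 : (2 : F) = 0 := two_eq_zero_F
  by_cases h : ∃ a : F, a * (t - a) = 1
  · obtain ⟨a, ha⟩ := h
    right
    apply rootCount_eq_two t a ha
    intro he
    apply ht
    linear_combination a * h2 - he
  · push Not at h
    left
    exact rootCount_eq_zero t h

end

/-- Let F be a finite field with q = 2^f ≥ 4 elements. The conjugacy class sizes of PSL(2,F) are exactly 1, q(q − 1), q² − 1 and q(q + 1). -/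
theorem result {F : Type*} [Field F] [Fintype F]
    (h2 : 2 ∣ Fintype.card F) (h4 : 4 ≤ Fintype.card F) :
    Set.range (fun g : (Matrix.ProjectiveSpecialLinearGroup (Fin 2) F) => (Subgroup.centralizer ({g} : Set (Matrix.ProjectiveSpecialLinearGroup (Fin 2) F))).index) =
      {1, Fintype.card F * (Fintype.card F - 1), Fintype.card F ^ 2 - 1, Fintype.card F * (Fintype.card F + 1)} := by
  classical
  have hchar : CharP F 2 := by
    obtain ⟨p, hp⟩ := CharP.exists F
    have hpp : Fact p.Prime := ⟨CharP.char_is_prime F p⟩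
    obtain ⟨n, hn1, hn2⟩ := FiniteField.card F p
    rw [hn2] at h2
    have : 2 = p := (Nat.prime_dvd_prime_iff_eq Nat.prime_two hn1).1 (Nat.prime_two.dvd_of_dvd_pow h2)
    rw [this]; exact hp
  have h20 : (2 : F) = 0 := two_eq_zero_F
  set q := Fintype.card F with hq
  have hrange : Set.range (fun g : (Matrix.ProjectiveSpecialLinearGroup (Fin 2) F) => (Subgroup.centralizer ({g} : Set (Matrix.ProjectiveSpecialLinearGroup (Fin 2) F))).index) =
      Set.range (fun g : SpecialLinearGroup (Fin 2) F =>
        (Subgroup.centralizer ({g} : Set (SpecialLinearGroup (Fin 2) F))).index) := by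
    ext n
    constructor
    · rintro ⟨g, rfl⟩
      obtain ⟨g', rfl⟩ := (sl2EquivPSL2 (F := F)).surjective g
      exact ⟨g', (index_centralizer_mulEquiv _ _).symm⟩
    · rintro ⟨g, rfl⟩
      exact ⟨sl2EquivPSL2 g, index_centralizer_mulEquiv _ _⟩
  rw [hrange]
  have hqq : q * (q - 1) + q * 2 = q * (q + 1) := by
    obtain ⟨c, hc⟩ : ∃ c, q = c + 1 := ⟨q - 1, by omega⟩
    rw [hc]; simp only [Nat.add_sub_cancel]; ring
  ext n
  simp only [Set.mem_range, Set.mem_insert_iff, Set.mem_singleton_iff]
  constructor
  · rintro ⟨g, rfl⟩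
    by_cases hg : g = 1
    · left
      subst hg
      rw [index_centralizer_eq_ncard]
      have : {h : SpecialLinearGroup (Fin 2) F | IsConj 1 h} = {1} := by
        ext h; simp
      rw [this, Set.ncard_singleton]
    · by_cases ht : Matrix.trace (g : Matrix (Fin 2) (Fin 2) F) = 0
      · right; right; left
        exact index_zero g hg ht
      · rw [index_ne_zero g ht]
        rcases rootCount_cases _ ht with h | h
        · right; left; rw [h, mul_zero, add_zero]
        · right; right; right; rw [h, hqq]
  · rintro (rfl | rfl | rfl | rfl)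
    · refine ⟨1, ?_⟩
      rw [index_centralizer_eq_ncard]
      have : {h : SpecialLinearGroup (Fin 2) F | IsConj 1 h} = {1} := by
        ext h; simp
      rw [this, Set.ncard_singleton]
    · -- non-split
      have hns : ¬ Function.Surjective (fun a : Fˣ => (a : F) + (a : F)⁻¹) := by
        intro hs
        have := Fintype.card_le_of_surjective _ hs
        rw [Fintype.card_units] at this
        omega
      rw [Function.Surjective] at hns
      push Not at hns
      obtain ⟨t, ht⟩ := hns
      have hroot : ∀ a : F, a * (t - a) ≠ 1 := by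
        intro a ha
        have ha0 : a ≠ 0 := by
          rintro rfl
          simp at ha
        apply ht (Units.mk0 a ha0)
        simp only [Units.val_mk0]
        field_simp
        linear_combination -ha
      have ht0 : t ≠ 0 := by
        rintro rfl
        exact hroot 1 (by linear_combination -h20)
      refine ⟨comp' 1 t one_ne_zero, ?_⟩
      rw [index_ne_zero _ (by rw [trace_comp']; exact ht0), trace_comp', rootCount_eq_zero t hroot,
        mul_zero, add_zero]
    · refine ⟨comp' 1 0 one_ne_zero, ?_⟩
      apply index_zero _ _ (trace_comp' _ _ _)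
      intro h
      have := congrFun (congrFun (congrArg Subtype.val h) 0) 0
      rw [comp'_coe] at this
      simp at this
    · -- split
      obtain ⟨a, ha0, ha1⟩ : ∃ a : F, a ≠ 0 ∧ a ≠ 1 := by
        by_contra hcon
        push Not at hcon
        have hsub : (Finset.univ : Finset F) ⊆ {0, 1} := by
          intro a _
          by_cases ha : a = 0
          · simp [ha]
          · simp [hcon a ha]
        have := Finset.card_le_card hsub
        rw [Finset.card_univ] at this
        have h3 : ({0, 1} : Finset F).card ≤ 2 := Finset.card_le_two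
        omega
      have hroot : a * ((a + a⁻¹) - a) = 1 := by
        field_simp
        ring
      have ht0 : a + a⁻¹ ≠ 0 := by
        intro h
        apply ha1
        have h5 : (a - 1) ^ 2 = 0 := by
          have : a * (a + a⁻¹) = 0 := by rw [h, mul_zero]
          rw [mul_add, mul_inv_cancel₀ ha0] at this
          linear_combination this - a * h20
        exact sub_eq_zero.1 (pow_eq_zero_iff (two_ne_zero) |>.1 h5)
      refine ⟨comp' 1 (a + a⁻¹) one_ne_zero, ?_⟩
      rw [index_ne_zero _ (by rw [trace_comp']; exact ht0), trace_comp']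
      rcases rootCount_cases _ ht0 with h | h
      · exfalso
        rw [rootCount, Finset.card_eq_zero, Finset.filter_eq_empty_iff] at h
        exact h (Finset.mem_univ a) hroot
      · rw [h, hqq]

end Cfsg.Agent.S2507
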