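import Cfsg.Statements.S2503
import Mathlib
import Cfsg.Agent.S2507
import Cfsg.Agent.S2513
import Cfsg.Agent.Lib.Helper5.LinearCard

set_option autoImplicit false
open Cfsg

namespace Cfsg.Agent.S2503

open Matrix Cfsg.Agent.Lib.Helper41 Cfsg.Agent.Lib.Helper42 Cfsg.Agent.Lib.Helper61

section
variable {F : Type*} [Field F] [Fintype F] [CharP F 2]

/-- an element of order `q + 1` -/
theorem exists_order (hq : 2 ≤ Fintype.card F) :
    ∃ M : SpecialLinearGroup (Fin 2) F, orderOf M = Fintype.card F + 1 := by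
  obtain ⟨A, hA⟩ := Cfsg.Agent.S2513.exists_singer (F := F) 2 2 2 (by omega) le_rfl
  rw [Nat.card_eq_fintype_card] at hA
  set q := Fintype.card F with hq'
  have hqq : q ^ 2 - 1 = (q + 1) * (q - 1) := by
    obtain ⟨c, hc⟩ : ∃ c, q = c + 1 := ⟨q - 1, by omega⟩
    rw [hc]; simp only [Nat.add_sub_cancel]
    have : (c + 1) ^ 2 = (c + 1 + 1) * c + 1 := by ring
    rw [this, Nat.add_sub_cancel]
  have hApow : A ^ (q ^ 2 - 1) = 1 := by rw [← hA]; exact pow_orderOf_eq_one A
  have hpos : q ^ 2 - 1 ≠ 0 := by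
    rw [hqq]; exact Nat.mul_ne_zero (by omega) (by omega)
  have hdetA : A.det ≠ 0 := by
    intro h0
    have h1 := congrArg Matrix.det hApow
    rw [Matrix.det_pow, h0, zero_pow hpos, Matrix.det_one] at h1
    exact zero_ne_one h1
  have hdet1 : (A ^ (q - 1)).det = 1 := by
    rw [Matrix.det_pow]; exact FiniteField.pow_card_sub_one_eq_one _ hdetA
  set g0 : SpecialLinearGroup (Fin 2) F := ⟨A ^ (q - 1), hdet1⟩ with hg0
  refine ⟨g0, ?_⟩
  rw [← orderOf_injective Matrix.SpecialLinearGroup.coeMonoidHom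
    Matrix.SpecialLinearGroup.coeMonoidHom_injective g0]
  change orderOf (A ^ (q - 1)) = q + 1
  rw [orderOf_pow_of_dvd (by omega) (by rw [hA, hqq]; exact dvd_mul_left _ _), hA, hqq,
    Nat.mul_div_cancel _ (by omega)]

/-- diagonal element -/
def dg (a : F) (ha : a ≠ 0) : SpecialLinearGroup (Fin 2) F :=
  ⟨!![a, 0; 0, a⁻¹], by rw [Matrix.det_fin_two_of]; simp [ha]⟩

theorem dg_pow (a : F) (ha : a ≠ 0) (k : ℕ) : (dg a ha) ^ k = dg (a ^ k) (pow_ne_zero k ha) := by
  induction k with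
  | zero =>
    rw [pow_zero]
    apply Subtype.ext
    simp [dg, Matrix.one_fin_two]
  | succ k ih =>
    rw [pow_succ, ih]
    apply Subtype.ext
    rw [Matrix.SpecialLinearGroup.coe_mul]
    simp [dg, pow_succ, mul_comm]

theorem trace_facts (hq : 4 ≤ Fintype.card F) (M : SpecialLinearGroup (Fin 2) F)
    (hM : orderOf M = Fintype.card F + 1) :
    Matrix.trace (M : Matrix (Fin 2) (Fin 2) F) ≠ 0 ∧
      ∀ a : F, a * (Matrix.trace (M : Matrix (Fin 2) (Fin 2) F) - a) ≠ 1 := by
  have h2 : (2 : F) = 0 := two_eq_zero_F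
  have hM1 : M ≠ 1 := by
    rintro rfl
    rw [orderOf_one] at hM
    omega
  have ht : Matrix.trace (M : Matrix (Fin 2) (Fin 2) F) ≠ 0 := by
    intro ht
    have h1 := sl2_sq M
    rw [Matrix.trace_fin_two] at ht
    rw [ht, zero_smul, zero_sub] at h1
    have h3 : M ^ 2 = 1 := by
      apply Subtype.ext
      rw [Matrix.SpecialLinearGroup.coe_pow, pow_two, h1]
      have : (1 : Matrix (Fin 2) (Fin 2) F) + 1 = 0 := by
        rw [← two_smul F (1 : Matrix (Fin 2) (Fin 2) F), h2, zero_smul]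
      exact neg_eq_of_add_eq_zero_left this
    have := Nat.le_of_dvd (by norm_num) (orderOf_dvd_of_pow_eq_one h3)
    omega
  refine ⟨ht, ?_⟩
  intro a ha
  have ha0 : a ≠ 0 := by
    rintro rfl
    simp at ha
  have htr : Matrix.trace (dg a ha0 : Matrix (Fin 2) (Fin 2) F) =
      Matrix.trace (M : Matrix (Fin 2) (Fin 2) F) := by
    simp only [dg, Matrix.trace_fin_two_of]
    field_simp
    linear_combination -ha
  have hd1 : dg a ha0 ≠ 1 := by
    intro h
    rw [h, Cfsg.Agent.S2507.trace_one'] at htr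
    exact ht htr.symm
  have hconj : IsConj M (dg a ha0) := by
    have : dg a ha0 ∈ {h : SpecialLinearGroup (Fin 2) F | IsConj M h} := by
      rw [Cfsg.Agent.S2507.class_eq M hM1]
      exact ⟨htr, hd1⟩
    exact this
  obtain ⟨c, hc⟩ := isConj_iff.1 hconj.symm
  have hpow : M ^ (Fintype.card F - 1) = 1 := by
    rw [← hc, conj_pow, dg_pow]
    have : dg (a ^ (Fintype.card F - 1)) (pow_ne_zero _ ha0) = 1 := by
      apply Subtype.ext
      simp [dg, FiniteField.pow_card_sub_one_eq_one a ha0, Matrix.one_fin_two]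
    rw [this]; group
  have := Nat.le_of_dvd (by omega) (orderOf_dvd_of_pow_eq_one hpow)
  omega

theorem centralizer_eq (hq : 4 ≤ Fintype.card F) (M : SpecialLinearGroup (Fin 2) F)
    (hM : orderOf M = Fintype.card F + 1) :
    Subgroup.zpowers M = Subgroup.centralizer ({M} : Set (SpecialLinearGroup (Fin 2) F)) := by
  classical
  obtain ⟨ht, hroot⟩ := trace_facts hq M hM
  have h1 := Cfsg.Agent.S2507.index_ne_zero M ht
  rw [rootCount_eq_zero _ hroot, mul_zero, add_zero] at h1
  have h2 := Subgroup.index_mul_card (Subgroup.centralizer ({M} : Set (SpecialLinearGroup (Fin 2) F)))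
  rw [h1, Cfsg.Agent.Lib.Helper5.card_SL2] at h2
  set q := Fintype.card F with hq'
  have hqq : q ^ 2 - 1 = (q - 1) * (q + 1) := by
    obtain ⟨c, hc⟩ : ∃ c, q = c + 1 := ⟨q - 1, by omega⟩
    rw [hc]; simp only [Nat.add_sub_cancel]
    have : (c + 1) ^ 2 = c * (c + 1 + 1) + 1 := by ring
    rw [this, Nat.add_sub_cancel]
  have h3 : Nat.card (Subgroup.centralizer ({M} : Set (SpecialLinearGroup (Fin 2) F))) = q + 1 := by
    rw [hqq, ← mul_assoc] at h2
    exact Nat.eq_of_mul_eq_mul_left (Nat.mul_pos (by omega) (by omega)) h2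
  apply Subgroup.eq_of_le_of_card_ge
  · rw [Subgroup.zpowers_le, Subgroup.mem_centralizer_singleton_iff]
  · rw [h3, Nat.card_zpowers, hM]

theorem aniso (M : SpecialLinearGroup (Fin 2) F)
    (hroot : ∀ a : F, a * (Matrix.trace (M : Matrix (Fin 2) (Fin 2) F) - a) ≠ 1) (x y : F)
    (h : Dform M x y = 0) : x = 0 ∧ y = 0 := by
  have hdet := sl2_det M
  rw [Matrix.trace_fin_two] at hroot
  unfold Dform at h
  have hy : y = 0 := by
    by_contra hy
    apply hroot ((M : Matrix (Fin 2) (Fin 2) F) 1 0 * (x / y) + (M : Matrix (Fin 2) (Fin 2) F) 1 1)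
    field_simp
    linear_combination (y ^ 2) * hdet - (M : Matrix (Fin 2) (Fin 2) F) 1 0 * h
  refine ⟨?_, hy⟩
  subst hy
  by_contra hx
  have hc : (M : Matrix (Fin 2) (Fin 2) F) 1 0 = 0 := by
    have : (M : Matrix (Fin 2) (Fin 2) F) 1 0 * x ^ 2 = 0 := by linear_combination h
    exact (mul_eq_zero.1 this).resolve_right (pow_ne_zero 2 hx)
  apply hroot ((M : Matrix (Fin 2) (Fin 2) F) 0 0)
  rw [hc] at hdet
  linear_combination hdet

/-- transitivity of the centraliser on a level set -/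
theorem exists_cent (M : SpecialLinearGroup (Fin 2) F)
    (hc : (M : Matrix (Fin 2) (Fin 2) F) 1 0 ≠ 0) (u1 u2 : F)
    (h : Dform M u1 u2 = (M : Matrix (Fin 2) (Fin 2) F) 1 0) :
    ∃ z ∈ Subgroup.centralizer ({M} : Set (SpecialLinearGroup (Fin 2) F)),
      (z : Matrix (Fin 2) (Fin 2) F) *ᵥ ![1, 0] = ![u1, u2] := by
  have hdet := sl2_det M
  obtain ⟨a, b, c, d, hM⟩ : ∃ a b c d : F, (M : Matrix (Fin 2) (Fin 2) F) = !![a, b; c, d] :=
    ⟨_, _, _, _, Matrix.eta_fin_two _⟩
  unfold Dform at h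
  rw [hM] at h hdet hc
  simp at h hdet hc
  let z : SpecialLinearGroup (Fin 2) F :=
    ⟨!![u1, u2 / c * b; u2, u1 - u2 / c * a + u2 / c * d], by
      rw [Matrix.det_fin_two_of]
      field_simp
      linear_combination h⟩
  refine ⟨z, ?_, ?_⟩
  · rw [Subgroup.mem_centralizer_singleton_iff]
    apply Subtype.ext
    rw [Matrix.SpecialLinearGroup.coe_mul, Matrix.SpecialLinearGroup.coe_mul, hM]
    simp only [z, Matrix.mul_fin_two]
    ext i j
    fin_cases i <;> fin_cases j <;> simp <;> field_simp <;> ring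
  · simp only [z]
    ext i
    fin_cases i <;> simp [Matrix.mulVec, dotProduct, Fin.sum_univ_two]

theorem exists_fixed_level (M g : SpecialLinearGroup (Fin 2) F) :
    ∃ x y : F, (x ≠ 0 ∨ y ≠ 0) ∧
      Dform M ((g : Matrix (Fin 2) (Fin 2) F) 0 0 * x + (g : Matrix (Fin 2) (Fin 2) F) 0 1 * y)
        ((g : Matrix (Fin 2) (Fin 2) F) 1 0 * x + (g : Matrix (Fin 2) (Fin 2) F) 1 1 * y) =
      Dform M x y := by
  have h2 : (2 : F) = 0 := two_eq_zero_F
  have hdet := sl2_det g
  set p := (g : Matrix (Fin 2) (Fin 2) F) 0 0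
  set q' := (g : Matrix (Fin 2) (Fin 2) F) 0 1
  set r := (g : Matrix (Fin 2) (Fin 2) F) 1 0
  set s := (g : Matrix (Fin 2) (Fin 2) F) 1 1
  let Q0 : F × F → F := fun v => Dform M (p * v.1 + q' * v.2) (r * v.1 + s * v.2) + Dform M v.1 v.2
  have hadd : ∀ v v' : F × F, Q0 (v + v') = Q0 v + Q0 v' := by
    rintro ⟨x, y⟩ ⟨x', y'⟩
    simp only [Q0, Dform, Prod.mk_add_mk]
    set c := (M : Matrix (Fin 2) (Fin 2) F) 1 0
    set b := (M : Matrix (Fin 2) (Fin 2) F) 0 1
    set e := (M : Matrix (Fin 2) (Fin 2) F) 1 1 - (M : Matrix (Fin 2) (Fin 2) F) 0 0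
    linear_combination (c * (p * x + q' * y) * (p * x' + q' * y') -
      b * (r * x + s * y) * (r * x' + s * y') + c * x * x' - b * y * y' +
      e * (p * r * x * x' + q' * s * y * y' + (q' * r + 1) * (x * y' + x' * y))) * h2 +
      e * (x * y' + x' * y) * hdet
  have hcard : Fintype.card F < Fintype.card (F × F) := by
    rw [Fintype.card_prod]
    have : 1 < Fintype.card F := Fintype.one_lt_card
    nlinarith
  obtain ⟨v, v', hne, heq⟩ := Fintype.exists_ne_map_eq_of_card_lt Q0 hcard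
  have h0 : Q0 (v + v') = 0 := by
    rw [hadd, heq]
    linear_combination Q0 v' * h2
  refine ⟨(v + v').1, (v + v').2, ?_, ?_⟩
  · by_contra hcon
    push Not at hcon
    apply hne
    have e1 : v.1 = v'.1 := by
      have := hcon.1
      simp only [Prod.fst_add] at this
      linear_combination this - v'.1 * h2
    have e2 : v.2 = v'.2 := by
      have := hcon.2
      simp only [Prod.snd_add] at this
      linear_combination this - v'.2 * h2
    exact Prod.ext e1 e2
  · simp only [Q0] at h0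
    linear_combination h0 - Dform M (v + v').1 (v + v').2 * h2

/-- upper unitriangular matrices -/
def up (x : F) : SpecialLinearGroup (Fin 2) F :=
  ⟨!![1, x; 0, 1], by rw [Matrix.det_fin_two_of]; simp⟩

def upHom : Multiplicative F →* SpecialLinearGroup (Fin 2) F where
  toFun x := up (Multiplicative.toAdd x)
  map_one' := by
    apply Subtype.ext
    simp [up, Matrix.one_fin_two]
  map_mul' x y := by
    apply Subtype.ext
    rw [Matrix.SpecialLinearGroup.coe_mul]
    simp [up, add_comm]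

theorem upHom_injective : Function.Injective (upHom (F := F)) := by
  intro x y h
  have h1 : up (Multiplicative.toAdd x) = up (Multiplicative.toAdd y) := h
  have := congrFun (congrFun (congrArg Subtype.val h1) 0) 1
  simpa [up] using this

theorem ABA (hq : 4 ≤ Fintype.card F) (M : SpecialLinearGroup (Fin 2) F)
    (hM : orderOf M = Fintype.card F + 1) (g : SpecialLinearGroup (Fin 2) F) :
    ∃ a ∈ Subgroup.zpowers M, ∃ x : F, ∃ c ∈ Subgroup.zpowers M, g = a * up x * c := by
  obtain ⟨ht, hroot⟩ := trace_facts hq M hM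
  rw [centralizer_eq hq M hM]
  have hc : (M : Matrix (Fin 2) (Fin 2) F) 1 0 ≠ 0 := by
    intro hc
    have := (aniso M hroot 1 0 (by unfold Dform; rw [hc]; ring)).1
    exact one_ne_zero this
  obtain ⟨x, y, hxy, hN⟩ := exists_fixed_level M g
  have hN0 : Dform M x y ≠ 0 := by
    intro h
    obtain ⟨h1, h2⟩ := aniso M hroot x y h
    rcases hxy with h | h
    · exact h h1
    · exact h h2
  obtain ⟨l, hl⟩ := FiniteField.isSquare_of_char_two (ringChar.eq F 2)
    ((M : Matrix (Fin 2) (Fin 2) F) 1 0 / Dform M x y)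
  obtain ⟨z', hz', hz'e⟩ := exists_cent M hc (l * x) (l * y) (by
    rw [Dform_smul, pow_two, ← hl]; field_simp)
  obtain ⟨z, hz, hze⟩ := exists_cent M hc
    (l * ((g : Matrix (Fin 2) (Fin 2) F) 0 0 * x + (g : Matrix (Fin 2) (Fin 2) F) 0 1 * y))
    (l * ((g : Matrix (Fin 2) (Fin 2) F) 1 0 * x + (g : Matrix (Fin 2) (Fin 2) F) 1 1 * y)) (by
    rw [Dform_smul, pow_two, ← hl, hN]; field_simp)
  have hb : ((z⁻¹ * g * z' : SpecialLinearGroup (Fin 2) F) : Matrix (Fin 2) (Fin 2) F) *ᵥ ![1, 0] =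
      ![1, 0] := by
    rw [Matrix.SpecialLinearGroup.coe_mul, Matrix.SpecialLinearGroup.coe_mul,
      ← Matrix.mulVec_mulVec, ← Matrix.mulVec_mulVec, hz'e]
    have e1 : (g : Matrix (Fin 2) (Fin 2) F) *ᵥ ![l * x, l * y] =
        (z : Matrix (Fin 2) (Fin 2) F) *ᵥ ![1, 0] := by
      rw [hze]
      ext i
      fin_cases i <;> simp [Matrix.mulVec, dotProduct, Fin.sum_univ_two] <;> ring
    rw [e1, Matrix.mulVec_mulVec, sl2_coe_inv_mul, Matrix.one_mulVec]
  set b := z⁻¹ * g * z' with hbdef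
  have hb00 : (b : Matrix (Fin 2) (Fin 2) F) 0 0 = 1 := by
    have := congrFun hb 0
    simpa [Matrix.mulVec, dotProduct, Fin.sum_univ_two] using this
  have hb10 : (b : Matrix (Fin 2) (Fin 2) F) 1 0 = 0 := by
    have := congrFun hb 1
    simpa [Matrix.mulVec, dotProduct, Fin.sum_univ_two] using this
  have hb11 : (b : Matrix (Fin 2) (Fin 2) F) 1 1 = 1 := by
    have := sl2_det b
    rw [hb00, hb10] at this
    linear_combination this
  refine ⟨z, hz, (b : Matrix (Fin 2) (Fin 2) F) 0 1, z'⁻¹, Subgroup.inv_mem _ hz', ?_⟩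
  have hbup : b = up ((b : Matrix (Fin 2) (Fin 2) F) 0 1) := by
    apply Subtype.ext
    ext i j
    fin_cases i <;> fin_cases j <;> simp [up, hb00, hb10, hb11]
  rw [← hbup, hbdef]
  group

end

/-- Let F be a finite field with q = 2^t ≥ 4 elements and L = PSL(2,F). Then L has a cyclic subgroup A of order q + 1 and an elementary abelian 2-subgroup B of order q such that L = ABA: every element of L is a product a·b·a' with a, a' ∈ A and b ∈ B. -/
theorem result {F : Type*} [Field F] [Fintype F]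
    (h2 : 2 ∣ Fintype.card F) (h4 : 4 ≤ Fintype.card F) :
    ∃ A B : Subgroup (Matrix.ProjectiveSpecialLinearGroup (Fin 2) F),
      IsCyclic A ∧ Nat.card A = Fintype.card F + 1 ∧ IsMulCommutative B ∧ (∀ b ∈ B, b * b = 1) ∧
        Nat.card B = Fintype.card F ∧
        ∀ g : Matrix.ProjectiveSpecialLinearGroup (Fin 2) F, ∃ a ∈ A, ∃ b ∈ B, ∃ c ∈ A, g = a * b * c := by
  have hchar : CharP F 2 := by
    obtain ⟨p, hp⟩ := CharP.exists F
    have hpp : Fact p.Prime := ⟨CharP.char_is_prime F p⟩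
    obtain ⟨n, hn1, hn2⟩ := FiniteField.card F p
    rw [hn2] at h2
    have : 2 = p := (Nat.prime_dvd_prime_iff_eq Nat.prime_two hn1).1 (Nat.prime_two.dvd_of_dvd_pow h2)
    rw [this]; exact hp
  have h20 : (2 : F) = 0 := two_eq_zero_F
  obtain ⟨M, hM⟩ := exists_order (F := F) (by omega)
  set e := sl2EquivPSL2 (F := F) with he
  have hinj : Function.Injective (e.toMonoidHom.comp (upHom (F := F))) :=
    e.injective.comp upHom_injective
  refine ⟨Subgroup.zpowers (e M), (e.toMonoidHom.comp (upHom (F := F))).range, inferInstance, ?_, ?_, ?_,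
    ?_, ?_⟩
  · rw [Nat.card_zpowers, MulEquiv.orderOf_eq, hM]
  · refine ⟨⟨?_⟩⟩
    rintro ⟨_, x, rfl⟩ ⟨_, y, rfl⟩
    apply Subtype.ext
    change (e.toMonoidHom.comp upHom) x * (e.toMonoidHom.comp upHom) y =
      (e.toMonoidHom.comp upHom) y * (e.toMonoidHom.comp upHom) x
    rw [← map_mul, ← map_mul, mul_comm]
  · rintro _ ⟨x, rfl⟩
    rw [← map_mul]
    have : x * x = 1 := by
      apply Multiplicative.toAdd.injective
      rw [toAdd_mul, toAdd_one]
      linear_combination (Multiplicative.toAdd x) * h20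
    rw [this, map_one]
  · rw [← Nat.card_congr (MonoidHom.ofInjective hinj).toEquiv, Nat.card_eq_fintype_card]
    exact Fintype.card_congr Multiplicative.toAdd
  · intro g
    obtain ⟨g, rfl⟩ := e.surjective g
    obtain ⟨a, ha, x, c, hc, rfl⟩ := ABA h4 M hM g
    obtain ⟨i, rfl⟩ := Subgroup.mem_zpowers_iff.1 ha
    obtain ⟨j, rfl⟩ := Subgroup.mem_zpowers_iff.1 hc
    refine ⟨e (M ^ i), ?_, e (up x), ⟨Multiplicative.ofAdd x, rfl⟩, e (M ^ j), ?_, by
      rw [map_mul, map_mul]⟩
    · rw [map_zpow]; exact Subgroup.zpow_mem_zpowers _ _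
    · rw [map_zpow]; exact Subgroup.zpow_mem_zpowers _ _

end Cfsg.Agent.S2503
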