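import Cfsg.Statements.S2518
import Cfsg.Agent.Lib.Helper27.G3PGlue
import Cfsg.Agent.S2475
import Cfsg.Agent.Lib.Helper5.LinearCard

set_option autoImplicit false
open Cfsg

namespace Cfsg.Agent.S2518

/-- Let F₃ be the field with 3 elements and F₁₃ the field with 13 elements. The Chevalley group G₂(F₃) and PSL(2, F₁₃) have the same prime graph: the same prime divisors of their orders, and for distinct primes r, s an element of order rs in one iff in the other. -/
theorem result {F : Type*} [Field F] [Fintype F] (hF : Fintype.card F = 3) {E : Type*} [Field E] [Fintype E] (hE : Fintype.card E = 13) :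
    ((∀ r : ℕ, r.Prime → (r ∣ Nat.card ↥(Cfsg.Lie.chevG2.group F) ↔ r ∣ Nat.card (Matrix.ProjectiveSpecialLinearGroup (Fin 2) E))) ∧
      (∀ r s : ℕ, r.Prime → s.Prime → r ≠ s → ((∃ x : ↥(Cfsg.Lie.chevG2.group F), orderOf x = r * s) ↔ (∃ y : (Matrix.ProjectiveSpecialLinearGroup (Fin 2) E), orderOf y = r * s)))) := by
  obtain ⟨g1, g2, g3, g4, g5⟩ := Cfsg.Agent.Lib.Helper27.G3P.facts F hF
  haveI := g1
  haveI : Fact (Nat.Prime 13) := ⟨by norm_num⟩
  haveI : CharP E 13 := charP_of_card_eq_prime hE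
  haveI : Finite (Matrix.ProjectiveSpecialLinearGroup (Fin 2) E) := by
    unfold Matrix.ProjectiveSpecialLinearGroup
    infer_instance
  have hspec := Cfsg.Agent.S2475.result (F := E) 13 (by rw [hE]; norm_num)
  rw [hE] at hspec
  have hs : ∀ d, (∃ y : Matrix.ProjectiveSpecialLinearGroup (Fin 2) E, orderOf y = d) ↔
      (d ∣ 13 ∨ d ∣ 6 ∨ d ∣ 7) := by
    intro d
    have := Set.ext_iff.1 hspec d
    exact this
  have hcard : Nat.card (Matrix.ProjectiveSpecialLinearGroup (Fin 2) E) = 1092 := by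
    have := Cfsg.Agent.Lib.Helper5.card_PSL2 (F := E)
    rw [hE] at this
    norm_num at this
    omega
  have key : ∀ (a b : ℕ) (r : ℕ), r.Prime → r ∣ 2 ^ a * 3 ^ b * 7 * 13 → r = 2 ∨ r = 3 ∨ r = 7 ∨ r = 13 := by
    intro a b r hr h
    rcases (Nat.Prime.dvd_mul hr).mp h with h | h
    · rcases (Nat.Prime.dvd_mul hr).mp h with h | h
      · rcases (Nat.Prime.dvd_mul hr).mp h with h | h
        · exact Or.inl ((Nat.prime_dvd_prime_iff_eq hr (by norm_num)).mp (hr.dvd_of_dvd_pow h))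
        · exact Or.inr (Or.inl ((Nat.prime_dvd_prime_iff_eq hr (by norm_num)).mp (hr.dvd_of_dvd_pow h)))
      · exact Or.inr (Or.inr (Or.inl ((Nat.prime_dvd_prime_iff_eq hr (by norm_num)).mp h)))
    · exact Or.inr (Or.inr (Or.inr ((Nat.prime_dvd_prime_iff_eq hr (by norm_num)).mp h)))
  have pr1 : ∀ r : ℕ, r.Prime → (r ∣ 4245696 ↔ r = 2 ∨ r = 3 ∨ r = 7 ∨ r = 13) := by
    intro r hr
    constructor
    · intro h
      exact key 6 6 r hr (by norm_num; exact h)
    · rintro (rfl | rfl | rfl | rfl) <;> norm_num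
  have pr2 : ∀ r : ℕ, r.Prime → (r ∣ 1092 ↔ r = 2 ∨ r = 3 ∨ r = 7 ∨ r = 13) := by
    intro r hr
    constructor
    · intro h
      exact key 2 1 r hr (by norm_num; exact h)
    · rintro (rfl | rfl | rfl | rfl) <;> norm_num
  have hdiv : ∀ (p : ℕ) (y : Matrix.ProjectiveSpecialLinearGroup (Fin 2) E), (p = 7 ∨ p = 13) →
      p ∣ orderOf y → orderOf y = p := by
    intro p y hp hd
    have h1 := (hs (orderOf y)).mp ⟨y, rfl⟩
    rcases h1 with h1 | h1 | h1
    · have h2 := dvd_trans hd h1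
      rcases hp with rfl | rfl
      · exact absurd h2 (by norm_num)
      · exact Nat.dvd_antisymm h1 hd
    · have h2 := dvd_trans hd h1
      rcases hp with rfl | rfl
      · exact absurd h2 (by norm_num)
      · exact absurd h2 (by norm_num)
    · have h2 := dvd_trans hd h1
      rcases hp with rfl | rfl
      · exact Nat.dvd_antisymm h1 hd
      · exact absurd h2 (by norm_num)
  refine ⟨?_, ?_⟩
  · intro r hr
    rw [g2, hcard, pr1 r hr, pr2 r hr]
  · intro r s hr hs' hrs
    rw [Cfsg.Agent.Lib.Helper27.PC.order_char (fun r hr h => (pr1 r hr).mp (g2 ▸ h)) g3 g4 g5 r s hr hs' hrs,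
      Cfsg.Agent.Lib.Helper27.PC.order_char (fun r hr h => (pr2 r hr).mp (hcard ▸ h))
        (fun y => hdiv 7 y (Or.inl rfl)) (fun y => hdiv 13 y (Or.inr rfl)) ((hs 6).mpr (by norm_num)) r s hr hs' hrs]

end Cfsg.Agent.S2518
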