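import Cfsg.Statements.S2772
import Cfsg.Agent.Lib.Helper55.Sims.TF1
import Cfsg.Agent.Lib.Helper55.Sims.TF2
import Cfsg.Agent.Lib.Helper55.Sims.Q3a
import Cfsg.Agent.Lib.Helper55.Sims.Q3b
import Cfsg.Agent.Lib.Helper55.Sims.ROW
import Cfsg.Agent.Lib.Helper55.KS.GB
import Cfsg.Agent.Lib.Helper32.Am.Inst
import Cfsg.Agent.Lib.Helper55.Ident.Main

set_option autoImplicit false
open Cfsg

namespace Cfsg.Agent.S2772

open Subgroup Cfsg.Agent.Lib.Helper47 Cfsg.Agent.Lib.Helper32.KSLocal Cfsg.Agent.Lib.Helper55.Sims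

theorem eq_bot_of_normalizer {H : Type*} [Group H] [IsSimpleGroup H] {G : Subgroup H}
    (hG : IsCoatom G) {N : Subgroup H} (hNG : N ≤ G) (h1 : G ≤ normalizer (N : Set H))
    (h2 : ¬ normalizer (N : Set H) ≤ G) : N = ⊥ := by
  have h3 : normalizer (N : Set H) = ⊤ := by
    apply hG.2
    exact lt_of_le_of_ne h1 (fun he => h2 he.ge)
  have h4 : N.Normal := normalizer_eq_top_iff.1 h3
  rcases h4.eq_bot_or_eq_top with h5 | h5
  · exact h5
  · exfalso
    apply hG.1
    rw [eq_top_iff, ← h5]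
    exact hNG

/-- Sims' Theorem in local form: let H be a finite non-abelian simple group and G a maximal subgroup of H with C_G(O₂(G)) ≤ O₂(G), such that N_H(S) is not contained in G for a Sylow 2-subgroup S of G and G/O₂(G) is dihedral of order 2q for a prime q. Then G is isomorphic to the symmetric group of degree 4 or to its direct product with a group of order 2. -/
theorem result {H : Type*} [Group H] [Finite H] [IsSimpleGroup H] (hna : ¬ IsMulCommutative H) (G : Subgroup H) (hG : IsCoatom G) (hchar : Subgroup.centralizer (Cfsg.pCore 2 ↥G : Set ↥G) ≤ Cfsg.pCore 2 ↥G) (S : Sylow 2 ↥G) (hN : ¬ Subgroup.normalizer (((S : Subgroup ↥G).map G.subtype : Subgroup H) : Set H) ≤ G) (q : ℕ) (hq : q.Prime) (hD : Nonempty (↥G ⧸ Cfsg.pCore 2 ↥G ≃* DihedralGroup q)) : Nonempty (↥G ≃* Equiv.Perm (Fin 4)) ∨ Nonempty (↥G ≃* Equiv.Perm (Fin 4) × Multiplicative (ZMod 2)) := by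
  set T : Subgroup H := (S : Subgroup ↥G).map G.subtype with hTdef
  obtain ⟨x, hxN, hxG⟩ := SetLike.not_le_iff_exists.1 hN
  have hxT : cj x T = T := cj_eq_self_of_mem_normalizer hxN
  have hTG : T ≤ G := map_subtype_le _
  have hT1 : T ≠ ⊥ := sylow_ne_bot_of_row G S q hD
  have hT2 : IsPGroup 2 T := S.isPGroup'.map _
  have hcoreX : ∀ N : Subgroup H, N ≤ T → G ≤ normalizer (N : Set H) → cj x N = N → N = ⊥ := by
    intro N hN1 hN2 hN3
    exact eq_bot_of_normalizer hG (hN1.trans hTG) hN2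
      (fun hle => hxG (hle (mem_normalizer_of_cj_eq hN3)))
  have hZ : ¬ G ≤ centralizer (omegaCenterOf T : Set H) := by
    intro hle
    apply Cfsg.Agent.Lib.Helper55.KS.OZ_ne_bot hT2 hT1
    apply hcoreX
    · exact (omegaCenterOf_le T).trans inf_le_left
    · exact hle.trans (centralizer_le_normalizer _)
    · rw [cj_omegaCenterOf, hxT]
  have hPQ : ParQ q G T := parQ_of_row G hchar S q hq hD hZ
  obtain ⟨A, hAT, hA2, hAQ, hmax⟩ := hPQ.exists_A hxT hcoreX
  obtain ⟨t, ht, htQ, ht2, htr⟩ := hPQ.transvection_of_A hAT hA2 hAQ hmax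
  obtain ⟨s, c, d, hs, hs2, hu, hc, hd, At, As, e1, e2, e3, e4⟩ := hPQ.exists_pair ht htQ ht2 htr
  have q3 : q = 3 := hPQ.eq_three_of_pair (hTG ht) ht2 hs hs2 hu hc hd At As e1 e2 e3 e4
  subst q3
  have hP : Par G T := hPQ.toPar
  have hP2 : Par (cj x G) T := by
    have := hP.conj x
    rwa [hxT] at this
  have hG1 : ¬ normalizer (G : Set H) ≤ G → False := by
    intro h0
    have := eq_bot_of_normalizer hG le_rfl le_normalizer h0
    apply hT1
    rw [eq_bot_iff, ← this]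
    exact hTG
  have hcore : ∀ N : Subgroup H, N ≤ T → G ≤ normalizer (N : Set H) →
      cj x G ≤ normalizer (N : Set H) → N = ⊥ := by
    intro N hN1 hN2 hN3
    apply eq_bot_of_normalizer hG (hN1.trans hTG) hN2
    intro hle
    apply hG1
    intro hle2
    exact hxG (hle2 (mem_normalizer_of_cj_le (hN3.trans hle)))
  have F : Cfsg.Agent.Lib.Helper32.Am.FHyp G (cj x G) T :=
    ⟨hP, hP2, inferInstance, inferInstance, hcore⟩
  rcases Cfsg.Agent.Lib.Helper55.Ident.ident F.h1 F.h2 F.hcore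
    (Cfsg.Agent.Lib.Helper32.Am.amalgamF F) with ⟨a, -⟩ | ⟨a, -⟩
  · exact Or.inl a
  · exact Or.inr a

end Cfsg.Agent.S2772
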