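import Cfsg.Statements.S2804
import Cfsg.Agent.Lib.Helper47.Subn

set_option autoImplicit false
open Cfsg

namespace Cfsg.Agent.S2804

open Subgroup Cfsg.Agent.Lib.Helper47
open scoped commutatorElement

/-- Let L be a finite group and p a prime with C_L(O_p(L)) ≤ O_p(L), V a p-reduced normal subgroup of L and K a subnormal subgroup of L. Then [V, O^p(K)] is contained in K and is a p-reduced normal subgroup of K, where O^p(K) is the subgroup of K generated by its elements of order prime to p. -/
theorem result {L : Type*} [Group L] [Finite L] {p : ℕ} [Fact p.Prime] (hchar : Subgroup.centralizer (Cfsg.pCore p L : Set L) ≤ Cfsg.pCore p L) (V : Subgroup L) (hV : Cfsg.IsPReducedNormal p V) (K : Subgroup L) (hK : K.IsSubnormal) : ⁅V, (Cfsg.pResidual p ↥K).map K.subtype⁆ ≤ K ∧ Cfsg.IsPReducedNormal p ((⁅V, (Cfsg.pResidual p ↥K).map K.subtype⁆).subgroupOf K) := by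
  have hVn : V.Normal := hV.1
  have hVel : IsElementaryAbelian p V := hV.2.1
  set K₀ := pResOf p K with hK₀
  set W := ⁅V, K₀⁆ with hW
  have hVQ : V ≤ pCore p L := le_pCore hVn (IsElementaryAbelian.isPGroup hVel)
  have hVK₀ : V ≤ normalizer (K₀ : Set L) := hVQ.trans (IsSubnormal.pCore_le_normalizer_pResOf hK)
  have hWK₀ : W ≤ K₀ := le_normalizer_iff_commutator_le_right.mp hVK₀
  have hWK : W ≤ K := hWK₀.trans (pResOf_le K)
  have hWV : W ≤ V := commutator_le_left V K₀
  refine ⟨hWK, ?_⟩
  rw [isPReducedNormal_subgroupOf_iff hWK]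
  refine ⟨hWK, ?_, IsElementaryAbelian.mono hVel hWV, ?_⟩
  · apply le_normalizer_commutator _ (le_normalizer_pResOf K)
    rw [normalizer_eq_top]; exact le_top
  · intro D hDK hKD hq
    have h1 : pResOf p D ≤ centralizer (W : Set L) := pResOf_le_of_PQuot hq
    have h2 : pResOf p D ≤ centralizer (V : Set L) := by
      rw [pResOf_eq_closure, closure_le]
      rintro a ⟨haD, ha⟩
      have haW : a ∈ centralizer (W : Set L) := h1 (mem_pResOf haD ha)
      have haK₀ : a ∈ K₀ := mem_pResOf (hDK haD) ha
      rw [SetLike.mem_coe, mem_centralizer_iff_commute]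
      apply centralizes_of_step ha ((IsElementaryAbelian.isPGroup hVel).to_le hWV)
      · intro x hx
        exact commutator_mem_commutator hx haK₀
      · exact mem_centralizer_iff_commute.mp haW
    have hDsn : D.IsSubnormal :=
      IsSubnormal.step D K hDK hK ((normal_subgroupOf_iff_le_normalizer hDK).mpr hKD)
    have h3 : D ≤ centralizer (V : Set L) :=
      IsPReducedNormal.le_centralizer_of_isSubnormal hV hDsn ((PQuot_pResOf D).mono_right h2)
    exact h3.trans (centralizer_le (by exact_mod_cast hWV))

end Cfsg.Agent.S2804
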