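import Cfsg.Statements.S2809
import Cfsg.Agent.Lib.Helper47.Coprime

set_option autoImplicit false
open Cfsg

namespace Cfsg.Agent.S2809

open Subgroup Cfsg.Agent.Lib.Helper47
open scoped commutatorElement

/-- Let H be a finite group, p a prime, R a p-subgroup of H with C_H(R) ≤ R, and L a subgroup of N_H(R) acting nilpotently on R (some iterated commutator [R, L, …, L] is trivial). Then L is a p-group. -/
theorem result {H : Type*} [Group H] [Finite H] {p : ℕ} [Fact p.Prime] (R : Subgroup H) (hR : IsPGroup p ↥R) (hC : Subgroup.centralizer (R : Set H) ≤ R) (L : Subgroup H) (hL : L ≤ Subgroup.normalizer (R : Set H)) (hnil : ∃ n : ℕ, Cfsg.iterCommutator R L n = ⊥) : IsPGroup p ↥L := by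
  obtain ⟨n, hn⟩ := hnil
  have hle : ∀ i, iterCommutator R L i ≤ R := by
    intro i
    induction i with
    | zero => exact le_rfl
    | succ i ih =>
      exact (commutator_mono ih le_rfl).trans (le_normalizer_iff_commutator_le_left.mp hL)
  apply isPGroup_of_forall_coprime
  intro a haL ha
  have key : ∀ i, i ≤ n → ∀ x ∈ iterCommutator R L (n - i), Commute x a := by
    intro i
    induction i with
    | zero =>
      intro _ x hx
      rw [Nat.sub_zero, hn, mem_bot] at hx
      rw [hx]; exact Commute.one_left a
    | succ i ih =>
      intro hi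
      have e : n - i = (n - (i + 1)) + 1 := by omega
      apply centralizes_of_step ha (hR.to_le (hle (n - i))) _ (ih (by omega))
      intro x hx
      rw [e]
      exact commutator_mem_commutator hx haL
  have h0 := key n le_rfl
  rw [Nat.sub_self] at h0
  have haC : a ∈ centralizer (R : Set H) := by
    rw [mem_centralizer_iff]
    intro x hx
    exact (h0 x hx).eq
  exact eq_one_of_mem_pGroup_of_coprime hR (hC haC) ha

end Cfsg.Agent.S2809
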