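import Cfsg.Statements.S2810
import Cfsg.Agent.Lib.Helper47.Coprime

set_option autoImplicit false
open Cfsg

namespace Cfsg.Agent.S2810

open Subgroup Cfsg.Agent.Lib.Helper47
open scoped commutatorElement

/-- Let H be a finite group of characteristic p and L a subgroup of H centralizing every factor of some H-invariant chain 1 = A₀ ≤ A₁ ≤ … ≤ Aₙ = O_p(H) of normal subgroups (that is, [A_{i+1}, L] ≤ Aᵢ for each i). Then L ≤ O_p(H). -/
theorem result {H : Type*} [Group H] [Finite H] {p : ℕ} [Fact p.Prime] (hchar : Subgroup.centralizer (Cfsg.pCore p H : Set H) ≤ Cfsg.pCore p H) (L : Subgroup H) (n : ℕ) (A : Fin (n + 1) → Subgroup H) (h0 : A 0 = ⊥) (hn : A (Fin.last n) = Cfsg.pCore p H) (hmono : Monotone A) (hnorm : ∀ i, (A i).Normal) (hcent : ∀ i : Fin n, ⁅A i.succ, L⁆ ≤ A i.castSucc) : L ≤ Cfsg.pCore p H := by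
  haveI := hnorm
  set N : Subgroup H := ⨅ i : Fin n, sectionKernel (A i.succ) (A i.castSucc) with hN
  have hLN : L ≤ N := le_iInf (fun i => commutator_le_iff_le_sectionKernel.mp (hcent i))
  have hNn : N.Normal := by
    haveI : ∀ i : Fin n, (sectionKernel (A i.succ) (A i.castSucc)).Normal :=
      fun i => sectionKernel_normal
    exact normal_iInf_normal this
  have hAp : ∀ i, IsPGroup p (A i) := by
    intro i
    have : A i ≤ pCore p H := hn ▸ hmono (Fin.le_last i)
    exact pCore_isPGroup.to_le this
  refine hLN.trans (le_pCore hNn ?_)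
  apply isPGroup_of_forall_coprime
  intro a haN ha
  have key : ∀ i : Fin (n + 1), ∀ x ∈ A i, Commute x a := by
    intro i
    induction i using Fin.induction with
    | zero =>
      intro x hx
      rw [h0, mem_bot] at hx
      rw [hx]; exact Commute.one_left a
    | succ i ih =>
      apply centralizes_of_step ha (hAp i.castSucc) _ ih
      intro x hx
      have h1 : N ≤ sectionKernel (A i.succ) (A i.castSucc) := iInf_le _ i
      exact (commutator_le_iff_le_sectionKernel.mpr h1) (commutator_mem_commutator hx haN)
  have haC : a ∈ centralizer (pCore p H : Set H) := by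
    rw [mem_centralizer_iff]
    intro x hx
    rw [← hn] at hx
    exact (key _ x hx).eq
  exact eq_one_of_mem_pGroup_of_coprime pCore_isPGroup (hchar haC) ha

end Cfsg.Agent.S2810
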