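import Cfsg.Statements.S2812
import Cfsg.Agent.Lib.Helper49.FStarComm
import Cfsg.Agent.Lib.Helper49.FStarSub
import Cfsg.Agent.Lib.Helper96.ClassPow

set_option autoImplicit false
open Cfsg

namespace Cfsg.Agent.S2812

open Subgroup Cfsg.Agent.Lib.Helper49 Cfsg.Agent.Lib.Helper62

/-- Let H be a subgroup of the finite group G with O_p(H) = 1, Y a p-subgroup of G normalizing H, and L a subgroup of the generalized Fitting subgroup F*(H) that is subnormal in H and normalized by Y. Then L = [L, Y]·C_L(Y) and [L, Y] = [L, Y, Y]. -/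
theorem result {G : Type*} [Group G] [Finite G] {p : ℕ} [Fact p.Prime] (H : Subgroup G) (hO : Cfsg.pCore p ↥H = ⊥) (Y : Subgroup G) (hY : IsPGroup p ↥Y) (hYH : Y ≤ Subgroup.normalizer (H : Set G)) (L : Subgroup G) (hLF : L ≤ (Cfsg.generalizedFittingSubgroup ↥H).map H.subtype) (hLsn : (L.subgroupOf H).IsSubnormal) (hYL : Y ≤ Subgroup.normalizer (L : Set G)) : ⁅L, Y⁆ ⊔ (L ⊓ Subgroup.centralizer (Y : Set G)) = L ∧ ⁅L, Y⁆ = ⁅⁅L, Y⁆, Y⁆ := by

  have hpp : p.Prime := Fact.out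
  have hHX : H ≤ H ⊔ Y := le_sup_left
  have hYX : Y ≤ H ⊔ Y := le_sup_right
  have hLH : L ≤ H := hLF.trans (map_subtype_le _)
  have hLX : L ≤ H ⊔ Y := hLH.trans hHX
  have hXN : H ⊔ Y ≤ normalizer (H : Set G) := sup_le le_normalizer hYH
  have s1 : SubnIn L H := (subnIn_iff hLH).mpr hLsn
  have s2 : SubnIn H (H ⊔ Y) := SubnIn.of_normal hHX hXN
  have s3 : (L.subgroupOf (H ⊔ Y)).IsSubnormal := (s1.trans s2).isSubnormal_subgroupOf
  have hF : L.subgroupOf (H ⊔ Y) ≤ generalizedFittingSubgroup ↥(H ⊔ Y) := by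
    intro x hx
    have h1 : (x : G) ∈ (generalizedFittingSubgroup ↥H).map H.subtype := hLF (mem_subgroupOf.mp hx)
    rw [genFitting_map_of_subnIn s2] at h1
    obtain ⟨z, hz, hzx⟩ := (mem_inf.mp h1).1
    have : z = x := Subtype.ext hzx
    exact this ▸ hz
  have hcop : (Nat.card ↥(fittingSubgroup ↥(H ⊔ Y) ⊓ L.subgroupOf (H ⊔ Y) : Subgroup ↥(H ⊔ Y))).Coprime p := by
    have h0 := Cfsg.Agent.Lib.Helper96.card_fittingSubgroup_coprime hpp ↥H hO
    have h1 : ((fittingSubgroup ↥(H ⊔ Y) ⊓ L.subgroupOf (H ⊔ Y) : Subgroup ↥(H ⊔ Y))).map (H ⊔ Y).subtype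
        ≤ (fittingSubgroup ↥H).map H.subtype := by
      rw [fitting_map_of_subnIn s2]
      rintro _ ⟨x, hx, rfl⟩
      obtain ⟨hx1, hx2⟩ := mem_inf.mp hx
      exact mem_inf.mpr ⟨⟨x, hx1, rfl⟩, hLH (mem_subgroupOf.mp hx2)⟩
    have h2 := Subgroup.card_dvd_of_le h1
    rw [Nat.card_congr (equivMapOfInjective _ _ (subtype_injective _)).symm.toEquiv,
      Nat.card_congr (equivMapOfInjective _ _ (subtype_injective _)).symm.toEquiv] at h2
    exact Nat.Coprime.of_dvd_left h2 h0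
  have hYp : IsPGroup p ↥(Y.subgroupOf (H ⊔ Y)) := hY.comap_subtype
  have hYL' : Y.subgroupOf (H ⊔ Y) ≤ normalizer ((L.subgroupOf (H ⊔ Y) : Subgroup ↥(H ⊔ Y)) : Set ↥(H ⊔ Y)) := by
    rw [le_normalizer_iff]
    intro y hy x hx
    rw [mem_subgroupOf] at hy hx ⊢
    exact le_normalizer_iff.mp hYL _ hy _ hx
  obtain ⟨h1, h2⟩ := fstar_comm_core s3 hF hcop hYp hYL'
  have hcen : (L.subgroupOf (H ⊔ Y) ⊓ centralizer ((Y.subgroupOf (H ⊔ Y) : Subgroup ↥(H ⊔ Y)) : Set ↥(H ⊔ Y))).map (H ⊔ Y).subtype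
      = L ⊓ centralizer (Y : Set G) := by
    ext g
    constructor
    · rintro ⟨x, hx, rfl⟩
      obtain ⟨hx1, hx2⟩ := mem_inf.mp hx
      refine mem_inf.mpr ⟨mem_subgroupOf.mp hx1, ?_⟩
      rw [mem_centralizer_iff] at hx2 ⊢
      intro y hy
      exact congrArg Subtype.val (hx2 ⟨y, hYX hy⟩ (mem_subgroupOf.mpr hy))
    · intro hg
      obtain ⟨hg1, hg2⟩ := mem_inf.mp hg
      refine ⟨⟨g, hLX hg1⟩, mem_inf.mpr ⟨mem_subgroupOf.mpr hg1, ?_⟩, rfl⟩
      rw [mem_centralizer_iff] at hg2 ⊢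
      intro y hy
      exact Subtype.ext (hg2 y (mem_subgroupOf.mp hy))
  constructor
  · have e1 := congrArg (Subgroup.map (H ⊔ Y).subtype) h1
    rwa [Subgroup.map_sup, map_commutator, hcen, map_subgroupOf_eq_of_le hLX,
      map_subgroupOf_eq_of_le hYX] at e1
  · have e2 := congrArg (Subgroup.map (H ⊔ Y).subtype) h2
    rwa [map_commutator, map_commutator, map_commutator, map_subgroupOf_eq_of_le hLX,
      map_subgroupOf_eq_of_le hYX] at e2

end Cfsg.Agent.S2812
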