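import Cfsg.Statements.S2813
import Cfsg.Agent.Lib.Helper47.Coprime

set_option autoImplicit false
open Cfsg

namespace Cfsg.Agent.S2813

open Subgroup Cfsg.Agent.Lib.Helper47
open scoped commutatorElement

/-- Let K be a subgroup of the finite group H with O_p(K) = 1 and Y a p-subgroup of N_H(K) with [K, Y, Y] = 1. Then [K, Y] = 1. -/
theorem result {H : Type*} [Group H] [Finite H] {p : ℕ} [Fact p.Prime] (K : Subgroup H) (hO : Cfsg.pCore p ↥K = ⊥) (Y : Subgroup H) (hY : IsPGroup p ↥Y) (hYK : Y ≤ Subgroup.normalizer (K : Set H)) (hq : ⁅⁅K, Y⁆, Y⁆ = ⊥) : ⁅K, Y⁆ = ⊥ := by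
  rw [pCore_eq_bot_iff_pCoreOf] at hO
  set N := ⁅K, Y⁆ with hN
  have hNK : N ≤ K := le_normalizer_iff_commutator_le_left.mp hYK
  have hKN : K ≤ normalizer (N : Set H) := normalizer_commutator_ge_left _ _
  have hYN : Y ≤ normalizer (N : Set H) := normalizer_commutator_ge_right _ _
  -- A = N Y, Y normal in A
  have h1 : N ⊔ Y ≤ normalizer (Y : Set H) :=
    sup_le ((commutator_eq_bot_iff_le_centralizer.mp hq).trans (centralizer_le_normalizer _)) le_normalizer
  have h2 : Y ≤ pCoreOf p (N ⊔ Y) := le_pCoreOf le_sup_right h1 hY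
  have h3 : K ⊔ Y ≤ normalizer ((N ⊔ Y : Subgroup H) : Set H) := by
    apply sup_le
    · apply le_normalizer_of_cj_le
      intro k hk
      rw [cj_sup]
      apply sup_le
      · rw [cj_eq_self_of_mem_normalizer (hKN hk)]; exact le_sup_left
      · rintro _ ⟨y, hy, rfl⟩
        have e : (MulAut.conj k).toMonoidHom y = ⁅k, y⁆ * y := by
          simp [MulAut.conj_apply, commutatorElement_def]
        rw [e]
        exact mul_mem (mem_sup_left (commutator_mem_commutator hk hy)) (mem_sup_right hy)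
    · exact le_sup_right.trans le_normalizer
  have h4 : pCoreOf p (N ⊔ Y) ≤ pCoreOf p (K ⊔ Y) :=
    pCoreOf_le_pCoreOf_of_normal (sup_le (hNK.trans le_sup_left) le_sup_right) h3
  set Q := pCoreOf p (K ⊔ Y) with hQ
  have h5 : ⁅K, Q⁆ ≤ K := by
    apply le_normalizer_iff_commutator_le_left.mp
    exact (pCoreOf_le _).trans (sup_le le_normalizer hYK)
  have h6 : ⁅K, Q⁆ ≤ Q := by
    apply le_normalizer_iff_commutator_le_right.mp
    exact le_sup_left.trans (le_normalizer_pCoreOf _)
  have h7 : Q ⊓ K ≤ pCoreOf p K := pCoreOf_inf_le le_sup_left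
  rw [hO] at h7
  exact le_bot_iff.mp ((commutator_mono le_rfl (h2.trans h4)).trans ((le_inf h6 h5).trans h7))

end Cfsg.Agent.S2813
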