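import Cfsg.Statements.S2814
import Cfsg.Agent.Lib.Helper49.Conj
import Cfsg.Agent.Lib.Lead.Residual
import Cfsg.Agent.S0064

set_option autoImplicit false
open Cfsg

namespace Cfsg.Agent.S2814

open Subgroup Cfsg.Agent.Lib.Helper49
open scoped commutatorElement

variable {H : Type*} [Group H]

theorem subnormalClosure_spec [Finite H] (A : Subgroup H) :
    A ≤ Cfsg.subnormalClosure A ∧ (Cfsg.subnormalClosure A).IsSubnormal ∧
      ∀ K' : Subgroup H, A ≤ K' → K'.IsSubnormal → Cfsg.subnormalClosure A ≤ K' := by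
  have htop : (⊤ : Subgroup H) ∈ {K : Subgroup H | A ≤ K ∧ K.IsSubnormal} := ⟨le_top, IsSubnormal.top⟩
  obtain ⟨K₀, -, hK₀⟩ := (Set.toFinite {K : Subgroup H | A ≤ K ∧ K.IsSubnormal}).exists_le_minimal htop
  have hle : ∀ K' : Subgroup H, A ≤ K' → K'.IsSubnormal → K₀ ≤ K' := by
    intro K' h1 h2
    have hmem : K₀ ⊓ K' ∈ {K : Subgroup H | A ≤ K ∧ K.IsSubnormal} :=
      ⟨le_inf hK₀.prop.1 h1, hK₀.prop.2.inf h2⟩
    exact (hK₀.le_of_le hmem inf_le_left).trans inf_le_right
  have heq : Cfsg.subnormalClosure A = K₀ :=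
    le_antisymm (sInf_le hK₀.prop) (le_sInf fun K' hK' => hle K' hK'.1 hK'.2)
  rw [heq]
  exact ⟨hK₀.prop.1, hK₀.prop.2, hle⟩

/-- A subgroup containing `O^p` is subnormal. -/
theorem isSubnormal_of_pResidual_le [Finite H] {p : ℕ} [Fact p.Prime] {B : Subgroup H}
    (hB : Cfsg.pResidual p H ≤ B) : B.IsSubnormal := by
  have hp : IsPGroup p (H ⧸ Cfsg.pResidual p H) := Cfsg.Agent.Lib.Lead.isPGroup_quotient_pResidual
  have hn : Group.IsNilpotent (H ⧸ Cfsg.pResidual p H) := hp.isNilpotent
  have h1 : (B.map (QuotientGroup.mk' (Cfsg.pResidual p H))).IsSubnormal :=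
    Cfsg.Agent.S0064.result.mp hn _
  have h2 := h1.comap (QuotientGroup.mk' (Cfsg.pResidual p H))
  rwa [comap_map_eq, QuotientGroup.ker_mk', sup_eq_left.mpr hB] at h2

/-- Let A be a subgroup of the finite group H and K the subnormal closure of A (intersection of the subnormal subgroups containing A). Then K is the normal closure of A inside K and N_H(A) ≤ N_H(K); K = A·O^p(K), O^p(K) being generated by the elements of K of order prime to p; and if A is a p-group, O^p(K) = [O^p(K), A]. -/
theorem result {H : Type*} [Group H] [Finite H] {p : ℕ} [Fact p.Prime] (A : Subgroup H) (K : Subgroup H) (hK : K = Cfsg.subnormalClosure A) : (Subgroup.normalClosure ((A.subgroupOf K : Subgroup ↥K) : Set ↥K)).map K.subtype = K ∧ Subgroup.normalizer (A : Set H) ≤ Subgroup.normalizer (K : Set H) ∧ A ⊔ (Cfsg.pResidual p ↥K).map K.subtype = K ∧ (IsPGroup p ↥A → ⁅(Cfsg.pResidual p ↥K).map K.subtype, A⁆ = (Cfsg.pResidual p ↥K).map K.subtype) := by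
  obtain ⟨hAK, hKsn, hmin⟩ := subnormalClosure_spec A
  rw [← hK] at hAK hKsn hmin
  set A' : Subgroup ↥K := A.subgroupOf K with hA'
  have hA'map : A'.map K.subtype = A := map_subgroupOf_eq_of_le hAK
  have htopmap : (⊤ : Subgroup ↥K).map K.subtype = K := by
    rw [← MonoidHom.range_eq_map, range_subtype]
  -- minimality inside `K`
  have hminK : ∀ B : Subgroup ↥K, A' ≤ B → B.IsSubnormal → B = ⊤ := by
    intro B hB hBsn
    have h1 : K ≤ B.map K.subtype := hmin _ (hA'map ▸ map_mono hB) (hBsn.trans' hKsn)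
    rw [eq_top_iff]
    intro k _
    obtain ⟨b, hb, hbk⟩ := h1 k.2
    have : b = k := Subtype.ext hbk
    exact this ▸ hb
  set R : Subgroup ↥K := Cfsg.pResidual p ↥K with hR
  have hsup : A' ⊔ R = ⊤ := hminK _ le_sup_left (isSubnormal_of_pResidual_le le_sup_right)
  refine ⟨?_, ?_, ?_, ?_⟩
  · rw [hminK _ subset_normalClosure normalClosure_normal.isSubnormal, htopmap]
  · intro n hn
    have h1 : ∀ m ∈ normalizer (A : Set H), K ≤ cj m K := by
      intro m hm
      apply hmin
      · rw [← cj_eq_iff_mem_normalizer.mpr hm]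
        exact cj_mono m hAK
      · exact hKsn.map (MulAut.conj m).surjective
    apply cj_eq_iff_mem_normalizer.mp
    apply le_antisymm _ (h1 n hn)
    rw [cj_le_iff]
    exact h1 _ (inv_mem hn)
  · rw [← hA'map, ← Subgroup.map_sup, hsup, htopmap]
  · intro hAp
    have hA'p : IsPGroup p A' := hAp.comap_subtype
    set R₀ : Subgroup ↥K := ⁅R, A'⁆ with hR₀
    have hR₀R : R₀ ≤ R := commutator_le_left R A'
    have hR₀n : R₀.Normal := by
      rw [← normalizer_eq_top_iff, eq_top_iff, ← hsup]
      exact sup_le (normalizer_commutator_ge_right _ _) (normalizer_commutator_ge_left _ _)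
    have hBn : (A' ⊔ R₀).Normal := by
      rw [← normalizer_eq_top_iff, eq_top_iff, ← hsup, sup_le_iff]
      constructor
      · exact le_sup_left.trans le_normalizer
      · rw [le_normalizer_iff]
        intro r hr b hb
        have hb' : b ∈ A' ⊔ R₀ := hb
        rw [sup_comm, mem_sup_of_normal_left] at hb'
        obtain ⟨c, hc, a, ha, rfl⟩ := hb'
        have e : r * (c * a) * r⁻¹ = (r * c * r⁻¹) * (⁅r, a⁆ * a) := by
          rw [commutatorElement_def]; group
        rw [e]
        refine mul_mem (mem_sup_right (hR₀n.conj_mem c hc r)) (mul_mem (mem_sup_right ?_) (mem_sup_left ha))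
        exact commutator_mem_commutator hr ha
    have hB : A' ⊔ R₀ = ⊤ := hminK _ le_sup_left hBn.isSubnormal
    have hq : IsPGroup p (↥K ⧸ R₀) := by
      refine hA'p.of_surjective ((QuotientGroup.mk' R₀).comp A'.subtype) ?_
      rw [← MonoidHom.range_eq_top, MonoidHom.range_comp, range_subtype]
      have : (A' ⊔ R₀).map (QuotientGroup.mk' R₀) = ⊤ := by
        rw [hB, ← MonoidHom.range_eq_map, MonoidHom.range_eq_top]
        exact QuotientGroup.mk'_surjective R₀
      rwa [Subgroup.map_sup, QuotientGroup.map_mk'_self, sup_bot_eq] at this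
    have hRR₀ : R ≤ R₀ := Cfsg.Agent.Lib.Lead.pResidual_le_of_isPGroup_quotient hq
    have : R₀ = R := le_antisymm hR₀R hRR₀
    conv_lhs => rw [← hA'map]
    rw [← map_commutator, ← hR₀, this]

end Cfsg.Agent.S2814
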