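import Cfsg.Statements.S2815
import Cfsg.Agent.Lib.Helper49.CharP
import Cfsg.Agent.Lib.Lead.Residual
import Cfsg.Agent.Lib.Helper21.Components
import Cfsg.Agent.Lib.Helper31.LocalLayer
import Cfsg.Agent.Lib.Helper31.SylowConj
import Cfsg.Agent.Lib.Helper2.PComplement

set_option autoImplicit false
open Cfsg

namespace Cfsg.Agent.S2815

open Subgroup Cfsg.Agent.Lib.Helper49
open scoped commutatorElement

/-- Let H be a finite group and p a prime dividing its order with O_p(H) = 1, and suppose K = O^p(H) (generated by the elements of order prime to p) is quasisimple. Then K = F*(H); for every nontrivial p-subgroup Y of H, K = [K, Y] and K lies in the subgroup generated by the K-conjugates of Y; every normal subgroup of H not containing K has order prime to p; and H is p-irreducible. -/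
theorem result {H : Type*} [Group H] [Finite H] {p : ℕ} [Fact p.Prime] (hp : p ∣ Nat.card H) (hO : Cfsg.pCore p H = ⊥) (hq : Cfsg.IsQuasisimple ↥(Cfsg.pResidual p H)) : Cfsg.pResidual p H = Cfsg.generalizedFittingSubgroup H ∧ (∀ Y : Subgroup H, IsPGroup p ↥Y → Y ≠ ⊥ → ⁅Cfsg.pResidual p H, Y⁆ = Cfsg.pResidual p H ∧ Cfsg.pResidual p H ≤ ⨆ k : ↥(Cfsg.pResidual p H), Y.map (MulAut.conj (k : H)).toMonoidHom) ∧ (∀ C : Subgroup H, C.Normal → ¬ Cfsg.pResidual p H ≤ C → (Nat.card ↥C).Coprime p) ∧ Cfsg.IsPIrreducible p H := by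
  have hpp : p.Prime := Fact.out
  set K : Subgroup H := Cfsg.pResidual p H with hK
  have hKn : K.Normal := Cfsg.Agent.Lib.Lead.pResidual_normal p H
  have hKK : ⁅K, K⁆ = K := Cfsg.Agent.Lib.Helper21.IsQuasisimple.commutator_self hq
  obtain ⟨T⟩ : Nonempty (Sylow p H) := inferInstance
  have hKT : K ⊔ (T : Subgroup H) = ⊤ := Cfsg.Agent.Lib.Helper2.pResidual_sup_sylow T
  -- a subgroup `X` with `[X, K] ≤ N ≤ K`, `[K, N] = 1` centralizes `K`
  have three : ∀ X : Subgroup H, ⁅K, ⁅X, K⁆⁆ = ⊥ → ⁅K, X⁆ = ⊥ := by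
    intro X hX
    have h1 : ⁅⁅K, X⁆, K⁆ = ⊥ := by rw [commutator_comm, commutator_comm K X]; exact hX
    have h2 : ⁅⁅X, K⁆, K⁆ = ⊥ := by rw [commutator_comm]; exact hX
    have := commutator_commutator_eq_bot_of_rotate h1 h2
    rwa [hKK] at this
  -- (3)
  have h3 : ∀ C : Subgroup H, C.Normal → ¬ K ≤ C → (Nat.card ↥C).Coprime p := by
    intro C hC hKC
    have hcent : ⁅K, C⁆ = ⊥ := by
      apply three
      have hN : K ≤ normalizer ((C ⊓ K : Subgroup H) : Set H) := by
        have : (C ⊓ K).Normal := inferInstance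
        exact le_normalizer_of_normal
      rcases Cfsg.Agent.Lib.Helper21.IsQuasisimple.eq_or_commutator_eq_bot hq inf_le_right hN with h | h
      · exact absurd (h.trans inf_le_left) hKC
      · rw [eq_bot_iff, ← h]
        exact commutator_mono le_rfl (commutator_le_inf C K)
    have hD : C ⊓ (T : Subgroup H) = ⊥ := by
      have hDn : (C ⊓ (T : Subgroup H)).Normal := by
        rw [← normalizer_eq_top_iff, eq_top_iff, ← hKT, sup_le_iff]
        constructor
        · have h1 : K ≤ centralizer (C : Set H) := commutator_eq_bot_iff_le_centralizer.mp hcent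
          refine (h1.trans (centralizer_le ?_)).trans (centralizer_le_normalizer _)
          exact inf_le_left
        · rw [le_normalizer_iff]
          intro t ht x hx
          obtain ⟨hx1, hx2⟩ := mem_inf.mp hx
          exact mem_inf.mpr ⟨hC.conj_mem x hx1 t, mul_mem (mul_mem ht hx2) (inv_mem ht)⟩
      have := le_pCore hDn (T.isPGroup'.to_le inf_le_right)
      rwa [hO, le_bot_iff] at this
    rw [Nat.coprime_comm, Nat.Prime.coprime_iff_not_dvd hpp]
    intro hdvd
    obtain ⟨x, hx⟩ := exists_prime_orderOf_dvd_card' p hdvd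
    have hxp : IsPGroup p (zpowers (x : H)) := by
      rw [IsPGroup.iff_card, Nat.card_zpowers, Subgroup.orderOf_coe, hx]
      exact ⟨1, (pow_one p).symm⟩
    obtain ⟨c, hc⟩ := Cfsg.Agent.Lib.Helper31.exists_conj_mem_sylow _ hxp T
    have h1 : c * (x : H) * c⁻¹ ∈ C ⊓ (T : Subgroup H) :=
      mem_inf.mpr ⟨hC.conj_mem _ x.2 c, hc _ (mem_zpowers _)⟩
    rw [hD, mem_bot, conj_eq_one_iff] at h1
    have : x = 1 := Subtype.ext h1
    rw [this, orderOf_one] at hx
    exact hpp.one_lt.ne hx
  have hKnc : ¬ K ≤ centralizer (K : Set H) := by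
    intro h
    have : ⁅K, K⁆ = ⊥ := commutator_eq_bot_iff_le_centralizer.mpr h
    rw [hKK] at this
    have hnt := Cfsg.Agent.Lib.Helper21.IsQuasisimple.nontrivial hq
    exact (Subgroup.nontrivial_iff_ne_bot K).mp hnt this
  refine ⟨?_, ?_, h3, ?_, ?_⟩
  · apply le_antisymm
    · have hcomp : K ∈ {L : Subgroup H | Cfsg.IsComponent L} := ⟨hKn.isSubnormal, hq⟩
      exact (le_sSup hcomp).trans le_sup_left
    · refine sup_le (sSup_le ?_) (sSup_le ?_)
      · rintro L ⟨-, hL⟩
        have hLL : ⁅L, L⁆ = L := Cfsg.Agent.Lib.Helper21.IsQuasisimple.commutator_self hL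
        refine (Cfsg.Agent.Lib.Helper31.le_closure_coprime_of_perfect p hLL).trans ?_
        exact closure_mono fun g hg => hg.2
      · rintro N ⟨hN, hNn⟩
        have hKN : ¬ K ≤ N := by
          intro h
          have h1 : Group.IsSolvable ↥N := inferInstance
          have h2 : Group.IsSolvable ↥K :=
            Group.isSolvable_of_isSolvable_injective (f := Subgroup.inclusion h) (Subgroup.inclusion_injective h)
          exact Cfsg.Agent.Lib.Helper21.IsQuasisimple.not_isSolvable hq h2
        have hc := h3 N hN hKN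
        intro g hg
        apply Subgroup.subset_closure
        have : orderOf g ∣ Nat.card ↥N := by
          have := orderOf_dvd_natCard (⟨g, hg⟩ : N)
          rwa [Subgroup.orderOf_mk] at this
        exact Nat.Coprime.of_dvd_left this hc
  · intro Y hY hY1
    have hKY : ⁅K, Y⁆ = K := by
      have hle : ⁅K, Y⁆ ≤ K := commutator_le_left K Y
      rcases Cfsg.Agent.Lib.Helper21.IsQuasisimple.eq_or_commutator_eq_bot hq hle
        (normalizer_commutator_ge_left K Y) with h | h
      · exact le_antisymm hle h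
      · exfalso
        have h1 : ⁅K, Y⁆ = ⊥ := three Y (by rw [commutator_comm Y K]; exact h)
        have h2 : Y ≤ centralizer (K : Set H) := by
          rw [commutator_comm] at h1
          exact commutator_eq_bot_iff_le_centralizer.mp h1
        have hc := h3 (centralizer (K : Set H)) inferInstance hKnc
        apply hY1
        rw [eq_bot_iff]
        intro y hy
        obtain ⟨k, hk⟩ := hY ⟨y, hy⟩
        have hk' : y ^ p ^ k = 1 := congrArg Subtype.val hk
        have h4 : orderOf y ∣ Nat.card ↥(centralizer (K : Set H)) := by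
          have := orderOf_dvd_natCard (⟨y, h2 hy⟩ : centralizer (K : Set H))
          rwa [Subgroup.orderOf_mk] at this
        have h5 : orderOf y ∣ Nat.gcd (Nat.card ↥(centralizer (K : Set H))) (p ^ k) :=
          Nat.dvd_gcd h4 (orderOf_dvd_of_pow_eq_one hk')
        rw [Nat.Coprime.pow_right k hc, Nat.dvd_one, orderOf_eq_one_iff] at h5
        exact mem_bot.mpr h5
    refine ⟨hKY, ?_⟩
    conv_lhs => rw [← hKY]
    rw [commutator_le]
    intro k hk y hy
    rw [commutatorElement_def]
    have h1 : k * y * k⁻¹ ∈ ⨆ k : ↥K, Y.map (MulAut.conj (k : H)).toMonoidHom :=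
      (le_iSup (fun k : ↥K => Y.map (MulAut.conj (k : H)).toMonoidHom) ⟨k, hk⟩) ⟨y, hy, rfl⟩
    have h2 : y ∈ ⨆ k : ↥K, Y.map (MulAut.conj (k : H)).toMonoidHom :=
      (le_iSup (fun k : ↥K => Y.map (MulAut.conj (k : H)).toMonoidHom) 1) ⟨y, hy, by simp⟩
    exact mul_mem h1 (inv_mem h2)
  · intro hcl
    have h1 := le_pCore (hcl T) T.isPGroup'
    rw [hO, le_bot_iff] at h1
    exact T.ne_bot_of_dvd_card hp h1
  · intro N hN hNcl
    by_contra hKN
    apply hNcl
    intro P
    have hc := h3 N hN hKN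
    have : (P : Subgroup ↥N) = ⊥ := by
      obtain ⟨k, hk⟩ := P.isPGroup'.exists_card_eq
      have h1 : Nat.card (P : Subgroup ↥N) ∣ Nat.card ↥N := Subgroup.card_subgroup_dvd_card _
      have h2 : Nat.card (P : Subgroup ↥N) ∣ Nat.gcd (Nat.card ↥N) (p ^ k) := Nat.dvd_gcd h1 (hk ▸ dvd_rfl)
      rw [Nat.Coprime.pow_right k hc, Nat.dvd_one] at h2
      exact (Subgroup.card_eq_one).mp h2
    rw [this]
    infer_instance

end Cfsg.Agent.S2815
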