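import Cfsg.Statements.S2818
import Cfsg.Agent.Lib.Helper47.Frat

set_option autoImplicit false
open Cfsg
open Subgroup Cfsg.Agent.Lib.Helper47
open scoped commutatorElement

namespace Cfsg.Agent.S2818

/-- Let P be a finite p-subgroup of a group G and H a subgroup of N_G(P) with [P, H] ≤ Ω₁(Z(P)) (the elements of order dividing p in the centre of P). Then H centralizes the Frattini subgroup of P. -/
theorem result {G : Type*} [Group G] [Finite G] {p : ℕ} [Fact p.Prime] (P : Subgroup G) (hP : IsPGroup p ↥P) (H : Subgroup G) (hH : H ≤ Subgroup.normalizer (P : Set G)) (h : ⁅P, H⁆ ≤ Cfsg.omegaOne p (P ⊓ Subgroup.centralizer (P : Set G))) : ⁅(frattini ↥P).map P.subtype, H⁆ = ⊥ := by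
  have hZc : ⁅P, H⁆ ≤ centralizer (P : Set G) := h.trans (OmZ_le_centralizer P)
  have hZp : ∀ c ∈ ⁅P, H⁆, c ^ p = 1 := fun c hc =>
    (isElementaryAbelian_iff.mp (isElementaryAbelian_OmZ (p := p) P)).2 c (h hc)
  rw [commutator_eq_bot_iff_le_centralizer]
  apply frattiniOf_le_of_elementary (p := p)
  · rw [← commutator_eq_bot_iff_le_centralizer]
    apply commutator_commutator_eq_bot_of_rotate
    · rwa [commutator_eq_bot_iff_le_centralizer]
    · rwa [commutator_eq_bot_iff_le_centralizer, commutator_comm]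
  · intro x hx
    rw [mem_centralizer_iff]
    intro k hk
    have hc : ⁅k, x⁆ ∈ ⁅P, H⁆ := by
      rw [commutator_comm]; exact commutator_mem_commutator hk hx
    have hcomm : Commute ⁅k, x⁆ x := ((mem_centralizer_iff.mp (hZc hc)) x hx).symm
    have e1 : k * x * k⁻¹ = ⁅k, x⁆ * x := by rw [commutatorElement_def]; group
    have e2 : k * x ^ p * k⁻¹ = x ^ p := by
      rw [← conj_pow, e1, hcomm.mul_pow, hZp _ hc, one_mul]
    calc k * x ^ p = k * x ^ p * k⁻¹ * k := by group
      _ = x ^ p * k := by rw [e2]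

end Cfsg.Agent.S2818
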