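import Cfsg.Statements.S2819
import Cfsg.Agent.Lib.Helper47.Frat

set_option autoImplicit false
open Cfsg
open Subgroup Cfsg.Agent.Lib.Helper47
open scoped commutatorElement

namespace Cfsg.Agent.S2819

theorem mul_pow_mem_commutator {G : Type*} [Group G] {P : Subgroup G} {a b : G} (ha : a ∈ P)
    (hb : b ∈ P) (n : ℕ) : (a * b) ^ n * (a ^ n * b ^ n)⁻¹ ∈ ⁅P, P⁆ := by
  have h1 : Abelianization.of (((⟨a, ha⟩ : P) * ⟨b, hb⟩) ^ n * ((⟨a, ha⟩ : P) ^ n * (⟨b, hb⟩ : P) ^ n)⁻¹) = 1 := by
    rw [map_mul, map_inv, map_pow, map_mul, map_mul, map_pow, map_pow, mul_pow, mul_inv_cancel]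
  rw [← MonoidHom.mem_ker, Abelianization.ker_of] at h1
  rw [← map_subtype_commutator]
  exact ⟨_, h1, by simp⟩

/-- Let P be a finite p-subgroup of a group G, H a subgroup of N_G(P), and Y a subgroup of H centralizing the derived subgroup P' such that [P, Y] is elementary abelian. Then O^p(⟨Y^H⟩), the subgroup of the normal closure of Y in H generated by its elements of order prime to p, centralizes the Frattini subgroup of P. -/
theorem result {G : Type*} [Group G] [Finite G] {p : ℕ} [Fact p.Prime] (P : Subgroup G) (hP : IsPGroup p ↥P) (H : Subgroup G) (hH : H ≤ Subgroup.normalizer (P : Set G)) (Y : Subgroup G) (hYH : Y ≤ H) (hYc : Y ≤ Subgroup.centralizer ((⁅P, P⁆ : Subgroup G) : Set G)) (hel : Cfsg.IsElementaryAbelian p ⁅P, Y⁆) (NY : Subgroup G) (hNY : NY = (Subgroup.normalClosure ((Y.subgroupOf H : Subgroup ↥H) : Set ↥H)).map H.subtype) : (Cfsg.pResidual p ↥NY).map NY.subtype ≤ Subgroup.centralizer (((frattini ↥P).map P.subtype : Subgroup G) : Set G) := by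
  rw [map_normalClosure_subgroupOf hYH] at hNY
  subst hNY
  set P' := ⁅P, P⁆ with hP'
  set Φ := frattiniOf P with hΦ
  have hP'P : P' ≤ P := commutator_le_self P
  have hNP' : normalizer (P : Set G) ≤ normalizer (P' : Set G) := le_normalizer_commutator le_rfl le_rfl
  have hHP' : H ≤ normalizer (P' : Set G) := hH.trans hNP'
  have hPP' : P ≤ normalizer (P' : Set G) := Subgroup.le_normalizer.trans hNP'
  have hHΦ : H ≤ normalizer (Φ : Set G) := hH.trans (normalizer_le_normalizer_frattiniOf P)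
  have hPYP : ⁅P, Y⁆ ≤ P := le_normalizer_iff_commutator_le_left.mp (hYH.trans hH)
  have hpow : ∀ c ∈ ⁅P, Y⁆, c ^ p = 1 := (isElementaryAbelian_iff.mp hel).2
  -- `Y` centralizes `Φ / P'`
  have h1 : ⁅Φ, Y⁆ ≤ P' := by
    have hle : Φ ≤ P' ⊔ closure {z | ∃ x ∈ P, z = x ^ p} :=
      frattiniOf_le_of_elementary (p := p) le_sup_left
        (fun x hx => mem_sup_right (subset_closure ⟨x, hx, rfl⟩))
    refine (commutator_mono hle le_rfl).trans ?_
    rw [commutator_comm]
    apply commutator_sup_le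
    · rw [(commutator_eq_bot_iff_le_centralizer).mpr hYc]; exact bot_le
    · apply commutator_closure_le
      rintro _ ⟨x, hx, rfl⟩
      refine ⟨hPP' (pow_mem hx p), fun y hy => ?_⟩
      have hc : ⁅y, x⁆ ∈ ⁅P, Y⁆ := by
        rw [commutator_comm]; exact commutator_mem_commutator hy hx
      have e1 : y * x * y⁻¹ = ⁅y, x⁆ * x := by rw [commutatorElement_def]; group
      have e2 : ⁅y, x ^ p⁆ = (⁅y, x⁆ * x) ^ p * (⁅y, x⁆ ^ p * x ^ p)⁻¹ := by
        rw [hpow _ hc, one_mul, ← e1, conj_pow, commutatorElement_def]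
      rw [e2]
      exact mul_pow_mem_commutator (hPYP hc) hx p
    · exact Subgroup.le_normalizer
    · rw [closure_le]
      rintro _ ⟨x, hx, rfl⟩
      exact hPP' (pow_mem hx p)
  have h2 : ⁅Φ, ncl Y H⁆ ≤ P' := by
    unfold ncl
    apply commutator_iSup_le
    · intro g
      have e : ⁅Φ, cj (g : G) Y⁆ = cj (g : G) ⁅Φ, Y⁆ := by
        rw [cj_commutator, cj_eq_self_of_mem_normalizer (hHΦ g.2)]
      rw [e, ← cj_eq_self_of_mem_normalizer (hHP' g.2)]
      exact cj_mono h1
    · intro g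
      refine le_trans ?_ hHP'
      exact (cj_mono hYH).trans (cj_eq_self_of_mem g.2).le
  have h3 : P' ≤ centralizer (ncl Y H : Set G) :=
    le_centralizer_ncl hHP' (le_centralizer_comm.mp hYc)
  have hP'p : IsPGroup p P' := hP.to_le hP'P
  change pResOf p (ncl Y H) ≤ _
  rw [pResOf_eq_closure, closure_le]
  rintro a ⟨ha, hao⟩
  have := centralizes_of_step hao (A := Φ) (B := P') hP'p
    (fun x hx => h2 (commutator_mem_commutator hx ha))
    (fun y hy => (mem_centralizer_iff.mp (h3 hy) a ha).symm)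
  exact mem_centralizer_iff_commute.mpr this

end Cfsg.Agent.S2819
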