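import Cfsg.Statements.S2821
import Cfsg.Agent.Lib.Helper47.PRed4

set_option autoImplicit false
open Cfsg

namespace Cfsg.Agent.S2821

open Subgroup Cfsg.Agent.Lib.Helper47

/-- Let H be a finite group, p a prime, T a Sylow p-subgroup and L a subgroup of characteristic p containing T; let Y_L be the largest p-reduced normal subgroup of L (the join of the normal elementary abelian p-subgroups V of L with O_p(L/C_L(V)) = 1). Then T₀ := C_T(Y_L) is a Sylow p-subgroup of C_H(Y_L); moreover O_p(L) ≤ T₀ ≤ C_L(Y_L) and Ω₁(Z(T)) ≤ Z_L ≤ Y_L ≤ Ω₁(Z(O_p(L))), where Z_L is generated by the Ω₁(Z(S)) over the Sylow p-subgroups S of L. -/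
theorem result {H : Type*} [Group H] [Finite H] {p : ℕ} [Fact p.Prime] (T : Sylow p H) (L : Subgroup H) (hTL : (T : Subgroup H) ≤ L) (hL : Subgroup.centralizer (Cfsg.pCore p ↥L : Set ↥L) ≤ Cfsg.pCore p ↥L) (T₀ : Subgroup H) (hT₀ : T₀ = (T : Subgroup H) ⊓ Subgroup.centralizer (((Cfsg.largestPReducedOf p L) : Subgroup H) : Set H)) : (∃ P : Sylow p ↥(Subgroup.centralizer (((Cfsg.largestPReducedOf p L) : Subgroup H) : Set H)), (P : Subgroup ↥(Subgroup.centralizer (((Cfsg.largestPReducedOf p L) : Subgroup H) : Set H))) = T₀.subgroupOf (Subgroup.centralizer (((Cfsg.largestPReducedOf p L) : Subgroup H) : Set H))) ∧ (Cfsg.pCoreOf p L) ≤ T₀ ∧ T₀ ≤ L ⊓ Subgroup.centralizer (((Cfsg.largestPReducedOf p L) : Subgroup H) : Set H) ∧ (Cfsg.omegaOne p ((T : Subgroup H) ⊓ Subgroup.centralizer (((T : Subgroup H) : Subgroup H) : Set H))) ≤ Cfsg.sylowCenterClosure p L ∧ Cfsg.sylowCenterClosure p L ≤ (Cfsg.largestPReducedOf p L) ∧ (Cfsg.largestPReducedOf p L) ≤ (Cfsg.omegaOne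 p ((Cfsg.pCoreOf p L) ⊓ Subgroup.centralizer (((Cfsg.pCoreOf p L) : Subgroup H) : Set H))) := by
  have hY := isPRedIn_largest (p := p) L
  set Y := largestPReducedOf p L with hYdef
  have hchar := charP_iff.mp hL
  have hTS : IsSylowIn p (T : Subgroup H) L := isSylowIn_of_sylow T hTL
  have hS : IsSylowIn p T₀ (centralizer (Y : Set H)) := by
    rw [hT₀]
    exact (isSylowIn_of_sylow T (hTL.trans hY.le_normalizer)).inf_of_normal
      (centralizer_le_normalizer _) (normalizer_le_normalizer_centralizer Y)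
  refine ⟨⟨hS.toSylow, rfl⟩, ?_, ?_, OmZ_le_sylowCenterClosure hTS,
    sylowCenterClosure_le_largest hchar, hY.le_OmZ_pCoreOf⟩
  · rw [hT₀]
    exact le_inf (pCoreOf_le_of_isSylowIn hTS) hY.pCoreOf_le_centralizer
  · rw [hT₀]
    exact le_inf (inf_le_left.trans hTL) inf_le_right

end Cfsg.Agent.S2821
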