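import Cfsg.Statements.S2823
import Cfsg.Agent.Lib.Helper47.Kieler

set_option autoImplicit false
open Cfsg
open Subgroup Cfsg.Agent.Lib.Helper47
open scoped commutatorElement

namespace Cfsg.Agent.S2823

/-- Let H be a finite group, p a prime, T a Sylow p-subgroup and L a subgroup of characteristic p containing T; let Z_L be the subgroup generated by the Ω₁(Z(S)) over the Sylow p-subgroups S of L and O^p(L) the subgroup generated by the elements of L of order prime to p. Then Z_L = Ω₁(Z(L))·[Z_L, O^p(L)] and [Z_L, L] = [Z_L, O^p(L)]. -/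
theorem result {H : Type*} [Group H] [Finite H] {p : ℕ} [Fact p.Prime] (T : Sylow p H) (L : Subgroup H) (hTL : (T : Subgroup H) ≤ L) (hL : Subgroup.centralizer (Cfsg.pCore p ↥L : Set ↥L) ≤ Cfsg.pCore p ↥L) : Cfsg.sylowCenterClosure p L = (Cfsg.omegaOne p (L ⊓ Subgroup.centralizer ((L : Subgroup H) : Set H))) ⊔ ⁅Cfsg.sylowCenterClosure p L, (Cfsg.pResidual p ↥L).map L.subtype⁆ ∧ ⁅Cfsg.sylowCenterClosure p L, L⁆ = ⁅Cfsg.sylowCenterClosure p L, (Cfsg.pResidual p ↥L).map L.subtype⁆ := by
  have hp : Fact p.Prime := inferInstance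
  have hchar := Lib.Helper47.charP_iff.mp hL
  have hT : IsSylowIn p (T : Subgroup H) L := isSylowIn_of_sylow T hTL
  set V := sylowCenterClosure p L with hV
  set K := pResOf p L with hK
  set A := OmZ p (pCoreOf p L) with hA
  change V = OmZ p L ⊔ ⁅V, K⁆ ∧ ⁅V, L⁆ = ⁅V, K⁆
  have hVA : V ≤ A := sylowCenterClosure_le (fun S hS => OmZ_le_OmZ_pCoreOf hchar hS)
  have hLV : L ≤ normalizer (V : Set H) := by
    rw [hV, sylowCenterClosure_eq_ncl hT]; exact le_normalizer_ncl _ _
  have hLK : L ≤ normalizer (K : Set H) := le_normalizer_pResOf L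
  have hKL : K ≤ L := pResOf_le L
  set W := ⁅V, K⁆ with hW
  have hLW : L ≤ normalizer (W : Set H) := le_normalizer_commutator hLV hLK
  have hWV : W ≤ V := le_normalizer_iff_commutator_le_left.mp (hKL.trans hLV)
  have hLA : L ≤ normalizer (A : Set H) :=
    (le_normalizer_pCoreOf L).trans (normalizer_le_normalizer_OmZ _)
  have hAL : A ≤ L := (OmZ_le _).trans (pCoreOf_le L)
  have h1 : ∀ S, IsSylowIn p S L → OmZ p S ≤ OmZ p L ⊔ W := by
    intro S hS z hz
    obtain ⟨τ, hτ⟩ := exists_isTrace (B := A) (E := L) S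
      (IsElementaryAbelian.le_centralizer (isElementaryAbelian_OmZ (p := p) _)) hLA
    have hnp : (S.relIndex L).Coprime p :=
      ((Nat.Prime.coprime_iff_not_dvd hp.out).mpr hS.not_dvd_relIndex).symm
    have hzV : z ∈ V := OmZ_le_sylowCenterClosure hS hz
    have hzA : z ∈ A := hVA hzV
    have hzS : z ∈ centralizer (S : Set H) := OmZ_le_centralizer S hz
    have hτz := hτ.fixed z hzA hzS
    have hτzA := hτ.mem z hzA
    have hτzL : τ z ∈ OmZ p L := mem_OmZ (hAL hτzA) hτz (pow_eq_one_of_mem_OmZ hτzA)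
    have hdiv : τ z * (z ^ S.relIndex L)⁻¹ ∈ W := by
      apply hτ.div_mem _ z hzA
      intro e he
      rw [← hS.pResOf_sup] at he
      obtain ⟨k, hk, s, hs, rfl⟩ := mem_sup_of_le_normalizer (hS.le.trans hLK) he
      have e1 : k * s * z * (k * s)⁻¹ * z⁻¹ = k * (s * z * s⁻¹) * k⁻¹ * z⁻¹ := by group
      rw [e1, conj_eq_of_mem_centralizer hzS hs, ← commutatorElement_def, hW, commutator_comm]
      exact commutator_mem_commutator hk hzV
    have hzn : z ^ S.relIndex L ∈ OmZ p L ⊔ W := by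
      have e : z ^ S.relIndex L = (τ z * (z ^ S.relIndex L)⁻¹)⁻¹ * τ z := by group
      rw [e]
      exact mul_mem (inv_mem (mem_sup_right hdiv)) (mem_sup_left hτzL)
    exact mem_of_pow_mem_of_pow_eq_one (pow_eq_one_of_mem_OmZ hz) hnp hzn
  have h2 : OmZ p L ≤ V := by
    refine le_trans ?_ (OmZ_le_sylowCenterClosure hT)
    have h3 : OmZ p L ≤ pCoreOf p L :=
      le_pCoreOf (OmZ_le L) (Subgroup.le_normalizer.trans (normalizer_le_normalizer_OmZ L))
        (IsElementaryAbelian.isPGroup (isElementaryAbelian_OmZ L))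
    exact le_OmZ (h3.trans (pCoreOf_le_of_isSylowIn hT))
      ((OmZ_le_centralizer L).trans (centralizer_le (by exact_mod_cast hTL)))
      (fun a ha => pow_eq_one_of_mem_OmZ ha)
  have h4 : V = OmZ p L ⊔ W := le_antisymm (sylowCenterClosure_le h1) (sup_le h2 hWV)
  refine ⟨h4, le_antisymm ?_ (commutator_mono le_rfl hKL)⟩
  conv_lhs => rw [h4]
  rw [commutator_comm]
  apply commutator_sup_le
  · rw [commutator_comm, commutator_eq_bot_iff_le_centralizer.mpr (OmZ_le_centralizer L)]
    exact bot_le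
  · rw [commutator_comm]
    exact le_normalizer_iff_commutator_le_left.mp hLW
  · exact (OmZ_le L).trans hLW
  · exact Subgroup.le_normalizer

end Cfsg.Agent.S2823
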