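import Cfsg.Statements.S2825
import Cfsg.Agent.Lib.Helper47.PRed6

set_option autoImplicit false
open Cfsg
open Subgroup Cfsg.Agent.Lib.Helper47
open scoped commutatorElement

namespace Cfsg.Agent.S2825

/-- Let L be a subnormal subgroup of the finite group H, p a prime, Y_H and Y_L the largest p-reduced normal subgroups. Then Y_H ∩ L = Y_H ∩ Y_L and this subgroup is a p-reduced normal subgroup of L; C_L(Y_L) = C_L(Y_H) = C_L(Y_H ∩ L); and if O^p(H) ≤ L, then [Y_L, L] = 1 if and only if [Y_H, H] = 1. -/
theorem result {H : Type*} [Group H] [Finite H] {p : ℕ} [Fact p.Prime] (L : Subgroup H) (hL : L.IsSubnormal) : Cfsg.largestPReduced p H ⊓ L = Cfsg.largestPReduced p H ⊓ (Cfsg.largestPReducedOf p L) ∧ Cfsg.IsPReducedNormal p ((Cfsg.largestPReduced p H ⊓ L).subgroupOf L) ∧ L ⊓ Subgroup.centralizer ((Cfsg.largestPReducedOf p L : Subgroup H) : Set H) = L ⊓ Subgroup.centralizer (Cfsg.largestPReduced p H : Set H) ∧ L ⊓ Subgroup.centralizer (Cfsg.largestPReduced p H : Set H) = L ⊓ Subgroup.centralizer ((Cfsg.largestPReduced p H ⊓ L : Subgroup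 H) : Set H) ∧ (Cfsg.pResidual p H ≤ L → (⁅(Cfsg.largestPReducedOf p L), L⁆ = ⊥ ↔ ⁅Cfsg.largestPReduced p H, (⊤ : Subgroup H)⁆ = ⊥)) := by
  have hY := isPReducedNormal_largest H p
  have hkey := IsSubnormal.inf_centralizer_largest_le (p := p) hL
  rw [largestPReducedOf_top] at hkey
  set Y := largestPReduced p H with hYdef
  set YL := largestPReducedOf p L with hYL
  have hYn : Y.Normal := hY.1
  have hLY : L ≤ normalizer (Y : Set H) := by rw [normalizer_eq_top]; exact le_top
  have hLYL : L ≤ normalizer ((Y ⊓ L : Subgroup H) : Set H) :=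
    le_normalizer_inf hLY Subgroup.le_normalizer
  have hred : IsPRedIn p (Y ⊓ L) L := by
    refine ⟨inf_le_right, hLYL, IsElementaryAbelian.mono hY.2.1 inf_le_left, fun D h1 h2 h3 => ?_⟩
    have hD : D.IsSubnormal := isSubnormal_of_le_normalizer h1 h2 hL
    exact (IsSubnormal.le_centralizer_largest hD h1 h3).trans
      (centralizer_le (by exact_mod_cast (inf_le_left : Y ⊓ L ≤ Y)))
  have hle : Y ⊓ L ≤ YL := hred.le_largest
  have hYLL : YL ≤ L := (isPRedIn_largest L).le
  have hb2 : L ⊓ centralizer (Y : Set H) = L ⊓ centralizer ((Y ⊓ L : Subgroup H) : Set H) := by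
    apply le_antisymm
    · exact inf_le_inf_left _ (centralizer_le (by exact_mod_cast (inf_le_left : Y ⊓ L ≤ Y)))
    · refine le_inf inf_le_left ?_
      apply IsSubnormal.le_centralizer_largest (p := p) (L := L) _ inf_le_left
      · intro x hx
        exact ⟨0, by simpa using hx.2⟩
      · exact isSubnormal_of_le_normalizer inf_le_left
          (le_normalizer_inf Subgroup.le_normalizer
            (hLYL.trans (normalizer_le_normalizer_centralizer _))) hL
  have hb1 : L ⊓ centralizer (YL : Set H) = L ⊓ centralizer (Y : Set H) := by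
    apply le_antisymm
    · rw [hb2]
      exact inf_le_inf_left _ (centralizer_le (by exact_mod_cast hle))
    · exact le_inf inf_le_left hkey
  refine ⟨?_, (isPReducedNormal_subgroupOf_iff inf_le_right).mpr hred, hb1, hb2, fun hK => ?_⟩
  · exact le_antisymm (le_inf inf_le_left hle) (inf_le_inf_left _ hYLL)
  · rw [commutator_eq_bot_iff_le_centralizer, commutator_eq_bot_iff_le_centralizer,
      le_centralizer_comm, le_centralizer_comm (H := Y)]
    constructor
    · intro h
      have h1 : L ≤ centralizer (Y : Set H) := by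
        have : L ≤ L ⊓ centralizer (YL : Set H) := le_inf le_rfl h
        rw [hb1] at this
        exact this.trans inf_le_right
      apply (isPReducedNormal_iff_top.mp hY).le_centralizer_of le_rfl
      · rw [normalizer_eq_top]
      · have := PQuot_pResOf (p := p) (⊤ : Subgroup H)
        rw [pResOf_top] at this
        exact this.mono_right (hK.trans h1)
    · intro h
      have : L ≤ L ⊓ centralizer (Y : Set H) := le_inf le_rfl (le_top.trans h)
      rw [← hb1] at this
      exact this.trans inf_le_right

end Cfsg.Agent.S2825
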