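import Cfsg.Statements.S2826
import Cfsg.Agent.Lib.Helper47.Kieler
import Cfsg.Agent.Lib.Helper34.PResidual

set_option autoImplicit false
open Cfsg

namespace Cfsg.Agent.S2826

open Subgroup Cfsg.Agent.Lib.Helper47
open scoped commutatorElement

/-- Let H be a finite group of characteristic p, T a Sylow p-subgroup, and V a normal elementary abelian p-subgroup of H containing Ω₁(Z(T)). Then C_H(Ω₁(Z(T))) = C_H([V, O^p(H)] ∩ Ω₁(Z(T))), O^p(H) being generated by the elements of order prime to p. -/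
theorem result {H : Type*} [Group H] [Finite H] {p : ℕ} [Fact p.Prime] (hH : Subgroup.centralizer (Cfsg.pCore p H : Set H) ≤ Cfsg.pCore p H) (T : Sylow p H) (V : Subgroup H) [V.Normal] (hV : Cfsg.IsElementaryAbelian p V) (hZV : (Cfsg.omegaOne p ((T : Subgroup H) ⊓ Subgroup.centralizer (((T : Subgroup H) : Subgroup H) : Set H))) ≤ V) : Subgroup.centralizer ((Cfsg.omegaOne p ((T : Subgroup H) ⊓ Subgroup.centralizer (((T : Subgroup H) : Subgroup H) : Set H))) : Set H) = Subgroup.centralizer (((⁅V, Cfsg.pResidual p H⁆ ⊓ (Cfsg.omegaOne p ((T : Subgroup H) ⊓ Subgroup.centralizer (((T : Subgroup H) : Subgroup H) : Set H)))) : Subgroup H) : Set H) := by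
  have hpp : p.Prime := Fact.out
  set Z : Subgroup H := Cfsg.omegaOne p ((T : Subgroup H) ⊓ Subgroup.centralizer (((T : Subgroup H) : Subgroup H) : Set H))
    with hZ
  set W : Subgroup H := ⁅V, Cfsg.pResidual p H⁆ with hW
  apply le_antisymm
  · exact centralizer_le (by exact_mod_cast (inf_le_right : W ⊓ Z ≤ Z))
  set C : Subgroup H := centralizer ((W ⊓ Z : Subgroup H) : Set H) with hC
  have hVp : IsPGroup p V := by
    intro v
    exact ⟨1, Subtype.ext (by simpa using hV.2 v v.2)⟩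
  have hVT : V ≤ (T : Subgroup H) := hVp.le_sylow_of_normal T
  have hZT : Z ≤ centralizer ((T : Subgroup H) : Set H) := by
    rw [hZ]
    unfold Cfsg.omegaOne
    rw [closure_le]
    intro x hx
    exact (mem_inf.mp hx.1).2
  have hTC : (T : Subgroup H) ≤ C := by
    rw [hC, le_centralizer_iff]
    exact inf_le_right.trans hZT
  have hVV : V ≤ centralizer (V : Set H) := le_centralizer_iff_isMulCommutative.mpr hV.1
  obtain ⟨τ, hτ⟩ := exists_isTrace (B := V) (E := C) (T : Subgroup H) hVV le_normalizer_of_normal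
  set n := (T : Subgroup H).relIndex C with hn
  have hncop : n.Coprime p := by
    rw [Nat.coprime_comm, Nat.Prime.coprime_iff_not_dvd hpp]
    intro hd
    exact T.not_dvd_index (hd.trans (relIndex_dvd_index_of_le hTC))
  rw [le_centralizer_iff]
  intro z hz
  have hzV : z ∈ V := hZV hz
  have hzT : z ∈ centralizer ((T : Subgroup H) : Set H) := hZT hz
  have h1 : τ z ∈ centralizer (C : Set H) := hτ.fixed z hzV hzT
  have h2 : τ z * (z ^ n)⁻¹ ∈ W := by
    apply hτ.div_mem W z hzV
    intro e _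
    obtain ⟨s, hs, u, hu, hsu⟩ := Cfsg.Agent.Lib.Helper34.exists_mul_pResidual (T : Subgroup H) T.not_dvd_index e⁻¹
    have he : e = u⁻¹ * s⁻¹ := by
      rw [← inv_inv e, hsu, mul_inv_rev]
    have hsz : s⁻¹ * z * s = z := by
      have := mem_centralizer_iff.mp hzT s hs
      rw [mul_assoc, ← this, inv_mul_cancel_left]
    have e1 : e * z * e⁻¹ * z⁻¹ = ⁅u⁻¹, z⁆ := by
      rw [commutatorElement_def, he]
      have : u⁻¹ * s⁻¹ * z * (u⁻¹ * s⁻¹)⁻¹ = u⁻¹ * (s⁻¹ * z * s) * u⁻¹⁻¹ := by group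
      rw [this, hsz]
    rw [e1, hW, commutator_comm]
    exact commutator_mem_commutator (inv_mem hu) hzV
  have hwV : τ z * (z ^ n)⁻¹ ∈ V := mul_mem (hτ.mem z hzV) (inv_mem (pow_mem hzV n))
  have h3 : τ z * (z ^ n)⁻¹ ∈ Z := by
    apply Subgroup.subset_closure
    refine ⟨mem_inf.mpr ⟨hVT hwV, ?_⟩, hV.2 _ hwV⟩
    refine mul_mem ?_ (inv_mem (pow_mem hzT n))
    exact centralizer_le (by exact_mod_cast hTC) h1
  have h4 : τ z * (z ^ n)⁻¹ ∈ centralizer (C : Set H) := by
    have : W ⊓ Z ≤ centralizer (C : Set H) := by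
      rw [← le_centralizer_iff]
    exact this (mem_inf.mpr ⟨h2, h3⟩)
  have h5 : z ^ n ∈ centralizer (C : Set H) := by
    have := mul_mem (inv_mem h4) h1
    have e : (τ z * (z ^ n)⁻¹)⁻¹ * τ z = z ^ n := by group
    rwa [e] at this
  exact mem_of_pow_mem_of_pow_eq_one (hV.2 z hzV) hncop h5

end Cfsg.Agent.S2826
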