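import Cfsg.Statements.S2828
import Cfsg.Agent.Lib.Helper47.PIrr

set_option autoImplicit false
open Cfsg
open Subgroup Cfsg.Agent.Lib.Helper47

namespace Cfsg.Agent.S2828

variable {H : Type*} [Group H] [Finite H] {p : ℕ} [Fact p.Prime] {D : Subgroup H} [D.Normal]

theorem isPGroup_comap (hD : IsPGroup p ↥D) {Q : Subgroup (H ⧸ D)} (hQ : IsPGroup p Q) :
    IsPGroup p (Q.comap (QuotientGroup.mk' D)) := by
  apply PQuot.isPGroup (B := D) _ hD
  intro x hx
  obtain ⟨k, hk⟩ := (isPGroup_iff_PQuot_bot.mp hQ) _ hx
  refine ⟨k, ?_⟩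
  rw [← map_pow, mem_bot] at hk
  exact (QuotientGroup.eq_one_iff _).mp hk

theorem comap_map_of_le {N : Subgroup H} (hDN : D ≤ N) :
    (N.map (QuotientGroup.mk' D)).comap (QuotientGroup.mk' D) = N :=
  comap_map_eq_self (by rw [QuotientGroup.ker_mk']; exact hDN)

theorem isPClosed_map_iff (hD : IsPGroup p ↥D) {N : Subgroup H} (hDN : D ≤ N) :
    IsPClosed p ↥(N.map (QuotientGroup.mk' D)) ↔ IsPClosed p ↥N := by
  have hsurj := QuotientGroup.mk'_surjective D
  constructor
  · intro h
    have hS := isPClosed_subgroup_iff_pCoreOf.mp h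
    set Tb := pCoreOf p (N.map (QuotientGroup.mk' D)) with hTb
    have hn : N.map (QuotientGroup.mk' D) ≤ normalizer (Tb : Set (H ⧸ D)) := le_normalizer_pCoreOf _
    have hTN : Tb.comap (QuotientGroup.mk' D) ≤ N := by
      have := comap_mono (f := QuotientGroup.mk' D) hS.le
      rwa [comap_map_of_le hDN] at this
    apply isPClosed_of_isSylowIn (T := Tb.comap (QuotientGroup.mk' D))
    · refine ⟨hTN, isPGroup_comap hD hS.isPGroup, fun Q hQ h1 h2 => ?_⟩
      have h3 : Tb ≤ Q.map (QuotientGroup.mk' D) := by
        have := map_mono (f := QuotientGroup.mk' D) h1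
        rwa [map_comap_eq_self_of_surjective hsurj] at this
      have h4 := hS.eq_of_le (hQ.map _) h3 (map_mono h2)
      apply le_antisymm _ h1
      rw [← h4]
      exact le_comap_map _ _
    · calc N ≤ (N.map (QuotientGroup.mk' D)).comap (QuotientGroup.mk' D) := le_comap_map _ _
        _ ≤ (normalizer (Tb : Set (H ⧸ D))).comap (QuotientGroup.mk' D) := comap_mono hn
        _ ≤ _ := le_normalizer_comap _
  · intro h
    have hS := isPClosed_subgroup_iff_pCoreOf.mp h
    set T := pCoreOf p N with hT
    have hn : N ≤ normalizer (T : Set H) := le_normalizer_pCoreOf _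
    apply isPClosed_of_isSylowIn (T := T.map (QuotientGroup.mk' D))
    · refine ⟨map_mono hS.le, hS.isPGroup.map _, fun Q hQ h1 h2 => ?_⟩
      have h3 : T ≤ Q.comap (QuotientGroup.mk' D) := map_le_iff_le_comap.mp h1
      have h4 : Q.comap (QuotientGroup.mk' D) ≤ N := by
        have := comap_mono (f := QuotientGroup.mk' D) h2
        rwa [comap_map_of_le hDN] at this
      have h5 := hS.eq_of_le (isPGroup_comap hD hQ) h3 h4
      rw [← h5, map_comap_eq_self_of_surjective hsurj]
    · exact (map_mono hn).trans (le_normalizer_map _)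

theorem pResidual_quotient :
    pResidual p (H ⧸ D) = (pResidual p H).map (QuotientGroup.mk' D) := by
  apply le_antisymm
  · apply pResidual_le_of_PQuot
    intro x _
    obtain ⟨y, rfl⟩ := QuotientGroup.mk'_surjective D x
    obtain ⟨k, hk⟩ := PQuot_pResOf (p := p) (⊤ : Subgroup H) y (mem_top y)
    rw [pResOf_top] at hk
    exact ⟨k, by rw [← map_pow]; exact mem_map_of_mem _ hk⟩
  · unfold pResidual
    rw [MonoidHom.map_closure, closure_le]
    rintro _ ⟨g, hg, rfl⟩
    apply Subgroup.subset_closure
    exact Nat.Coprime.coprime_dvd_left (orderOf_map_dvd _ g) hg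

theorem comap_pCore_quotient (hD : IsPGroup p ↥D) :
    (pCore p (H ⧸ D)).comap (QuotientGroup.mk' D) = pCore p H := by
  apply le_antisymm
  · exact le_pCore ((Lib.Helper47.pCore_normal).comap _) (isPGroup_comap hD pCore_isPGroup)
  · rw [← map_le_iff_le_comap]
    exact le_pCore ((Lib.Helper47.pCore_normal).map _ (QuotientGroup.mk'_surjective D))
      (pCore_isPGroup.map _)

theorem pResidual_le_of_le_sup (hD : IsPGroup p ↥D) {N : Subgroup H} (hN : N.Normal)
    (h : pResidual p H ≤ N ⊔ D) : pResidual p H ≤ N := by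
  have h1 : PQuot p (N ⊔ D) N := PQuot_sup (le_normalizer_of_normal hN D) hD
  have h2 := pResOf_le_of_PQuot h1
  have h3 := pResOf_mono (p := p) h
  rw [← pResOf_top, pResOf_pResOf] at h3
  rw [← pResOf_top]
  exact h3.trans h2

theorem le_sup_of_map_le {X N : Subgroup H}
    (h : X.map (QuotientGroup.mk' D) ≤ N.map (QuotientGroup.mk' D)) : X ≤ N ⊔ D := by
  have := (le_comap_map (QuotientGroup.mk' D) X).trans (comap_mono h)
  rwa [comap_map_eq, QuotientGroup.ker_mk'] at this

theorem isPClosed_quotient_iff (hD : IsPGroup p ↥D) : IsPClosed p (H ⧸ D) ↔ IsPClosed p H := by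
  rw [isPClosed_iff_top, isPClosed_iff_top (G := H), ← isPClosed_map_iff hD le_top,
    map_top_of_surjective _ (QuotientGroup.mk'_surjective D)]

/-- Let H be a finite group, p a prime and D a normal p-subgroup of H. Then H is p-irreducible if and only if H/D is p-irreducible, and H is strongly p-irreducible if and only if H/D is strongly p-irreducible. -/
theorem result {H : Type*} [Group H] [Finite H] {p : ℕ} [Fact p.Prime] (D : Subgroup H) [D.Normal] (hD : IsPGroup p ↥D) : (Cfsg.IsPIrreducible p H ↔ Cfsg.IsPIrreducible p (H ⧸ D)) ∧ (Cfsg.IsStronglyPIrreducible p H ↔ Cfsg.IsStronglyPIrreducible p (H ⧸ D)) := by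
  have hsurj := QuotientGroup.mk'_surjective D
  have hker : ∀ Nb : Subgroup (H ⧸ D), D ≤ Nb.comap (QuotientGroup.mk' D) := by
    intro Nb x hx
    rw [mem_comap]
    have : QuotientGroup.mk' D x = 1 := (QuotientGroup.eq_one_iff x).mpr hx
    rw [this]; exact one_mem Nb
  constructor
  · unfold IsPIrreducible
    rw [isPClosed_quotient_iff hD]
    refine and_congr Iff.rfl ⟨fun h Nb hNb hc => ?_, fun h N hN hc => ?_⟩
    · have h1 := h (Nb.comap (QuotientGroup.mk' D)) (hNb.comap _) (by
        rwa [← isPClosed_map_iff hD (hker Nb), map_comap_eq_self_of_surjective hsurj])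
      rw [pResidual_quotient]
      have := map_mono (f := QuotientGroup.mk' D) h1
      rwa [map_comap_eq_self_of_surjective hsurj] at this
    · have hND : (N ⊔ D).Normal := inferInstance
      have h1 := h ((N ⊔ D).map (QuotientGroup.mk' D)) (hND.map _ hsurj) (by
        rw [isPClosed_map_iff hD le_sup_right]
        exact fun hc' => hc (IsPClosed.mono hc' le_sup_left))
      rw [pResidual_quotient] at h1
      have h2 := le_sup_of_map_le h1
      rw [sup_assoc, sup_idem] at h2
      exact pResidual_le_of_le_sup hD hN h2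
  · unfold IsStronglyPIrreducible
    rw [isPClosed_quotient_iff hD]
    refine and_congr Iff.rfl ⟨fun h Nb hNb hc => ?_, fun h N hN hc => ?_⟩
    · have h1 := h (Nb.comap (QuotientGroup.mk' D)) (hNb.comap _) (by
        intro hle
        apply hc
        have h2 := map_mono (f := QuotientGroup.mk' D) hle
        rw [map_commutator, map_comap_eq_self_of_surjective hsurj, map_top_of_surjective _ hsurj,
          ← comap_pCore_quotient hD, map_comap_eq_self_of_surjective hsurj] at h2
        exact h2)
      rw [pResidual_quotient]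
      have := map_mono (f := QuotientGroup.mk' D) h1
      rwa [map_comap_eq_self_of_surjective hsurj] at this
    · have h1 := h (N.map (QuotientGroup.mk' D)) (hN.map _ hsurj) (by
        intro hle
        apply hc
        rw [← map_top_of_surjective _ hsurj, ← map_commutator, map_le_iff_le_comap,
          comap_pCore_quotient hD] at hle
        exact hle)
      rw [pResidual_quotient] at h1
      exact pResidual_le_of_le_sup hD hN (le_sup_of_map_le h1)

end Cfsg.Agent.S2828
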