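import Cfsg.Statements.S2830
import Cfsg.Agent.Lib.Helper47.PIrr

set_option autoImplicit false
open Cfsg
open Subgroup Cfsg.Agent.Lib.Helper47

namespace Cfsg.Agent.S2830

/-- Let H act by conjugation on the elementary abelian p-subgroup V of a finite group G (H ≤ N(V)), with H p-irreducible and O^p(H) not centralizing V. Then C_H(V) is p-closed and C_T(V) ≤ O_p(H) for every p-subgroup T of H. If in addition O_p(H) centralizes V, then C_T(V) = T ∩ O_p(H) for every p-subgroup T of H, and V is p-reduced for H: O_p(H/C_H(V)) = 1. -/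
theorem result {G : Type*} [Group G] [Finite G] {p : ℕ} [Fact p.Prime] (V H : Subgroup G) (hV : Cfsg.IsElementaryAbelian p V) (hHV : H ≤ Subgroup.normalizer (V : Set G)) (hH : Cfsg.IsPIrreducible p ↥H) (hnc : ¬ (Cfsg.pResidual p ↥H).map H.subtype ≤ Subgroup.centralizer (V : Set G)) [hn : ((Subgroup.centralizer (V : Set G)).subgroupOf H).Normal] : Cfsg.IsPClosed p ↥(H ⊓ Subgroup.centralizer (V : Set G)) ∧ (∀ T : Subgroup G, T ≤ H → IsPGroup p ↥T → T ⊓ Subgroup.centralizer (V : Set G) ≤ Cfsg.pCoreOf p H) ∧ (Cfsg.pCoreOf p H ≤ Subgroup.centralizer (V : Set G) → (∀ T : Subgroup G, T ≤ H → IsPGroup p ↥T → T ⊓ Subgroup.centralizer (V : Set G) = T ⊓ Cfsg.pCoreOf p H) ∧ Cfsg.pCore p (↥H ⧸ (Subgroup.centralizer (V : Set G)).subgroupOf H) = ⊥) := by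
  have hirr := isPIrreducible_subgroup_iff.mp hH
  have hHCV : H ≤ normalizer ((centralizer (V : Set G) : Subgroup G) : Set G) :=
    hHV.trans (normalizer_le_normalizer_centralizer V)
  have hHC : H ≤ normalizer ((H ⊓ centralizer (V : Set G) : Subgroup G) : Set G) :=
    le_normalizer_inf Subgroup.le_normalizer hHCV
  have ha : IsPClosed p ↥(H ⊓ centralizer (V : Set G)) := by
    by_contra h
    exact hnc ((hirr.2 _ inf_le_left hHC h).trans inf_le_right)
  have hb : ∀ T : Subgroup G, T ≤ H → IsPGroup p ↥T →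
      T ⊓ centralizer (V : Set G) ≤ pCoreOf p H := by
    intro T hTH hT
    exact (IsPClosed.le_pCoreOf ha hT.to_inf_left (inf_le_inf_right _ hTH)).trans
      (pCoreOf_le_pCoreOf_of_normal inf_le_left hHC)
  refine ⟨ha, hb, fun hO => ⟨fun T hTH hT => ?_, ?_⟩⟩
  · exact le_antisymm (le_inf inf_le_left (hb T hTH hT)) (inf_le_inf_left _ hO)
  · rw [pCore_quotient_subgroupOf_eq_bot_iff]
    intro D hDH hnD hq
    have hDc : IsPClosed p ↥D := by
      by_contra h
      apply hnc
      have h1 := hirr.2 D hDH hnD h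
      have h2 := pResOf_mono (p := p) h1
      rw [pResOf_pResOf] at h2
      exact h2.trans (pResOf_le_of_PQuot hq)
    have hS := isPClosed_subgroup_iff_pCoreOf.mp hDc
    have h3 := hS.sup_eq_of_PQuot (C := D ⊓ centralizer (V : Set G)) inf_le_left
      (le_normalizer_inf Subgroup.le_normalizer (hDH.trans hHCV)) hq.inf_right
    rw [← h3]
    exact sup_le inf_le_right ((pCoreOf_le_pCoreOf_of_normal hDH hnD).trans hO)

end Cfsg.Agent.S2830
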