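import Cfsg.Statements.S2831
import Cfsg.Agent.Lib.Helper47.Misc

set_option autoImplicit false
open Cfsg

namespace Cfsg.Agent.S2831

open Subgroup Cfsg.Agent.Lib.Helper47

/-- Let H be a finite group with Sylow p-subgroup T such that H is T-minimal (H is generated by the conjugates of T and T lies in exactly one maximal subgroup of H). Then H is p-irreducible: H is not p-closed and O^p(H) lies in every normal subgroup of H that is not p-closed. -/
theorem result {H : Type*} [Group H] [Finite H] {p : ℕ} [Fact p.Prime] (T : Sylow p H) (hmin : Cfsg.IsMinimalOver (T : Subgroup H)) : Cfsg.IsPIrreducible p H := by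
  obtain ⟨M, ⟨hM, hTM⟩, -⟩ := hmin.2
  refine ⟨fun hc => ?_, fun N hN hnc => ?_⟩
  · have h1 := IsMinimalOver.eq_top_of_normal hmin (hc T) le_rfl
    exact hM.1 (top_le_iff.mp (h1 ▸ hTM))
  · have hNn : (⊤ : Subgroup H) ≤ normalizer (N : Set H) := by rw [normalizer_eq_top]
    have hS : IsSylowIn p ((T : Subgroup H) ⊓ N) N := (isSylowIn_top T).inf_of_normal le_top hNn
    have h1 : ¬ N ≤ normalizer (((T : Subgroup H) ⊓ N : Subgroup H) : Set H) :=
      fun h => hnc (isPClosed_of_isSylowIn hS h)
    have h2 : (T : Subgroup H) ≤ normalizer (((T : Subgroup H) ⊓ N : Subgroup H) : Set H) := by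
      intro t ht
      apply mem_normalizer_of_cj_eq
      rw [cj_inf, cj_eq_self_of_mem ht, Normal_cj hN]
    have h3 : normalizer (((T : Subgroup H) ⊓ N : Subgroup H) : Set H) ≤ M :=
      IsMinimalOver.le_of_ne_top hmin hM hTM h2 (fun h => h1 (h ▸ le_top))
    have h4 := hS.frattini_sup le_top hNn
    rw [top_inf_eq] at h4
    have h5 : N ⊔ (T : Subgroup H) = ⊤ := by
      by_contra hne
      have h6 : N ⊔ (T : Subgroup H) ≤ M := IsMinimalOver.le_of_ne_top hmin hM hTM le_sup_right hne
      exact hM.1 (top_le_iff.mp (h4 ▸ sup_le (le_sup_left.trans h6) h3))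
    apply pResidual_le_of_PQuot
    rw [← h5]
    exact PQuot_sup (le_top.trans hNn) T.2

end Cfsg.Agent.S2831
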