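import Cfsg.Statements.S2832
import Cfsg.Agent.Lib.Helper47.Comm

set_option autoImplicit false
open Cfsg

namespace Cfsg.Agent.S2832

open Subgroup Cfsg.Agent.Lib.Helper47
open scoped commutatorElement

/-- Let H be a finite group with Sylow p-subgroup T such that H is T-minimal (generated by the conjugates of T, with T in exactly one maximal subgroup), and let N be a normal subgroup of H. Then either H/N is a p-group or H/N is minimal over the image of T in the same sense. -/
theorem result {H : Type*} [Group H] [Finite H] {p : ℕ} [Fact p.Prime] (T : Sylow p H) (hmin : Cfsg.IsMinimalOver (T : Subgroup H)) (N : Subgroup H) [N.Normal] : IsPGroup p (H ⧸ N) ∨ Cfsg.IsMinimalOver ((T : Subgroup H).map (QuotientGroup.mk' N)) := by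
  have hsurj := QuotientGroup.mk'_surjective N
  by_cases h : N ⊔ (T : Subgroup H) = ⊤
  · left
    rw [isPGroup_quotient_iff, ← h]
    apply PQuot_sup _ T.2
    rw [normalizer_eq_top]; exact le_top
  · right
    obtain ⟨M, ⟨hM, hTM⟩, huniq⟩ := hmin.2
    refine ⟨?_, ?_⟩
    · have h1 : ((normalClosure (((T : Subgroup H).map (QuotientGroup.mk' N) : Subgroup (H ⧸ N)) : Set (H ⧸ N))).comap
          (QuotientGroup.mk' N)) = ⊤ := by
        apply IsMinimalOver.eq_top_of_normal hmin inferInstance
        rw [← map_le_iff_le_comap]
        exact le_normalClosure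
      have h2 := congrArg (Subgroup.map (QuotientGroup.mk' N)) h1
      rwa [map_comap_eq_self_of_surjective hsurj, map_top_of_surjective _ hsurj] at h2
    · have hne : (T : Subgroup H).map (QuotientGroup.mk' N) ≠ ⊤ := by
        intro h1
        apply h
        have h2 := congrArg (Subgroup.comap (QuotientGroup.mk' N)) h1
        rw [comap_map_eq, QuotientGroup.ker_mk', comap_top, sup_comm] at h2
        exact h2
      obtain ⟨M', hM', hTM'⟩ := exists_coatom_ge hne
      refine ⟨M', ⟨hM', hTM'⟩, ?_⟩
      rintro M'' ⟨hM'', hTM''⟩
      have e1 := huniq _ ⟨isCoatom_comap_of_surjective hsurj hM', map_le_iff_le_comap.mp hTM'⟩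
      have e2 := huniq _ ⟨isCoatom_comap_of_surjective hsurj hM'', map_le_iff_le_comap.mp hTM''⟩
      exact comap_injective hsurj (e2.trans e1.symm)

end Cfsg.Agent.S2832
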