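import Cfsg.Statements.S2833
import Cfsg.Agent.Lib.Helper47.Comm

set_option autoImplicit false
open Cfsg

namespace Cfsg.Agent.S2833

open Subgroup Cfsg.Agent.Lib.Helper47
open scoped commutatorElement

/-- Let V be a subgroup of a finite group G normalized by the subgroup L, let X ≤ L and g ∈ L with [V, X, X] = 1 and L generated by X and gXg⁻¹. Put W = [V, L]. Then W = [V, X]·[V, gXg⁻¹], C_W(X) = [V, X], and C_W(L) = [V, X] ∩ [V, gXg⁻¹]. -/
theorem result {G : Type*} [Group G] [Finite G] (V L : Subgroup G) (hLV : L ≤ Subgroup.normalizer (V : Set G)) (X : Subgroup G) (hX : X ≤ L) (g : G) (hg : g ∈ L) (hq : ⁅⁅V, X⁆, X⁆ = ⊥) (hgen : X ⊔ X.map (MulAut.conj g).toMonoidHom = L) (W : Subgroup G) (hW : W = ⁅V, L⁆) : ⁅V, X⁆ ⊔ ⁅V, X.map (MulAut.conj g).toMonoidHom⁆ = W ∧ W ⊓ Subgroup.centralizer (X : Set G) = ⁅V, X⁆ ∧ W ⊓ Subgroup.centralizer (L : Set G) = ⁅V, X⁆ ⊓ ⁅V, X.map (MulAut.conj g).toMonoidHom⁆ := by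
  set X' := cj g X with hX'
  set A := ⁅V, X⁆ with hA
  set A' := ⁅V, X'⁆ with hA'
  have hX'L : X' ≤ L := hgen ▸ le_sup_right
  have hgV : cj g V = V := cj_eq_self_of_mem_normalizer (hLV hg)
  have hAA' : A' = cj g A := by rw [hA, cj_commutator, hgV]
  have hAV : A ≤ V := le_normalizer_iff_commutator_le_left.mp (hX.trans hLV)
  have hA'V : A' ≤ V := le_normalizer_iff_commutator_le_left.mp (hX'L.trans hLV)
  have hq' : ⁅A', X'⁆ = ⊥ := by rw [hAA', hX', ← cj_commutator, hq, cj_bot]
  have hAC : A ≤ centralizer (X : Set G) := commutator_eq_bot_iff_le_centralizer.mp hq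
  have hA'C : A' ≤ centralizer (X' : Set G) := commutator_eq_bot_iff_le_centralizer.mp hq'
  have hnX : X ≤ normalizer ((A ⊔ A' : Subgroup G) : Set G) := by
    apply le_normalizer_of_cj_le
    intro x hx
    rw [cj_sup]
    apply sup_le
    · rw [cj_eq_self_of_mem_normalizer (normalizer_commutator_ge_right V X hx)]; exact le_sup_left
    · exact cj_le_sup_commutator hA'V hx
  have hnX' : X' ≤ normalizer ((A ⊔ A' : Subgroup G) : Set G) := by
    apply le_normalizer_of_cj_le
    intro x hx
    rw [cj_sup]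
    apply sup_le
    · rw [sup_comm]; exact cj_le_sup_commutator hAV hx
    · rw [cj_eq_self_of_mem_normalizer (normalizer_commutator_ge_right V X' hx)]; exact le_sup_right
  have h1 : A ⊔ A' = W := by
    rw [hW]
    apply le_antisymm
    · exact sup_le (commutator_mono le_rfl hX) (commutator_mono le_rfl hX'L)
    · rw [← hgen]
      exact commutator_sup_le le_sup_left le_sup_right hnX hnX'
  have hcL : ∀ b, b ∈ centralizer (X : Set G) → b ∈ centralizer (X' : Set G) →
      b ∈ centralizer (L : Set G) := by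
    intro b hb hb'
    have : X ⊔ X' ≤ centralizer ((zpowers b : Subgroup G) : Set G) := by
      apply sup_le
      · rw [le_centralizer_comm, zpowers_le]; exact hb
      · rw [le_centralizer_comm, zpowers_le]; exact hb'
    rw [hgen, le_centralizer_comm, zpowers_le] at this
    exact this
  have hfix : ∀ b, b ∈ centralizer (L : Set G) → g⁻¹ * b * g = b := by
    intro b hb
    have := (mem_centralizer_iff.mp hb) g hg
    rw [mul_assoc, ← this, ← mul_assoc, inv_mul_cancel, one_mul]
  have h2 : W ⊓ centralizer (X : Set G) = A := by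
    apply le_antisymm
    · intro w hw
      have hw1 : w ∈ A ⊔ A' := h1 ▸ hw.1
      obtain ⟨a, ha, b, hb, rfl⟩ :=
        mem_sup_of_le_normalizer (hA'V.trans (normalizer_commutator_ge_left V X)) hw1
      have hbX : b ∈ centralizer (X : Set G) := by
        have := mul_mem (inv_mem (hAC ha)) hw.2
        simpa using this
      have hbL := hcL b hbX (hA'C hb)
      have hbA : b ∈ A := by
        rw [hAA', mem_cj, hfix b hbL] at hb
        exact hb
      exact mul_mem ha hbA
    · exact le_inf (h1 ▸ le_sup_left) hAC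
  refine ⟨h1, h2, ?_⟩
  apply le_antisymm
  · intro w hw
    have hwA : w ∈ A := h2 ▸ (mem_inf.mpr ⟨hw.1, centralizer_le (by exact_mod_cast hX) hw.2⟩)
    refine mem_inf.mpr ⟨hwA, ?_⟩
    rw [hAA', mem_cj, hfix w hw.2]
    exact hwA
  · intro w hw
    exact mem_inf.mpr ⟨h1 ▸ mem_sup_left hw.1, hcL w (hAC hw.1) (hA'C hw.2)⟩

end Cfsg.Agent.S2833
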