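import Cfsg.Statements.S2834
import Cfsg.Agent.Lib.Helper48.LLemma

set_option autoImplicit false
open Cfsg

namespace Cfsg.Agent.S2834

/-- The L-Lemma: let H be a finite group with Sylow p-subgroup T such that H is T-minimal (generated by the conjugates of T, T in exactly one maximal subgroup M), and let A ≤ T with A not contained in O_p(H). Then there is a subgroup L of H containing A·O_p(H) such that (a) A·O_p(L) lies in exactly one maximal subgroup L₀ of L, and L₀ = L ∩ gMg⁻¹ for some g ∈ H; (b) L = ⟨A, xAx⁻¹⟩·O_p(L) for every x ∈ L outside L₀. -/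
theorem result {H : Type*} [Group H] [Finite H] {p : ℕ} [Fact p.Prime] (T : Sylow p H) (hmin : Cfsg.IsMinimalOver (T : Subgroup H)) (M : Subgroup H) (hM : IsCoatom M ∧ (T : Subgroup H) ≤ M) (A : Subgroup H) (hAT : A ≤ (T : Subgroup H)) (hA : ¬ A ≤ Cfsg.pCore p H) : ∃ L : Subgroup H, A ⊔ Cfsg.pCore p H ≤ L ∧ ∃ L₀ : Subgroup H, A ⊔ (Cfsg.pCoreOf p L) ≤ L₀ ∧ L₀ < L ∧ (∀ X : Subgroup H, A ⊔ (Cfsg.pCoreOf p L) ≤ X → X < L → X ≤ L₀) ∧ (∃ g : H, L₀ = L ⊓ ((M : Subgroup H).map (MulAut.conj (g : H)).toMonoidHom)) ∧ ∀ x ∈ L, x ∉ L₀ → (A ⊔ ((A : Subgroup H).map (MulAut.conj (x : H)).toMonoidHom)) ⊔ (Cfsg.pCoreOf p L) = L := by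
  obtain ⟨-, M', hM', huniq⟩ := hmin
  have hMM' : M = M' := huniq M hM
  have hPM : Cfsg.Agent.Lib.Helper48.PM p (⊤ : Subgroup H) M (T : Subgroup H) := by
    refine ⟨?_, hM.2, le_top, hM.1.1, ?_⟩
    · rw [Cfsg.Agent.Lib.Helper22.isSylowIn_iff]
      exact ⟨le_top, T.isPGroup', fun R hR _ hTR => T.is_maximal' hR hTR⟩
    · intro X _ hTX
      rcases eq_top_or_exists_le_coatom X with h | ⟨M'', hM'', hXM''⟩
      · exact Or.inl h
      · right
        have : M'' = M' := huniq M'' ⟨hM'', hTX.trans hXM''⟩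
        rw [hMM', ← this]
        exact hXM''
  have hA' : ¬ A ≤ Cfsg.pCoreOf p (⊤ : Subgroup H) := by
    rw [Cfsg.Agent.Lib.Helper49.pCoreOf_top]
    exact hA
  obtain ⟨L, -, hAL, L₀, h1, h2, h3, ⟨g, -, h4⟩, h5⟩ :=
    Cfsg.Agent.Lib.Helper48.lLemma_rel _ _ M _ A le_rfl hPM hAT hA'
  rw [Cfsg.Agent.Lib.Helper49.pCoreOf_top] at hAL
  exact ⟨L, hAL, L₀, h1, h2, h3, ⟨g, h4⟩, h5⟩

end Cfsg.Agent.S2834
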