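import Cfsg.Statements.S2835
import Cfsg.Agent.Lib.Helper47.Nilp

set_option autoImplicit false
open Cfsg

namespace Cfsg.Agent.S2835

open Subgroup Cfsg.Agent.Lib.Helper47

/-- Let L be a finite group, L₀ a maximal subgroup, T a Sylow p-subgroup of L₀ and Y ≤ T, and suppose L is Y-minimal (generated by the conjugates of Y, with Y in exactly one maximal subgroup, necessarily L₀). Then N_L(T) ≤ L₀, O_p(L) ≤ L₀ and T is a Sylow p-subgroup of L; N_L(L₀) = L₀; L = ⟨Y, gYg⁻¹⟩ for each g ∈ L outside L₀; and if Y is abelian then Y ∩ gYg⁻¹ = C_Y(L) for each such g. -/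
theorem result {L : Type*} [Group L] [Finite L] {p : ℕ} [Fact p.Prime] (L₀ : Subgroup L) (hL₀ : IsCoatom L₀) (T : Sylow p ↥L₀) (Y : Subgroup L) (hYT : Y ≤ (T : Subgroup ↥L₀).map L₀.subtype) (hmin : Cfsg.IsMinimalOver Y) : Subgroup.normalizer (((T : Subgroup ↥L₀).map L₀.subtype : Subgroup L) : Set L) ≤ L₀ ∧ Cfsg.pCore p L ≤ L₀ ∧ (∃ P : Sylow p L, (P : Subgroup L) = (T : Subgroup ↥L₀).map L₀.subtype) ∧ Subgroup.normalizer (L₀ : Set L) = L₀ ∧ (∀ g : L, g ∉ L₀ → Y ⊔ Y.map (MulAut.conj g).toMonoidHom = ⊤) ∧ (IsMulCommutative ↥Y → ∀ g : L, g ∉ L₀ → Y ⊓ Y.map (MulAut.conj g).toMonoidHom = Y ⊓ Subgroup.center L) := by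
  have hT := isSylowIn_map L₀ T
  set T' := (T : Subgroup ↥L₀).map L₀.subtype with hT'
  have hYL : Y ≤ L₀ := hYT.trans hT.le
  have h1 : normalizer (T' : Set L) ≤ L₀ := by
    apply IsMinimalOver.le_of_ne_top hmin hL₀ hYL (hYT.trans le_normalizer)
    intro h
    rw [normalizer_eq_top_iff] at h
    have := IsMinimalOver.eq_top_of_normal hmin h hYT
    exact hL₀.1 (top_le_iff.mp (this ▸ hT.le))
  have h3 : IsSylowIn p T' ⊤ := by
    obtain ⟨P, hP, hTP⟩ := exists_isSylowIn_ge (L := ⊤) hT.isPGroup le_top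
    rcases eq_or_lt_of_le hTP with h | h
    · rw [h]; exact hP
    · exfalso
      have h4 := lt_inf_normalizer hP.isPGroup h
      have h5 := hT.eq_of_le (hP.isPGroup.to_inf_left (K := normalizer (T' : Set L))) h4.le
        (inf_le_right.trans h1)
      exact h4.ne h5.symm
  have h4 : normalizer (L₀ : Set L) = L₀ := by
    rcases eq_or_lt_of_le (le_normalizer (H := L₀)) with h | h
    · exact h.symm
    · exfalso
      have := hL₀.2 _ h
      rw [normalizer_eq_top_iff] at this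
      exact hL₀.1 (IsMinimalOver.eq_top_of_normal hmin this hYL)
  have h5 : ∀ g : L, g ∉ L₀ → Y ⊔ cj g Y = ⊤ := by
    intro g hg
    by_contra hne
    have h6 := IsMinimalOver.le_of_ne_top hmin hL₀ hYL le_sup_left hne
    have h7 : Y ≤ cj g⁻¹ L₀ := cj_le_iff.mp (le_sup_right.trans h6)
    obtain ⟨M0, _, huniq⟩ := hmin.2
    have h8 : cj g⁻¹ L₀ = L₀ := by
      rw [huniq _ ⟨isCoatom_cj hL₀ g⁻¹, h7⟩, huniq _ ⟨hL₀, hYL⟩]
    have h9 := mem_normalizer_of_cj_eq h8
    rw [h4] at h9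
    exact hg (by simpa using h9)
  refine ⟨h1, ?_, ⟨h3.toSylowTop, rfl⟩, h4, h5, ?_⟩
  · have := pCoreOf_le_of_isSylowIn h3
    rw [pCoreOf_top] at this
    exact this.trans hT.le
  · intro hc g hg
    apply le_antisymm
    · intro x hx
      refine mem_inf.mpr ⟨hx.1, ?_⟩
      have h6 : Y ⊔ cj g Y ≤ centralizer {x} := by
        apply sup_le
        · intro y hy
          rw [mem_centralizer_singleton_iff]
          have := hc.is_comm.comm ⟨y, hy⟩ ⟨x, hx.1⟩
          exact congrArg Subtype.val this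
        · intro y hy
          rw [mem_centralizer_singleton_iff]
          have h7 := hc.is_comm.comm ⟨_, mem_cj.mp hy⟩ ⟨_, mem_cj.mp hx.2⟩
          have h8 : (g⁻¹ * y * g) * (g⁻¹ * x * g) = (g⁻¹ * x * g) * (g⁻¹ * y * g) :=
            congrArg Subtype.val h7
          have e1 : y * x = g * ((g⁻¹ * y * g) * (g⁻¹ * x * g)) * g⁻¹ := by group
          have e2 : x * y = g * ((g⁻¹ * x * g) * (g⁻¹ * y * g)) * g⁻¹ := by group
          rw [e1, e2, h8]
      rw [h5 g hg] at h6
      rw [mem_center_iff]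
      intro y
      exact (mem_centralizer_singleton_iff.mp (h6 (mem_top y)))
    · intro x hx
      refine mem_inf.mpr ⟨hx.1, ?_⟩
      rw [mem_cj]
      have := (mem_center_iff.mp hx.2) g
      rw [mul_assoc, ← this, ← mul_assoc, inv_mul_cancel, one_mul]
      exact hx.1

end Cfsg.Agent.S2835
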