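import Cfsg.Statements.S2836
import Cfsg.Agent.Lib.Helper47.YMin

set_option autoImplicit false
open Cfsg
open Subgroup Cfsg.Agent.Lib.Helper47
open scoped commutatorElement

namespace Cfsg.Agent.S2836

/-- Let L be a finite group, L₀ a maximal subgroup, T a Sylow p-subgroup of L₀, Y ≤ T, and suppose L is Y-minimal. Let D be the intersection of the conjugates of L₀ (the core of L₀). Then D contains O_p(L) and D/O_p(L) is the Frattini subgroup of L/O_p(L), so D is p-closed; and every normal subgroup N of L contained in L₀ is p-closed with N/O_p(N) a nilpotent group of order prime to p. -/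
theorem result {L : Type*} [Group L] [Finite L] {p : ℕ} [Fact p.Prime] (L₀ : Subgroup L) (hL₀ : IsCoatom L₀) (T : Sylow p ↥L₀) (Y : Subgroup L) (hYT : Y ≤ (T : Subgroup ↥L₀).map L₀.subtype) (hmin : Cfsg.IsMinimalOver Y) : (Cfsg.pCore p L ≤ L₀.normalCore ∧ (L₀.normalCore).map (QuotientGroup.mk' (Cfsg.pCore p L)) = frattini (L ⧸ Cfsg.pCore p L) ∧ Cfsg.IsPClosed p ↥(L₀.normalCore)) ∧ ∀ (N : Subgroup L) [N.Normal], N ≤ L₀ → Cfsg.IsPClosed p ↥N ∧ Group.IsNilpotent (↥N ⧸ Cfsg.pCore p ↥N) ∧ (Nat.card (↥N ⧸ Cfsg.pCore p ↥N)).Coprime p := by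
  have hp : Fact p.Prime := inferInstance
  have hT : IsSylowIn p ((T : Subgroup ↥L₀).map L₀.subtype) L₀ := isSylowIn_map L₀ T
  set T' := (T : Subgroup ↥L₀).map L₀.subtype with hT'
  have hYL₀ : Y ≤ L₀ := hYT.trans hT.le
  have hYp : IsPGroup p Y := hT.isPGroup.to_le hYT
  have hB : ∀ (N : Subgroup L) [N.Normal], N ≤ L₀ → Cfsg.IsPClosed p ↥N ∧
      Group.IsNilpotent (↥N ⧸ Cfsg.pCore p ↥N) ∧ (Nat.card (↥N ⧸ Cfsg.pCore p ↥N)).Coprime p := by
    intro N hN hNL₀
    obtain ⟨hS, hOn⟩ := IsMinimalOver.sylow_inf_normal hmin hL₀ hT hYT hN hNL₀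
    set O := T' ⊓ N with hO
    have hOeq : O = pCoreOf p N := hS.eq_pCoreOf_of_normal (le_normalizer_of_normal hOn N)
    refine ⟨isPClosed_of_isSylowIn hS (le_normalizer_of_normal hOn N), ?_, ?_⟩
    · have htfae := (Group.isNilpotent_of_finite_tfae (G := ↥N ⧸ Cfsg.pCore p ↥N)).out 0 3
      rw [htfae]
      intro r hr P
      obtain ⟨R₀, rfl⟩ := Sylow.mapSurjective_surjective
        (QuotientGroup.mk'_surjective (Cfsg.pCore p ↥N)) r P
      rw [Sylow.coe_mapSurjective]
      have hR : IsSylowIn r ((R₀ : Subgroup ↥N).map N.subtype) N := isSylowIn_map N R₀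
      have hn := IsMinimalOver.sup_normal hmin hL₀ hYL₀ hYp hN hNL₀ hS hOn hR
      have e1 : ((R₀ : Subgroup ↥N) ⊔ pCore p ↥N).map N.subtype
          = (R₀ : Subgroup ↥N).map N.subtype ⊔ O := by
        rw [Subgroup.map_sup, hOeq]; rfl
      have e2 : (R₀ : Subgroup ↥N) ⊔ pCore p ↥N
          = ((R₀ : Subgroup ↥N).map N.subtype ⊔ O).subgroupOf N := by
        rw [← e1, subgroupOf_map_subtype']
      have hn2 : ((R₀ : Subgroup ↥N) ⊔ pCore p ↥N).Normal := by
        rw [e2]; exact hn.subgroupOf N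
      have e3 : (R₀ : Subgroup ↥N).map (QuotientGroup.mk' (pCore p ↥N))
          = ((R₀ : Subgroup ↥N) ⊔ pCore p ↥N).map (QuotientGroup.mk' (pCore p ↥N)) := by
        rw [Subgroup.map_sup, QuotientGroup.map_mk'_self, sup_bot_eq]
      rw [e3]
      exact hn2.map _ (QuotientGroup.mk'_surjective _)
    · have h1 : Nat.card (↥N ⧸ Cfsg.pCore p ↥N) = O.relIndex N := by
        rw [← index_eq_card, ← pCoreOf_subgroupOf, ← hOeq]; rfl
      rw [h1]
      exact ((Nat.Prime.coprime_iff_not_dvd hp.out).mpr hS.not_dvd_relIndex).symm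
  have hQL₀ : pCore p L ≤ L₀ := IsMinimalOver.pCore_le hmin hL₀ hYL₀ hYp
  have hQn : (pCore p L).Normal := Lib.Helper47.pCore_normal
  have hQD : pCore p L ≤ L₀.normalCore := (normal_le_normalCore).mpr hQL₀
  refine ⟨⟨hQD, ?_, (hB L₀.normalCore (normalCore_le L₀)).1⟩, hB⟩
  set D := L₀.normalCore with hD
  have hDn : D.Normal := normalCore_normal L₀
  have hsurj := QuotientGroup.mk'_surjective (pCore p L)
  apply le_antisymm
  · rw [Cfsg.Agent.Lib.Helper1.le_frattini_iff]
    intro K hK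
    rw [map_le_iff_le_comap]
    have hM' : IsCoatom (K.comap (QuotientGroup.mk' (pCore p L))) :=
      isCoatom_comap_of_surjective hsurj hK
    set M' := K.comap (QuotientGroup.mk' (pCore p L)) with hM'def
    have hQM' : pCore p L ≤ M' := by
      intro x hx
      rw [hM'def, mem_comap]
      have : QuotientGroup.mk' (pCore p L) x = 1 := (QuotientGroup.eq_one_iff x).mpr hx
      rw [this]; exact one_mem K
    by_contra hDM'
    have htop : D ⊔ M' = ⊤ := by
      rcases hM'.le_iff.mp (le_sup_right : M' ≤ D ⊔ M') with h | h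
      · exact h
      · exact absurd (h ▸ le_sup_left) hDM'
    obtain ⟨hS, hOn⟩ := IsMinimalOver.sylow_inf_normal hmin hL₀ hT hYT hDn (normalCore_le L₀)
    have hOQ : T' ⊓ D ≤ pCore p L := le_pCore hOn hS.isPGroup
    exact hM'.1 (IsMinimalOver.eq_top_of_sup_eq_top hmin hL₀ hYL₀ hYp hDn (normalCore_le L₀) hS hOn
      htop (hOQ.trans hQM'))
  · have hco : IsCoatom (L₀.map (QuotientGroup.mk' (pCore p L))) :=
      Cfsg.Agent.Lib.Helper1.isCoatom_map_of_surjective hsurj
        (by rw [QuotientGroup.ker_mk']; exact hQL₀) hL₀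
    have h1 : frattini (L ⧸ pCore p L) ≤ L₀.map (QuotientGroup.mk' (pCore p L)) :=
      frattini_le_coatom hco
    have h2 : (frattini (L ⧸ pCore p L)).comap (QuotientGroup.mk' (pCore p L)) ≤ L₀ := by
      have := comap_mono (f := QuotientGroup.mk' (pCore p L)) h1
      rwa [comap_map_eq_self (by rw [QuotientGroup.ker_mk']; exact hQL₀)] at this
    have h3 : ((frattini (L ⧸ pCore p L)).comap (QuotientGroup.mk' (pCore p L))).Normal :=
      Normal.comap inferInstance _
    have h4 : (frattini (L ⧸ pCore p L)).comap (QuotientGroup.mk' (pCore p L)) ≤ D :=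
      (normal_le_normalCore).mpr h2
    have h5 := map_mono (f := QuotientGroup.mk' (pCore p L)) h4
    rwa [map_comap_eq_self_of_surjective hsurj] at h5

end Cfsg.Agent.S2836
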