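import Cfsg.Statements.S2837
import Cfsg.Agent.Lib.Helper47.Frat2

set_option autoImplicit false
open Cfsg
open Subgroup Cfsg.Agent.Lib.Helper47
open scoped commutatorElement

namespace Cfsg.Agent.S2837

theorem le_normalizer_of_le_center {G : Type*} [Group G] {U : Subgroup G} (hU : U ≤ center G)
    (X : Subgroup G) : X ≤ normalizer (U : Set G) := by
  apply le_normalizer_of_cj_le
  rintro x _ _ ⟨u, hu, rfl⟩
  have : (MulAut.conj x).toMonoidHom u = u := by
    simp only [MulEquiv.coe_toMonoidHom, MulAut.conj_apply]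
    rw [(mem_center_iff.mp (hU hu)) x]; group
  rwa [this]

/-- Let L be a finite group of characteristic p, L₀ a maximal subgroup, Y an elementary abelian p-subgroup of L₀ with L Y-minimal and O_p(L) ≤ N_L(Y). Put A = the normal closure of O_p(L) ∩ Y in L. Then for every g ∈ L outside L₀: Φ(A) = A' = [A ∩ Y, A] = [A ∩ Y, A ∩ gYg⁻¹] ≤ C_Y(L), and Y ∩ gYg⁻¹ = (A ∩ Y) ∩ (A ∩ gYg⁻¹) = C_Y(L) = C_A(L). -/
theorem result {L : Type*} [Group L] [Finite L] {p : ℕ} [Fact p.Prime] (hchar : Subgroup.centralizer (Cfsg.pCore p L : Set L) ≤ Cfsg.pCore p L) (L₀ : Subgroup L) (hL₀ : IsCoatom L₀) (Y : Subgroup L) (hYL₀ : Y ≤ L₀) (hYel : Cfsg.IsElementaryAbelian p Y) (hmin : Cfsg.IsMinimalOver Y) (hOY : Cfsg.pCore p L ≤ Subgroup.normalizer (Y : Set L)) (A : Subgroup L) (hA : A = Subgroup.normalClosure (((Cfsg.pCore p L ⊓ Y : Subgroup L)) : Set L)) (g : L) (hg : g ∉ L₀) : (frattini ↥A).map A.subtype = ⁅A, A⁆ ∧ ⁅A, A⁆ = ⁅A ⊓ Y, A⁆ ∧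 ⁅A ⊓ Y, A⁆ = ⁅A ⊓ Y, A ⊓ Y.map (MulAut.conj g).toMonoidHom⁆ ∧ ⁅A ⊓ Y, A⁆ ≤ Y ⊓ Subgroup.center L ∧ Y ⊓ Y.map (MulAut.conj g).toMonoidHom = Y ⊓ Subgroup.center L ∧ (A ⊓ Y) ⊓ (A ⊓ Y.map (MulAut.conj g).toMonoidHom) = Y ⊓ Subgroup.center L ∧ A ⊓ Subgroup.center L = Y ⊓ Subgroup.center L := by
  set Q := pCore p L with hQ
  have hQn : Q.Normal := Lib.Helper47.pCore_normal
  have hQp : IsPGroup p Q := pCore_isPGroup
  set Yg := cj g Y with hYg
  change frattiniOf A = ⁅A, A⁆ ∧ ⁅A, A⁆ = ⁅A ⊓ Y, A⁆ ∧ ⁅A ⊓ Y, A⁆ = ⁅A ⊓ Y, A ⊓ Yg⁆ ∧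
    ⁅A ⊓ Y, A⁆ ≤ Y ⊓ center L ∧ Y ⊓ Yg = Y ⊓ center L ∧ (A ⊓ Y) ⊓ (A ⊓ Yg) = Y ⊓ center L ∧
    A ⊓ center L = Y ⊓ center L
  have htop : Y ⊔ Yg = ⊤ := IsMinimalOver.sup_cj_eq_top hmin hL₀ hYL₀ hg
  have hYc : Y ≤ centralizer (Y : Set L) := IsElementaryAbelian.le_centralizer hYel
  have hYgel : IsElementaryAbelian p Yg := IsElementaryAbelian.cj hYel g
  have hYgc : Yg ≤ centralizer (Yg : Set L) := IsElementaryAbelian.le_centralizer hYgel
  have hcen : ∀ x, x ∈ centralizer (Y : Set L) → x ∈ centralizer (Yg : Set L) → x ∈ center L := by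
    intro x h1 h2
    have h3 : Y ≤ centralizer ({x} : Set L) := fun y hy => by
      rw [mem_centralizer_iff]; rintro _ rfl; exact ((mem_centralizer_iff.mp h1) y hy).symm
    have h4 : Yg ≤ centralizer ({x} : Set L) := fun y hy => by
      rw [mem_centralizer_iff]; rintro _ rfl; exact ((mem_centralizer_iff.mp h2) y hy).symm
    have h5 : (⊤ : Subgroup L) ≤ centralizer ({x} : Set L) := htop ▸ sup_le h3 h4
    rw [mem_center_iff]
    intro y
    exact ((mem_centralizer_iff.mp (h5 (mem_top y))) x rfl).symm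
  have hcenYg : ∀ x, x ∈ center L → (x ∈ Yg ↔ x ∈ Y) := by
    intro x hx
    rw [hYg, mem_cj]
    have : g⁻¹ * x * g = x := by rw [mul_assoc, ← (mem_center_iff.mp hx) g]; group
    rw [this]
  have h5 : Y ⊓ Yg = Y ⊓ center L := by
    apply le_antisymm
    · intro x hx
      exact mem_inf.mpr ⟨hx.1, hcen x (hYc hx.1) (hYgc hx.2)⟩
    · intro x hx
      exact mem_inf.mpr ⟨hx.1, (hcenYg x hx.2).mpr hx.1⟩
  set B := Q ⊓ Y with hB
  set C := Q ⊓ Yg with hC
  have hCB : C = cj g B := by rw [hB, cj_inf, Normal_cj hQn]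
  have hQYg : Q ≤ normalizer (Yg : Set L) := by
    rw [hYg, ← cj_normalizer, ← Normal_cj hQn g]; exact cj_mono hOY
  have hnorm : ∀ Y₁ Y₂ : Subgroup L, Q ≤ normalizer (Y₁ : Set L) →
      Y₁ ≤ normalizer (((Q ⊓ Y₁) ⊔ (Q ⊓ Y₂) : Subgroup L) : Set L) := by
    intro Y₁ Y₂ h1
    apply le_normalizer_of_cj_le
    intro y hy
    rw [cj_sup]
    apply sup_le
    · rw [cj_inf, Normal_cj hQn, cj_eq_self_of_mem hy]; exact le_sup_left
    · refine (cj_le_sup_commutator (B := Q ⊓ Y₂) (V := Q) (X := Y₁) inf_le_left hy).trans ?_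
      apply sup_le _ le_sup_right
      refine le_trans (le_inf ?_ ?_) le_sup_left
      · exact commutator_le_left Q Y₁
      · rw [commutator_comm]; exact le_normalizer_iff_commutator_le_left.mp h1
  have hA₁n : (B ⊔ C).Normal := by
    rw [← normalizer_eq_top_iff, eq_top_iff, ← htop]
    apply sup_le (hnorm Y Yg hOY)
    have := hnorm Yg Y hQYg
    rwa [sup_comm] at this
  have hAeq : A = B ⊔ C := by
    rw [hA]
    apply le_antisymm (normalClosure_le_normal (le_sup_left : B ≤ B ⊔ C))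
    apply sup_le le_normalClosure
    rw [hCB, ← Normal_cj (normalClosure_normal (s := (B : Set L))) g]
    exact cj_mono le_normalClosure
  have hAQ : A ≤ Q := hAeq ▸ sup_le inf_le_left inf_le_left
  have hBA : B ≤ A := hAeq ▸ le_sup_left
  have hCA : C ≤ A := hAeq ▸ le_sup_right
  have hAY : A ⊓ Y = B := le_antisymm (inf_le_inf_right _ hAQ) (le_inf hBA inf_le_right)
  have hAYg : A ⊓ Yg = C := le_antisymm (inf_le_inf_right _ hAQ) (le_inf hCA inf_le_right)
  rw [hAY, hAYg]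
  have hBC : B ⊓ C ≤ Y ⊓ center L := h5 ▸ inf_le_inf inf_le_right inf_le_right
  have hQB : Q ≤ normalizer (B : Set L) := le_normalizer_inf Subgroup.le_normalizer hOY
  have hQC : Q ≤ normalizer (C : Set L) := le_normalizer_inf Subgroup.le_normalizer hQYg
  have hU : ⁅B, C⁆ ≤ B ⊓ C := by
    apply le_inf
    · exact le_normalizer_iff_commutator_le_left.mp (inf_le_left.trans hQB)
    · rw [commutator_comm]; exact le_normalizer_iff_commutator_le_left.mp (inf_le_left.trans hQC)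
  have hUn := le_normalizer_of_le_center ((hU.trans hBC).trans inf_le_right)
  have hBB : ⁅B, B⁆ = ⊥ := commutator_eq_bot_iff_le_centralizer.mpr
    ((inf_le_right.trans hYc).trans (centralizer_le (by exact_mod_cast (inf_le_right : B ≤ Y))))
  have hCC : ⁅C, C⁆ = ⊥ := commutator_eq_bot_iff_le_centralizer.mpr
    ((inf_le_right.trans hYgc).trans (centralizer_le (by exact_mod_cast (inf_le_right : C ≤ Yg))))
  have hBAU : ⁅B, A⁆ ≤ ⁅B, C⁆ := by
    rw [hAeq]
    exact commutator_sup_le (hBB ▸ bot_le) le_rfl (hUn B) (hUn C)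
  have hCAU : ⁅C, A⁆ ≤ ⁅B, C⁆ := by
    rw [hAeq]
    exact commutator_sup_le (by rw [commutator_comm]) (hCC ▸ bot_le) (hUn B) (hUn C)
  have hAAU : ⁅A, A⁆ ≤ ⁅B, C⁆ := by
    have h6 : ⁅A, B ⊔ C⁆ ≤ ⁅B, C⁆ :=
      commutator_sup_le (by rw [commutator_comm]; exact hBAU) (by rw [commutator_comm]; exact hCAU)
        (hUn B) (hUn C)
    rwa [← hAeq] at h6
  have hUBA : ⁅B, C⁆ ≤ ⁅B, A⁆ := commutator_mono le_rfl hCA
  have hBAAA : ⁅B, A⁆ ≤ ⁅A, A⁆ := commutator_mono hBA le_rfl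
  have hYcenQ : Y ⊓ center L ≤ Q := by
    apply le_pCore
    · rw [← normalizer_eq_top_iff, eq_top_iff]
      exact le_normalizer_of_le_center inf_le_right ⊤
    · exact (IsElementaryAbelian.isPGroup hYel).to_inf_left
  have hAp : IsPGroup p A := hQp.to_le hAQ
  refine ⟨?_, le_antisymm (hAAU.trans hUBA) hBAAA, le_antisymm hBAU hUBA,
    (hBAU.trans hU).trans hBC, h5, ?_, ?_⟩
  · apply le_antisymm _ (commutator_le_frattiniOf hAp)
    apply frattiniOf_le_of_elementary (p := p) le_rfl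
    intro x hx
    rw [hAeq] at hx
    obtain ⟨b, hb, c, hc, rfl⟩ := mem_sup_of_le_normalizer (inf_le_left.trans hQB) hx
    have := mul_pow_mem_commutator (hBA hb) (hCA hc) p
    rwa [(isElementaryAbelian_iff.mp hYel).2 b hb.2, (isElementaryAbelian_iff.mp hYgel).2 c hc.2,
      one_mul, inv_one, mul_one] at this
  · apply le_antisymm hBC
    intro x hx
    have hxQ := hYcenQ hx
    exact mem_inf.mpr ⟨mem_inf.mpr ⟨hxQ, hx.1⟩, mem_inf.mpr ⟨hxQ, (hcenYg x hx.2).mpr hx.1⟩⟩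
  · apply le_antisymm
    · intro a ha
      refine mem_inf.mpr ⟨?_, ha.2⟩
      have ha1 := ha.1
      rw [hAeq] at ha1
      obtain ⟨b, hb, c, hc, rfl⟩ := mem_sup_of_le_normalizer (inf_le_left.trans hQB) ha1
      have hcY : c ∈ centralizer (Y : Set L) := by
        have e : c = b⁻¹ * (b * c) := by group
        rw [e]
        refine mul_mem (inv_mem (hYc hb.2)) ?_
        rw [mem_centralizer_iff]
        intro y _
        exact (mem_center_iff.mp ha.2) y
      have hccen : c ∈ center L := hcen c hcY (hYgc hc.2)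
      exact mul_mem hb.2 ((hcenYg c hccen).mp hc.2)
    · intro x hx
      exact mem_inf.mpr ⟨hBA (mem_inf.mpr ⟨hYcenQ hx, hx.1⟩), hx.2⟩

end Cfsg.Agent.S2837
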