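import Cfsg.Statements.S2838
import Cfsg.Agent.Lib.Helper47.WC2

set_option autoImplicit false
open Cfsg

namespace Cfsg.Agent.S2838

open Subgroup Cfsg.Agent.Lib.Helper47

/-- For a nontrivial p-subgroup Q of a finite group H the following are equivalent: Q is a weakly closed subgroup (it is the only H-conjugate of itself inside some Sylow p-subgroup containing it); Q = P for every conjugate P of Q with [Q, P] ≤ Q ∩ P; Q is normal in N_H(R) for every p-subgroup R of H containing Q. -/
theorem result {H : Type*} [Group H] [Finite H] {p : ℕ} [Fact p.Prime] (Q : Subgroup H) (hQp : IsPGroup p ↥Q) (hQ1 : Q ≠ ⊥) : (Cfsg.IsWeaklyClosedSubgroup p Q ↔ ∀ g : H, ⁅Q, ((Q : Subgroup H).map (MulAut.conj (g : H)).toMonoidHom)⁆ ≤ Q ⊓ ((Q : Subgroup H).map (MulAut.conj (g : H)).toMonoidHom) → ((Q : Subgroup H).map (MulAut.conj (g : H)).toMonoidHom) = Q) ∧ (Cfsg.IsWeaklyClosedSubgroup p Q ↔ ∀ R : Subgroup H, IsPGroup p ↥R → Q ≤ R → Subgroup.normalizer ((R : Subgroup H) : Set H) ≤ Subgroup.normalizer ((Q : Subgroup H) : Set H)) := by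
  rw [isWeaklyClosedSubgroup_iff hQp]
  have h2 : WCIn p Q ⊤ ↔ ∀ R : Subgroup H, IsPGroup p ↥R → Q ≤ R →
      normalizer (R : Set H) ≤ normalizer (Q : Set H) := by
    constructor
    · intro h R hR hQR
      have := h.normalizer_le hR hQR le_top
      rwa [top_inf_eq] at this
    · exact wcIn_of_normalizer_le
  refine ⟨?_, h2⟩
  constructor
  · intro h g hg
    have h3 : Q ≤ normalizer ((cj g Q : Subgroup H) : Set H) :=
      le_normalizer_iff_commutator_le_right.mpr (hg.trans inf_le_right)
    exact h _ (IsPGroup_sup (IsPGroup_cj hQp g) hQp h3) le_sup_right le_top g (mem_top g) le_sup_left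
  · intro hstar
    -- step 1: Q is normal in every p-overgroup; same for conjugates
    have step1 : ∀ R : Subgroup H, IsPGroup p R → Q ≤ R → R ≤ normalizer (Q : Set H) := by
      intro R hR hQR
      by_contra hcon
      set N₁ := R ⊓ normalizer (Q : Set H) with hN₁
      have hlt : N₁ < R := by
        refine lt_of_le_of_ne inf_le_left ?_
        intro heq
        exact hcon (heq ▸ inf_le_right)
      obtain ⟨x, hx, hxn⟩ := SetLike.exists_of_lt (lt_inf_normalizer hR hlt)
      have hQN₁ : Q ≤ N₁ := le_inf hQR le_normalizer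
      have hxN₁ : cj x N₁ = N₁ := cj_eq_self_of_mem_normalizer hx.2
      have h3 : cj x Q ≤ N₁ := hxN₁ ▸ cj_mono hQN₁
      have h4 : cj x Q ≤ normalizer (Q : Set H) := h3.trans inf_le_right
      have h5 : Q ≤ normalizer ((cj x Q : Subgroup H) : Set H) := by
        rw [← cj_normalizer]
        refine hQN₁.trans ?_
        rw [← hxN₁]
        exact cj_mono inf_le_right
      have h6 := hstar x (le_inf (le_normalizer_iff_commutator_le_left.mp h4)
        (le_normalizer_iff_commutator_le_right.mp h5))
      exact hxn (mem_inf.mpr ⟨hx.1, mem_normalizer_of_cj_eq h6⟩)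
    intro R hR hQR _ g _ hgR
    apply hstar
    have h3 : R ≤ normalizer (Q : Set H) := step1 R hR hQR
    have h4 : R ≤ normalizer ((cj g Q : Subgroup H) : Set H) := by
      have := step1 (cj g⁻¹ R) (IsPGroup_cj hR _) (cj_le_iff.mp hgR)
      have h5 := cj_mono (g := g) this
      rwa [cj_cj_inv, cj_normalizer] at h5
    exact le_inf (le_normalizer_iff_commutator_le_left.mp (hgR.trans h3))
      (le_normalizer_iff_commutator_le_right.mp (hQR.trans h4))

end Cfsg.Agent.S2838
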