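import Cfsg.Statements.S2839
import Cfsg.Agent.Lib.Helper47.WC2

set_option autoImplicit false
open Cfsg

namespace Cfsg.Agent.S2839

open Subgroup Cfsg.Agent.Lib.Helper47

/-- Let Q be a nontrivial p-subgroup of the finite group H that is a weakly closed subgroup, K a subgroup containing Q and N a normal subgroup of H. Then Q is a weakly closed subgroup of K; every H-conjugate of Q contained in K is a K-conjugate of Q; N_K(Q) contains a Sylow p-subgroup of K; N = N_N(Q)·O^p(N); and QN/N is a weakly closed subgroup of H/N. -/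
theorem result {H : Type*} [Group H] [Finite H] {p : ℕ} [Fact p.Prime] (Q : Subgroup H) (hQp : IsPGroup p ↥Q) (hQ1 : Q ≠ ⊥) (hwc : Cfsg.IsWeaklyClosedSubgroup p Q) (K : Subgroup H) (hQK : Q ≤ K) (N' : Subgroup H) [N'.Normal] : Cfsg.IsWeaklyClosedSubgroup p (Q.subgroupOf K) ∧ (∀ g : H, ((Q : Subgroup H).map (MulAut.conj (g : H)).toMonoidHom) ≤ K → ∃ k ∈ K, ((Q : Subgroup H).map (MulAut.conj (g : H)).toMonoidHom) = ((Q : Subgroup H).map (MulAut.conj (k : H)).toMonoidHom)) ∧ Cfsg.IsParabolic p ((Subgroup.normalizer ((Q : Subgroup H) : Set H)).subgroupOf K) ∧ (N' ⊓ Subgroup.normalizer ((Q : Subgroup H) : Set H)) ⊔ (Cfsg.pResidual p ↥N').map N'.subtype = N' ∧ Cfsg.IsWeaklyClosedSubgroup p (Q.map (QuotientGroup.mk' N')) := by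
  have h := (isWeaklyClosedSubgroup_iff hQp).mp hwc
  have hNn : ∀ X : Subgroup H, X ≤ normalizer (N' : Set H) := by
    intro X; rw [normalizer_eq_top]; exact le_top
  refine ⟨(isWeaklyClosedSubgroup_subgroupOf_iff hQp hQK).mpr (h.mono le_top),
    fun g hg => h.exists_conj hQp hQK le_top (mem_top g) hg, ?_, ?_, ?_⟩
  · obtain ⟨T, hT, hQT⟩ := exists_isSylowIn_ge hQp hQK
    refine ⟨hT.toSylow, ?_⟩
    rw [IsSylowIn.coe_toSylow]
    exact comap_mono (h.le_normalizer hT.isPGroup hQT le_top)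
  · apply le_antisymm (sup_le inf_le_left (pResOf_le N'))
    obtain ⟨T, hT, hQT⟩ := exists_isSylowIn_ge hQp (le_sup_right : Q ≤ N' ⊔ Q)
    have h1 : pResOf p (N' ⊔ Q) = pResOf p N' :=
      pResOf_eq_of_PQuot ((pResOf_le N').trans le_sup_left) (pResOf_pResOf N')
        ((PQuot_sup (hNn Q) hQp).trans (PQuot_pResOf N'))
    have h2 := hT.pResOf_sup
    rw [h1] at h2
    intro n hn
    have hn' : n ∈ pResOf p N' ⊔ T := h2 ▸ mem_sup_left hn
    obtain ⟨n₀, hn₀, t, ht, rfl⟩ :=
      mem_sup_of_le_normalizer ((hNn T).trans (normalizer_le_normalizer_pResOf N')) hn'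
    have htN : t ∈ N' := by
      have := mul_mem (inv_mem (pResOf_le N' hn₀)) hn
      simpa using this
    exact mul_mem (mem_sup_right hn₀)
      (mem_sup_left (mem_inf.mpr ⟨htN, h.le_normalizer hT.isPGroup hQT le_top ht⟩))
  · rw [isWeaklyClosedSubgroup_iff (hQp.map _)]
    intro Rb hRb hQRb _ gb _ hgRb
    obtain ⟨g, rfl⟩ := QuotientGroup.mk'_surjective N' gb
    set R := Rb.comap (QuotientGroup.mk' N') with hR
    have hQR : Q ≤ R := map_le_iff_le_comap.mp hQRb
    have hgR : cj g Q ≤ R := by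
      rw [hR, ← map_le_iff_le_comap, map_cj]
      exact hgRb
    have hNR : N' ≤ R := by
      rw [hR]
      intro x hx
      rw [mem_comap]
      have : QuotientGroup.mk' N' x = 1 := (QuotientGroup.eq_one_iff x).mpr hx
      rw [this]; exact one_mem _
    obtain ⟨T, hT, hQT⟩ := exists_isSylowIn_ge hQp hQR
    have hq : PQuot p R N' := by
      intro x hx
      obtain ⟨k, hk⟩ := (isPGroup_iff_PQuot_bot.mp hRb) _ hx
      refine ⟨k, ?_⟩
      rw [← map_pow, mem_bot] at hk
      exact (QuotientGroup.eq_one_iff _).mp hk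
    obtain ⟨r, hr, hgr⟩ := h.exists_conj hQp hQR le_top (mem_top g) hgR
    obtain ⟨n, hn, t, ht, rfl⟩ := hT.exists_mul_of_PQuot hNR (hNn R) hq hr
    rw [← map_cj, hgr, cj_mul,
      cj_eq_self_of_mem_normalizer (h.le_normalizer hT.isPGroup hQT le_top ht), map_cj]
    have : QuotientGroup.mk' N' n = 1 := (QuotientGroup.eq_one_iff n).mpr hn
    rw [this, cj_one]

end Cfsg.Agent.S2839
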