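import Cfsg.Statements.S2840
import Cfsg.Agent.Lib.Helper47.WC2

set_option autoImplicit false
open Cfsg

namespace Cfsg.Agent.S2840

open Subgroup Cfsg.Agent.Lib.Helper47

/-- Let Q be a nontrivial p-subgroup of the finite group H that is a weakly closed subgroup and K a subgroup containing Q; let K° be the weak closure of Q in K (generated by the H-conjugates of Q inside K). Then K° is generated by the K-conjugates of Q, and K° is the subnormal closure of Q in K. -/
theorem result {H : Type*} [Group H] [Finite H] {p : ℕ} [Fact p.Prime] (Q : Subgroup H) (hQp : IsPGroup p ↥Q) (hQ1 : Q ≠ ⊥) (hwc : Cfsg.IsWeaklyClosedSubgroup p Q) (K : Subgroup H) (hQK : Q ≤ K) (Kc : Subgroup H) (hKc : Kc = Cfsg.weakClosure Q K) : Kc = ⨆ k : ↥K, ((Q : Subgroup H).map (MulAut.conj ((k : H) : H)).toMonoidHom) ∧ Kc = (Cfsg.subnormalClosure (Q.subgroupOf K)).map K.subtype := by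
  have h := (isWeaklyClosedSubgroup_iff hQp).mp hwc
  have h1 : Kc = ncl Q K := by
    rw [hKc]
    apply le_antisymm
    · apply weakClosure_le
      intro g hg
      obtain ⟨k, hk, hgk⟩ := h.exists_conj hQp hQK le_top (mem_top g) hg
      rw [hgk]
      exact cj_le_ncl hk
    · apply ncl_le
      intro k hk
      apply cj_le_weakClosure
      rw [← cj_eq_self_of_mem hk]
      exact cj_mono hQK
  refine ⟨h1, ?_⟩
  have hQ' : IsPGroup p (Q.subgroupOf K) := hQp.comap_subtype
  have h2 : WCIn p (Q.subgroupOf K) ⊤ :=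
    (isWeaklyClosedSubgroup_iff hQ').mp
      ((isWeaklyClosedSubgroup_subgroupOf_iff hQp hQK).mpr (h.mono le_top))
  rw [h2.subnormalClosure_eq hQ', map_normalClosure_subgroupOf hQK]
  exact h1

end Cfsg.Agent.S2840
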