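import Cfsg.Statements.S2841
import Cfsg.Agent.Lib.Helper47.WC2

set_option autoImplicit false
open Cfsg

namespace Cfsg.Agent.S2841

open Subgroup Cfsg.Agent.Lib.Helper47

/-- Let Q be a nontrivial p-subgroup of the finite group H that is a weakly closed subgroup and N a normal subgroup of H. Then N = N_N(Q)·[N, Q] and [N, Q] = (Q ∩ [N, Q])·[N, Q, Q]. -/
theorem result {H : Type*} [Group H] [Finite H] {p : ℕ} [Fact p.Prime] (Q : Subgroup H) (hQp : IsPGroup p ↥Q) (hQ1 : Q ≠ ⊥) (hwc : Cfsg.IsWeaklyClosedSubgroup p Q) (N' : Subgroup H) [N'.Normal] : (∀ n : H, n ∈ N' → ∃ a ∈ N' ⊓ Subgroup.normalizer ((Q : Subgroup H) : Set H), ∃ b ∈ ⁅N', Q⁆, n = a * b) ∧ (∀ c : H, c ∈ ⁅N', Q⁆ → ∃ a ∈ Q ⊓ ⁅N', Q⁆, ∃ b ∈ ⁅⁅N', Q⁆, Q⁆, c = a * b) := by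
  have h := (isWeaklyClosedSubgroup_iff hQp).mp hwc
  have hQN : Q ≤ normalizer (N' : Set H) := by rw [normalizer_eq_top]; exact le_top
  refine ⟨fun n hn => h.exists_mul_commutator hQp hQN hn, ?_⟩
  set R := ⁅N', Q⁆ with hR
  have hQR : Q ≤ normalizer (R : Set H) := normalizer_commutator_ge_right N' Q
  have hQR₁ : Q ≤ normalizer ((⁅R, Q⁆ : Subgroup H) : Set H) := normalizer_commutator_ge_right R Q
  have hR₁R : ⁅R, Q⁆ ≤ R := le_normalizer_iff_commutator_le_left.mp hQR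
  -- every N'-conjugate of Q lies in [R,Q] Q
  have h1 : ncl Q N' ≤ Q ⊔ ⁅R, Q⁆ := by
    apply ncl_le
    intro n hn
    obtain ⟨r, hr, hnr⟩ := h.exists_commutator_conj hQp hQN hn
    rw [hnr]
    have := cj_le_sup_commutator (B := Q) (V := Q) (X := R) le_rfl hr
    rwa [commutator_comm, sup_comm] at this
  have h2 : R ≤ ncl Q N' := by
    rw [hR, commutator_comm]
    exact commutator_le_ncl Q N'
  intro c hc
  obtain ⟨a, ha, b, hb, rfl⟩ := mem_sup_of_le_normalizer' hQR₁ (h1 (h2 hc))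
  refine ⟨a, mem_inf.mpr ⟨ha, ?_⟩, b, hb, rfl⟩
  have := mul_mem hc (inv_mem (hR₁R hb))
  simpa using this

end Cfsg.Agent.S2841
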