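import Cfsg.Statements.S2842
import Cfsg.Agent.Lib.Helper31.CharP2
import Cfsg.Agent.Lib.Helper49.CharP
import Cfsg.Agent.Lib.Helper50.Basic
import Cfsg.Agent.Lib.Helper48.Parabolic
import Cfsg.Agent.S2909

set_option autoImplicit false
open Cfsg

namespace Cfsg.Agent.S2842

open Cfsg.Agent.Lib.Helper31 Cfsg.Agent.Lib.Helper49 in
theorem wc_mem_normalizer {H : Type*} [Group H] [Finite H] {p : ℕ} [Fact p.Prime] {Q : Subgroup H}
    (hwc : Cfsg.IsWeaklyClosedSubgroup p Q) {P : Subgroup H} (hP : IsPGroup p ↥P) (hQP : Q ≤ P)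
    (h : H) (hh : ∀ q ∈ Q, h * q * h⁻¹ ∈ P) : h ∈ Subgroup.normalizer (Q : Set H) := by
  obtain ⟨T, hQT, hT⟩ := hwc
  obtain ⟨S, hPS⟩ := hP.exists_le_sylow
  obtain ⟨a, ha⟩ := MulAction.exists_smul_eq H S T
  have hmem : ∀ x ∈ P, a * x * a⁻¹ ∈ (T : Subgroup H) := by
    intro x hx
    rw [← ha, Sylow.coe_subgroup_smul, Subgroup.mem_pointwise_smul_iff_inv_smul_mem]
    simp only [MulAut.smul_def, MulAut.conj_apply, map_inv, MulAut.conj_inv_apply]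
    have : a⁻¹ * (a * x * a⁻¹) * a = x := by group
    rw [this]
    exact hPS hx
  have h1 : a ∈ Subgroup.normalizer (Q : Set H) := by
    apply Cfsg.Agent.Lib.Helper50.mem_normalizer_of_map_conj_le
    apply le_of_eq
    apply hT
    rintro _ ⟨q, hq, rfl⟩
    exact hmem q (hQP hq)
  have h2 : a * h ∈ Subgroup.normalizer (Q : Set H) := by
    apply Cfsg.Agent.Lib.Helper50.mem_normalizer_of_map_conj_le
    apply le_of_eq
    apply hT
    rintro _ ⟨q, hq, rfl⟩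
    have := hmem _ (hh q hq)
    simp only [MulEquiv.coe_toMonoidHom, MulAut.conj_apply]
    have e : a * h * q * (a * h)⁻¹ = a * (h * q * h⁻¹) * a⁻¹ := by group
    rw [e]
    exact this
  have := Subgroup.mul_mem _ (Subgroup.inv_mem _ h1) h2
  simpa using this

theorem eq_one_of_coprime_of_mem {H : Type*} [Group H] {p : ℕ} {P : Subgroup H} (hP : IsPGroup p ↥P)
    {x : H} (hx : x ∈ P) (hc : (orderOf x).Coprime p) : x = 1 := by
  obtain ⟨k, hk⟩ := hP ⟨x, hx⟩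
  have hk' : x ^ p ^ k = 1 := congrArg Subtype.val hk
  have h1 : orderOf x ∣ p ^ k := orderOf_dvd_of_pow_eq_one hk'
  have h2 : (orderOf x).Coprime (p ^ k) := Nat.Coprime.pow_right k hc
  have h3 : orderOf x = 1 := Nat.Coprime.eq_one_of_dvd h2 h1
  exact orderOf_eq_one_iff.mp h3

open scoped commutatorElement in
open Cfsg.Agent.Lib.Helper31 Cfsg.Agent.Lib.Helper49 Cfsg.Agent.S2909 in
theorem main {H : Type*} [Group H] [Finite H] {p : ℕ} [Fact p.Prime] (Q : Subgroup H)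
    (hQp : IsPGroup p ↥Q) (hwc : Cfsg.IsWeaklyClosedSubgroup p Q)
    (hCQ : Subgroup.centralizer ((Q : Subgroup H) : Set H) ≤ Q) (L : Subgroup H) (hQL : Q ≤ L)
    (y : H) (hyR : y ∈ Cfsg.pCoreOf p L)
    (hyC : CharPType p ↥(Subgroup.centralizer ({y} : Set H))) :
    ⁅Q, Subgroup.centralizer (((Cfsg.pCoreOf p L) : Subgroup H) : Set H)⁆ ≤ Q ⊓ (Cfsg.pCoreOf p L) ∧
    IsPGroup p ↥(Subgroup.centralizer (((Cfsg.pCoreOf p L) : Subgroup H) : Set H)) ∧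
    Subgroup.centralizer (Cfsg.pCore p ↥L : Set ↥L) ≤ Cfsg.pCore p ↥L := by
  set R := Cfsg.pCoreOf p L with hR
  set D := Subgroup.centralizer (R : Set H) with hD
  set D₀ := Cfsg.pCoreOf p D with hD₀
  have hRp : IsPGroup p ↥R := pCoreOf_isPGroup p L
  have hD₀p : IsPGroup p ↥D₀ := pCoreOf_isPGroup p D
  have hDchar : CharPType p ↥D := by
    apply CharPType.centralizer_of_le hRp (Subgroup.zpowers y) (by simpa using hyR)
    rw [Cfsg.Agent.Lib.Helper48.centralizer_zpowers_eq]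
    exact hyC
  have hDc : D ⊓ Subgroup.centralizer (D₀ : Set H) ≤ D₀ :=
    Cfsg.Agent.Lib.Helper49.charP_iff.mp ((genFitting_eq_pCore_iff_centralizer p).mp ((charPType_iff_genFitting p).mp hDchar))
  have hLR : L ≤ Subgroup.normalizer (R : Set H) := le_normalizer_pCoreOf p L
  have hLD : L ≤ Subgroup.normalizer (D : Set H) := hLR.trans (normalizer_le_normalizer_centralizer R)
  have hLD₀ : L ≤ Subgroup.normalizer (D₀ : Set H) :=
    hLD.trans (normalizer_le_normalizer_pCoreOf p D)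
  have hDD₀ : D ≤ Subgroup.normalizer (D₀ : Set H) := le_normalizer_pCoreOf p D
  have hD₀D : D₀ ≤ D := pCoreOf_le p D
  set Z₁ := D₀ ⊓ L with hZ₁
  have hLZ₁ : L ≤ Subgroup.normalizer (Z₁ : Set H) :=
    le_trans (le_inf hLD₀ Subgroup.le_normalizer) Subgroup.inf_normalizer_le_normalizer_inf
  have hZ₁p : IsPGroup p ↥Z₁ := hD₀p.to_le inf_le_left
  have hZ₁R : Z₁ ≤ R := le_pCoreOf inf_le_right hLZ₁ hZ₁p
  have hDZ₁ : ∀ x ∈ D, ∀ z ∈ Z₁, z * x = x * z := by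
    intro x hx z hz
    exact Subgroup.mem_centralizer_iff.mp hx z (hZ₁R hz)
  have hDNZ₁ : D ≤ Subgroup.normalizer (Z₁ : Set H) :=
    (Subgroup.centralizer_le hZ₁R).trans (centralizer_le_normalizer' Z₁)
  have hQD₀p : IsPGroup p ↥(Q ⊔ D₀) := hQp.to_sup_of_normal_right' hD₀p (hQL.trans hLD₀)
  have hD₀NQ : D₀ ≤ Subgroup.normalizer (Q : Set H) := by
    intro d hd
    apply wc_mem_normalizer hwc hQD₀p le_sup_left
    intro q hq
    have hd' : d ∈ Q ⊔ D₀ := (le_sup_right : D₀ ≤ Q ⊔ D₀) hd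
    exact Subgroup.mul_mem _ (Subgroup.mul_mem _ hd' ((le_sup_left : Q ≤ Q ⊔ D₀) hq))
      (Subgroup.inv_mem _ hd')
  have hQA : Q ≤ trivOn D₀ Z₁ := by
    intro q hq
    refine ⟨hLZ₁ (hQL hq), fun d hd => ?_⟩
    have h1 : q * d * q⁻¹ ∈ D₀ := (Subgroup.mem_normalizer_iff.mp (hLD₀ (hQL hq)) d).mp hd
    have h2 : d * q⁻¹ * d⁻¹ ∈ Q := (Subgroup.mem_normalizer_iff.mp (hD₀NQ hd) _).mp (Q.inv_mem hq)
    refine Subgroup.mem_inf.mpr ⟨D₀.mul_mem h1 (D₀.inv_mem hd), ?_⟩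
    have h3 := L.mul_mem (hQL hq) (hQL h2)
    have e : q * (d * q⁻¹ * d⁻¹) = q * d * q⁻¹ * d⁻¹ := by group
    rwa [e] at h3
  set B := trivOn D₀ Z₁ ⊓ D with hB
  have hDB : D ≤ Subgroup.normalizer (B : Set H) := by
    rw [Subgroup.le_normalizer_iff]
    intro x hx b hb
    obtain ⟨hb1, hb2⟩ := Subgroup.mem_inf.mp hb
    exact Subgroup.mem_inf.mpr ⟨conj_mem_trivOn (hDD₀ hx) (hDNZ₁ hx) hb1,
      D.mul_mem (D.mul_mem hx hb2) (D.inv_mem hx)⟩
  have hBp : IsPGroup p ↥B := by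
    apply isPGroup_of_coprime_trivial
    intro x hx hc
    obtain ⟨hx1, hx2⟩ := Subgroup.mem_inf.mp hx
    have h1 : ∀ a ∈ D₀, a⁻¹ * (x⁻¹ * a * x) ∈ Z₁ := by
      intro a ha
      have h3 := (Subgroup.inv_mem _ hx1).2 a ha
      have h4 := (Subgroup.mem_normalizer_iff.mp (Subgroup.inv_mem _ (hDNZ₁ (hD₀D ha))) _).mp h3
      have e : a⁻¹ * (x⁻¹ * a * x⁻¹⁻¹ * a⁻¹) * a⁻¹⁻¹ = a⁻¹ * (x⁻¹ * a * x) := by group
      rwa [e] at h4
    have h2 := commute_of_coprime hZ₁p hc h1 (hDZ₁ x hx2)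
    have h3 : x ∈ D₀ := by
      apply hDc
      refine Subgroup.mem_inf.mpr ⟨hx2, ?_⟩
      rw [Subgroup.mem_centralizer_iff]
      intro a ha
      exact (h2 a ha).symm
    exact eq_one_of_coprime_of_mem hD₀p h3 hc
  have hBD₀ : B ≤ D₀ := le_pCoreOf inf_le_right hDB hBp
  have hcomm : ∀ x ∈ D, ∀ q ∈ Q, x * q * x⁻¹ * q⁻¹ ∈ D₀ := by
    intro x hx q hq
    apply hBD₀
    refine Subgroup.mem_inf.mpr ⟨?_, ?_⟩
    · exact Subgroup.mul_mem _ (conj_mem_trivOn (hDD₀ hx) (hDNZ₁ hx) (hQA hq))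
        (Subgroup.inv_mem _ (hQA hq))
    · have h1 : q * x⁻¹ * q⁻¹ ∈ D :=
        (Subgroup.mem_normalizer_iff.mp (hLD (hQL hq)) _).mp (D.inv_mem hx)
      have h2 := D.mul_mem hx h1
      have e : x * (q * x⁻¹ * q⁻¹) = x * q * x⁻¹ * q⁻¹ := by group
      rwa [e] at h2
  have hDNQ : D ≤ Subgroup.normalizer (Q : Set H) := by
    intro x hx
    apply wc_mem_normalizer hwc hQD₀p le_sup_left
    intro q hq
    have h1 := Subgroup.mul_mem _ ((le_sup_right : D₀ ≤ Q ⊔ D₀) (hcomm x hx q hq))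
      ((le_sup_left : Q ≤ Q ⊔ D₀) hq)
    simpa using h1
  have hcomm2 : ∀ x ∈ D, ∀ q ∈ Q, x * q * x⁻¹ * q⁻¹ ∈ Q ⊓ Z₁ := by
    intro x hx q hq
    have h1 : x * q * x⁻¹ * q⁻¹ ∈ Q :=
      Q.mul_mem ((Subgroup.mem_normalizer_iff.mp (hDNQ hx) _).mp hq) (Q.inv_mem hq)
    exact Subgroup.mem_inf.mpr ⟨h1, Subgroup.mem_inf.mpr ⟨hcomm x hx q hq, hQL h1⟩⟩
  have hDp : IsPGroup p ↥D := by
    apply isPGroup_of_coprime_trivial
    intro x hx hc
    have h1 : ∀ a ∈ Q, a⁻¹ * (x⁻¹ * a * x) ∈ Z₁ := by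
      intro a ha
      have h3 := (Subgroup.mem_inf.mp (hcomm2 x⁻¹ (D.inv_mem hx) a ha)).2
      have h4 := (Subgroup.mem_normalizer_iff.mp (Subgroup.inv_mem _ (hLZ₁ (hQL ha))) _).mp h3
      have e : a⁻¹ * (x⁻¹ * a * x⁻¹⁻¹ * a⁻¹) * a⁻¹⁻¹ = a⁻¹ * (x⁻¹ * a * x) := by group
      rwa [e] at h4
    have h2 := commute_of_coprime hZ₁p hc h1 (hDZ₁ x hx)
    have h3 : x ∈ Q := by
      apply hCQ
      rw [Subgroup.mem_centralizer_iff]
      intro a ha
      exact (h2 a ha).symm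
    exact eq_one_of_coprime_of_mem hQp h3 hc
  refine ⟨?_, hDp, ?_⟩
  · rw [Subgroup.commutator_le]
    intro q hq x hx
    have h1 := Subgroup.inv_mem _ (hcomm2 x hx q hq)
    have e : (x * q * x⁻¹ * q⁻¹)⁻¹ = ⁅q, x⁆ := by
      rw [commutatorElement_def]; group
    rw [e] at h1
    exact Subgroup.mem_inf.mpr ⟨(Subgroup.mem_inf.mp h1).1, hZ₁R (Subgroup.mem_inf.mp h1).2⟩
  · rw [Cfsg.Agent.Lib.Helper49.charP_iff]
    exact le_pCoreOf inf_le_left (le_normalizer_inf_centralizer hLR) (hDp.to_le inf_le_right)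

/-- Let Q be a nontrivial p-subgroup of the finite group H that is a weakly closed subgroup with C_H(Q) ≤ Q, and Q ≤ L ≤ H. Suppose H has characteristic p, or more generally that C_H(y) has characteristic p for some nonidentity y ∈ C_{O_p(L)}(Q). Then [Q, C_H(O_p(L))] ≤ Q ∩ O_p(L), C_H(O_p(L)) is a p-group, and L has characteristic p. -/
theorem result {H : Type*} [Group H] [Finite H] {p : ℕ} [Fact p.Prime] (Q : Subgroup H) (hQp : IsPGroup p ↥Q) (hQ1 : Q ≠ ⊥) (hwc : Cfsg.IsWeaklyClosedSubgroup p Q) (hCQ : Subgroup.centralizer ((Q : Subgroup H) : Set H) ≤ Q) (L : Subgroup H) (hQL : Q ≤ L) (hyp : Subgroup.centralizer (Cfsg.pCore p H : Set H) ≤ Cfsg.pCore p H ∨ ∃ y : H, y ≠ 1 ∧ y ∈ (Cfsg.pCoreOf p L) ⊓ Subgroup.centralizer ((Q : Subgroup H) : Set H) ∧ Subgroup.centralizer (Cfsg.pCore p ↥(Subgroup.centralizer ({y} : Set H)) : Set ↥(Subgroup.centralizer ({y} : Set H))) ≤ Cfsg.pCore p ↥(Subgroup.centralizer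 ({y} : Set H))) : ⁅Q, Subgroup.centralizer (((Cfsg.pCoreOf p L) : Subgroup H) : Set H)⁆ ≤ Q ⊓ (Cfsg.pCoreOf p L) ∧ IsPGroup p ↥(Subgroup.centralizer (((Cfsg.pCoreOf p L) : Subgroup H) : Set H)) ∧ Subgroup.centralizer (Cfsg.pCore p ↥L : Set ↥L) ≤ Cfsg.pCore p ↥L := by
  have hiff : ∀ (X : Type _) [Group X] [Finite X],
      Subgroup.centralizer (Cfsg.pCore p X : Set X) ≤ Cfsg.pCore p X →
      Cfsg.Agent.Lib.Helper31.CharPType p X := fun X _ _ h =>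
    (Cfsg.Agent.Lib.Helper31.charPType_iff_genFitting p).mpr
      ((Cfsg.Agent.Lib.Helper31.genFitting_eq_pCore_iff_centralizer p).mpr h)
  rcases hyp with h | ⟨y, -, hy, hyC⟩
  · apply main Q hQp hwc hCQ L hQL 1 (Subgroup.one_mem _)
    have h1 : Subgroup.centralizer ({1} : Set H) = ⊤ := by
      rw [eq_top_iff]
      intro x _
      rw [Subgroup.mem_centralizer_iff]
      intro z hz
      rw [Set.mem_singleton_iff.mp hz]
      simp
    rw [h1]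
    exact (hiff H h).congr Subgroup.topEquiv.symm
  · exact main Q hQp hwc hCQ L hQL y (Subgroup.mem_inf.mp hy).1 (hiff _ hyC)

end Cfsg.Agent.S2842
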