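import Cfsg.Statements.S2846
import Cfsg.Agent.Lib.Helper47.FrakM2
import Cfsg.Agent.S2843
import Cfsg.Agent.S2845

set_option autoImplicit false
open Cfsg
open Subgroup Cfsg.Agent.Lib.Helper47

namespace Cfsg.Agent.S2846

/-- Let Q be a nontrivial large p-subgroup of the finite group H, S a Sylow p-subgroup containing Q, and L a subgroup containing S with O_p(L) ≠ 1 and C_H(O_p(L)) ≤ O_p(L). Then there are a subgroup M containing S having the basic property (M ∈ 𝔐_H, writing Y_X for the largest p-reduced normal subgroup of X and 𝓛_H for the set of subgroups X with O_p(X) ≠ 1 and C_H(O_p(X)) ≤ O_p(X): M ∈ 𝓛_H, M·C_H(Y_M) is the only maximal member of 𝓛_H containing M and its largest p-reduced normal subgroup is again Y_M, C_M(Y_M) is p-closed, and the image of C_M(Y_M) in M/O_p(M) lies in the Frattini subgroup of M/O_p(M)) and a subgroup L* with S ≤ L* ≤ M, O_p(L*) ≠ 1, C_H(O_p(L*)) ≤ O_p(L*), such that L·C_H(Y_L) = L*·C_H(Y_L), the weak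 closures of Q in L and in L* agree and lie in that of M, and Y_L = Y_{L*} ≤ Y_M. If moreover Q is not normal in L, then Q is normal in neither L* nor M. -/
theorem result {H : Type*} [Group H] [Finite H] {p : ℕ} [Fact p.Prime] (Q : Subgroup H) (hQp : IsPGroup p ↥Q) (hQ1 : Q ≠ ⊥) (hLg : Cfsg.IsLarge Q) (S : Sylow p H) (hQS : Q ≤ (S : Subgroup H)) (L : Subgroup H) (hSL : (S : Subgroup H) ≤ L) (hL : L ∈ Cfsg.charPSubgroups p H) : ∃ M Ls : Subgroup H, (S : Subgroup H) ≤ M ∧ Cfsg.IsInFrakM p M ∧ (S : Subgroup H) ≤ Ls ∧ Ls ≤ M ∧ Ls ∈ Cfsg.charPSubgroups p H ∧ L ⊔ Subgroup.centralizer (((Cfsg.largestPReducedOf p L) : Subgroup H) : Set H) = Ls ⊔ Subgroup.centralizer (((Cfsg.largestPReducedOf p L) : Subgroup H) : Set H) ∧ Cfsg.weakClosure Q L = Cfsg.weakClosure Q Ls ∧ Cfsg.weakClosure Q Ls ≤ Cfsg.weakClosure Q M ∧ (Cfsg.largestPReducedOf p L) = (Cfsg.largestPReducedOf p Ls) ∧ (Cfsg.largestPReducedOf p Ls) ≤ (Cfsg.largestPReducedOf p M) ∧ (¬ L ≤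 Subgroup.normalizer ((Q : Subgroup H) : Set H) → ¬ Ls ≤ Subgroup.normalizer ((Q : Subgroup H) : Set H) ∧ ¬ M ≤ Subgroup.normalizer ((Q : Subgroup H) : Set H)) := by
  have hH : IsOfParabolicCharacteristic p H := (Cfsg.Agent.S2845.result Q hQp hQ1 hLg).2.2
  have hL' := mem_charPSubgroups_iff.mp hL
  obtain ⟨M, Ls, h1, h2, h3, h4, h5, h6, h7, h8⟩ := exists_frakM hH S hSL hL'
  have hY1 : largestPReducedOf p L ≠ ⊥ := hL'.largest_ne_bot (isSylowIn_of_sylow S hSL)
  have hw1 := (Cfsg.Agent.S2843.result Q hQp hQ1 hLg L (hQS.trans hSL) _ (isPGroup_largest L) hY1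
    (isPRedIn_largest L).le_normalizer).1
  have hw2 := (Cfsg.Agent.S2843.result Q hQp hQ1 hLg Ls (hQS.trans h3) _ (isPGroup_largest L) hY1
    (h6 ▸ (isPRedIn_largest Ls).le_normalizer)).1
  have hw : weakClosure Q L = weakClosure Q Ls := by rw [hw1, hw2, h8]
  have hnot : ¬ L ≤ normalizer (Q : Set H) → ¬ Ls ≤ normalizer (Q : Set H) := by
    intro hLQ hLsQ
    apply hLQ
    have hwc : WCIn p Q ⊤ := IsLarge.wcIn hLg hQ1
    have h9 : weakClosure Q Ls = Q := by
      apply le_antisymm _ (le_weakClosure (hQS.trans h3))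
      apply weakClosure_le
      intro g hg
      obtain ⟨l, hl, hgl⟩ := hwc.exists_conj hQp (hQS.trans h3) le_top (mem_top g) hg
      rw [hgl, cj_eq_self_of_mem_normalizer (hLsQ hl)]
    have h10 := Subgroup.le_normalizer.trans (normalizer_le_normalizer_weakClosure Q L)
    rwa [hw, h9] at h10
  exact ⟨M, Ls, h1, h2, h3, h4, mem_charPSubgroups_iff.mpr h5, h8, hw, weakClosure_mono h4, h6,
    h6 ▸ h7, fun h => ⟨hnot h, fun hM => hnot h (h4.trans hM)⟩⟩

end Cfsg.Agent.S2846
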