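import Cfsg.Statements.S2848
import Cfsg.Agent.Lib.Helper47.WClosure

set_option autoImplicit false
open Cfsg

namespace Cfsg.Agent.S2848

open Subgroup Cfsg.Agent.Lib.Helper47

/-- Standing hypotheses: G a finite group, S a Sylow p-subgroup, Q a nontrivial large p-subgroup of G contained in S (C_G(Q) ≤ Q and N_G(U) ≤ N_G(Q) for all nontrivial U ≤ C_G(Q)), and M a subgroup containing S with the basic property (M ∈ 𝔐_G(S)); Y_M denotes the largest p-reduced normal subgroup of M and M† = M·C_G(Y_M). Then O_p(M) is a weakly closed subgroup of M† (for p): it is the only M†-conjugate of itself inside some Sylow p-subgroup of M† containing it. -/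
theorem result {G : Type*} [Group G] [Finite G] {p : ℕ} [Fact p.Prime] (S : Sylow p G) (Q : Subgroup G) (hQp : IsPGroup p ↥Q) (hQ1 : Q ≠ ⊥) (hQS : Q ≤ (S : Subgroup G)) (hQ : Cfsg.IsLarge Q) (M : Subgroup G) (hSM : (S : Subgroup G) ≤ M) (hM : Cfsg.IsInFrakM p M) : Cfsg.IsWeaklyClosedSubgroup p (((Cfsg.pCoreOf p M)).subgroupOf (M ⊔ Subgroup.centralizer (((Cfsg.largestPReducedOf p M) : Subgroup G) : Set G))) := by
  have hY := isPRedIn_largest (p := p) M
  obtain ⟨-, -, -, -, hclosed, -⟩ := hM
  set Y := largestPReducedOf p M with hYdef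
  set C := centralizer (Y : Set G) with hC
  set P := pCoreOf p M with hP
  have hPC : P ≤ C := hY.pCoreOf_le_centralizer
  have hNC : normalizer (Y : Set G) ≤ normalizer (C : Set G) := normalizer_le_normalizer_centralizer Y
  have hMdN : M ⊔ C ≤ normalizer (C : Set G) := sup_le (hY.le_normalizer.trans hNC) le_normalizer
  have hMMC : M ≤ normalizer ((M ⊓ C : Subgroup G) : Set G) :=
    le_normalizer_inf le_normalizer (hY.le_normalizer.trans hNC)
  have h1 : pCoreOf p (M ⊓ C) = P := by
    apply le_antisymm (pCoreOf_le_pCoreOf_of_normal inf_le_left hMMC)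
    exact le_pCoreOf (le_inf (pCoreOf_le M) hPC) (inf_le_left.trans (le_normalizer_pCoreOf M))
      (pCoreOf_isPGroup M)
  have h2 : IsSylowIn p P (M ⊓ C) := h1 ▸ isPClosed_subgroup_iff_pCoreOf.mp hclosed
  have hSS : IsSylowIn p (S : Subgroup G) M := isSylowIn_of_sylow S hSM
  have h3 : IsSylowIn p ((S : Subgroup G) ⊓ C) C :=
    (isSylowIn_of_sylow S (hSM.trans hY.le_normalizer)).inf_of_normal
      (centralizer_le_normalizer _) hNC
  have h4 : (S : Subgroup G) ⊓ C = P :=
    h2.eq_of_le h3.isPGroup (le_inf (pCoreOf_le_of_isSylowIn hSS) hPC)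
      (inf_le_inf_right C hSM)
  rw [h4] at h3
  rw [isWeaklyClosedSubgroup_subgroupOf_iff (pCoreOf_isPGroup M) ((pCoreOf_le M).trans le_sup_left)]
  intro R hR hPR hRM g hg hgR
  have h5 : R ⊓ C = P := h3.eq_of_le hR.to_inf_left (le_inf hPR hPC) inf_le_right
  apply cj_eq_of_le
  have h6 : cj g P ≤ C := by
    rw [← cj_eq_self_of_mem_normalizer (hMdN hg)]
    exact cj_mono hPC
  exact (le_inf hgR h6).trans h5.le

end Cfsg.Agent.S2848
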