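import Cfsg.Statements.S2849
import Cfsg.Agent.Lib.Helper47.WClosure

set_option autoImplicit false
open Cfsg

namespace Cfsg.Agent.S2849

open Subgroup Cfsg.Agent.Lib.Helper47

/-- Standing hypotheses: G a finite group, S a Sylow p-subgroup, Q a nontrivial large p-subgroup of G contained in S (C_G(Q) ≤ Q and N_G(U) ≤ N_G(Q) for all nontrivial U ≤ C_G(Q)), and M a subgroup containing S with the basic property (M ∈ 𝔐_G(S)); Y_M denotes the largest p-reduced normal subgroup of M and M† = M·C_G(Y_M). Suppose Y_M is asymmetric in G. Then for every subgroup R with Y_M ≤ R ≤ M†, the normal closure of Y_M in N_G(R) is elementary abelian. -/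
theorem result {G : Type*} [Group G] [Finite G] {p : ℕ} [Fact p.Prime] (S : Sylow p G) (Q : Subgroup G) (hQp : IsPGroup p ↥Q) (hQ1 : Q ≠ ⊥) (hQS : Q ≤ (S : Subgroup G)) (hQ : Cfsg.IsLarge Q) (M : Subgroup G) (hSM : (S : Subgroup G) ≤ M) (hM : Cfsg.IsInFrakM p M) (hasym : ¬ Cfsg.IsSymmetricIn (Cfsg.largestPReducedOf p M)) (R : Subgroup G) (hYR : (Cfsg.largestPReducedOf p M) ≤ R) (hRM : R ≤ (M ⊔ Subgroup.centralizer (((Cfsg.largestPReducedOf p M) : Subgroup G) : Set G))) : Cfsg.IsElementaryAbelian p ((Subgroup.normalClosure ((((Cfsg.largestPReducedOf p M)).subgroupOf (Subgroup.normalizer ((R : Subgroup G) : Set G)) : Subgroup ↥(Subgroup.normalizer ((R : Subgroup G) : Set G))) : Set ↥(Subgroup.normalizer ((R : Subgroup G) : Set G)))).map (Subgroup.normalizer ((R : Subgroup G) : Set G)).subtype) := by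
  have hY := isPRedIn_largest (p := p) M
  set Y := largestPReducedOf p M with hYdef
  rw [map_normalClosure_subgroupOf (hYR.trans le_normalizer)]
  set N := normalizer (R : Set G) with hN
  have hRY : R ≤ normalizer (Y : Set G) :=
    hRM.trans (sup_le hY.le_normalizer (centralizer_le_normalizer _))
  have h1 : ∀ g ∈ N, ⁅Y, cj g Y⁆ = ⊥ := by
    intro g hg
    by_contra hne
    apply hasym
    refine ⟨g, hne, le_inf ?_ ?_⟩
    · apply le_normalizer_iff_commutator_le_left.mp
      refine le_trans ?_ hRY
      rw [← cj_eq_self_of_mem_normalizer hg]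
      exact cj_mono hYR
    · apply le_normalizer_iff_commutator_le_right.mp
      rw [← cj_normalizer]
      refine hYR.trans ?_
      rw [← cj_eq_self_of_mem_normalizer hg]
      exact cj_mono hRY
  have h2 : ncl Y N ≤ centralizer (Y : Set G) := by
    apply ncl_le
    intro g hg
    rw [le_centralizer_comm]
    exact commutator_eq_bot_iff_le_centralizer.mp (h1 g hg)
  have h3 : ncl Y N ≤ centralizer (ncl Y N : Set G) :=
    ncl_le_of_normal (le_centralizer_comm.mp h2)
      ((le_normalizer_ncl Y N).trans (normalizer_le_normalizer_centralizer _))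
  apply IsElementaryAbelian.mono (isElementaryAbelian_omegaOne h3)
  apply ncl_le
  intro g hg
  exact le_omegaOne (cj_le_ncl hg) (IsElementaryAbelian.cj hY.isElementaryAbelian g).2

end Cfsg.Agent.S2849
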