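import Cfsg.Statements.S2851
import Cfsg.Agent.Lib.Helper47.FStarQ

set_option autoImplicit false
open Cfsg
open Subgroup Cfsg.Agent.Lib.Helper47

namespace Cfsg.Agent.S2851

/-- Standing hypotheses: G a finite group, S a Sylow p-subgroup, Q a nontrivial large p-subgroup of G contained in S, M a subgroup containing S with the basic property (M ∈ 𝔐_G(S)); Y_M the largest p-reduced normal subgroup of M and M† = M·C_G(Y_M). Let F be the preimage in M† of the generalized Fitting subgroup of M†/C_{M†}(Y_M). If Y_M is asymmetric in G and H is a subgroup of characteristic p containing F, then Y_M ≤ Y_H. -/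
theorem result {G : Type*} [Group G] [Finite G] {p : ℕ} [Fact p.Prime] (S : Sylow p G) (Q : Subgroup G) (hQp : IsPGroup p ↥Q) (hQ1 : Q ≠ ⊥) (hQS : Q ≤ (S : Subgroup G)) (hQ : Cfsg.IsLarge Q) (M : Subgroup G) (hSM : (S : Subgroup G) ≤ M) (hM : Cfsg.IsInFrakM p M) (hasym : ¬ Cfsg.IsSymmetricIn (Cfsg.largestPReducedOf p M)) [hn : ((Subgroup.centralizer (((Cfsg.largestPReducedOf p M) : Subgroup G) : Set G)).subgroupOf (M ⊔ Subgroup.centralizer (((Cfsg.largestPReducedOf p M) : Subgroup G) : Set G))).Normal] (F : Subgroup G) (hF : F = ((Cfsg.generalizedFittingSubgroup (↥(M ⊔ Subgroup.centralizer (((Cfsg.largestPReducedOf p M) : Subgroup G) : Set G)) ⧸ (Subgroup.centralizer (((Cfsg.largestPReducedOf p M) : Subgroup G) : Set G)).subgroupOf (M ⊔ Subgroup.centralizer (((Cfsg.largestPReducedOf p M) : Subgroup G) : Set G)))).comap (QuotientGroup.mk' ((Subgroup.centralizer (((Cfsg.largestPReducedOf p M) : Subgroup G) : Set G)).subgroupOf (M ⊔ Subgroup.centralizer (((Cfsg.largestPReducedOf p M)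 : Subgroup G) : Set G))))).map ((M ⊔ Subgroup.centralizer (((Cfsg.largestPReducedOf p M) : Subgroup G) : Set G))).subtype) (H : Subgroup G) (hFH : F ≤ H) (hH : Subgroup.centralizer (Cfsg.pCore p ↥H : Set ↥H) ≤ Cfsg.pCore p ↥H) : (Cfsg.largestPReducedOf p M) ≤ Cfsg.largestPReducedOf p H := by
  have h : Std p S Q M := ⟨hQp, hQ1, hQS, hQ, hSM, hM⟩
  have hHc : CharP p H := charP_iff'.mp hH
  set Y := largestPReducedOf p M with hY
  set C := centralizer (Y : Set G) with hC
  set Md := M ⊔ C with hMd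
  set P := pCoreOf p M with hP
  have hF' : F = fstarPre Md C := hF
  have hCMd : C ≤ Md := le_sup_right
  have hred : IsPRedIn p Y Md := by
    have h1 := isPRedIn_largest (p := p) Md
    rwa [← hM.2.2.2.1] at h1
  have hO : pCore p (↥Md ⧸ C.subgroupOf Md) = ⊥ :=
    pCore_quotient_subgroupOf_eq_bot_iff.mpr hred.2.2.2
  have hCF : C ≤ F := hF' ▸ le_fstarPre hCMd
  have hFMd : F ≤ Md := hF' ▸ fstarPre_le
  have hMdF : Md ≤ normalizer (F : Set G) := hF' ▸ le_normalizer_fstarPre
  have R2 : ∀ N : Subgroup G, N ≤ F → F ≤ normalizer (N : Set G) → PQuot p N C → N ≤ C := by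
    intro N h1 h2 h3
    rw [hF'] at h1 h2
    exact le_of_normal_in_fstarPre hO h1 h2 h3
  have R1 : ∀ D : Subgroup G, D ≤ Md → PQuot p D C → ⁅D, F⁆ ≤ C → D ≤ C := by
    intro D h1 h2 h3
    rw [hF'] at h3
    exact le_of_centralizes_fstarPre hO h1 h2 h3
  -- combined: normal subgroups of `H` inside `Md` which are `p`-groups mod `C` centralize `Y`
  have R3 : ∀ D : Subgroup G, D ≤ Md → H ≤ normalizer (D : Set G) → PQuot p D C → D ≤ C := by
    intro D h1 h2 h3
    apply R1 D h1 h3
    have h4 : ⁅D, F⁆ ≤ D ⊓ F :=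
      le_inf (commutator_le_left_of_le_normalizer (hFH.trans h2))
        (commutator_le_right_of_le_normalizer (h1.trans hMdF))
    refine h4.trans (R2 _ inf_le_right ?_ (h3.mono_left inf_le_left))
    exact le_normalizer_inf (hFH.trans h2) Subgroup.le_normalizer
  have hPH : P ≤ H := (h.P_le_C.trans hCF).trans hFH
  have hYH : Y ≤ H := h.Y_le_P.trans hPH
  set W := pCoreOf p H with hW
  have hWMd : W ≤ Md := (h.pCoreOf_le_normalizer_P hasym hPH).trans h.normalizer_P_le_dag
  have hWC : W ≤ C :=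
    R3 W hWMd (le_normalizer_pCoreOf H) (PQuot_of_isPGroup (pCoreOf_isPGroup H) C)
  have hYW : Y ≤ W := (le_inf hYH (le_centralizer_comm.mp hWC)).trans hHc
  set V := ncl Y H with hV
  have hHV : H ≤ normalizer (V : Set G) := le_normalizer_ncl Y H
  have hVOm : V ≤ OmZ p W := by
    apply ncl_le_of_normal
    · exact le_OmZ hYW (le_centralizer_comm.mp hWC) hred.2.2.1.2
    · exact (le_normalizer_pCoreOf H).trans (normalizer_le_normalizer_OmZ W)
  have hVred : IsPRedIn p V H := by
    refine ⟨ncl_le_self hYH, hHV, IsElementaryAbelian.mono (isElementaryAbelian_OmZ W) hVOm, ?_⟩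
    intro D hDH hHD hq
    have hCV : centralizer (V : Set G) ≤ C := centralizer_le (by exact_mod_cast le_ncl Y H)
    obtain ⟨T, hT, hPT, hTMd⟩ := h.exists_isSylowIn_le_dag hasym hPH
    have hTD : IsSylowIn p (T ⊓ D) D := hT.inf_of_normal hDH hHD
    have hsup : (D ⊓ centralizer (V : Set G)) ⊔ (T ⊓ D) = D :=
      hTD.sup_eq_of_PQuot inf_le_left
        (le_normalizer_inf Subgroup.le_normalizer
          ((hDH.trans hHV).trans (normalizer_le_normalizer_centralizer V))) hq.inf_right
    have hDMd : D ≤ Md := by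
      rw [← hsup]
      exact sup_le ((inf_le_right.trans hCV).trans hCMd) (inf_le_left.trans hTMd)
    have hDC : D ≤ C := R3 D hDMd hHD (hq.mono_right hCV)
    exact le_centralizer_ncl hHD hDC
  exact (le_ncl Y H).trans hVred.le_largest

end Cfsg.Agent.S2851
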