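import Cfsg.Statements.S2854
import Cfsg.Agent.Lib.Helper47.FrakH2

set_option autoImplicit false
open Cfsg
open Subgroup Cfsg.Agent.Lib.Helper47

namespace Cfsg.Agent.S2854

/-- Standing hypotheses: G a finite group, S a Sylow p-subgroup, Q a nontrivial large p-subgroup of G contained in S, M a subgroup containing S with the basic property (M ∈ 𝔐_G(S)); Y_M the largest p-reduced normal subgroup of M and M† = M·C_G(Y_M). Suppose Y_M is asymmetric in G, H ∈ ℌ_G(O_p(M)), and H ≤ N_G(gQg⁻¹) for some g ∈ G. Then gQg⁻¹ ≤ O_p(H·gQg⁻¹) ≤ N_G(O_p(M)) ≤ N_G(Y_M) = M†; H is normal in H·gQg⁻¹ with O^p(H) = O^p(H·gQg⁻¹); and H·gQg⁻¹ is p-irreducible. -/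
theorem result {G : Type*} [Group G] [Finite G] {p : ℕ} [Fact p.Prime] (S : Sylow p G) (Q : Subgroup G) (hQp : IsPGroup p ↥Q) (hQ1 : Q ≠ ⊥) (hQS : Q ≤ (S : Subgroup G)) (hQ : Cfsg.IsLarge Q) (M : Subgroup G) (hSM : (S : Subgroup G) ≤ M) (hM : Cfsg.IsInFrakM p M) (hasym : ¬ Cfsg.IsSymmetricIn (Cfsg.largestPReducedOf p M)) (H : Subgroup G) (hH : Cfsg.IsInFrakH p M H) (g : G) (hHQ : H ≤ Subgroup.normalizer ((((Q : Subgroup G).map (MulAut.conj (g : G)).toMonoidHom) : Subgroup G) : Set G)) : ((Q : Subgroup G).map (MulAut.conj (g : G)).toMonoidHom) ≤ Cfsg.pCoreOf p (H ⊔ ((Q : Subgroup G).map (MulAut.conj (g : G)).toMonoidHom)) ∧ Cfsg.pCoreOf p (H ⊔ ((Q : Subgroup G).map (MulAut.conj (g : G)).toMonoidHom)) ≤ Subgroup.normalizer (((Cfsg.pCoreOf p M) : Subgroup G) : Set G) ∧ Subgroup.normalizer (((Cfsg.pCoreOf p M) : Subgroup G) : Set G) ≤ Subgroup.normalizer (((Cfsg.largestPReducedOf p M) : Subgroup G) : Set G) ∧ Subgroup.normalizer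 (((Cfsg.largestPReducedOf p M) : Subgroup G) : Set G) = (M ⊔ Subgroup.centralizer (((Cfsg.largestPReducedOf p M) : Subgroup G) : Set G)) ∧ (H.subgroupOf (H ⊔ ((Q : Subgroup G).map (MulAut.conj (g : G)).toMonoidHom))).Normal ∧ (Cfsg.pResidual p ↥H).map H.subtype = (Cfsg.pResidual p ↥(H ⊔ ((Q : Subgroup G).map (MulAut.conj (g : G)).toMonoidHom))).map (H ⊔ ((Q : Subgroup G).map (MulAut.conj (g : G)).toMonoidHom)).subtype ∧ Cfsg.IsPIrreducible p ↥(H ⊔ ((Q : Subgroup G).map (MulAut.conj (g : G)).toMonoidHom)) := by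
  have h : Std p S Q M := ⟨hQp, hQ1, hQS, hQ, hSM, hM⟩
  have hF := Std.fH_of hH
  change H ≤ normalizer ((cj g Q : Subgroup G) : Set G) at hHQ
  show cj g Q ≤ pCoreOf p (H ⊔ cj g Q) ∧ pCoreOf p (H ⊔ cj g Q) ≤ _ ∧ _ ∧ _ ∧
    (H.subgroupOf (H ⊔ cj g Q)).Normal ∧ pResOf p H = pResOf p (H ⊔ cj g Q) ∧
    IsPIrreducible p ↥(H ⊔ cj g Q)
  set Q₁ := cj g Q with hQ₁
  set H₁ := H ⊔ Q₁ with hH₁
  set P := pCoreOf p M with hP
  set Y := largestPReducedOf p M with hY
  have hQ₁p : IsPGroup p Q₁ := IsPGroup_cj hQp g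
  have hPH₁ : P ≤ H₁ := hF.P_le.trans le_sup_left
  have h1 : Q₁ ≤ pCoreOf p H₁ :=
    le_pCoreOf le_sup_right (sup_le hHQ Subgroup.le_normalizer) hQ₁p
  have h2 : pCoreOf p H₁ ≤ normalizer (P : Set G) := h.pCoreOf_le_normalizer_P hasym hPH₁
  have h5 : Q₁ ≤ normalizer (H : Set G) := by
    have h6 : Q₁ ≤ normalizer ((ncl P H : Subgroup G) : Set G) := by
      apply le_normalizer_of_cj_le
      intro q hq
      rw [cj_le_iff]
      apply ncl_le
      intro x hx
      rw [← cj_le_iff, ← cj_mul]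
      have hq' : x⁻¹ * q * x ∈ Q₁ := conj_mem_of_mem_normalizer' (hHQ hx) hq
      have e : q * x = x * (x⁻¹ * q * x) := by group
      rw [e, cj_mul, cj_eq_self_of_mem_normalizer (h2 (h1 hq'))]
      exact cj_le_ncl hx
    rwa [hF.ncl_P] at h6
  have hH₁H : H₁ ≤ normalizer (H : Set G) := sup_le Subgroup.le_normalizer h5
  have h6 : pResOf p H = pResOf p H₁ := by
    apply le_antisymm (pResOf_mono le_sup_left)
    rw [← pResOf_pResOf H₁]
    exact pResOf_mono (pResOf_le_of_PQuot (PQuot_sup h5 hQ₁p))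
  refine ⟨h1, h2, h.normalizer_P_le_dag.trans (dag_le_normalizer M), h.normalizer_Y_eq,
    (normal_subgroupOf_iff_le_normalizer le_sup_left).mpr hH₁H, h6, ?_⟩
  rw [isPIrreducible_subgroup_iff]
  refine ⟨?_, ?_⟩
  · intro hc
    exact hF.not_le (IsPClosed.le_pCoreOf (IsPClosed.mono hc le_sup_left) (isPGroup_largest M)
      hF.Y_le)
  · intro N hNH₁ hH₁N hc
    by_contra hRN
    apply hc
    obtain ⟨T₁, hT₁, hPT₁⟩ := exists_isSylowIn_ge (pCoreOf_isPGroup M) hPH₁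
    have hT₁N : T₁ ≤ normalizer (N : Set G) := hT₁.le.trans hH₁N
    have hne : N ⊔ T₁ ≠ H₁ := by
      intro h0
      apply hRN
      apply pResOf_le_of_PQuot
      rw [← h0]
      exact PQuot_sup hT₁N hT₁.isPGroup
    have hNT₁ : N ⊔ T₁ ≤ H₁ := sup_le hNH₁ hT₁.le
    set X := (N ⊔ T₁) ⊓ H with hX
    have hXlt : X < H := by
      refine lt_of_le_of_ne inf_le_right ?_
      intro h0
      apply hne
      apply le_antisymm hNT₁
      apply sup_le (inf_eq_right.mp h0)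
      exact (h1.trans (pCoreOf_le_of_isSylowIn hT₁)).trans le_sup_right
    have hYX : Y ≤ pCoreOf p X := hF.min X (le_inf (hPT₁.trans le_sup_right) hF.P_le) hXlt
    have hYNT : Y ≤ pCoreOf p (N ⊔ T₁) :=
      hYX.trans (pCoreOf_le_pCoreOf_of_normal inf_le_left
        (le_normalizer_inf Subgroup.le_normalizer (hNT₁.trans hH₁H)))
    set D := pCoreOf p N with hD
    have hH₁D : H₁ ≤ normalizer (D : Set G) := hH₁N.trans (normalizer_le_normalizer_pCoreOf N)
    have hNY : ⁅N, Y⁆ ≤ D := by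
      refine (commutator_mono le_rfl hYNT).trans ?_
      have h7 : ⁅N, pCoreOf p (N ⊔ T₁)⁆ ≤ pCoreOf p (N ⊔ T₁) ⊓ N :=
        le_inf (commutator_le_right_of_le_normalizer
            (le_sup_left.trans (le_normalizer_pCoreOf _)))
          (commutator_le_left_of_le_normalizer
            ((pCoreOf_le _).trans (sup_le Subgroup.le_normalizer hT₁N)))
      exact h7.trans (pCoreOf_inf_le le_sup_left)
    have hNR : ⁅N, pResOf p H⁆ ≤ D :=
      (commutator_mono le_rfl hF.pResOf_le_ncl_Y).trans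
        (commutator_ncl_le (le_sup_left.trans hH₁N) (le_sup_left.trans hH₁D) hF.Y_le hNY)
    have hTN : IsSylowIn p (T₁ ⊓ N) N := hT₁.inf_of_normal hNH₁ hH₁N
    apply isPClosed_of_isSylowIn hTN
    refine hTN.pResOf_sup.symm.le.trans (sup_le ?_ Subgroup.le_normalizer)
    apply le_normalizer_of_commutator_le
    have hW : pResOf p N ≤ pResOf p H := by rw [h6]; exact pResOf_mono hNH₁
    rw [commutator_comm]
    exact ((commutator_mono inf_le_right hW).trans hNR).trans (pCoreOf_le_of_isSylowIn hTN)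

end Cfsg.Agent.S2854
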