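import Cfsg.Statements.S2855
import Cfsg.Agent.Lib.Helper47.SPIrr

set_option autoImplicit false
open Cfsg
open Subgroup Cfsg.Agent.Lib.Helper47

namespace Cfsg.Agent.S2855

/-- Let H be a finite group, p a prime, and 𝒦 a nonempty set of subgroups of H permuted transitively by conjugation, with R the subgroup generated by the members of 𝒦. Suppose O^p(H) ≤ R, each E ∈ 𝒦 has E·O_p(H) normal in R·O_p(H), and each E ∈ 𝒦 is p-minimal (generated by the conjugates of a Sylow p-subgroup T_E of E, with T_E in exactly one maximal subgroup of E). Then H is p-minimal in the same sense. If instead each E ∈ 𝒦 is strongly p-irreducible, then H is p-irreducible and, for E, K ∈ 𝒦, either O^p(E·O_p(H)) = O^p(K·O_p(H)) or [E, K] ≤ O_p(H). -/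
theorem result {H : Type*} [Group H] [Finite H] {p : ℕ} [Fact p.Prime] (𝒦 : Set (Subgroup H)) (hne : 𝒦.Nonempty) (hinv : ∀ h : H, ∀ E ∈ 𝒦, E.map (MulAut.conj h).toMonoidHom ∈ 𝒦) (htr : ∀ E ∈ 𝒦, ∀ K ∈ 𝒦, ∃ h : H, K = E.map (MulAut.conj h).toMonoidHom) (hres : Cfsg.pResidual p H ≤ sSup 𝒦) (hnorm : ∀ E ∈ 𝒦, sSup 𝒦 ⊔ Cfsg.pCore p H ≤ Subgroup.normalizer ((E ⊔ Cfsg.pCore p H : Subgroup H) : Set H)) : ((∀ E ∈ 𝒦, ∀ T : Sylow p ↥E, Cfsg.IsMinimalOver (T : Subgroup ↥E)) → ∀ T : Sylow p H, Cfsg.IsMinimalOver (T : Subgroup H)) ∧ ((∀ E ∈ 𝒦, Cfsg.IsStronglyPIrreducible p ↥E) → Cfsg.IsPIrreducible p H ∧ ∀ E ∈ 𝒦, ∀ K ∈ 𝒦, (Cfsg.pResidual p ↥(E ⊔ Cfsg.pCore p H)).map (E ⊔ Cfsg.pCore p H).subtype = (Cfsg.pResidual p ↥(K ⊔ Cfsg.pCore p H)).map (K ⊔ Cfsg.pCore p H).subtype ∨ ⁅E, K⁆ ≤ Cfsg.pCore p H) := by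
  set P := pCore p H with hP
  have hPp : IsPGroup p P := pCore_isPGroup
  have hPn : ∀ X : Subgroup H, X ≤ normalizer (P : Set H) :=
    le_normalizer_of_normal Cfsg.Agent.Lib.Helper47.pCore_normal
  set 𝓕 : Set (Subgroup H) := (fun E => E ⊔ P) '' 𝒦 with h𝓕
  have hfam : Fam p 𝓕 (sSup 𝒦 ⊔ P) := by
    refine ⟨hne.image _, ?_, ?_, ?_, hres.trans le_sup_left, ?_⟩
    · rintro g _ ⟨E, hE, rfl⟩
      refine ⟨cj g E, hinv g E hE, ?_⟩
      show cj g E ⊔ P = cj g (E ⊔ P)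
      rw [cj_sup, cj_eq_self_of_mem_normalizer (hPn ⊤ (mem_top g))]
    · rintro _ ⟨E, hE, rfl⟩ _ ⟨K, hK, rfl⟩
      obtain ⟨g, hg⟩ := htr E hE K hK
      refine ⟨g, ?_⟩
      show K ⊔ P = cj g (E ⊔ P)
      rw [cj_sup, cj_eq_self_of_mem_normalizer (hPn ⊤ (mem_top g)), hg]
    · apply le_antisymm
      · apply sup_le
        · apply sSup_le
          intro E hE
          exact le_sup_left.trans (le_sSup ⟨E, hE, rfl⟩)
        · obtain ⟨E, hE⟩ := hne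
          exact le_sup_right.trans (le_sSup ⟨E, hE, rfl⟩)
      · apply sSup_le
        rintro _ ⟨E, hE, rfl⟩
        exact sup_le_sup_right (le_sSup hE) P
    · rintro _ ⟨E, hE, rfl⟩
      exact hnorm E hE
  refine ⟨?_, ?_⟩
  · intro hmin T
    apply hfam.isMinimalOver _ T
    rintro _ ⟨E, hE, rfl⟩
    apply exists_minOverIn_sup_pGroup _ hPp (hPn E)
    intro T₀ hT₀
    have := isMinimalOver_subgroup_iff.mp (hmin E hE hT₀.toSylow)
    rwa [hT₀.map_toSylow] at this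
  · intro hS
    have hS' : ∀ F ∈ 𝓕, IsSPIrrIn p F := by
      rintro _ ⟨E, hE, rfl⟩
      exact (isStronglyPIrreducible_subgroup_iff.mp (hS E hE)).sup_pGroup hPp (hPn E)
    refine ⟨hfam.isPIrreducible hS', ?_⟩
    intro E hE K hK
    have hPF : ∀ F ∈ 𝓕, pCore p H ≤ F := by
      rintro _ ⟨E, hE, rfl⟩
      exact le_sup_right
    rcases hfam.pResOf_eq_or hS' hPF ⟨E, hE, rfl⟩ ⟨K, hK, rfl⟩ with h1 | h1
    · left; exact h1
    · right; exact (commutator_mono le_sup_left le_sup_left).trans h1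

end Cfsg.Agent.S2855
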