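import Cfsg.Statements.S2859
import Cfsg.Agent.Lib.Helper47.WC3

set_option autoImplicit false
open Cfsg
open Subgroup Cfsg.Agent.Lib.Helper47

namespace Cfsg.Agent.S2859

/-- Let Q be a nontrivial p-subgroup of the finite group H that is a weakly closed subgroup, H° the weak closure of Q in H (generated by the conjugates of Q) and H_∘ = O^p(H°). Suppose H₁, H₂ are normal subgroups of H° with H° = H₁H₂ and [H₁, H₂] ≤ N_H(Q), and put Kᵢ = O^p of the weak closure of Q in HᵢQ. Then for i = 1, 2: Kᵢ = [Kᵢ, Q] = [Kᵢ, Hᵢ] ≤ Hᵢ′ and Kᵢ is normal in H°; H_∘ = K₁K₂; and [K₁, K₂] ≤ O_p(H°). -/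
theorem result {G : Type*} [Group G] [Finite G] {p : ℕ} [Fact p.Prime] (Q : Subgroup G) (hQp : IsPGroup p ↥Q) (hQ1 : Q ≠ ⊥) (hwc : Cfsg.IsWeaklyClosedSubgroup p Q) (Hc : Subgroup G) (hHc : Hc = Cfsg.weakClosure Q ⊤) (H₁ H₂ : Subgroup G) (hn₁ : H₁ ≤ Hc ∧ Hc ≤ Subgroup.normalizer ((H₁ : Subgroup G) : Set G)) (hn₂ : H₂ ≤ Hc ∧ Hc ≤ Subgroup.normalizer ((H₂ : Subgroup G) : Set G)) (hprod : H₁ ⊔ H₂ = Hc) (hcomm : ⁅H₁, H₂⁆ ≤ Subgroup.normalizer ((Q : Subgroup G) : Set G)) (K₁ K₂ : Subgroup G) (hK₁ : K₁ = ((Cfsg.pResidual p ↥(Cfsg.weakClosure Q (H₁ ⊔ Q))).map ((Cfsg.weakClosure Q (H₁ ⊔ Q))).subtype)) (hK₂ : K₂ = ((Cfsg.pResidual p ↥(Cfsg.weakClosure Q (H₂ ⊔ Q))).map ((Cfsg.weakClosure Q (H₂ ⊔ Q))).subtype)) : (⁅K₁, Q⁆ = K₁ ∧ ⁅K₁, H₁⁆ = K₁ ∧ K₁ ≤ ⁅H₁, H₁⁆ ∧ Hc ≤ Subgroup.normalizer ((K₁ : Subgroup G) : Set G)) ∧ (⁅K₂,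 Q⁆ = K₂ ∧ ⁅K₂, H₂⁆ = K₂ ∧ K₂ ≤ ⁅H₂, H₂⁆ ∧ Hc ≤ Subgroup.normalizer ((K₂ : Subgroup G) : Set G)) ∧ K₁ ⊔ K₂ = ((Cfsg.pResidual p ↥Hc).map (Hc).subtype) ∧ ⁅K₁, K₂⁆ ≤ (Cfsg.pCoreOf p Hc) := by
  have h := (isWeaklyClosedSubgroup_iff hQp).mp hwc
  have hH : Hc = ncl Q ⊤ := by rw [hHc]; exact h.weakClosure_eq_ncl hQp le_top
  have hK₁' : K₁ = pResOf p (ncl Q (H₁ ⊔ Q)) := by
    rw [hK₁, h.weakClosure_eq_ncl hQp le_sup_right]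
  have hK₂' : K₂ = pResOf p (ncl Q (H₂ ⊔ Q)) := by
    rw [hK₂, h.weakClosure_eq_ncl hQp le_sup_right]
  obtain ⟨a1, b1, c1, d1, e1, f1, g1, i1⟩ :=
    h.factor_half hQp hH hn₁.1 hn₁.2 hn₂.1 hn₂.2 hprod hcomm hK₁'
  obtain ⟨a2, b2, c2, d2, e2, f2, g2, i2⟩ :=
    h.factor_half hQp hH hn₂.1 hn₂.2 hn₁.1 hn₁.2 (by rw [sup_comm]; exact hprod)
      (by rw [commutator_comm]; exact hcomm) hK₂'
  have hQH : Q ≤ Hc := hH ▸ le_ncl Q ⊤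
  have hHH : ncl Q Hc = Hc := by
    have := h.ncl_ncl hQp (le_top : Q ≤ ⊤)
    rwa [← hH] at this
  refine ⟨⟨a1, b1, c1, d1⟩, ⟨a2, b2, c2, d2⟩, ?_, ?_⟩
  · apply le_antisymm
    · apply sup_le
      · rw [← f1]; exact pResOf_mono (e1.trans hn₁.1)
      · rw [← f2]; exact pResOf_mono (e2.trans hn₂.1)
    · have hn : Hc ≤ normalizer (((K₁ ⊔ K₂) ⊔ Q : Subgroup G) : Set G) := by
        rw [← hprod]
        apply sup_le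
        · have : (K₁ ⊔ K₂) ⊔ Q = (Q ⊔ K₁) ⊔ K₂ := by
            rw [sup_comm (K₁ ⊔ K₂) Q, sup_assoc]
          rw [this]
          exact le_normalizer_sup i1 (hn₁.1.trans d2)
        · have : (K₁ ⊔ K₂) ⊔ Q = (Q ⊔ K₂) ⊔ K₁ := by
            rw [sup_comm K₁ K₂, sup_comm (K₂ ⊔ K₁) Q, sup_assoc]
          rw [this]
          exact le_normalizer_sup i2 (hn₂.1.trans d1)
      have h1 : Hc ≤ (K₁ ⊔ K₂) ⊔ Q := hHH.symm.le.trans (ncl_le_of_normal le_sup_right hn)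
      apply pResOf_le_of_PQuot
      exact (PQuot_sup (hQH.trans (le_normalizer_sup d1 d2)) hQp).mono_left h1
  · exact (commutator_mono c1 e2).trans g1

end Cfsg.Agent.S2859
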