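import Cfsg.Statements.S2864
import Cfsg.Agent.Lib.Helper47.Basic2

set_option autoImplicit false
open Cfsg
open Subgroup Cfsg.Agent.Lib.Helper47

namespace Cfsg.Agent.S2864

/-- Standing hypotheses: G a finite group, S a Sylow p-subgroup, Q a nontrivial large p-subgroup of G contained in S, M a subgroup containing S with the basic property (M ∈ 𝔐_G(S)); Y_M the largest p-reduced normal subgroup of M and M† = M·C_G(Y_M). Let I be a nontrivial normal p-subgroup of M and Y ≤ O_p(M†); let L be a subgroup of G containing Y and A a normal p-subgroup of L with I ≤ A ≤ M. If [Y, A] ≤ [I, A], then Y ≤ O_p(L). -/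
theorem result {G : Type*} [Group G] [Finite G] {p : ℕ} [Fact p.Prime] (S : Sylow p G) (Q : Subgroup G) (hQp : IsPGroup p ↥Q) (hQ1 : Q ≠ ⊥) (hQS : Q ≤ (S : Subgroup G)) (hQ : Cfsg.IsLarge Q) (M : Subgroup G) (hSM : (S : Subgroup G) ≤ M) (hM : Cfsg.IsInFrakM p M) (I : Subgroup G) (hI1 : I ≠ ⊥) (hIp : IsPGroup p ↥I) (hIM : I ≤ M ∧ M ≤ Subgroup.normalizer ((I : Subgroup G) : Set G)) (Y : Subgroup G) (hY : Y ≤ (Cfsg.pCoreOf p (M ⊔ Subgroup.centralizer (((Cfsg.largestPReducedOf p M) : Subgroup G) : Set G)))) (L : Subgroup G) (hYL : Y ≤ L) (A : Subgroup G) (hAp : IsPGroup p ↥A) (hAL : A ≤ L ∧ L ≤ Subgroup.normalizer ((A : Subgroup G) : Set G)) (hIA : I ≤ A) (hAM : A ≤ M) (hc : ⁅Y, A⁆ ≤ ⁅I, A⁆) : Y ≤ (Cfsg.pCoreOf p L) := by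
  set R := pCoreOf p (M ⊔ centralizer (largestPReducedOf p M : Set G)) with hR
  have hRp : IsPGroup p R := pCoreOf_isPGroup _
  apply le_pCoreOf_of_pResOf_ncl_le hYL hRp hY
  have h1 : ⁅A, ncl Y L⁆ ≤ ⁅A, A⁆ := by
    apply commutator_ncl_le hAL.2 (le_normalizer_commutator hAL.2 hAL.2) hYL
    rw [commutator_comm]
    exact hc.trans (commutator_mono hIA le_rfl)
  have h2 : pResOf p (ncl Y L) ≤ centralizer (A : Set G) :=
    pResOf_le_centralizer_of_commutator_le hAp ((ncl_le_self hYL).trans hAL.2) h1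
  have h3 : normalizer (I : Set G) ≤ dag p M :=
    IsInFrakM.normalizer_le_dag hQp hQ1 hQ S hSM hM hI1 hIp hIM.2
  refine h2.trans ?_
  refine (centralizer_le (by exact_mod_cast hIA)).trans ?_
  refine (centralizer_le_normalizer _).trans ?_
  exact h3.trans (le_normalizer_pCoreOf _)

end Cfsg.Agent.S2864
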