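import Cfsg.Statements.S2872
import Cfsg.Agent.Lib.Helper48.Transfer2
import Cfsg.Agent.Lib.Lead.Residual

set_option autoImplicit false
open Cfsg

namespace Cfsg.Agent.S2872

/-- Let S be a Sylow 2-subgroup of the finite group G. Then G has a proper normal subgroup of 2-power index (O²(G) ≠ G), or Ω₁(Z(S)) is contained in the Frattini subgroup of S, or N_G(S) acts nontrivially on Ω₁(Z(S)) by conjugation. -/
theorem result {G : Type*} [Group G] [Finite G] (S : Sylow 2 G) : Cfsg.pResidual 2 G ≠ ⊤ ∨ Cfsg.omegaOne 2 ((S : Subgroup G) ⊓ Subgroup.centralizer ((S : Subgroup G) : Set G)) ≤ (frattini ↥(S : Subgroup G)).map (S : Subgroup G).subtype ∨ ∃ g ∈ Subgroup.normalizer ((S : Subgroup G) : Set G), ∃ z ∈ Cfsg.omegaOne 2 ((S : Subgroup G) ⊓ Subgroup.centralizer ((S : Subgroup G) : Set G)), g * z * g⁻¹ ≠ z := by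
  classical
  have : Fact (Nat.Prime 2) := ⟨Nat.prime_two⟩
  by_contra hcon
  push Not at hcon
  obtain ⟨h1, h2, h3⟩ := hcon
  -- a generator outside the Frattini subgroup
  have hex : ∃ z : G, (z ∈ (S : Subgroup G) ⊓ Subgroup.centralizer ((S : Subgroup G) : Set G) ∧ z ^ 2 = 1) ∧
      z ∉ (frattini ↥(S : Subgroup G)).map (S : Subgroup G).subtype := by
    by_contra hno
    push Not at hno
    apply h2
    unfold Cfsg.omegaOne
    rw [Subgroup.closure_le]
    intro x hx
    exact hno x hx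
  obtain ⟨z, ⟨⟨hzS, hzC⟩, hz2⟩, hzF⟩ := hex
  have hzΩ : z ∈ Cfsg.omegaOne 2 ((S : Subgroup G) ⊓ Subgroup.centralizer ((S : Subgroup G) : Set G)) :=
    Subgroup.subset_closure ⟨⟨hzS, hzC⟩, hz2⟩
  have hz1 : z ≠ 1 := by
    rintro rfl
    exact hzF (Subgroup.one_mem _)
  have hzo : orderOf z = 2 := orderOf_eq_prime hz2 hz1
  have hz' : (⟨z, hzS⟩ : (S : Subgroup G)) ∉ frattini ↥(S : Subgroup G) := by
    intro h
    exact hzF ⟨_, h, rfl⟩
  have hexM : ∃ M : Subgroup (S : Subgroup G), IsCoatom M ∧ (⟨z, hzS⟩ : (S : Subgroup G)) ∉ M := by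
    by_contra hno
    push Not at hno
    apply hz'
    unfold frattini Order.radical
    simp only [Subgroup.mem_iInf]
    intro M hM
    exact hno M hM
  obtain ⟨M, hM, hzM⟩ := hexM
  have hMi : M.index = 2 := Lib.Helper48.index_of_isCoatom_of_isPGroup S.2 hM
  obtain ⟨K, hKn, hKi, -⟩ := Lib.Helper48.exists_index_two_of_central_involution S
    (Lib.Helper48.homOfIndexTwo M hMi) z hzo
    (by
      intro s hs
      rw [Subgroup.mem_centralizer_singleton_iff]
      exact (Subgroup.mem_centralizer_iff.mp hzC s hs))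
    (by
      intro n hn h
      have h4 := h3 n⁻¹ (Subgroup.inv_mem _ hn) z hzΩ
      rw [inv_inv] at h4
      have : (⟨n⁻¹ * z * n, h⟩ : (S : Subgroup G)) = ⟨z, hzS⟩ := Subtype.ext h4
      rw [this, Ne, Lib.Helper48.homOfIndexTwo_eq_one_iff]
      exact hzM)
  have hq : IsPGroup 2 (G ⧸ K) := by
    apply IsPGroup.of_card (n := 1)
    rw [← Subgroup.index_eq_card, hKi, pow_one]
  have hle := Lib.Lead.pResidual_le_of_isPGroup_quotient hq
  rw [h1, top_le_iff] at hle
  rw [hle, Subgroup.index_top] at hKi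
  omega

end Cfsg.Agent.S2872
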