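import Mathlib
import Cfsg.Statements.S2873
import Cfsg.Agent.Lib.Lead.Cores
-- import your own Cfsg.Agent.* helpers here

set_option autoImplicit false
open Cfsg

namespace Cfsg.Agent.S2873


open Subgroup DihedralGroup in
/-- All the work, for `π : G → D_r` onto with kernel `Q` and `ρ` of order `r` with `C_Q(ρ) = 1`. -/
theorem core {G : Type*} [Group G] [Finite G] {m : ℕ} [Fact m.Prime] (hr : m ≠ 2)
    (Q : Subgroup G) (π : G →* DihedralGroup m) (hπs : Function.Surjective π)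
    (hker : ∀ x, x ∈ Q ↔ π x = 1) (ρ : G) (hρ : orderOf ρ = m)
    (hC : ∀ y ∈ Q, y * ρ = ρ * y → y = 1) :
    Nonempty (↥(normalizer ((zpowers ρ : Subgroup G) : Set G)) ≃* DihedralGroup m) ∧
    ∀ a : G, a ∈ normalizer ((zpowers ρ : Subgroup G) : Set G) → orderOf a = 2 →
      (∀ b : G, orderOf b = 2 → b ∉ Q → ∃ g : G, g * a * g⁻¹ = b) ∧
      Nat.card ↥(Q ⊓ centralizer ({a} : Set G)) ^ 2 = Nat.card ↥Q := by
  have hrp : m.Prime := Fact.out
  have h2 : (2 : ZMod m) ≠ 0 := by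
    intro h
    have h' : ((2 : ℕ) : ZMod m) = 0 := by exact_mod_cast h
    rw [ZMod.natCast_eq_zero_iff] at h'
    exact hr ((Nat.prime_dvd_prime_iff_eq hrp Nat.prime_two).1 h')
  have hρ1 : ρ ≠ 1 := by
    intro h
    rw [h, orderOf_one] at hρ
    exact hrp.one_lt.ne hρ
  -- L1
  obtain ⟨i, hi0, hi⟩ : ∃ i : ZMod m, i ≠ 0 ∧ π ρ = r i := by
    rcases h : π ρ with i | i
    · refine ⟨i, ?_, rfl⟩
      rintro rfl
      exact hρ1 (hC ρ ((hker ρ).2 (by rw [h]; rfl)) rfl)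
    · exfalso
      have h1 : π (ρ * ρ) = 1 := by rw [map_mul, h, sr_mul_self]
      have h3 := hC (ρ * ρ) ((hker _).2 h1) (by group)
      have h4 : m ∣ 2 := by
        rw [← hρ]
        exact orderOf_dvd_of_pow_eq_one (by rw [pow_two]; exact h3)
      exact hr ((Nat.prime_dvd_prime_iff_eq hrp Nat.prime_two).1 h4)
  -- L2
  have claimA : ∀ g : G, π g = π ρ → ∃ y ∈ Q, g = y * ρ * y⁻¹ := by
    intro g hg
    let F : ↥Q → ↥Q := fun y => ⟨(y : G) * ρ * (y : G)⁻¹ * ρ⁻¹, (hker _).2 (by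
      have := (hker _).1 y.2
      simp [this])⟩
    have hFinj : Function.Injective F := by
      intro y y' hyy
      have h1 : (y : G) * ρ * (y : G)⁻¹ * ρ⁻¹ = (y' : G) * ρ * (y' : G)⁻¹ * ρ⁻¹ :=
        congrArg Subtype.val hyy
      have h3 : (y : G) * ρ * (y : G)⁻¹ = (y' : G) * ρ * (y' : G)⁻¹ := mul_right_cancel h1
      have h4 : ((y' : G)⁻¹ * y) * ρ = ρ * ((y' : G)⁻¹ * y) := by
        calc ((y' : G)⁻¹ * y) * ρ = (y' : G)⁻¹ * ((y : G) * ρ * (y : G)⁻¹) * y := by group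
          _ = (y' : G)⁻¹ * ((y' : G) * ρ * (y' : G)⁻¹) * y := by rw [h3]
          _ = ρ * ((y' : G)⁻¹ * y) := by group
      have h5 := hC _ (Q.mul_mem (Q.inv_mem y'.2) y.2) h4
      apply Subtype.ext
      exact (inv_mul_eq_one.1 h5).symm
    have hFsurj := Finite.injective_iff_surjective.1 hFinj
    obtain ⟨y, hy⟩ := hFsurj ⟨g * ρ⁻¹, (hker _).2 (by rw [map_mul, hg, map_inv, mul_inv_cancel])⟩
    refine ⟨y, y.2, ?_⟩
    have h1 : (y : G) * ρ * (y : G)⁻¹ * ρ⁻¹ = g * ρ⁻¹ := congrArg Subtype.val hy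
    exact (mul_right_cancel h1).symm
  have claimA' : ∀ g : G, π g = π ρ⁻¹ → ∃ y ∈ Q, g = y * ρ⁻¹ * y⁻¹ := by
    intro g hg
    obtain ⟨y, hy, h⟩ := claimA g⁻¹ (by rw [map_inv, hg, map_inv, inv_inv])
    refine ⟨y, hy, ?_⟩
    rw [← inv_inv g, h]
    group
  -- L4
  have memN : ∀ w : G, w * ρ * w⁻¹ ∈ zpowers ρ →
      w ∈ normalizer ((zpowers ρ : Subgroup G) : Set G) := by
    intro w hw
    rw [mem_normalizer_iff_map_conj_eq]
    apply Subgroup.eq_of_le_of_card_ge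
    · rw [MonoidHom.map_zpowers, zpowers_le]
      exact hw
    · rw [Subgroup.card_map_of_injective (MulAut.conj w).injective]
  have ρN : ρ ∈ normalizer ((zpowers ρ : Subgroup G) : Set G) :=
    le_normalizer (mem_zpowers ρ)
  -- L5
  have DQ : ∀ w : G, w ∈ normalizer ((zpowers ρ : Subgroup G) : Set G) → w ∈ Q → w = 1 := by
    intro w hw hwQ
    have h1 : w * ρ * w⁻¹ ∈ zpowers ρ := (mem_normalizer_iff.1 hw ρ).1 (mem_zpowers ρ)
    have h3 : w * ρ * w⁻¹ * ρ⁻¹ ∈ zpowers ρ := mul_mem h1 (inv_mem (mem_zpowers ρ))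
    have h4 : w * ρ * w⁻¹ * ρ⁻¹ ∈ Q := (hker _).2 (by
      have := (hker _).1 hwQ
      simp [this])
    obtain ⟨k, hk⟩ := mem_zpowers_iff.1 h3
    have h5 := hC _ h4 (by
      rw [← hk]
      exact (Commute.zpow_left (Commute.refl ρ) k).eq)
    apply hC w hwQ
    have h6 : w * ρ * w⁻¹ = ρ := mul_inv_eq_one.1 h5
    exact mul_inv_eq_iff_eq_mul.1 h6
  -- L6
  have injD : ∀ w w' : G, w ∈ normalizer ((zpowers ρ : Subgroup G) : Set G) →
      w' ∈ normalizer ((zpowers ρ : Subgroup G) : Set G) → π w = π w' → w = w' := by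
    intro w w' hw hw' h
    have := DQ (w⁻¹ * w') (mul_mem (inv_mem hw) hw') ((hker _).2 (by
      rw [map_mul, map_inv, h, inv_mul_cancel]))
    exact inv_mul_eq_one.1 this
  -- L3 + L7
  have fact : ∀ g : G, ∃ y ∈ Q, ∃ w ∈ normalizer ((zpowers ρ : Subgroup G) : Set G),
      g = y * w := by
    intro g
    have h3 : π (g * ρ * g⁻¹) = π ρ ∨ π (g * ρ * g⁻¹) = π ρ⁻¹ := by
      rw [map_mul, map_mul, map_inv, map_inv, hi]
      rcases π g with j | j
      · left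
        rw [inv_r, r_mul_r, r_mul_r]
        congr 1
        ring
      · right
        rw [inv_sr, sr_mul_r, sr_mul_sr, inv_r]
        congr 1
        ring
    rcases h3 with h3 | h3
    · obtain ⟨y, hy, h⟩ := claimA _ h3
      refine ⟨y, hy, y⁻¹ * g, memN _ ?_, by group⟩
      have : y⁻¹ * g * ρ * (y⁻¹ * g)⁻¹ = ρ := by
        calc y⁻¹ * g * ρ * (y⁻¹ * g)⁻¹ = y⁻¹ * (g * ρ * g⁻¹) * y := by group
          _ = ρ := by rw [h]; group
      rw [this]
      exact mem_zpowers ρ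
    · obtain ⟨y, hy, h⟩ := claimA' _ h3
      refine ⟨y, hy, y⁻¹ * g, memN _ ?_, by group⟩
      have : y⁻¹ * g * ρ * (y⁻¹ * g)⁻¹ = ρ⁻¹ := by
        calc y⁻¹ * g * ρ * (y⁻¹ * g)⁻¹ = y⁻¹ * (g * ρ * g⁻¹) * y := by group
          _ = ρ⁻¹ := by rw [h]; group
      rw [this]
      exact inv_mem (mem_zpowers ρ)
  refine ⟨⟨MulEquiv.ofBijective
    (π.comp (normalizer ((zpowers ρ : Subgroup G) : Set G)).subtype) ⟨?_, ?_⟩⟩, ?_⟩
  · intro w w' h
    exact Subtype.ext (injD w w' w.2 w'.2 h)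
  · intro d
    obtain ⟨g, rfl⟩ := hπs d
    obtain ⟨y, hy, w, hw, rfl⟩ := fact g
    refine ⟨⟨w, hw⟩, ?_⟩
    show π w = π (y * w)
    rw [map_mul, (hker y).1 hy, one_mul]
  -- involutions outside `Q` map to reflections
  have refl : ∀ b : G, b * b = 1 → b ∉ Q → ∃ j, π b = sr j := by
    intro b hb hbQ
    rcases h : π b with j | j
    · exfalso
      apply hbQ
      rw [hker, h]
      have h1 : π (b * b) = 1 := by rw [hb, map_one]
      rw [map_mul, h, r_mul_r, one_def] at h1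
      have h3 : j + j = 0 := by
        injection h1
      have h4 : (2 : ZMod m) * j = 0 := by rw [two_mul]; exact h3
      rcases mul_eq_zero.1 h4 with h5 | h5
      · exact absurd h5 h2
      · rw [h5]; rfl
    · exact ⟨j, rfl⟩
  have sq : ∀ b : G, orderOf b = 2 → b * b = 1 := by
    intro b hb
    rw [← pow_two, ← hb]
    exact pow_orderOf_eq_one b
  have ne1 : ∀ b : G, orderOf b = 2 → b ≠ 1 := by
    rintro b hb rfl
    rw [orderOf_one] at hb
    omega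
  intro a haD ha2
  have haa := sq a ha2
  have hainv : a⁻¹ = a := inv_eq_of_mul_eq_one_left haa
  have haQ : a ∉ Q := fun h => ne1 a ha2 (DQ a haD h)
  obtain ⟨j, hj⟩ := refl a haa haQ
  -- L8
  have hinv : a * ρ * a⁻¹ = ρ⁻¹ := by
    apply injD _ _ (mul_mem (mul_mem haD ρN) (inv_mem haD)) (inv_mem ρN)
    rw [map_mul, map_mul, map_inv, map_inv, hi, hj, inv_sr, sr_mul_r, sr_mul_sr, inv_r]
    congr 1
    ring
  have ha₂D : a * ρ ∈ normalizer ((zpowers ρ : Subgroup G) : Set G) := mul_mem haD ρN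
  have ha₂ : (a * ρ) * (a * ρ) = 1 := by
    calc (a * ρ) * (a * ρ) = (a * ρ * a⁻¹) * (a * a) * ρ := by group
      _ = 1 := by rw [hinv, haa]; group
  have ha₂inv : (a * ρ)⁻¹ = a * ρ := inv_eq_of_mul_eq_one_left ha₂
  -- L9
  have key : ∀ b : G, b * b = 1 → π b = π a →
      ∃ y ∈ Q, b = y * a * y⁻¹ ∧ y * (a * ρ) = (a * ρ) * y := by
    intro b hb hba
    have hbinv : b⁻¹ = b := inv_eq_of_mul_eq_one_left hb
    obtain ⟨y, hy, hyb⟩ := claimA (b * (a * ρ)) (by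
      rw [map_mul, map_mul, hba, ← mul_assoc, ← map_mul, haa, map_one, one_mul])
    have hπy : π y = 1 := (hker y).1 hy
    have hinv2 : (b * (a * ρ))⁻¹ = (a * ρ) * b := by rw [mul_inv_rev, ha₂inv, hbinv]
    have h1 : (y⁻¹ * b * y) * ρ * (y⁻¹ * b * y)⁻¹ = ρ⁻¹ := by
      calc (y⁻¹ * b * y) * ρ * (y⁻¹ * b * y)⁻¹ = y⁻¹ * (b * (y * ρ * y⁻¹) * b⁻¹) * y := by group
        _ = y⁻¹ * (b * (b * (a * ρ)) * b⁻¹) * y := by rw [hyb]
        _ = y⁻¹ * ((b * b) * ((a * ρ) * b⁻¹)) * y := by group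
        _ = y⁻¹ * (b * (a * ρ))⁻¹ * y := by rw [hb, hbinv, hinv2, one_mul]
        _ = ρ⁻¹ := by rw [hyb]; group
    have h3 : (y⁻¹ * (a * ρ) * y) * ρ * (y⁻¹ * (a * ρ) * y)⁻¹ = ρ⁻¹ := by
      calc (y⁻¹ * (a * ρ) * y) * ρ * (y⁻¹ * (a * ρ) * y)⁻¹
          = y⁻¹ * ((a * ρ) * (y * ρ * y⁻¹) * (a * ρ)⁻¹) * y := by group
        _ = y⁻¹ * ((a * ρ) * (b * (a * ρ)) * (a * ρ)⁻¹) * y := by rw [hyb]
        _ = y⁻¹ * ((a * ρ) * b) * y := by group
        _ = y⁻¹ * (b * (a * ρ))⁻¹ * y := by rw [hinv2]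
        _ = ρ⁻¹ := by rw [hyb]; group
    have h4 : y⁻¹ * b * y = a := by
      apply injD _ _ (memN _ (by rw [h1]; exact inv_mem (mem_zpowers ρ))) haD
      rw [map_mul, map_mul, map_inv, hπy, hba]
      simp
    have h5 : y⁻¹ * (a * ρ) * y = a * ρ := by
      apply injD _ _ (memN _ (by rw [h3]; exact inv_mem (mem_zpowers ρ))) ha₂D
      rw [map_mul, map_mul, map_inv, hπy]
      simp
    refine ⟨y, hy, ?_, ?_⟩
    · rw [← h4]; group
    · calc y * (a * ρ) = y * (y⁻¹ * (a * ρ) * y) := by rw [h5]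
        _ = (a * ρ) * y := by group
  -- L10
  have conjAll : ∀ b : G, orderOf b = 2 → b ∉ Q → ∃ g : G, g * a * g⁻¹ = b := by
    intro b hb2 hbQ
    have hbb := sq b hb2
    obtain ⟨j', hj'⟩ := refl b hbb hbQ
    obtain ⟨g₀, hg₀⟩ := hπs (r ((j - j') * 2⁻¹))
    obtain ⟨y, -, hy, -⟩ := key (g₀⁻¹ * b * g₀) (by
      calc g₀⁻¹ * b * g₀ * (g₀⁻¹ * b * g₀) = g₀⁻¹ * (b * b) * g₀ := by group
        _ = 1 := by rw [hbb]; group) (by
      rw [map_mul, map_mul, map_inv, hg₀, hj', hj, inv_r, r_mul_sr, sr_mul_r]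
      congr 1
      field_simp
      ring)
    refine ⟨g₀ * y, ?_⟩
    calc g₀ * y * a * (g₀ * y)⁻¹ = g₀ * (y * a * y⁻¹) * g₀⁻¹ := by group
      _ = b := by rw [← hy]; group
  refine ⟨conjAll, ?_⟩
  -- L11
  have ha₂ord : orderOf (a * ρ) = 2 := by
    apply orderOf_eq_prime (by rw [pow_two]; exact ha₂)
    intro h
    have h1 : π (a * ρ) = 1 := by rw [h, map_one]
    rw [map_mul, hj, hi, sr_mul_r, one_def] at h1
    cases h1
  have ha₂Q : a * ρ ∉ Q := fun h => ne1 _ ha₂ord (DQ _ ha₂D h)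
  obtain ⟨g, hg⟩ := conjAll (a * ρ) ha₂ord ha₂Q
  have hQn : ∀ x ∈ Q, ∀ c : G, c * x * c⁻¹ ∈ Q := by
    intro x hx c
    rw [hker, map_mul, map_mul, (hker x).1 hx, map_inv]
    simp
  have hcard : Nat.card ↥(Q ⊓ centralizer ({a * ρ} : Set G)) =
      Nat.card ↥(Q ⊓ centralizer ({a} : Set G)) := by
    symm
    refine Nat.card_congr ⟨fun x => ⟨g * x * g⁻¹, mem_inf.2 ⟨hQn _ (mem_inf.1 x.2).1 g, ?_⟩⟩,
      fun x => ⟨g⁻¹ * x * g, mem_inf.2 ⟨?_, ?_⟩⟩, ?_, ?_⟩
    · have hx := mem_centralizer_singleton_iff.1 (mem_inf.1 x.2).2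
      rw [mem_centralizer_singleton_iff, ← hg]
      calc g * (x : G) * g⁻¹ * (g * a * g⁻¹) = g * ((x : G) * a) * g⁻¹ := by group
        _ = g * (a * (x : G)) * g⁻¹ := by rw [hx]
        _ = g * a * g⁻¹ * (g * (x : G) * g⁻¹) := by group
    · have := hQn _ (mem_inf.1 x.2).1 g⁻¹
      rwa [inv_inv] at this
    · have hx : (x : G) * (g * a * g⁻¹) = (g * a * g⁻¹) * (x : G) := by
        rw [hg]
        exact mem_centralizer_singleton_iff.1 (mem_inf.1 x.2).2
      rw [mem_centralizer_singleton_iff]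
      calc g⁻¹ * (x : G) * g * a = g⁻¹ * ((x : G) * (g * a * g⁻¹)) * g := by group
        _ = g⁻¹ * ((g * a * g⁻¹) * (x : G)) * g := by rw [hx]
        _ = a * (g⁻¹ * (x : G) * g) := by group
    · intro x
      apply Subtype.ext
      show g⁻¹ * (g * (x : G) * g⁻¹) * g = x
      group
    · intro x
      apply Subtype.ext
      show g * (g⁻¹ * (x : G) * g) * g⁻¹ = x
      group
  have hprod : Nat.card ↥Q = Nat.card ↥(Q ⊓ centralizer ({a * ρ} : Set G)) *
      Nat.card ↥(Q ⊓ centralizer ({a} : Set G)) := by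
    rw [← Nat.card_prod]
    symm
    refine Nat.card_congr (Equiv.ofBijective
      (fun x : ↥(Q ⊓ centralizer ({a * ρ} : Set G)) × ↥(Q ⊓ centralizer ({a} : Set G)) =>
        (⟨(x.1 : G) * (x.2 : G), Q.mul_mem (mem_inf.1 x.1.2).1 (mem_inf.1 x.2.2).1⟩ : ↥Q))
      ⟨?_, ?_⟩)
    · rintro ⟨y, c⟩ ⟨y', c'⟩ h
      have h1 : (y : G) * (c : G) = (y' : G) * (c' : G) := congrArg Subtype.val h
      have h3 : (y' : G)⁻¹ * y = (c' : G) * (c : G)⁻¹ := by
        calc (y' : G)⁻¹ * y = (y' : G)⁻¹ * ((y : G) * c) * (c : G)⁻¹ := by group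
          _ = (c' : G) * (c : G)⁻¹ := by rw [h1]; group
      have h4 : (y' : G)⁻¹ * y ∈ Q ⊓ centralizer ({a * ρ} : Set G) := mul_mem (inv_mem y'.2) y.2
      have h5 : (y' : G)⁻¹ * y ∈ Q ⊓ centralizer ({a} : Set G) := by
        rw [h3]; exact mul_mem c'.2 (inv_mem c.2)
      have e1 := mem_centralizer_singleton_iff.1 (mem_inf.1 h4).2
      have e2 := mem_centralizer_singleton_iff.1 (mem_inf.1 h5).2
      have h6 : (y' : G)⁻¹ * y = 1 := by
        apply hC _ (mem_inf.1 h4).1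
        calc (y' : G)⁻¹ * y * ρ = ((y' : G)⁻¹ * y * a⁻¹) * (a * ρ) := by group
          _ = (a⁻¹ * ((y' : G)⁻¹ * y)) * (a * ρ) := by
              rw [hainv, e2]
          _ = a⁻¹ * (((y' : G)⁻¹ * y) * (a * ρ)) := by group
          _ = a⁻¹ * ((a * ρ) * ((y' : G)⁻¹ * y)) := by rw [e1]
          _ = ρ * ((y' : G)⁻¹ * y) := by group
      have h7 : (y : G) = y' := (inv_mul_eq_one.1 h6).symm
      have h8 : (c : G) = c' := by
        rw [h7] at h1
        exact mul_left_cancel h1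
      exact Prod.ext (Subtype.ext h7) (Subtype.ext h8)
    · intro x
      obtain ⟨y, hy, hyx, hcomm⟩ := key ((x : G) * a * (x : G)⁻¹) (by
        calc (x : G) * a * (x : G)⁻¹ * ((x : G) * a * (x : G)⁻¹) = (x : G) * (a * a) * (x : G)⁻¹ := by
              group
          _ = 1 := by rw [haa]; group) (by
        rw [map_mul, map_mul, map_inv, (hker _).1 x.2]
        simp)
      refine ⟨(⟨y, mem_inf.2 ⟨hy, mem_centralizer_singleton_iff.2 hcomm⟩⟩,
        ⟨y⁻¹ * x, mem_inf.2 ⟨Q.mul_mem (Q.inv_mem hy) x.2, mem_centralizer_singleton_iff.2 ?_⟩⟩), ?_⟩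
      · calc y⁻¹ * (x : G) * a = y⁻¹ * ((x : G) * a * (x : G)⁻¹) * x := by group
          _ = y⁻¹ * (y * a * y⁻¹) * x := by rw [hyx]
          _ = a * (y⁻¹ * (x : G)) := by group
      · apply Subtype.ext
        show y * (y⁻¹ * (x : G)) = x
        group
  rw [hprod, hcard, pow_two]

/-- Let G be a finite group and r an odd prime such that G ⧸ O₂(G) is dihedral of order 2r, and let R be a Sylow r-subgroup of G with C_{O₂(G)}(R) = 1. Then N_G(R) is dihedral of order 2r; for any involution a of N_G(R), every involution of G outside O₂(G) is conjugate to a; and |C_{O₂(G)}(a)|² = |O₂(G)|. -/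
theorem result {G : Type*} [Group G] [Finite G] {r : ℕ} [Fact r.Prime] (hr : r ≠ 2) [hN : (Cfsg.pCore 2 G).Normal] (hquot : Nonempty (G ⧸ Cfsg.pCore 2 G ≃* DihedralGroup r)) (R : Sylow r G) (hC : Cfsg.pCore 2 G ⊓ Subgroup.centralizer ((R : Subgroup G) : Set G) = ⊥) : Nonempty (↥(Subgroup.normalizer ((R : Subgroup G) : Set G)) ≃* DihedralGroup r) ∧ ∀ a : G, a ∈ Subgroup.normalizer ((R : Subgroup G) : Set G) → orderOf a = 2 → (∀ b : G, orderOf b = 2 → b ∉ Cfsg.pCore 2 G → ∃ g : G, g * a * g⁻¹ = b) ∧ Nat.card ↥(Cfsg.pCore 2 G ⊓ Subgroup.centralizer ({a} : Set G)) ^ 2 = Nat.card ↥(Cfsg.pCore 2 G) := by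
  obtain ⟨φ⟩ := hquot
  have hrp : r.Prime := Fact.out
  set Q := Cfsg.pCore 2 G with hQdef
  have hQ2 : IsPGroup 2 Q := Cfsg.Agent.Lib.Lead.pCore_isPGroup 2 G
  let π : G →* DihedralGroup r := φ.toMonoidHom.comp (QuotientGroup.mk' Q)
  have hπs : Function.Surjective π := φ.surjective.comp (QuotientGroup.mk'_surjective Q)
  have hker : ∀ x, x ∈ Q ↔ π x = 1 := by
    intro x
    show x ∈ Q ↔ φ (QuotientGroup.mk' Q x) = 1
    rw [MulEquiv.map_eq_one_iff, QuotientGroup.mk'_apply, QuotientGroup.eq_one_iff]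
  -- `R ∩ Q = 1`
  have hRQ : ∀ x ∈ (R : Subgroup G), x ∈ Q → x = 1 := by
    intro x hxR hxQ
    obtain ⟨k, hk⟩ := (IsPGroup.iff_orderOf.1 R.2) ⟨x, hxR⟩
    obtain ⟨l, hl⟩ := (IsPGroup.iff_orderOf.1 hQ2) ⟨x, hxQ⟩
    rw [Subgroup.orderOf_mk] at hk hl
    have h1 : (r ^ k).Coprime (2 ^ l) :=
      Nat.Coprime.pow _ _ ((Nat.coprime_primes hrp Nat.prime_two).2 hr)
    rw [← hk, ← hl, Nat.coprime_self] at h1
    exact orderOf_eq_one_iff.1 h1
  have hcardG : Nat.card G = Nat.card Q * (2 * r) := by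
    rw [← Subgroup.card_mul_index Q, Subgroup.index, Nat.card_congr φ.toEquiv,
      DihedralGroup.nat_card]
  have hRcard : Nat.card (R : Subgroup G) = r := by
    have hinj : Function.Injective (π.comp (R : Subgroup G).subtype) := by
      rw [injective_iff_map_eq_one]
      intro x hx
      exact Subtype.ext (hRQ x x.2 ((hker x).2 hx))
    have h1 : Nat.card (R : Subgroup G) ∣ 2 * r := by
      have := Subgroup.card_dvd_of_injective _ hinj
      rwa [DihedralGroup.nat_card] at this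
    obtain ⟨k, hk⟩ := IsPGroup.iff_card.1 R.2
    have hne : (R : Subgroup G) ≠ ⊥ :=
      R.ne_bot_of_dvd_card (by rw [hcardG]; exact ⟨Nat.card Q * 2, by ring⟩)
    have hk0 : k ≠ 0 := by
      rintro rfl
      rw [pow_zero] at hk
      exact hne (Subgroup.card_eq_one.1 hk)
    have hk1 : k ≤ 1 := by
      by_contra hcon
      have h3 : r ^ 2 ∣ 2 * r := (pow_dvd_pow r (by omega)).trans (hk ▸ h1)
      rw [pow_two] at h3
      have h4 : r ∣ 2 := Nat.dvd_of_mul_dvd_mul_right hrp.pos h3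
      exact hr ((Nat.prime_dvd_prime_iff_eq hrp Nat.prime_two).1 h4)
    have : k = 1 := by omega
    rw [hk, this, pow_one]
  have hcyc : IsCyclic (R : Subgroup G) := isCyclic_of_prime_card hRcard
  obtain ⟨ρ', hρ'⟩ := hcyc.exists_generator
  have hRz : (R : Subgroup G) = Subgroup.zpowers (ρ' : G) := by
    apply le_antisymm
    · intro x hx
      obtain ⟨k, hk⟩ := Subgroup.mem_zpowers_iff.1 (hρ' ⟨x, hx⟩)
      exact Subgroup.mem_zpowers_iff.2 ⟨k, by
        have := congrArg Subtype.val hk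
        simpa using this⟩
    · rw [Subgroup.zpowers_le]
      exact ρ'.2
  have hord : orderOf (ρ' : G) = r := by
    rw [← Nat.card_zpowers, ← hRz, hRcard]
  have hC' : ∀ y ∈ Q, y * (ρ' : G) = (ρ' : G) * y → y = 1 := by
    intro y hy hcomm
    have : y ∈ Q ⊓ Subgroup.centralizer ((R : Subgroup G) : Set G) := by
      refine Subgroup.mem_inf.2 ⟨hy, ?_⟩
      rw [hRz, Subgroup.mem_centralizer_iff]
      intro h hh
      obtain ⟨k, rfl⟩ := Subgroup.mem_zpowers_iff.1 hh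
      exact ((Commute.zpow_right (show Commute y (ρ' : G) from hcomm) k).eq).symm
    rw [hC] at this
    exact this
  have := core hr Q π hπs hker (ρ' : G) hord hC'
  rw [← hRz] at this
  exact this

end Cfsg.Agent.S2873
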