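import Cfsg.Statements.S2874
import Cfsg.Agent.Lib.Helper26.A4GL2.L2

set_option autoImplicit false
open Cfsg

namespace Cfsg.Agent.S2874

open Matrix

/-- The relations satisfied by an element `u` of the four-group of `A₄` and a 3-cycle `c`. -/
def Rel {A : Type*} [Group A] (c u : A) : Prop :=
  u * u = 1 ∧ u * (c⁻¹ * u * c) = c * u * c⁻¹ ∧ (c⁻¹ * u * c) * u = c * u * c⁻¹

theorem Rel.map {A B : Type*} [Group A] [Group B] (f : A →* B) {c u : A} (h : Rel c u) :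
    Rel (f c) (f u) := by
  obtain ⟨h1, h2, h3⟩ := h
  refine ⟨?_, ?_, ?_⟩
  · rw [← map_mul, h1, map_one]
  · have := congrArg f h2
    simpa using this
  · have := congrArg f h3
    simpa using this

/-- A 3-cycle in `A₄`. -/
def cA : alternatingGroup (Fin 4) :=
  ⟨c[0, 1, 2], by rw [Equiv.Perm.mem_alternatingGroup]; decide⟩

theorem a4_fact : cA ≠ 1 ∧ cA ^ 3 = 1 ∧ ∀ a : alternatingGroup (Fin 4),
    ∃ u : alternatingGroup (Fin 4), ∃ i : Fin 3, Rel cA u ∧ a = u * cA ^ (i : ℕ) := by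
  unfold Rel
  decide +kernel

/-- reduction mod 2 -/
noncomputable def pi2 {k : ℕ} (hk : k ≠ 0) : ZMod (2 ^ k) →+* ZMod 2 :=
  ZMod.castHom (dvd_pow_self 2 hk) (ZMod 2)

theorem isUnit_of_pi {k : ℕ} (hk : k ≠ 0) (x : ZMod (2 ^ k)) (hx : pi2 hk x ≠ 0) : IsUnit x := by
  have hx' : x = ((x.val : ℕ) : ZMod (2 ^ k)) := (ZMod.natCast_zmod_val x).symm
  rw [hx'] at hx ⊢
  rw [map_natCast, ZMod.natCast_ne_zero_iff_odd] at hx
  rw [ZMod.isUnit_iff_coprime]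
  exact Nat.Coprime.pow_right _ (Nat.coprime_two_right.2 hx)

theorem two_tors {k : ℕ} (hk : k ≠ 0) (t : ZMod (2 ^ k)) (ht : 2 * t = 0) :
    ∃ j : Fin 2, t = ((j : ℕ) : ZMod (2 ^ k)) * 2 ^ (k - 1) := by
  obtain ⟨k', rfl⟩ : ∃ k', k = k' + 1 := ⟨k - 1, by omega⟩
  have hx' : t = ((t.val : ℕ) : ZMod (2 ^ (k' + 1))) := (ZMod.natCast_zmod_val t).symm
  have hlt : t.val < 2 ^ (k' + 1) := ZMod.val_lt t
  set n := t.val with hn
  have h2 : ((2 * n : ℕ) : ZMod (2 ^ (k' + 1))) = 0 := by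
    push_cast
    rw [← hx']
    exact ht
  rw [ZMod.natCast_eq_zero_iff, pow_succ, mul_comm] at h2
  have h3 : 2 ^ k' ∣ n := Nat.dvd_of_mul_dvd_mul_left (by norm_num) h2
  obtain ⟨m, hm⟩ := h3
  have hm2 : m < 2 := by
    rw [hm, pow_succ] at hlt
    exact Nat.lt_of_mul_lt_mul_left hlt
  refine ⟨⟨m, hm2⟩, ?_⟩
  rw [hx', hm]
  push_cast
  simp [mul_comm]

set_option synthInstance.maxHeartbeats 400000 in
set_option synthInstance.maxSize 1024 in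
theorem f2_fact : ∀ a b c d : ZMod 2,
    (a * a + b * c) * a + (a * b + b * d) * c = 1 →
    (a * a + b * c) * b + (a * b + b * d) * d = 0 →
    (c * a + d * c) * a + (c * b + d * d) * c = 0 →
    (c * a + d * c) * b + (c * b + d * d) * d = 1 →
    (a = 1 ∧ b = 0 ∧ c = 0 ∧ d = 1) ∨ (c ≠ 0 ∧ (a - 1) * (d - 1) - b * c ≠ 0) := by
  decide


theorem conj_c0 {k : ℕ} (hk : k ≠ 0) (ρ : GL (Fin 2) (ZMod (2 ^ k))) (h3 : ρ ^ 3 = 1)
    (h1 : ρ ≠ 1) : ∃ g : GL (Fin 2) (ZMod (2 ^ k)),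
      ((g * ρ * g⁻¹ : GL (Fin 2) (ZMod (2 ^ k))) : Matrix (Fin 2) (Fin 2) (ZMod (2 ^ k)))
        = !![0, -1; 1, -1] := by
  set M : Matrix (Fin 2) (Fin 2) (ZMod (2 ^ k)) := (ρ : Matrix (Fin 2) (Fin 2) (ZMod (2 ^ k)))
    with hM
  have hM3 : M ^ 3 = 1 := by
    have := congrArg (fun x : GL (Fin 2) (ZMod (2 ^ k)) =>
      (x : Matrix (Fin 2) (Fin 2) (ZMod (2 ^ k)))) h3
    simpa using this
  have hM1 : M ≠ 1 := by
    intro h
    exact h1 (Units.ext (by rw [Units.val_one]; exact h))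
  obtain ⟨a, b, c, d, habcd⟩ : ∃ a b c d, M = !![a, b; c, d] :=
    ⟨M 0 0, M 0 1, M 1 0, M 1 1, Matrix.eta_fin_two M⟩
  have hfac : (M - 1) * (M ^ 2 + M + 1) = 0 := by
    have : (M - 1) * (M ^ 2 + M + 1) = M ^ 3 - 1 := by noncomm_ring
    rw [this, hM3, sub_self]
  have hN : M ^ 2 + M + 1
      = !![a * a + b * c + a + 1, a * b + b * d + b; c * a + d * c + c, c * b + d * d + d + 1] := by
    rw [habcd, pow_two, Matrix.mul_fin_two, Matrix.one_fin_two]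
    ext i j
    fin_cases i <;> fin_cases j <;> simp
  have hS : M - 1 = !![a - 1, b; c, d - 1] := by
    rw [habcd, Matrix.one_fin_two]
    ext i j
    fin_cases i <;> fin_cases j <;> simp
  have hcube : M ^ 3 = !![(a * a + b * c) * a + (a * b + b * d) * c,
      (a * a + b * c) * b + (a * b + b * d) * d;
      (c * a + d * c) * a + (c * b + d * d) * c, (c * a + d * c) * b + (c * b + d * d) * d] := by
    rw [habcd, pow_succ, pow_two, Matrix.mul_fin_two, Matrix.mul_fin_two]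
  rw [hcube, Matrix.one_fin_two] at hM3
  have e1 := congrArg (pi2 hk) (congrFun (congrFun hM3 0) 0)
  have e2 := congrArg (pi2 hk) (congrFun (congrFun hM3 0) 1)
  have e3 := congrArg (pi2 hk) (congrFun (congrFun hM3 1) 0)
  have e4 := congrArg (pi2 hk) (congrFun (congrFun hM3 1) 1)
  simp only [Matrix.of_apply, Matrix.cons_val_zero, Matrix.cons_val_one, Matrix.cons_val',
    Matrix.cons_val_fin_one, map_add, map_mul, map_one, map_zero] at e1 e2 e3 e4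
  rcases f2_fact _ _ _ _ e1 e2 e3 e4 with ⟨ha, hb, hc, hd⟩ | ⟨hc, hdet⟩
  · exfalso
    have hu : IsUnit (M ^ 2 + M + 1) := by
      rw [Matrix.isUnit_iff_isUnit_det, hN, Matrix.det_fin_two_of]
      apply isUnit_of_pi hk
      simp only [map_add, map_mul, map_one, map_sub, ha, hb, hc, hd]
      decide
    rw [hu.mul_left_eq_zero, sub_eq_zero] at hfac
    exact hM1 hfac
  · have hu : IsUnit (M - 1) := by
      rw [Matrix.isUnit_iff_isUnit_det, hS, Matrix.det_fin_two_of]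
      apply isUnit_of_pi hk
      simpa only [map_add, map_mul, map_one, map_sub] using hdet
    rw [hu.mul_right_eq_zero, hN] at hfac
    have f1 := congrFun (congrFun hfac 0) 0
    have f3 := congrFun (congrFun hfac 1) 0
    simp only [Matrix.of_apply, Matrix.cons_val_zero, Matrix.cons_val_one, Matrix.cons_val',
      Matrix.cons_val_fin_one, Matrix.zero_apply] at f1 f3
    have hP : IsUnit (!![1, a; 0, c] : Matrix (Fin 2) (Fin 2) (ZMod (2 ^ k))) := by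
      rw [Matrix.isUnit_iff_isUnit_det, Matrix.det_fin_two_of]
      simpa using isUnit_of_pi hk c hc
    obtain ⟨u, hu⟩ := hP
    refine ⟨u⁻¹, ?_⟩
    have hcomm : M * (u : Matrix (Fin 2) (Fin 2) (ZMod (2 ^ k)))
        = (u : Matrix (Fin 2) (Fin 2) (ZMod (2 ^ k))) * !![0, -1; 1, -1] := by
      rw [hu, habcd, Matrix.mul_fin_two, Matrix.mul_fin_two]
      ext i j
      fin_cases i <;> fin_cases j <;> simp
      · linear_combination f1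
      · linear_combination f3
    rw [inv_inv, Units.val_mul, Units.val_mul, mul_assoc, ← hM, hcomm, Units.inv_mul_cancel_left]


/-- The twelve matrices of the standard copy of `A₄`. -/
def F (k : ℕ) (p : Fin 2 × Fin 2 × Fin 3) : Matrix (Fin 2) (Fin 2) (ZMod (2 ^ k)) :=
  !![1 + ((p.1 : ℕ) : ZMod (2 ^ k)) * 2 ^ (k - 1), ((p.2.1 : ℕ) : ZMod (2 ^ k)) * 2 ^ (k - 1);
     ((p.2.1 : ℕ) : ZMod (2 ^ k)) * 2 ^ (k - 1) + ((p.1 : ℕ) : ZMod (2 ^ k)) * 2 ^ (k - 1),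
     1 + ((p.1 : ℕ) : ZMod (2 ^ k)) * 2 ^ (k - 1)] * !![0, -1; 1, -1] ^ (p.2.2 : ℕ)

theorem rel_form {k : ℕ} (hk : k ≠ 0) (γ u : GL (Fin 2) (ZMod (2 ^ k)))
    (hγ : (γ : Matrix (Fin 2) (Fin 2) (ZMod (2 ^ k))) = !![0, -1; 1, -1]) (h : Rel γ u) :
    ∃ i j : Fin 2, (u : Matrix (Fin 2) (Fin 2) (ZMod (2 ^ k))) =
      !![1 + ((i : ℕ) : ZMod (2 ^ k)) * 2 ^ (k - 1), ((j : ℕ) : ZMod (2 ^ k)) * 2 ^ (k - 1);
     ((j : ℕ) : ZMod (2 ^ k)) * 2 ^ (k - 1) + ((i : ℕ) : ZMod (2 ^ k)) * 2 ^ (k - 1),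
     1 + ((i : ℕ) : ZMod (2 ^ k)) * 2 ^ (k - 1)] := by
  have hγi : ((γ⁻¹ : GL (Fin 2) (ZMod (2 ^ k))) : Matrix (Fin 2) (Fin 2) (ZMod (2 ^ k)))
      = !![-1, 1; -1, 0] := by
    have h1 : (!![0, -1; 1, -1] : Matrix (Fin 2) (Fin 2) (ZMod (2 ^ k))) * !![-1, 1; -1, 0] = 1 := by
      rw [Matrix.mul_fin_two, Matrix.one_fin_two]
      simp
    calc ((γ⁻¹ : GL (Fin 2) (ZMod (2 ^ k))) : Matrix (Fin 2) (Fin 2) (ZMod (2 ^ k)))
        = ((γ⁻¹ : GL (Fin 2) (ZMod (2 ^ k))) : Matrix (Fin 2) (Fin 2) (ZMod (2 ^ k)))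
          * ((γ : Matrix (Fin 2) (Fin 2) (ZMod (2 ^ k))) * !![-1, 1; -1, 0]) := by
            rw [hγ, h1, mul_one]
      _ = !![-1, 1; -1, 0] := by rw [Units.inv_mul_cancel_left]
  obtain ⟨x, y, z, w, hu⟩ : ∃ x y z w,
      (u : Matrix (Fin 2) (Fin 2) (ZMod (2 ^ k))) = !![x, y; z, w] :=
    ⟨_, _, _, _, Matrix.eta_fin_two _⟩
  obtain ⟨t, ht⟩ : ∃ t : ZMod (2 ^ k), 3 * t = 1 := by
    apply IsUnit.exists_right_inv
    apply isUnit_of_pi hk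
    rw [map_ofNat]
    decide
  obtain ⟨r1, r2, r3⟩ := h
  have E1 := congrArg (fun x : GL (Fin 2) (ZMod (2 ^ k)) =>
      (x : Matrix (Fin 2) (Fin 2) (ZMod (2 ^ k)))) r1
  have E2 := congrArg (fun x : GL (Fin 2) (ZMod (2 ^ k)) =>
      (x : Matrix (Fin 2) (Fin 2) (ZMod (2 ^ k)))) r2
  have E3 := congrArg (fun x : GL (Fin 2) (ZMod (2 ^ k)) =>
      (x : Matrix (Fin 2) (Fin 2) (ZMod (2 ^ k)))) r3
  simp only [Units.val_mul, Units.val_one, hγ, hγi, hu] at E1 E2 E3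
  obtain ⟨k1, k2, k3, k4⟩ := Cfsg.Agent.Lib.Helper26.A4GL2.key_l2 x y z w t ht E1 E2 E3
  obtain ⟨j, hj⟩ := two_tors hk y k1
  obtain ⟨i, hi⟩ := two_tors hk (x - 1) k2
  refine ⟨i, j, ?_⟩
  rw [hu, k3, k4, ← hj, ← hi]
  have e1 : 1 + (x - 1) = x := by ring
  have e2 : y + (x - 1) = y + x - 1 := by ring
  rw [e1, e2]

theorem main {k : ℕ} (hk : k ≠ 0) (φ : alternatingGroup (Fin 4) →* GL (Fin 2) (ZMod (2 ^ k)))
    (hφ : Function.Injective φ) : ∃ g : GL (Fin 2) (ZMod (2 ^ k)),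
      Set.range (fun a => ((g * φ a * g⁻¹ : GL (Fin 2) (ZMod (2 ^ k))) :
        Matrix (Fin 2) (Fin 2) (ZMod (2 ^ k)))) = Set.range (F k) := by
  obtain ⟨c1, c3, hall⟩ := a4_fact
  obtain ⟨g, hg⟩ := conj_c0 hk (φ cA) (by rw [← map_pow, c3, map_one])
    (fun h => c1 (hφ (by rw [h, map_one])))
  refine ⟨g, ?_⟩
  set ψ : alternatingGroup (Fin 4) →* GL (Fin 2) (ZMod (2 ^ k)) :=
    (MulAut.conj g).toMonoidHom.comp φ with hψ
  have hψa : ∀ a, ψ a = g * φ a * g⁻¹ := fun a => rfl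
  have hinj : Function.Injective (fun a => ((g * φ a * g⁻¹ : GL (Fin 2) (ZMod (2 ^ k))) :
        Matrix (Fin 2) (Fin 2) (ZMod (2 ^ k)))) := by
    intro a b hab
    have h1 : g * φ a * g⁻¹ = g * φ b * g⁻¹ := Units.ext hab
    exact hφ (mul_left_cancel (mul_right_cancel h1))
  apply Set.eq_of_subset_of_ncard_le
  · rintro _ ⟨a, rfl⟩
    obtain ⟨u, i, hr, rfl⟩ := hall a
    have hr' : Rel (ψ cA) (ψ u) := hr.map ψ
    obtain ⟨i', j', hij⟩ := rel_form hk (ψ cA) (ψ u) hg hr'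
    refine ⟨(i', j', i), ?_⟩
    show _ = ((g * φ (u * cA ^ (i : ℕ)) * g⁻¹ : GL (Fin 2) (ZMod (2 ^ k))) :
        Matrix (Fin 2) (Fin 2) (ZMod (2 ^ k)))
    rw [← hψa, map_mul, map_pow, Units.val_mul, Units.val_pow_eq_pow_val, hij]
    have : ((ψ cA : GL (Fin 2) (ZMod (2 ^ k))) : Matrix (Fin 2) (Fin 2) (ZMod (2 ^ k)))
        = !![0, -1; 1, -1] := hg
    rw [this]
    rfl
  · rw [Set.ncard_range_of_injective hinj, nat_card_alternatingGroup]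
    have h1 : (Set.range (F k)).ncard ≤ Nat.card (Fin 2 × Fin 2 × Fin 3) := by
      rw [← Set.image_univ, ← Set.ncard_univ]
      exact Set.ncard_image_le
    refine h1.trans ?_
    simp [Nat.factorial]
  · exact Set.finite_range _

/-- For k ≥ 2, any two subgroups of GL₂(ℤ/2ᵏℤ) (the automorphism group of the homocyclic group ℤ/2ᵏ × ℤ/2ᵏ) that are isomorphic to the alternating group of degree 4 are conjugate. -/
theorem result (k : ℕ) (hk : 2 ≤ k) (H₁ H₂ : Subgroup (GL (Fin 2) (ZMod (2 ^ k)))) (h₁ : Nonempty (↥H₁ ≃* ↥(alternatingGroup (Fin 4)))) (h₂ : Nonempty (↥H₂ ≃* ↥(alternatingGroup (Fin 4)))) : ∃ g : GL (Fin 2) (ZMod (2 ^ k)), H₂ = H₁.map (MulAut.conj g).toMonoidHom := by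
  obtain ⟨e₁⟩ := h₁
  obtain ⟨e₂⟩ := h₂
  have hk0 : k ≠ 0 := by omega
  obtain ⟨g₁, hg₁⟩ := main hk0 (H₁.subtype.comp e₁.symm.toMonoidHom)
    (H₁.subtype_injective.comp e₁.symm.injective)
  obtain ⟨g₂, hg₂⟩ := main hk0 (H₂.subtype.comp e₂.symm.toMonoidHom)
    (H₂.subtype_injective.comp e₂.symm.injective)
  refine ⟨g₂⁻¹ * g₁, ?_⟩
  ext x
  rw [Subgroup.mem_map]
  constructor
  · intro hx
    have h1 : ((g₂ * x * g₂⁻¹ : GL (Fin 2) (ZMod (2 ^ k))) :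
        Matrix (Fin 2) (Fin 2) (ZMod (2 ^ k))) ∈ Set.range (F k) := by
      rw [← hg₂]
      exact ⟨e₂ ⟨x, hx⟩, by simp⟩
    rw [← hg₁] at h1
    obtain ⟨a, ha⟩ := h1
    have ha' : g₁ * (e₁.symm a : GL (Fin 2) (ZMod (2 ^ k))) * g₁⁻¹ = g₂ * x * g₂⁻¹ := Units.ext ha
    refine ⟨(e₁.symm a : GL (Fin 2) (ZMod (2 ^ k))), (e₁.symm a).2, ?_⟩
    show (g₂⁻¹ * g₁) * (e₁.symm a : GL (Fin 2) (ZMod (2 ^ k))) * (g₂⁻¹ * g₁)⁻¹ = x
    rw [_root_.mul_inv_rev, inv_inv]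
    calc g₂⁻¹ * g₁ * (e₁.symm a : GL (Fin 2) (ZMod (2 ^ k))) * (g₁⁻¹ * g₂)
        = g₂⁻¹ * (g₁ * (e₁.symm a : GL (Fin 2) (ZMod (2 ^ k))) * g₁⁻¹) * g₂ := by group
      _ = x := by rw [ha']; group
  · rintro ⟨y, hy, rfl⟩
    have h1 : ((g₁ * y * g₁⁻¹ : GL (Fin 2) (ZMod (2 ^ k))) :
        Matrix (Fin 2) (Fin 2) (ZMod (2 ^ k))) ∈ Set.range (F k) := by
      rw [← hg₁]
      exact ⟨e₁ ⟨y, hy⟩, by simp⟩
    rw [← hg₂] at h1
    obtain ⟨a, ha⟩ := h1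
    have ha' : g₂ * (e₂.symm a : GL (Fin 2) (ZMod (2 ^ k))) * g₂⁻¹ = g₁ * y * g₁⁻¹ := Units.ext ha
    have : (MulAut.conj (g₂⁻¹ * g₁)).toMonoidHom y = (e₂.symm a : GL (Fin 2) (ZMod (2 ^ k))) := by
      show (g₂⁻¹ * g₁) * y * (g₂⁻¹ * g₁)⁻¹ = _
      rw [_root_.mul_inv_rev, inv_inv]
      calc g₂⁻¹ * g₁ * y * (g₁⁻¹ * g₂) = g₂⁻¹ * (g₁ * y * g₁⁻¹) * g₂ := by group
        _ = _ := by rw [← ha']; group
    rw [this]
    exact (e₂.symm a).2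

end Cfsg.Agent.S2874
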