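-- Statement S2879: see Cfsg/Statements/S2879.lean (frozen statement).
import Cfsg.Statements.S2879
import Mathlib
import Cfsg.Agent.Lib.Helper5.Quaternion
import Cfsg.Agent.Lib.Helper62.SL23d
import Cfsg.Agent.Lib.Helper61.OmegaCoprime
import Cfsg.Agent.Lib.Helper96.NearFieldGroup
import Cfsg.Agent.Lib.Lead.Cores

set_option autoImplicit false
open Cfsg Subgroup

namespace Cfsg.Agent.S2879


theorem nt {n k r : ℕ} (hr : Odd r) (h : k ^ r ≡ 1 [MOD 2 ^ n]) : k ≡ 1 [MOD 2 ^ n] := by
  rcases n with _ | m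
  · simpa using Nat.modEq_one
  · have h1 : ((k : ZMod (2 ^ (m + 1)))) ^ r = 1 := by
      have := (ZMod.natCast_eq_natCast_iff _ _ _).2 h
      push_cast at this
      exact this
    let u : (ZMod (2 ^ (m + 1)))ˣ := Units.ofPowEqOne _ r h1 hr.pos.ne'
    have hu : u ^ r = 1 := Units.pow_ofPowEqOne h1 hr.pos.ne'
    have hc : Fintype.card (ZMod (2 ^ (m + 1)))ˣ = 2 ^ m := by
      rw [ZMod.card_units_eq_totient, Nat.totient_prime_pow_succ Nat.prime_two]; simp
    have hu2 : u ^ (2 ^ m) = 1 := by rw [← hc]; exact pow_card_eq_one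
    have ho : orderOf u = 1 := by
      have d1 := orderOf_dvd_of_pow_eq_one hu
      have d2 := orderOf_dvd_of_pow_eq_one hu2
      have hcop : Nat.Coprime r (2 ^ m) := (Nat.Coprime.pow_right m (Nat.coprime_two_right.2 hr))
      exact Nat.eq_one_of_dvd_coprimes hcop d1 d2
    have hu1 : u = 1 := orderOf_eq_one_iff.1 ho
    have : (k : ZMod (2 ^ (m + 1))) = 1 := by
      have := congrArg Units.val hu1
      simpa [u] using this
    apply (ZMod.natCast_eq_natCast_iff _ _ _).1
    push_cast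
    exact this

section D
variable {Q : Type*} [Group Q] [Finite Q]

theorem eq_one_of_two_odd (hQ : IsPGroup 2 Q) {t : Q} {r : ℕ} (hr : Odd r) (h : t ^ r = 1) : t = 1 := by
  obtain ⟨s, hs⟩ := IsPGroup.iff_orderOf.1 hQ t
  have d1 := orderOf_dvd_of_pow_eq_one h
  have hcop : Nat.Coprime r (2 ^ s) := (Nat.Coprime.pow_right s (Nat.coprime_two_right.2 hr))
  have : orderOf t = 1 := Nat.eq_one_of_dvd_coprimes hcop d1 (hs ▸ dvd_rfl)
  exact orderOf_eq_one_iff.1 this

theorem pow_fix (α : Q ≃* Q) {t : Q} (h : α t = t) (j : ℕ) : (α ^ j) t = t := by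
  induction j with
  | zero => simp
  | succ j ih => rw [pow_succ, MulAut.mul_apply, h, ih]

theorem fix_of_mem (hQ : IsPGroup 2 Q) (α : Q ≃* Q) {r : ℕ} (hr : Odd r) (hα : α ^ r = 1) (x : Q)
    (hx : α x ∈ zpowers x) (hi : (zpowers x).index ≤ 2) : α = 1 := by
  obtain ⟨k, hk⟩ := Submonoid.mem_powers_iff _ _ |>.1 ((mem_powers_iff_mem_zpowers).2 hx)
  have hpow : ∀ j : ℕ, (α ^ j) x = x ^ (k ^ j) := by
    intro j
    induction j with
    | zero => simp
    | succ j ih => rw [pow_succ, MulAut.mul_apply, ← hk, map_pow, ih, ← pow_mul, pow_succ]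
  obtain ⟨n, hn⟩ := IsPGroup.iff_orderOf.1 hQ x
  have h1 : x ^ (k ^ r) = x ^ 1 := by rw [← hpow, hα, pow_one]; rfl
  rw [pow_eq_pow_iff_modEq, hn] at h1
  have h2 := nt hr h1
  have hfx : α x = x := by
    rw [← hk]
    conv_rhs => rw [← pow_one x]
    rw [pow_eq_pow_iff_modEq, hn]; exact h2
  have hfH : ∀ y ∈ zpowers x, α y = y := by
    intro y hy
    obtain ⟨j, rfl⟩ := mem_zpowers_iff.1 hy
    rw [map_zpow, hfx]
  apply MulEquiv.ext
  intro y
  show α y = y
  by_cases hy : y ∈ zpowers x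
  · exact hfH y hy
  · have hi2 : (zpowers x).index = 2 := by
      have h0 : (zpowers x).index ≠ 0 := Subgroup.index_ne_zero_of_finite
      have h1' : (zpowers x).index ≠ 1 := by
        intro h
        rw [Subgroup.index_eq_one] at h
        exact hy (h ▸ mem_top y)
      omega
    have hαy : α y ∉ zpowers x := by
      intro h
      have := hfH _ h
      exact hy (α.injective this ▸ h)
    have ht : y⁻¹ * α y ∈ zpowers x := by
      rw [mul_mem_iff_of_index_two hi2, inv_mem_iff]
      exact ⟨fun h => absurd h hy, fun h => absurd h hαy⟩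
    set t := y⁻¹ * α y with htd
    have hyt : α y = y * t := by rw [htd]; group
    have hft := hfH t ht
    have hpy : ∀ j : ℕ, (α ^ j) y = y * t ^ j := by
      intro j
      induction j with
      | zero => simp
      | succ j ih => rw [pow_succ, MulAut.mul_apply, hyt, map_mul, ih, pow_fix α hft, pow_succ, mul_assoc]
    have := hpy r
    rw [hα] at this
    have htr : t ^ r = 1 := by
      have h' : y = y * t ^ r := this
      exact (mul_eq_left.1 h'.symm)
    have ht1 := eq_one_of_two_odd hQ hr htr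
    rw [hyt, ht1, mul_one]

end D


section D
variable {Q : Type*} [Group Q] [Finite Q]

theorem invol_unique {b x : Q} {d : ℕ} (hb : orderOf b = 2 * d) (hx : x ∈ zpowers b)
    (h2 : x ^ 2 = 1) (h1 : x ≠ 1) : x = b ^ d := by
  obtain ⟨k, rfl⟩ := Submonoid.mem_powers_iff _ _ |>.1 ((mem_powers_iff_mem_zpowers).2 hx)
  rw [← pow_mul] at h2
  have hd := orderOf_dvd_of_pow_eq_one h2
  rw [hb, mul_comm k 2] at hd
  have hdk : d ∣ k := Nat.dvd_of_mul_dvd_mul_left (by norm_num) hd
  obtain ⟨l, rfl⟩ := hdk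
  have hbd : (b ^ d) ^ 2 = 1 := by rw [← pow_mul, mul_comm, ← hb]; exact pow_orderOf_eq_one b
  rcases Nat.even_or_odd' l with ⟨s, rfl | rfl⟩
  · exfalso; apply h1
    rw [pow_mul, pow_mul, hbd, one_pow]
  · rw [pow_mul, pow_succ, pow_mul, hbd, one_pow, one_mul]

theorem comm_of_mem {a x y : Q} (hx : x ∈ zpowers a) (hy : y ∈ zpowers a) : Commute x y := by
  obtain ⟨i, rfl⟩ := mem_zpowers_iff.1 hx
  obtain ⟨j, rfl⟩ := mem_zpowers_iff.1 hy
  exact Commute.zpow_zpow_self a i j

theorem L1 {a b : Q} {m : ℕ} (ha : orderOf a = 2 * (2 * 2 ^ m)) (hb : orderOf b = 2 * (2 * 2 ^ m))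
    (hab : orderOf (a * b) = 2 * (2 * 2 ^ m)) (Ha : (zpowers a).index = 2)
    (Hb : (zpowers b).index = 2) : m = 0 := by
  set d' := 2 ^ m with hd'
  have hd0 : 0 < d' := by positivity
  have key : ∀ x : Q, orderOf x = 2 * (2 * d') → x ^ (2 * d') = b ^ (2 * d') := by
    intro x hx
    apply invol_unique hb
    · rw [pow_mul]; exact pow_mem (sq_mem_of_index_two Hb x) _
    · rw [← pow_mul, mul_comm, ← hx]; exact pow_orderOf_eq_one x
    · apply pow_ne_one_of_lt_orderOf (by omega) (by omega)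
  set z := b ^ (2 * d') with hz
  have hz1 : z ≠ 1 := pow_ne_one_of_lt_orderOf (by omega) (by omega)
  have hzz : z * z = 1 := by
    rw [hz, ← pow_add, ← two_mul, ← hb]; exact pow_orderOf_eq_one b
  have hA := key a ha
  have hAB := key (a * b) hab
  haveI := normal_of_index_eq_two Ha
  have ha' : b * a * b⁻¹ ∈ zpowers a := (inferInstance : (zpowers a).Normal).conj_mem a (mem_zpowers a) b
  set a' := b * a * b⁻¹ with ha'd
  set w := a⁻¹ * a' with hw
  have hwm : w ∈ zpowers a := mul_mem (inv_mem (mem_zpowers a)) ha'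
  have ha2 : a ^ 2 ∈ zpowers a := pow_mem (mem_zpowers a) 2
  have hb2 : b ^ 2 ∈ zpowers a := sq_mem_of_index_two Ha b
  have hsq : (a * b) ^ 2 = a ^ 2 * w * b ^ 2 := by rw [hw, ha'd]; simp only [pow_two]; group
  have hcb : Commute (a ^ 2) b := comm_of_mem (sq_mem_of_index_two Hb a) (mem_zpowers b)
  have ha'2 : a' ^ 2 = a ^ 2 := by
    have : a' ^ 2 = b * a ^ 2 * b⁻¹ := by rw [ha'd]; simp only [pow_two]; group
    rw [this, ← hcb.eq, mul_inv_cancel_right]
  have hw2 : w ^ 2 = 1 := by
    rw [hw, (comm_of_mem (inv_mem (mem_zpowers a)) ha').mul_pow, ha'2, inv_pow, inv_mul_cancel]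
  have h1 : z = z * w ^ d' * z := by
    calc z = ((a * b) ^ 2) ^ d' := by rw [← pow_mul, hAB]
      _ = (a ^ 2 * w * b ^ 2) ^ d' := by rw [hsq]
      _ = (a ^ 2) ^ d' * w ^ d' * (b ^ 2) ^ d' := by
          rw [(comm_of_mem (mul_mem ha2 hwm) hb2).mul_pow, (comm_of_mem ha2 hwm).mul_pow]
      _ = z * w ^ d' * z := by rw [← pow_mul, ← pow_mul, hA]
  have hzm : z ∈ zpowers a := by rw [← hA]; exact pow_mem (mem_zpowers a) _
  have h2 : z = w ^ d' := by
    have hc : Commute z (w ^ d') := comm_of_mem hzm (pow_mem hwm _)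
    rw [hc.eq, mul_assoc, hzz, mul_one] at h1
    exact h1
  by_contra hm
  obtain ⟨m', rfl⟩ := Nat.exists_eq_succ_of_ne_zero hm
  apply hz1
  rw [h2, hd', pow_succ, mul_comm, pow_mul, hw2, one_pow]

theorem lemD (hQ : IsPGroup 2 Q) (α : Q ≃* Q) {r : ℕ} (hr : Odd r) (hα : α ^ r = 1) (hne : α ≠ 1)
    (c : Q) (hc : (zpowers c).index ≤ 2) :
    Nat.card Q = 4 ∨ Nonempty (Q ≃* QuaternionGroup 2) := by
  have h1 : α c ∉ zpowers c := fun h => hne (fix_of_mem hQ α hr hα c h hc)
  have hidx : (zpowers (α c)).index = (zpowers c).index := by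
    have := index_map_equiv (zpowers c) α
    rw [MonoidHom.map_zpowers] at this
    exact this
  have h2 : α (α c) ∉ zpowers (α c) := fun h => hne (fix_of_mem hQ α hr hα (α c) h (hidx ▸ hc))
  have h3 : α (α c) ∉ zpowers c := by
    intro h
    have hα2 : (α ^ 2) ^ r = 1 := by rw [← pow_mul, mul_comm, pow_mul, hα, one_pow]
    have := fix_of_mem hQ (α ^ 2) hr hα2 c (by rw [pow_two]; exact h) hc
    obtain ⟨s, rfl⟩ := hr
    rw [pow_succ, pow_mul, this, one_pow, one_mul] at hα
    exact hne hα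
  have Hc : (zpowers c).index = 2 := by
    have h0 : (zpowers c).index ≠ 0 := Subgroup.index_ne_zero_of_finite
    have h1' : (zpowers c).index ≠ 1 := by
      intro h
      rw [Subgroup.index_eq_one] at h
      exact h1 (h ▸ mem_top _)
    omega
  set b := α c with hbd
  set e := α b with hed
  have Hb : (zpowers b).index = 2 := hidx.trans Hc
  have ha1 : b⁻¹ * e ∈ zpowers c := by
    rw [mul_mem_iff_of_index_two Hc, inv_mem_iff]
    exact ⟨fun h => absurd h h1, fun h => absurd h h3⟩
  set a1 := b⁻¹ * e with ha1d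
  have hbe : b * a1 = e := by rw [ha1d]; group
  have ha1b : a1 ∉ zpowers b := by
    intro h
    exact h2 ((Subgroup.mul_mem_cancel_left _ (inv_mem (mem_zpowers b))).1 h)
  obtain ⟨n, hn⟩ := IsPGroup.iff_orderOf.1 hQ c
  obtain ⟨i, hi⟩ := Submonoid.mem_powers_iff _ _ |>.1 ((mem_powers_iff_mem_zpowers).2 ha1)
  have hiodd : Odd i := by
    rcases Nat.even_or_odd' i with ⟨s, rfl | rfl⟩
    · exfalso; apply ha1b
      rw [← hi, pow_mul]; exact pow_mem (sq_mem_of_index_two Hb c) _
    · exact ⟨s, rfl⟩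
  have hoa1 : orderOf a1 = 2 ^ n := by
    rw [← hi, Nat.Coprime.orderOf_pow, hn]
    rw [hn]; exact (Nat.Coprime.pow_left n (Nat.coprime_two_left.2 hiodd))
  have hob : orderOf b = 2 ^ n := by rw [hbd, MulEquiv.orderOf_eq, hn]
  have hoe : orderOf (b * a1) = 2 ^ n := by rw [hbe, hed, MulEquiv.orderOf_eq, hob]
  have hcard : Nat.card Q = 2 * 2 ^ n := by
    rw [← index_mul_card (zpowers c), Hc, Nat.card_zpowers, hn]
  have Ha1 : (zpowers a1).index = 2 := by
    have := index_mul_card (zpowers a1)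
    rw [Nat.card_zpowers, hoa1, hcard] at this
    exact Nat.eq_of_mul_eq_mul_right (by positivity) this
  rcases n with _ | _ | m
  · exfalso
    rw [pow_zero, orderOf_eq_one_iff] at hn
    apply h1
    rw [hbd, hn, map_one]; exact one_mem _
  · left; rw [hcard]; norm_num
  · right
    have e2 : (2 : ℕ) ^ (m + 1 + 1) = 2 * (2 * 2 ^ m) := by ring
    rw [e2] at hoa1 hob hoe hcard
    have hm := L1 hob hoa1 hoe Hb Ha1
    subst hm
    norm_num at hoa1 hob hoe hcard
    have hb4 : orderOf b = 2 * 2 := by rw [hob]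
    have sq : ∀ x : Q, orderOf x = 4 → x ^ 2 = b ^ 2 := by
      intro x hx
      apply invol_unique hb4 (sq_mem_of_index_two Hb x)
      · rw [← pow_mul]; norm_num; rw [← hx]; exact pow_orderOf_eq_one x
      · exact pow_ne_one_of_lt_orderOf (by norm_num) (by omega)
    have s1 := sq a1 hoa1
    have s2 := sq (b * a1) hoe
    have b4 : b ^ 4 = 1 := by rw [← hob]; exact pow_orderOf_eq_one b
    refine Cfsg.Agent.Lib.Helper5.nonempty_mulEquiv_quaternionGroup (n := 2) b a1 hb4 s1 ?_ ha1b (by rw [hcard])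
    -- a1⁻¹ * b * a1 = b⁻¹
    have h5 : a1 * b * a1 = b := by
      have : b * (a1 * b * a1) = b * b := by
        have h6 : (b * a1) ^ 2 = b * (a1 * b * a1) := by simp only [pow_two]; group
        rw [← h6, s2, pow_two]
      exact mul_left_cancel this
    have h6 : a1⁻¹ * b * a1 = b * a1 ^ 2 := by
      have : a1⁻¹ * b = b * a1 := by
        rw [inv_mul_eq_iff_eq_mul, ← mul_assoc, h5]
      rw [this, pow_two, mul_assoc]
    rw [h6, s1, eq_inv_iff_mul_eq_one, ← pow_succ', ← pow_succ]
    exact b4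

end D


theorem exists_half (T : Type*) [Group T] [Finite T]
    (hT : (∃ n : ℕ, 4 ≤ n ∧ Nonempty (T ≃* DihedralGroup n)) ∨ Cfsg.IsQuasiDihedral T) :
    (∃ c : T, (zpowers c).index = 2) ∧ 8 ≤ Nat.card T := by
  rcases hT with ⟨n, hn, ⟨e⟩⟩ | ⟨n, hn, hcard, x, y, hx, -, -⟩
  · have hc : Nat.card T = 2 * n := by
      rw [Nat.card_congr e.toEquiv, DihedralGroup.nat_card]
    refine ⟨⟨e.symm (DihedralGroup.r 1), ?_⟩, by omega⟩
    have := index_mul_card (zpowers (e.symm (DihedralGroup.r 1)))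
    rw [Nat.card_zpowers, MulEquiv.orderOf_eq, DihedralGroup.orderOf_r_one, hc] at this
    exact Nat.eq_of_mul_eq_mul_right (by omega) this
  · refine ⟨⟨x, ?_⟩, ?_⟩
    · have := index_mul_card (zpowers x)
      rw [Nat.card_zpowers, hx, hcard, pow_succ, mul_comm (2 ^ n) 2] at this
      exact Nat.eq_of_mul_eq_mul_right (by positivity) this
    · rw [hcard]
      calc 8 = 2 ^ 3 := by norm_num
        _ ≤ 2 ^ (n + 1) := Nat.pow_le_pow_right (by norm_num) (by omega)

theorem card_center_q8 : Nat.card (center (QuaternionGroup 2)) = 2 := by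
  rw [Nat.card_eq_fintype_card]
  decide

/-- Let G be a finite solvable group with O(G) = 1 whose Sylow 2-subgroup T is dihedral of order at least 8 or semidihedral, with G ≠ T and Z(T) normal in G. Then G has a normal subgroup isomorphic to SL₂(3). -/
theorem result {G : Type*} [Group G] [Finite G] (hsol : IsSolvable G) (hO : Cfsg.oddCore G = ⊥) (T : Sylow 2 G) (hT : (∃ n : ℕ, 4 ≤ n ∧ Nonempty (↥(T : Subgroup G) ≃* DihedralGroup n)) ∨ Cfsg.IsQuasiDihedral ↥(T : Subgroup G)) (hne : (T : Subgroup G) ≠ ⊤) (hZ : ((T : Subgroup G) ⊓ Subgroup.centralizer ((T : Subgroup G) : Set G)).Normal) : ∃ U : Subgroup G, U.Normal ∧ Nonempty (↥U ≃* Matrix.SpecialLinearGroup (Fin 2) (ZMod 3)) := by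
  classical
  haveI : Group.IsSolvable G := hsol
  haveI : Fact (Nat.Prime 2) := ⟨Nat.prime_two⟩
  set Q := pCore 2 G with hQd
  haveI hQn : Q.Normal := Cfsg.Agent.Lib.Lead.pCore_normal' 2 G
  have hQ2 : IsPGroup 2 Q := Cfsg.Agent.Lib.Lead.pCore_isPGroup 2 G
  have hCQ : centralizer (Q : Set G) ≤ Q :=
    Cfsg.Agent.Lib.Helper61.OmegaCoprime.centralizer_pCore_le hO
  have hQT : Q ≤ T := Cfsg.Agent.Lib.Lead.pCore_le_sylow T
  obtain ⟨⟨c0, hc0⟩, hT8⟩ := exists_half ↥(T : Subgroup G) hT
  -- a cyclic subgroup of index at most two in `Q`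
  obtain ⟨c, hc⟩ : ∃ c : Q, (zpowers c).index ≤ 2 := by
    have h1 : (zpowers (c0 : G)).subgroupOf (T : Subgroup G) = zpowers c0 := by
      ext x
      rw [mem_subgroupOf, mem_zpowers_iff, mem_zpowers_iff]
      constructor
      · rintro ⟨k, hk⟩; exact ⟨k, Subtype.ext (by simpa using hk)⟩
      · rintro ⟨k, hk⟩; exact ⟨k, by simpa using congrArg Subtype.val hk⟩
    have h2 : (zpowers (c0 : G)).relIndex (T : Subgroup G) = 2 := by
      rw [relIndex, h1, hc0]
    have h3 : (zpowers (c0 : G)).relIndex Q ≤ 2 :=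
      le_trans (relIndex_le_of_le_right hQT (by rw [h2]; norm_num)) h2.le
    have hcyc : IsCyclic ((zpowers (c0 : G)).subgroupOf Q) := by
      let f : ((zpowers (c0 : G)).subgroupOf Q) →* zpowers (c0 : G) :=
        { toFun := fun x => ⟨((x : Q) : G), x.2⟩
          map_one' := rfl
          map_mul' := fun _ _ => rfl }
      apply isCyclic_of_injective f
      intro x y hxy
      apply Subtype.ext; apply Subtype.ext
      exact congrArg (fun z : zpowers (c0 : G) => (z : G)) hxy
    obtain ⟨c, hc⟩ := (Subgroup.isCyclic_iff_exists_zpowers_eq_top _).1 hcyc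
    exact ⟨c, by rw [hc]; exact h3⟩
  -- an element of odd prime order
  have hTi : (T : Subgroup G).index ≠ 1 := fun h => hne (index_eq_one.1 h)
  set p := (T : Subgroup G).index.minFac with hp
  have hpp : p.Prime := Nat.minFac_prime hTi
  have hpd : p ∣ (T : Subgroup G).index := Nat.minFac_dvd _
  have hp2 : p ≠ 2 := by
    intro h
    rw [h] at hpd
    exact T.not_dvd_index hpd
  have hpodd : Odd p := hpp.odd_of_ne_two hp2
  haveI : Fact p.Prime := ⟨hpp⟩
  obtain ⟨g, hg⟩ := exists_prime_orderOf_dvd_card' p (hpd.trans (index_dvd_card _))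
  have hgC : g ∉ centralizer (Q : Set G) := by
    intro h
    obtain ⟨k, hk⟩ := IsPGroup.iff_orderOf.1 hQ2 ⟨g, hCQ h⟩
    rw [Subgroup.orderOf_mk, hg] at hk
    have : p ∣ 2 ^ k := hk ▸ dvd_rfl
    exact hp2 ((Nat.prime_dvd_prime_iff_eq hpp Nat.prime_two).1 (hpp.dvd_of_dvd_pow this))
  set α : Q ≃* Q := MulAut.conjNormal g with hαd
  have hα : α ^ p = 1 := by
    rw [hαd, ← map_pow, ← hg, pow_orderOf_eq_one, map_one]
  have hαne : α ≠ 1 := by
    intro h
    apply hgC
    rw [mem_centralizer_iff]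
    intro q hq
    have := congrArg (fun β : Q ≃* Q => ((β ⟨q, hq⟩ : Q) : G)) h
    simp only [hαd, MulAut.conjNormal_apply, MulAut.one_apply] at this
    exact (mul_inv_eq_iff_eq_mul.1 this).symm
  rcases lemD hQ2 α hpodd hα hαne c hc with h4 | e
  · -- `Q` of order four
    exfalso
    set Z := (T : Subgroup G) ⊓ centralizer ((T : Subgroup G) : Set G) with hZd
    have hZ2 : IsPGroup 2 Z := T.2.to_le inf_le_left
    have hZQ : Z ≤ Q := Cfsg.Agent.Lib.Lead.le_pCore hZ hZ2
    have hZne : Z ≠ ⊥ := by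
      haveI : Nontrivial ↥(T : Subgroup G) := by
        apply (Finite.one_lt_card_iff_nontrivial).1; omega
      haveI := T.2.center_nontrivial
      obtain ⟨z, hz⟩ := exists_ne (1 : center ↥(T : Subgroup G))
      intro hbot
      apply hz
      have hmem : (((z : ↥(T : Subgroup G)) : G)) ∈ Z := by
        refine Subgroup.mem_inf.2 ⟨(z : ↥(T : Subgroup G)).2, ?_⟩
        rw [mem_centralizer_iff]
        intro t ht
        have := (mem_center_iff.1 z.2) ⟨t, ht⟩
        exact congrArg Subtype.val this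
      rw [hbot, mem_bot] at hmem
      apply Subtype.ext; apply Subtype.ext
      exact hmem
    have hZc : Nat.card Z ∣ 4 := h4 ▸ card_dvd_of_le hZQ
    have hZ1 : Nat.card Z ≠ 1 := fun h => hZne (card_eq_one.1 h)
    have hZcases : Nat.card Z = 2 ∨ Nat.card Z = 4 := by
      have hle := Nat.le_of_dvd (by norm_num) hZc
      have h0 : Nat.card Z ≠ 0 := Nat.card_pos.ne'
      generalize Nat.card Z = k at *
      interval_cases k <;> simp_all
    rcases hZcases with h2 | h4'
    · haveI : Fact (Nat.Prime 2) := ⟨Nat.prime_two⟩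
      have hcyc : IsCyclic Z := isCyclic_of_prime_card h2
      obtain ⟨z0, hz0⟩ := (Subgroup.isCyclic_iff_exists_zpowers_eq_top _).1 hcyc
      have hz0Z : z0 ∈ Z := hz0 ▸ mem_zpowers z0
      apply hαne
      refine fix_of_mem hQ2 α hpodd hα ⟨z0, hZQ hz0Z⟩ ?_ ?_
      · have : g * z0 * g⁻¹ ∈ zpowers z0 := hz0 ▸ hZ.conj_mem z0 hz0Z g
        obtain ⟨k, hk⟩ := mem_zpowers_iff.1 this
        rw [mem_zpowers_iff]
        refine ⟨k, Subtype.ext ?_⟩
        simp only [hαd, MulAut.conjNormal_apply, Subgroup.coe_zpow]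
        exact hk
      · have := index_mul_card (zpowers (⟨z0, hZQ hz0Z⟩ : Q))
        rw [Nat.card_zpowers, Subgroup.orderOf_mk, ← Nat.card_zpowers, hz0, h2, h4] at this
        omega
    · have hZeq : Z = Q := eq_of_le_of_card_ge hZQ (by rw [h4, h4'])
      have hTQ : (T : Subgroup G) ≤ Q := by
        refine le_trans ?_ hCQ
        intro t ht
        rw [mem_centralizer_iff]
        intro q hq
        have hq' : q ∈ Z := hZeq ▸ hq
        exact ((mem_centralizer_iff.1 hq'.2) t ht).symm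
      have := Nat.le_of_dvd (by rw [h4]; norm_num) (card_dvd_of_le hTQ)
      omega
  · -- `Q` quaternion
    obtain ⟨e⟩ := e
    have hQ8 : Nat.card Q = 8 := by
      rw [Nat.card_congr e.toEquiv, Nat.card_eq_fintype_card, QuaternionGroup.card]
    let θ : G →* MulAut Q := MulAut.conjNormal
    have hker : θ.ker ≤ centralizer (Q : Set G) := by
      intro x hx
      rw [mem_centralizer_iff]
      intro q hq
      have := congrArg (fun β : Q ≃* Q => ((β ⟨q, hq⟩ : Q) : G)) (MonoidHom.mem_ker.1 hx)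
      simp only [θ, MulAut.conjNormal_apply, MulAut.one_apply] at this
      exact (mul_inv_eq_iff_eq_mul.1 this).symm
    have hcen : Nat.card (centralizer (Q : Set G)) ∣ 2 := by
      rw [← card_center_q8]
      let f : centralizer (Q : Set G) →* center (QuaternionGroup 2) :=
        { toFun := fun x => ⟨e ⟨x, hCQ x.2⟩, by
            rw [mem_center_iff]
            intro y
            obtain ⟨q, rfl⟩ := e.surjective y
            rw [← map_mul, ← map_mul]
            congr 1
            apply Subtype.ext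
            exact (mem_centralizer_iff.1 x.2) q q.2⟩
          map_one' := by
            apply Subtype.ext
            exact map_one e
          map_mul' := fun x y => by
            apply Subtype.ext
            exact map_mul e ⟨x, hCQ x.2⟩ ⟨y, hCQ y.2⟩ }
      apply card_dvd_of_injective f
      intro x y hxy
      have h1 := congrArg Subtype.val hxy
      have h2 := e.injective h1
      exact Subtype.ext (congrArg (fun z : Q => (z : G)) h2)
    have hrange : Nat.card θ.range ∣ 24 := by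
      refine (card_subgroup_dvd_card θ.range).trans ?_
      rw [Nat.card_congr (MulAut.congr e).toEquiv]
      exact Cfsg.Agent.Lib.Helper96.nf_card_mulAut_quaternion
    have hG48 : Nat.card G ∣ 48 := by
      rw [← card_mul_index θ.ker, index_ker]
      exact mul_dvd_mul ((card_dvd_of_le hker).trans hcen) hrange
    have hp3 : p = 3 := by
      have h1 : p ∣ 2 ^ 4 * 3 := (hpd.trans (index_dvd_card _)).trans hG48
      rcases (Nat.Prime.dvd_mul hpp).1 h1 with h | h
      · exact absurd ((Nat.prime_dvd_prime_iff_eq hpp Nat.prime_two).1 (hpp.dvd_of_dvd_pow h)) hp2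
      · exact (Nat.prime_dvd_prime_iff_eq hpp Nat.prime_three).1 h
    have hg3 : g ^ 3 = 1 := by rw [← hp3, ← hg]; exact pow_orderOf_eq_one g
    have hgN : g ∈ normalizer (Q : Set G) := by
      rw [normalizer_eq_top]; exact mem_top g
    obtain ⟨eL⟩ := Cfsg.Agent.Lib.Helper62.nonempty_sup_equiv_SL23 e hgN hgC hg3
    refine ⟨Q ⊔ zpowers g, ?_, ⟨eL⟩⟩
    have hL : Nat.card ↥(Q ⊔ zpowers g) = 24 := by
      rw [Nat.card_congr eL.toEquiv, Cfsg.Agent.Lib.Helper62.card_SL23]
    have hidx := card_mul_index (Q ⊔ zpowers g)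
    rw [hL] at hidx
    have hi2 : (Q ⊔ zpowers g).index ∣ 2 := by
      have : 24 * (Q ⊔ zpowers g).index ∣ 24 * 2 := by rw [hidx]; exact hG48
      exact Nat.dvd_of_mul_dvd_mul_left (by norm_num) this
    rcases (Nat.dvd_prime Nat.prime_two).1 hi2 with h | h
    · rw [index_eq_one.1 h]; infer_instance
    · exact normal_of_index_eq_two h

end Cfsg.Agent.S2879
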