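import Cfsg.Statements.S2881
import Cfsg.Agent.S2880

set_option autoImplicit false
open Cfsg

namespace Cfsg.Agent.S2881

/-- Let E be an extraspecial 2-group of order 2^(2m+1) of plus type (containing an elementary abelian subgroup of order 2^(m+1)), and let ω be an automorphism of E of order 5 whose fixed points are exactly the centre of E. Then m is divisible by 4. -/
theorem result {E : Type*} [Group E] [Finite E] (m : ℕ) (hm : 1 ≤ m) (hE : Cfsg.IsExtraspecial 2 E) (hcard : Nat.card E = 2 ^ (2 * m + 1)) (hplus : ∃ A : Subgroup E, Cfsg.IsElementaryAbelian 2 A ∧ Nat.card A = 2 ^ (m + 1)) (ω : E ≃* E) (hω : orderOf ω = 5) (hfix : ∀ x : E, ω x = x ↔ x ∈ Subgroup.center E) : 4 ∣ m := by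
  classical
  have := Fintype.ofFinite E
  haveI : Fact (Nat.Prime 5) := ⟨by norm_num⟩
  have hcount := S2880.result m hm hE hcard hplus
  let f : Function.End {x : E // orderOf x = 4} := fun x => ⟨ω x.1, by
    rw [MulEquiv.orderOf_eq]; exact x.2⟩
  have hfpow : ∀ (k : ℕ) (x : {x : E // orderOf x = 4}), ((f ^ k) x).1 = (ω ^ k) x.1 := by
    intro k
    induction k with
    | zero => intro x; rfl
    | succ k ih =>
      intro x
      rw [pow_succ', pow_succ']
      change ω ((f ^ k) x).1 = ω ((ω ^ k) x.1)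
      rw [ih]
  have hf5 : f ^ 5 ^ 1 = 1 := by
    funext x
    apply Subtype.ext
    rw [pow_one, hfpow, ← hω, pow_orderOf_eq_one]
    rfl
  have hmod := Equiv.Perm.card_fixedPoints_modEq hf5
  have hfix0 : Fintype.card (Function.fixedPoints f) = 0 := by
    rw [Fintype.card_eq_zero_iff]
    refine ⟨fun ⟨x, hx⟩ => ?_⟩
    have h1 : ω x.1 = x.1 := congrArg Subtype.val hx
    have h2 := (hfix x.1).mp h1
    have h3 := Lib.Helper29.center_sq_eq_one hE.2 h2
    have h4 := orderOf_dvd_of_pow_eq_one (x := x.1) (n := 2) (by rw [pow_two]; exact h3)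
    rw [x.2] at h4
    omega
  rw [hfix0, ← Nat.card_eq_fintype_card, hcount] at hmod
  have h5 : 5 ∣ 2 ^ (2 * m) - 2 ^ m := (Nat.modEq_zero_iff_dvd).mp hmod
  have h6 : 2 ^ (2 * m) - 2 ^ m = 2 ^ m * (2 ^ m - 1) := by
    rw [Nat.mul_sub, mul_one, two_mul, pow_add]
  rw [h6] at h5
  have h7 : 5 ∣ 2 ^ m - 1 := by
    apply Nat.Coprime.dvd_of_dvd_mul_left _ h5
    apply Nat.Coprime.pow_right
    norm_num
  have h8 : 2 ^ m % 5 = 1 := by
    have : 1 ≤ 2 ^ m := Nat.one_le_two_pow
    omega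
  have h9 : 2 ^ m % 5 = 2 ^ (m % 4) % 5 := by
    conv_lhs => rw [← Nat.div_add_mod m 4, pow_add, pow_mul]
    rw [Nat.mul_mod, Nat.pow_mod]
    norm_num
  rw [h9] at h8
  have h10 : m % 4 < 4 := Nat.mod_lt _ (by norm_num)
  rw [Nat.dvd_iff_mod_eq_zero]
  interval_cases h : m % 4 <;> simp_all

end Cfsg.Agent.S2881
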