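import Cfsg.Statements.S2911
import Cfsg.Agent.Lib.Helper48.Transfer2

set_option autoImplicit false
open Cfsg

namespace Cfsg.Agent.S2911

theorem central_is_square : ∀ c : Multiplicative (ZMod 2) × DihedralGroup 4, c.1 = 1 →
    (∀ x, x * c = c * x) → ∃ y, c = y ^ 2 := by decide

theorem square_fst : ∀ u : Multiplicative (ZMod 2) × DihedralGroup 4, (u ^ 2).1 = 1 := by decide

theorem z_central : ∀ x : Multiplicative (ZMod 2) × DihedralGroup 4,
    x * (Multiplicative.ofAdd 1, 1) = (Multiplicative.ofAdd 1, 1) * x := by decide

/-- A finite group whose Sylow 2-subgroups are isomorphic to the direct product of a group of order 2 and a dihedral group of order 8 has a subgroup of index two. -/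
theorem result {G : Type*} [Group G] [Finite G] (S : Sylow 2 G) (hS : Nonempty (↥(S : Subgroup G) ≃* Multiplicative (ZMod 2) × DihedralGroup 4)) : ∃ H : Subgroup G, H.index = 2 := by
  classical
  obtain ⟨e⟩ := hS
  set f : (S : Subgroup G) →* Multiplicative (ZMod 2) :=
    (MonoidHom.fst _ _).comp e.toMonoidHom with hf
  have hfs : Function.Surjective f := by
    intro a
    exact ⟨e.symm (a, 1), by simp [hf]⟩
  have hMi : f.ker.index = 2 := by
    rw [Subgroup.index_ker, MonoidHom.range_eq_top.mpr hfs, Subgroup.card_top]
    simp
  set z' : (S : Subgroup G) := e.symm (Multiplicative.ofAdd 1, 1) with hz'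
  have hez : e z' = (Multiplicative.ofAdd 1, 1) := by simp [hz']
  have hz'c : ∀ s : (S : Subgroup G), s * z' = z' * s := by
    intro s
    apply e.injective
    rw [map_mul, map_mul, hez]
    exact z_central _
  have hz'2 : z' ^ 2 = 1 := by
    apply e.injective
    rw [map_pow, hez, e.map_one]
    decide
  have hz'1 : z' ≠ 1 := by
    intro h
    have := congrArg e h
    rw [hez, e.map_one] at this
    exact absurd this (by decide)
  have hzo : orderOf (z' : G) = 2 := by
    rw [Subgroup.orderOf_coe]
    exact orderOf_eq_prime hz'2 hz'1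
  obtain ⟨K, -, hKi, -⟩ := Lib.Helper48.exists_index_two_of_central_involution S
    (Lib.Helper48.homOfIndexTwo f.ker hMi) (z' : G) hzo
    (by
      intro s hs
      rw [Subgroup.mem_centralizer_singleton_iff]
      exact congrArg Subtype.val (hz'c ⟨s, hs⟩))
    (by
      intro n hn h
      rw [Ne, Lib.Helper48.homOfIndexTwo_eq_one_iff, MonoidHom.mem_ker]
      intro hw
      set w : (S : Subgroup G) := ⟨n⁻¹ * (z' : G) * n, h⟩ with hwdef
      have hconj : ∀ s : (S : Subgroup G), n * (s : G) * n⁻¹ ∈ (S : Subgroup G) := fun s =>
        (Subgroup.mem_normalizer_iff.mp hn s).mp s.2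
      have hwc : ∀ x, x * e w = e w * x := by
        intro x
        obtain ⟨s, rfl⟩ := e.surjective x
        rw [← map_mul, ← map_mul]
        congr 1
        apply Subtype.ext
        have h1 := congrArg Subtype.val (hz'c ⟨_, hconj s⟩)
        simp only [Subgroup.coe_mul] at h1 ⊢
        calc (s : G) * (n⁻¹ * (z' : G) * n) = n⁻¹ * ((n * (s : G) * n⁻¹) * (z' : G)) * n := by group
          _ = n⁻¹ * ((z' : G) * (n * (s : G) * n⁻¹)) * n := by rw [h1]
          _ = n⁻¹ * (z' : G) * n * (s : G) := by group
      obtain ⟨y, hy⟩ := central_is_square (e w) hw hwc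
      -- z' is then a square in S
      set u : (S : Subgroup G) := ⟨_, hconj (e.symm y)⟩ with hu
      have hzu : z' = u ^ 2 := by
        have hwy : w = (e.symm y) ^ 2 := by
          apply e.injective
          rw [map_pow, hy]; simp
        apply Subtype.ext
        have h2 := congrArg Subtype.val hwy
        simp only [hwdef, Subgroup.coe_pow] at h2
        simp only [hu, Subgroup.coe_pow]
        rw [conj_pow, ← h2]
        group
      have h3 := square_fst (e u)
      rw [← map_pow, ← hzu, hez] at h3
      exact absurd h3 (by decide))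
  exact ⟨K, hKi⟩

end Cfsg.Agent.S2911
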