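import Cfsg.Statements.S2944
import Cfsg.Agent.Lib.Helper48.JC9

set_option autoImplicit false
open Cfsg

namespace Cfsg.Agent.S2944

open Cfsg.Agent.Lib.Helper48
open Cfsg.Agent.Lib.Helper22 (conjS conjS_eq_of_mem_normalizer)

/-- Let G be a finite group of characteristic 2 type in which every 2-local subgroup is solvable and the centralizer of Ω₁(Z(S)) lies in N_G(S) for every Sylow 2-subgroup S, and let T be a nontrivial 2-subgroup (below, J is the Thompson subgroup generated by the elementary abelian 2-subgroups of largest order) and K a J(T)-component such that J(T) is the Thompson subgroup of every Sylow 2-subgroup of N_G(W_K) containing J(T), where W_K = [Ω₁(Z(O₂(K))), K]. Then N_G(K) = N_G(W_K), and K is a J(Tᵍ)-component for every conjugate Tᵍ of T with J(Tᵍ) ≤ N_G(W_K). -/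
theorem result {G : Type*} [Group G] [Finite G] (hL : Cfsg.IsCharacteristicTwoType G) (hN : ∀ N : Subgroup G, Cfsg.IsTwoLocal N → Group.IsSolvable ↥N)
    (hZ : ∀ S : Sylow 2 G, Subgroup.centralizer (Cfsg.omegaCenterOf (S : Subgroup G) : Set G) ≤ Subgroup.normalizer ((S : Subgroup G) : Set G)) (T : Subgroup G) (hT : IsPGroup 2 ↥T) (hT1 : T ≠ ⊥) (K : Subgroup G) (hK : K ∈ Cfsg.jComponentsZero T) :
    Subgroup.normalizer (K : Set G) = Subgroup.normalizer (Cfsg.wOf K : Set G) ∧
      ∀ g : G, Cfsg.thompsonSubgroupOf 2 (T.map (MulAut.conj g).toMonoidHom) ≤ Subgroup.normalizer (Cfsg.wOf K : Set G) →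
        Cfsg.IsJComponent (T.map (MulAut.conj g).toMonoidHom) K := by
  have zn : ZN G := ⟨hL, hN, hZ⟩
  obtain ⟨hK1, hK2⟩ := hK
  have hJ2 : IsPGroup 2 (Cfsg.thompsonSubgroupOf 2 T) := hT.to_le (thompsonSubgroupOf_le' 2 T)
  have hJL : Cfsg.thompsonSubgroupOf 2 T ≤ Subgroup.normalizer (Cfsg.wOf K : Set G) :=
    (J_le_normalizer hK1).trans (normalizer_le_normalizer_wOf K)
  obtain ⟨S, hS, hJS⟩ := Cfsg.Agent.Lib.Helper47.exists_isSylowIn_ge hJ2 hJL
  have hJeq : Cfsg.thompsonSubgroupOf 2 S = Cfsg.thompsonSubgroupOf 2 T :=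
    hK2 S hJS (isSylowTwoIn_of hS)
  have hKS : Cfsg.IsJComponent S K := isJComponent_congr hK1 hJeq.symm
  have hNN : Subgroup.normalizer (K : Set G) = Subgroup.normalizer (Cfsg.wOf K : Set G) :=
    le_antisymm (normalizer_le_normalizer_wOf K) (normalizer_wOf_le zn hKS hS)
  refine ⟨hNN, ?_⟩
  intro g hg
  change Cfsg.thompsonSubgroupOf 2 (conjS g T) ≤ _ at hg
  change Cfsg.IsJComponent (conjS g T) K
  have hJg2 : IsPGroup 2 (Cfsg.thompsonSubgroupOf 2 (conjS g T)) := by
    rw [thompsonSubgroupOf_conjS]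
    exact hJ2.map _
  obtain ⟨l, hl, hle⟩ := hS.exists_conj_ge hJg2 hg
  change _ ≤ conjS l S at hle
  obtain ⟨A, hA⟩ := exists_mea T
  have hAg : MEA (conjS g T) (conjS g A) := hA.conj g
  have hAS : MEA S A := hA.of_J_eq hJeq.symm
  have hAl : MEA (conjS l S) (conjS l A) := hAS.conj l
  have h1 : Cfsg.thompsonSubgroupOf 2 (conjS g T) ≤ Cfsg.thompsonSubgroupOf 2 (conjS l S) :=
    J_le_J_of_card hAg hAl (by rw [card_conjS, card_conjS]) hle
  have h2 : Cfsg.thompsonSubgroupOf 2 (conjS g T) = Cfsg.thompsonSubgroupOf 2 (conjS l S) :=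
    Subgroup.eq_of_le_of_card_ge h1 (by
      rw [thompsonSubgroupOf_conjS, thompsonSubgroupOf_conjS, card_conjS, card_conjS, hJeq])
  have h3 : Cfsg.IsJComponent (conjS l S) (conjS l K) := isJComponent_conjS hKS l
  have hlK : l ∈ Subgroup.normalizer (K : Set G) := hNN ▸ hl
  rw [conjS_eq_of_mem_normalizer hlK] at h3
  exact isJComponent_congr h3 h2.symm

end Cfsg.Agent.S2944
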