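import Cfsg.Statements.S2968
import Cfsg.Agent.Lib.Helper49.Isolated

set_option autoImplicit false
open Cfsg

namespace Cfsg.Agent.S2968

open Cfsg.Agent.Lib.Helper49

/-- Let G be a finite group, p a prime, P a Sylow p-subgroup of G and x ∈ P an element of p-power order which is isolated in G (the only conjugate of x commuting with x is x itself). Then x lies in the centre of P, and the subgroup generated by x is both strongly closed and weakly closed in P with respect to G. -/
theorem result {G : Type*} [Group G] [Finite G] {p : ℕ} [Fact p.Prime] (P : Sylow p G) (x : G) (hxP : x ∈ (P : Subgroup G)) (hx : ∃ k : ℕ, orderOf x = p ^ k) (hiso : Cfsg.IsIsolated x) : x ∈ (P : Subgroup G) ⊓ Subgroup.centralizer ((P : Subgroup G) : Set G) ∧ Cfsg.IsStronglyClosed (Subgroup.zpowers x) (P : Subgroup G) ∧ Cfsg.IsWeaklyClosed (Subgroup.zpowers x) (P : Subgroup G) := by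
  have hcen := isolated_central P.isPGroup' hxP hiso
  have hxp : ∃ k : ℕ, x ^ p ^ k = 1 := by
    obtain ⟨k, hk⟩ := hx
    exact ⟨k, by rw [← hk, pow_orderOf_eq_one]⟩
  refine ⟨Subgroup.mem_inf.mpr ⟨hxP, Subgroup.mem_centralizer_iff.mpr fun y hy => hcen y hy⟩,
    ⟨Subgroup.zpowers_le.mpr hxP, ?_⟩, ⟨Subgroup.zpowers_le.mpr hxP, ?_⟩⟩
  · intro a ha g hg
    obtain ⟨n, rfl⟩ := Subgroup.mem_zpowers_iff.mp ha
    have hxH : x ∈ Subgroup.centralizer {g * x ^ n * g⁻¹} :=
      Subgroup.mem_centralizer_singleton_iff.mpr (hcen _ hg).symm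
    have hgxH : g * x * g⁻¹ ∈ Subgroup.centralizer {g * x ^ n * g⁻¹} := by
      rw [Subgroup.mem_centralizer_singleton_iff, ← conj_zpow]
      exact ((Commute.refl (g * x * g⁻¹)).zpow_right n).eq
    obtain ⟨c, hc, hcg⟩ := isolated_exists_conj hxp hiso hxH hgxH
    have h1 : (c * g) * x ^ n * (c * g)⁻¹ = x ^ n := by
      rw [← conj_zpow, hcg]
    have h2 : c * (g * x ^ n * g⁻¹) = (g * x ^ n * g⁻¹) * c := Subgroup.mem_centralizer_singleton_iff.mp hc
    have h3 : g * x ^ n * g⁻¹ = x ^ n := by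
      calc g * x ^ n * g⁻¹ = (g * x ^ n * g⁻¹) * c * c⁻¹ := by group
        _ = c * (g * x ^ n * g⁻¹) * c⁻¹ := by rw [h2]
        _ = (c * g) * x ^ n * (c * g)⁻¹ := by group
        _ = x ^ n := h1
    rw [h3]
    exact Subgroup.zpow_mem_zpowers x n
  · intro g hg
    have hgx : g * x * g⁻¹ ∈ (P : Subgroup G) := hg ⟨x, Subgroup.mem_zpowers x, rfl⟩
    have h1 := isolated_conj_eq P.isPGroup' hxP hgx hiso
    rw [MonoidHom.map_zpowers]
    congr 1

end Cfsg.Agent.S2968
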