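import Cfsg.Statements.S2969
import Cfsg.Agent.Lib.Helper49.Isolated

set_option autoImplicit false
open Cfsg

namespace Cfsg.Agent.S2969

open Cfsg.Agent.Lib.Helper49

/-- Let G be a finite group, p a prime and x ∈ G an element of p-power order which is isolated in G. If R is a p-subgroup of G containing x, then N_G(R) ≤ C_G(x); in particular x lies in the centre of R. Moreover, if x lies in a normal subgroup N of a subgroup H of G, then H = N·C_H(x). -/
theorem result {G : Type*} [Group G] [Finite G] {p : ℕ} [Fact p.Prime] (x : G) (hx : ∃ k : ℕ, orderOf x = p ^ k) (hiso : Cfsg.IsIsolated x) : (∀ R : Subgroup G, IsPGroup p ↥R → x ∈ R → Subgroup.normalizer (R : Set G) ≤ Subgroup.centralizer ({x} : Set G)) ∧ (∀ H N : Subgroup G, N ≤ H → H ≤ Subgroup.normalizer (N : Set G) → x ∈ N → N ⊔ (H ⊓ Subgroup.centralizer ({x} : Set G)) = H) := by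
  have hxp : ∃ k : ℕ, x ^ p ^ k = 1 := by
    obtain ⟨k, hk⟩ := hx
    exact ⟨k, by rw [← hk, pow_orderOf_eq_one]⟩
  constructor
  · intro R hR hxR g hg
    have hgx : g * x * g⁻¹ ∈ R := (Subgroup.mem_normalizer_iff.mp hg x).mp hxR
    have h1 := isolated_conj_eq hR hxR hgx hiso
    rw [Subgroup.mem_centralizer_singleton_iff]
    calc g * x = (g * x * g⁻¹) * g := by group
      _ = x * g := by rw [h1]
  · intro H N hNH hHN hxN
    apply le_antisymm (sup_le hNH inf_le_left)
    intro h hh
    have hgx : h * x * h⁻¹ ∈ N := (Subgroup.mem_normalizer_iff.mp (hHN hh) x).mp hxN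
    obtain ⟨c, hc, hcg⟩ := isolated_exists_conj hxp hiso hxN hgx
    have h1 : c * h ∈ H ⊓ Subgroup.centralizer ({x} : Set G) := by
      refine Subgroup.mem_inf.mpr ⟨mul_mem (hNH hc) hh, ?_⟩
      rw [Subgroup.mem_centralizer_singleton_iff]
      calc (c * h) * x = ((c * h) * x * (c * h)⁻¹) * (c * h) := by group
        _ = x * (c * h) := by rw [hcg]
    have h2 : h = c⁻¹ * (c * h) := by group
    rw [h2]
    exact mul_mem (Subgroup.mem_sup_left (inv_mem hc)) (Subgroup.mem_sup_right h1)

end Cfsg.Agent.S2969
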