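import Cfsg.Statements.S2970
import Cfsg.Agent.Lib.Helper49.Isolated
import Mathlib.GroupTheory.Transfer
import Mathlib.NumberTheory.Basic
import Mathlib.Tactic

set_option autoImplicit false
open Cfsg

namespace Cfsg.Agent.S2970

open Cfsg.Agent.Lib.Helper49

theorem conj_pow_iter {G : Type*} [Group G] {a g : G} {m : ℕ} (h : g * a * g⁻¹ = a ^ m) :
    ∀ t : ℕ, g ^ t * a * (g ^ t)⁻¹ = a ^ (m ^ t)
  | 0 => by simp
  | t + 1 => by
    calc g ^ (t + 1) * a * (g ^ (t + 1))⁻¹ = g * (g ^ t * a * (g ^ t)⁻¹) * g⁻¹ := by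
          rw [pow_succ']; group
      _ = g * a ^ (m ^ t) * g⁻¹ := by rw [conj_pow_iter h t]
      _ = (g * a * g⁻¹) ^ (m ^ t) := by rw [conj_pow]
      _ = a ^ (m ^ (t + 1)) := by rw [h, ← pow_mul, pow_succ']

theorem normalizer_le_centralizer_of_isolated {G : Type*} [Group G] [Finite G] {p : ℕ} [hp : Fact p.Prime]
    (P : Sylow p G) (hcyc : IsCyclic ↥(P : Subgroup G)) {x : G} (hxP : x ∈ (P : Subgroup G)) (hx1 : x ≠ 1)
    (hiso : Cfsg.IsIsolated x) :
    Subgroup.normalizer ((P : Subgroup G) : Set G) ≤ Subgroup.centralizer ((P : Subgroup G) : Set G) := by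
  obtain ⟨⟨a, haP⟩, ha⟩ := hcyc.exists_generator
  have hgen : ∀ y ∈ (P : Subgroup G), ∃ j : ℕ, a ^ j = y := by
    intro y hy
    have h1 := ha ⟨y, hy⟩
    rw [← mem_powers_iff_mem_zpowers] at h1
    obtain ⟨j, hj⟩ := h1
    exact ⟨j, by simpa using congrArg Subtype.val hj⟩
  obtain ⟨e, he⟩ : ∃ e : ℕ, orderOf a = p ^ e := by
    obtain ⟨e, he⟩ := (IsPGroup.iff_orderOf.mp P.isPGroup') ⟨a, haP⟩
    exact ⟨e, by simpa using he⟩
  -- the key step: a suitable `p`-power of any element of the normalizer centralizes `P`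
  have key : ∀ g ∈ Subgroup.normalizer ((P : Subgroup G) : Set G),
      g ^ p ^ e ∈ Subgroup.centralizer ((P : Subgroup G) : Set G) := by
    intro g hg
    have h1 : g * a * g⁻¹ ∈ (P : Subgroup G) := (Subgroup.mem_normalizer_iff.mp hg a).mp haP
    obtain ⟨m, hm⟩ := hgen _ h1
    obtain ⟨j, hj⟩ := hgen _ hxP
    have h2 : g * x * g⁻¹ = x :=
      isolated_conj_eq P.isPGroup' hxP ((Subgroup.mem_normalizer_iff.mp hg x).mp hxP) hiso
    have h3 : a ^ (m * j) = a ^ j := by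
      rw [pow_mul, hm, conj_pow, hj, h2]
    have h4 : (p : ℤ) ∣ (m : ℤ) - 1 := by
      by_contra hnd
      have h5 : ((p ^ e : ℕ) : ℤ) ∣ (j : ℤ) - ((m * j : ℕ) : ℤ) := by
        rw [← he]
        exact (Nat.modEq_iff_dvd).mp (pow_eq_pow_iff_modEq.mp h3)
      have h6 : IsCoprime ((p ^ e : ℕ) : ℤ) ((m : ℤ) - 1) := by
        push_cast
        apply IsCoprime.pow_left
        exact (Prime.coprime_iff_not_dvd (Nat.prime_iff_prime_int.mp hp.out)).mpr hnd
      have h7 : ((p ^ e : ℕ) : ℤ) ∣ ((m : ℤ) - 1) * j := by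
        have : ((m : ℤ) - 1) * j = -((j : ℤ) - ((m * j : ℕ) : ℤ)) := by push_cast; ring
        rw [this]
        exact (dvd_neg).mpr h5
      have h8 : ((p ^ e : ℕ) : ℤ) ∣ (j : ℤ) := h6.dvd_of_dvd_mul_left h7
      have h9 : p ^ e ∣ j := Int.natCast_dvd_natCast.mp h8
      apply hx1
      rw [← hj]
      exact orderOf_dvd_iff_pow_eq_one.mp (he ▸ h9)
    have h5 : ((p : ℤ) ^ (e + 1)) ∣ (m : ℤ) ^ p ^ e - 1 ^ p ^ e := dvd_sub_pow_of_dvd_sub h4 e
    have h6 : a ^ (m ^ p ^ e) = a ^ 1 := by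
      rw [pow_eq_pow_iff_modEq, he]
      apply Nat.ModEq.symm
      rw [Nat.modEq_iff_dvd]
      push_cast
      rw [one_pow] at h5
      exact (pow_dvd_pow (p : ℤ) (Nat.le_succ e)).trans h5
    have h7 := conj_pow_iter hm.symm (p ^ e)
    rw [h6, pow_one] at h7
    rw [Subgroup.mem_centralizer_iff]
    intro y hy
    obtain ⟨i, rfl⟩ := hgen y hy
    have h8 : Commute (g ^ p ^ e) a := by
      calc g ^ p ^ e * a = (g ^ p ^ e * a * (g ^ p ^ e)⁻¹) * g ^ p ^ e := by group
        _ = a * g ^ p ^ e := by rw [h7]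
    exact ((h8.pow_right i).eq).symm
  intro g hg
  set N := Subgroup.normalizer ((P : Subgroup G) : Set G) with hN
  set C := Subgroup.centralizer ((P : Subgroup G) : Set G) with hC
  have hcop : (C.relIndex N).Coprime p := by
    have hPC : (P : Subgroup G) ≤ C := Subgroup.le_centralizer _
    have h1 : C.relIndex N ∣ (P : Subgroup G).index :=
      (Subgroup.relIndex_dvd_of_le_left N hPC).trans (Subgroup.relIndex_dvd_index_of_le Subgroup.le_normalizer)
    apply Nat.Coprime.coprime_dvd_left h1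
    rw [Nat.coprime_comm, Nat.Prime.coprime_iff_not_dvd hp.out]
    exact P.not_dvd_index
  have h1 : (QuotientGroup.mk (⟨g, hg⟩ : N) : N ⧸ C.subgroupOf N) ^ p ^ e = 1 := by
    rw [← QuotientGroup.mk_pow, QuotientGroup.eq_one_iff, Subgroup.mem_subgroupOf]
    exact key g hg
  have h2 : (QuotientGroup.mk (⟨g, hg⟩ : N) : N ⧸ C.subgroupOf N) ^ (C.relIndex N) = 1 := by
    have := pow_card_eq_one' (G := N ⧸ C.subgroupOf N) (x := QuotientGroup.mk (⟨g, hg⟩ : N))
    rwa [← Subgroup.index_eq_card] at this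
  have h3 : orderOf (QuotientGroup.mk (⟨g, hg⟩ : N) : N ⧸ C.subgroupOf N) ∣ Nat.gcd (C.relIndex N) (p ^ e) :=
    Nat.dvd_gcd (orderOf_dvd_of_pow_eq_one h2) (orderOf_dvd_of_pow_eq_one h1)
  rw [Nat.Coprime.pow_right e hcop, Nat.dvd_one, orderOf_eq_one_iff, QuotientGroup.eq_one_iff,
    Subgroup.mem_subgroupOf] at h3
  exact h3

/-- Let G be a finite group, p a prime and x ∈ G an element of p-power order which is isolated in G. Then the image of x in any quotient G ⧸ N is isolated in G ⧸ N; and if x ≠ 1 and the Sylow p-subgroups of G are cyclic, then G has a normal p-complement. -/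
theorem result {G : Type*} [Group G] [Finite G] {p : ℕ} [Fact p.Prime] (x : G) (hx : ∃ k : ℕ, orderOf x = p ^ k) (hiso : Cfsg.IsIsolated x) : (∀ (N : Subgroup G) [N.Normal], Cfsg.IsIsolated (QuotientGroup.mk x : G ⧸ N)) ∧ (x ≠ 1 → (∀ P : Sylow p G, IsCyclic ↥(P : Subgroup G)) → Cfsg.HasNormalPComplement p G) := by
  have hxp : ∃ k : ℕ, x ^ p ^ k = 1 := by
    obtain ⟨k, hk⟩ := hx
    exact ⟨k, by rw [← hk, pow_orderOf_eq_one]⟩
  constructor
  · intro N _ gbar hcomm
    obtain ⟨g, rfl⟩ := QuotientGroup.mk_surjective gbar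
    set H : Subgroup G := (Subgroup.centralizer {(QuotientGroup.mk (g * x * g⁻¹) : G ⧸ N)}).comap
      (QuotientGroup.mk' N) with hH
    have hxH : x ∈ H := by
      rw [hH, Subgroup.mem_comap, Subgroup.mem_centralizer_singleton_iff]
      exact hcomm.eq
    have hgxH : g * x * g⁻¹ ∈ H := by
      rw [hH, Subgroup.mem_comap, Subgroup.mem_centralizer_singleton_iff]
      rfl
    obtain ⟨c, hc, hcg⟩ := isolated_exists_conj hxp hiso hxH hgxH
    rw [hH, Subgroup.mem_comap, Subgroup.mem_centralizer_singleton_iff] at hc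
    have h1 : (QuotientGroup.mk ((c * g) * x * (c * g)⁻¹) : G ⧸ N) = QuotientGroup.mk x := by rw [hcg]
    have h2 : (c * g) * x * (c * g)⁻¹ = c * (g * x * g⁻¹) * c⁻¹ := by group
    rw [h2, QuotientGroup.mk_mul, QuotientGroup.mk_mul] at h1
    have hc' : (QuotientGroup.mk c : G ⧸ N) * QuotientGroup.mk (g * x * g⁻¹) =
        QuotientGroup.mk (g * x * g⁻¹) * QuotientGroup.mk c := hc
    rw [hc', QuotientGroup.mk_inv, mul_inv_cancel_right] at h1
    exact h1
  · intro hx1 hcyc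
    have hz : IsPGroup p (Subgroup.zpowers x) := by
      obtain ⟨k, hk⟩ := hxp
      rintro ⟨v, hv⟩
      obtain ⟨n, rfl⟩ := Subgroup.mem_zpowers_iff.mp hv
      refine ⟨k, Subtype.ext ?_⟩
      change (x ^ n) ^ p ^ k = 1
      rw [← zpow_natCast, ← zpow_mul, mul_comm, zpow_mul, zpow_natCast, hk, one_zpow]
    obtain ⟨P, hP⟩ := hz.exists_le_sylow
    have hNC := normalizer_le_centralizer_of_isolated P (hcyc P) (hP (Subgroup.mem_zpowers x)) hx1 hiso
    exact ⟨P, (MonoidHom.transferSylow P hNC).ker, inferInstance,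
      MonoidHom.ker_transferSylow_isComplement' P hNC⟩

end Cfsg.Agent.S2970
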