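import Cfsg.Statements.S2971
import Cfsg.Agent.S2970
import Cfsg.Agent.S0016

set_option autoImplicit false
open Cfsg

namespace Cfsg.Agent.S2971

/-- In a group of `p`-rank at most 1, an element `h` with `h ^ p = 1` commuting with an element `z` of order `p`
is a power of `z`. -/
theorem mem_zpowers_of_rank_one {G : Type*} [Group G] [Finite G] {p : ℕ} (hrk : Cfsg.PRankLE p 1 G)
    {h z : G} (hz : orderOf z = p) (hh : h ^ p = 1) (hc : Commute h z) : h ∈ Subgroup.zpowers z := by
  set A : Subgroup G := Subgroup.closure {h, z} with hA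
  have hcomm : ∀ x ∈ ({h, z} : Set G), ∀ y ∈ ({h, z} : Set G), x * y = y * x := by
    rintro x (rfl | rfl) y (rfl | rfl)
    · rfl
    · exact hc.eq
    · exact hc.eq.symm
    · rfl
  have hAc : IsMulCommutative A := Subgroup.isMulCommutative_closure hcomm
  have hexp : ∀ a ∈ A, a ^ p = 1 := by
    intro a ha
    induction ha using Subgroup.closure_induction with
    | mem x hx =>
      rcases hx with rfl | rfl
      · exact hh
      · rw [← hz]; exact pow_orderOf_eq_one _
    | one => simp
    | mul x y hx hy ihx ihy =>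
      have hxy : Commute x y := congrArg Subtype.val (mul_comm' (⟨x, hx⟩ : A) ⟨y, hy⟩)
      rw [hxy.mul_pow, ihx, ihy, one_mul]
    | inv x hx ih => rw [inv_pow, ih, inv_one]
  have hcard := hrk A hAc hexp
  have hzA : Subgroup.zpowers z ≤ A := Subgroup.zpowers_le.mpr (Subgroup.subset_closure (by simp))
  have heq : Subgroup.zpowers z = A := by
    apply Subgroup.eq_of_le_of_card_ge hzA
    rw [Nat.card_zpowers, hz]
    simpa using hcard
  rw [heq]
  exact Subgroup.subset_closure (by simp)

theorem sylow_cyclic_of_rank_one {G : Type*} [Group G] [Finite G] {p : ℕ} [hp : Fact p.Prime] (hp2 : p ≠ 2)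
    (hrk : Cfsg.PRankLE p 1 G) (P : Sylow p G) : IsCyclic ↥(P : Subgroup G) := by
  by_cases htriv : Nontrivial ↥(P : Subgroup G)
  swap
  · rw [not_nontrivial_iff_subsingleton] at htriv
    infer_instance
  have hcn : Nontrivial (Subgroup.center ↥(P : Subgroup G)) := P.isPGroup'.center_nontrivial
  have hdvd : p ∣ Nat.card (Subgroup.center ↥(P : Subgroup G)) := by
    have hZp : IsPGroup p (Subgroup.center ↥(P : Subgroup G)) := P.isPGroup'.to_subgroup _
    obtain ⟨k, hk⟩ := IsPGroup.iff_card.mp hZp
    rcases Nat.eq_zero_or_pos k with rfl | hk0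
    · exfalso
      rw [pow_zero] at hk
      have := Finite.one_lt_card (α := Subgroup.center ↥(P : Subgroup G))
      omega
    · rw [hk]; exact dvd_pow_self p hk0.ne'
  obtain ⟨z, hz⟩ := exists_prime_orderOf_dvd_card' p hdvd
  have hzG : orderOf ((z : ↥(P : Subgroup G)) : G) = p := by
    rw [Subgroup.orderOf_coe, Subgroup.orderOf_coe]; exact hz
  have huniq : ∀ H : Subgroup ↥(P : Subgroup G), Nat.card H = p → H = Subgroup.zpowers (z : ↥(P : Subgroup G)) := by
    intro H hH
    apply Subgroup.eq_of_le_of_card_ge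
    · intro h hh
      have h1 : ((h : ↥(P : Subgroup G)) : G) ^ p = 1 := by
        have := pow_card_eq_one' (G := H) (x := ⟨h, hh⟩)
        rw [hH] at this
        have h2 : h ^ p = 1 := congrArg Subtype.val this
        exact_mod_cast congrArg Subtype.val h2
      have h2 : Commute ((h : ↥(P : Subgroup G)) : G) ((z : ↥(P : Subgroup G)) : G) := by
        have := Subgroup.mem_center_iff.mp z.2 h
        exact congrArg Subtype.val this
      obtain ⟨n, hn⟩ := Subgroup.mem_zpowers_iff.mp (mem_zpowers_of_rank_one hrk hzG h1 h2)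
      rw [Subgroup.mem_zpowers_iff]
      exact ⟨n, Subtype.ext (by simpa using hn)⟩
    · rw [Nat.card_zpowers, Subgroup.orderOf_coe, hz, hH]
  rcases Cfsg.Agent.S0016.result p P.isPGroup' (fun H K hH hK => (huniq H hH).trans (huniq K hK).symm) with h | h
  · exact h
  · exact absurd h.1 hp2

/-- Let G be a finite group and p an odd prime such that G has p-rank at most 1 (no elementary abelian subgroup of order p²). If x ∈ G is an isolated element of order p, then x is central modulo the largest normal subgroup of G of order prime to p. -/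
theorem result {G : Type*} [Group G] [Finite G] {p : ℕ} [Fact p.Prime] (hp : p ≠ 2) (hrk : Cfsg.PRankLE p 1 G) (x : G) (hx : orderOf x = p) (hiso : Cfsg.IsIsolated x) : Cfsg.InZStar p x := by
  have hcyc : ∀ P : Sylow p G, IsCyclic ↥(P : Subgroup G) := sylow_cyclic_of_rank_one hp hrk
  have hx1 : x ≠ 1 := by
    intro h
    rw [h, orderOf_one] at hx
    exact (Fact.out : p.Prime).one_lt.ne hx
  obtain ⟨P, N, hN, hNP⟩ := (Cfsg.Agent.S2970.result x ⟨1, by simpa using hx⟩ hiso).2 hx1 hcyc
  have hNle : N ≤ Cfsg.pPrimeCore p G := by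
    apply le_sSup
    refine ⟨hN, ?_⟩
    rw [← hNP.index_eq_card, Nat.coprime_comm, Nat.Prime.coprime_iff_not_dvd Fact.out]
    exact P.not_dvd_index
  intro g
  apply hNle
  have hPc : IsCyclic ↥(P : Subgroup G) := hcyc P
  have hdec : ∀ a : G, ∃ u ∈ (P : Subgroup G), (QuotientGroup.mk a : G ⧸ N) = QuotientGroup.mk u := by
    intro a
    obtain ⟨⟨⟨n, hn⟩, ⟨u, hu⟩⟩, hnu⟩ := hNP.existsUnique a |>.exists
    refine ⟨u, hu, ?_⟩
    have : a = n * u := hnu.symm
    rw [this, QuotientGroup.mk_mul, (QuotientGroup.eq_one_iff n).mpr hn, one_mul]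
  obtain ⟨u, hu, hgu⟩ := hdec g
  obtain ⟨v, hv, hxv⟩ := hdec x
  have huv : u * v = v * u := congrArg Subtype.val (mul_comm' (⟨u, hu⟩ : (P : Subgroup G)) ⟨v, hv⟩)
  rw [← QuotientGroup.eq_one_iff, QuotientGroup.mk_mul, QuotientGroup.mk_mul, QuotientGroup.mk_mul,
    QuotientGroup.mk_inv, QuotientGroup.mk_inv, hgu, hxv, ← QuotientGroup.mk_mul, huv, QuotientGroup.mk_mul]
  group

end Cfsg.Agent.S2971
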