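import Cfsg.Statements.S2975
import Cfsg.Agent.Lib.Helper46.ZStarMin
import Cfsg.Agent.Lib.Helper1.CoprimeSylow
import Cfsg.Agent.Lib.Helper49.Conj

set_option autoImplicit false
open Cfsg

namespace Cfsg.Agent.S2975

open Subgroup Cfsg.Agent.Lib.Helper46.ZStarMin

theorem card_sup_dvd {X : Type*} [Group X] (A K : Subgroup X) [K.Normal] :
    Nat.card (A ⊔ K : Subgroup X) ∣ Nat.card K * Nat.card A := by
  have h1 := (K.subgroupOf (A ⊔ K)).card_mul_index
  have h2 : Nat.card (K.subgroupOf (A ⊔ K)) = Nat.card K :=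
    Nat.card_congr (subgroupOfEquivOfLe le_sup_right).toEquiv
  have h3 : (K.subgroupOf (A ⊔ K)).index = K.relIndex A := relIndex_sup_right A K
  rw [h2, h3] at h1
  rw [← h1]
  exact Nat.mul_dvd_mul_left _ (relIndex_dvd_card K A)

/-- In a finite group `X` in which `x` of order `p` is central modulo `O_{p'}(X)`, every normal `q`-subgroup
(`q ≠ p`) lies in an `x`-invariant Sylow `q`-subgroup. -/
theorem exists_invariant_sylow_ge {X : Type*} [Group X] [Finite X] {p q : ℕ} [hp : Fact p.Prime]
    [hq : Fact q.Prime] (hpq : q ≠ p) (x : X) (hx : orderOf x = p) (hz : Cfsg.InZStar p x)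
    (Q : Subgroup X) [hQn : Q.Normal] (hQ : IsPGroup q Q) :
    ∃ P : Subgroup X, Q ≤ P ∧ IsPGroup q P ∧ ¬ q ∣ P.index ∧ x ∈ normalizer (P : Set X) := by
  set K := pPrimeCore p X with hK
  have hKn : K.Normal := inferInstance
  obtain ⟨T0⟩ : Nonempty (Sylow q X) := inferInstance
  set Y := (T0 : Subgroup X) ⊔ K with hY
  have hQT : Q ≤ T0 := (Lib.Lead.le_pCore hQn hQ).trans (Lib.Lead.pCore_le_sylow T0)
  have hQY : Q ≤ Y := hQT.trans le_sup_left
  have hYc : (Nat.card Y).Coprime p := by
    apply Nat.Coprime.of_dvd_left (card_sup_dvd (T0 : Subgroup X) K)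
    apply Nat.Coprime.mul_left (Lib.Lead.card_pPrimeCore_coprime p)
    obtain ⟨n, hn⟩ := IsPGroup.iff_card.1 T0.2
    rw [hn]
    exact Nat.Coprime.pow_left n ((Nat.coprime_primes hq.out hp.out).2 hpq)
  have hxY : x ∈ normalizer (Y : Set X) := by
    apply mem_normalizer_fintype
    intro n hn
    have h1 : Y ≤ Y.comap (MulAut.conj x).toMonoidHom := by
      refine sup_le ?_ ?_
      · intro t ht
        show x * t * x⁻¹ ∈ Y
        have e : x * t * x⁻¹ = (t * x * t⁻¹ * x⁻¹)⁻¹ * t := by group
        rw [e]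
        exact mul_mem (mem_sup_right (K.inv_mem (hz t))) (mem_sup_left ht)
      · intro k hk
        exact mem_sup_right (hKn.conj_mem k hk x)
    exact h1 hn
  have hAY : zpowers x ≤ normalizer (Y : Set X) := zpowers_le.2 hxY
  have hcop : (Nat.card (zpowers x)).Coprime (Nat.card Y) := by
    rw [Nat.card_zpowers, hx]
    exact hYc.symm
  have hsolv : Group.IsSolvable (zpowers x) := by
    apply Group.isSolvable_of_comm
    intro a b
    exact mul_comm' a b
  have hAQ : zpowers x ≤ normalizer (Q : Set X) := by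
    rw [normalizer_eq_top]
    exact le_top
  obtain ⟨P, hQP, hPY, hP, hPi, hAP⟩ :=
    Lib.Helper1.invariant_pSubgroup_le_invariant_sylow (zpowers x) Y hAY hcop (Or.inl hsolv) q Q hQY hQ hAQ
  refine ⟨P, hQP, hP, ?_, hAP (mem_zpowers x)⟩
  rw [← relIndex_mul_index hPY]
  intro hd
  rcases (Nat.Prime.dvd_mul hq.out).1 hd with h | h
  · exact hPi h
  · exact T0.not_dvd_index (h.trans (index_dvd_of_le le_sup_left))

/-- Let G be a finite group, p a prime and x ∈ G an isolated element of order p (the only conjugate of x commuting with x is x) which is not central modulo the largest normal subgroup of order prime to p, while x is central modulo the largest normal subgroup of order prime to p in every proper subgroup containing x, and the image of x is so in every quotient of G by a nontrivial normal subgroup (a minimal counterexample to the Z*_p statement). Then for every prime q, every q-subgroup of G that is normalized by x and maximal among the q-subgroups normalized by x is either trivial or a Sylow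 q-subgroup of G; and C_G(x) permutes the x-invariant Sylow q-subgroups of G transitively by conjugation. -/
theorem result {G : Type*} [Group G] [Finite G] {p : ℕ} [Fact p.Prime] (x : G) (hx : orderOf x = p) (hiso : Cfsg.IsIsolated x) (hnz : ¬ Cfsg.InZStar p x) (hmin : ∀ (H : Subgroup G) (hxH : x ∈ H), H ≠ ⊤ → Cfsg.InZStar p (⟨x, hxH⟩ : ↥H)) (hquot : ∀ (N : Subgroup G) [N.Normal], N ≠ ⊥ → Cfsg.InZStar p (QuotientGroup.mk x : G ⧸ N)) (q : ℕ) [Fact q.Prime] : (∀ Q : Subgroup G, IsPGroup q ↥Q → x ∈ Subgroup.normalizer (Q : Set G) → (∀ R : Subgroup G, IsPGroup q ↥R → x ∈ Subgroup.normalizer (R : Set G) → Q ≤ R → R = Q) → Q = ⊥ ∨ ∃ S : Sylow q G, (S : Subgroup G) = Q) ∧ (∀ S₁ S₂ : Sylow q G, x ∈ Subgroup.normalizer ((S₁ : Subgroup G) : Set G) → x ∈ Subgroup.normalizer ((S₂ : Subgroup G) : Set G) → ∃ c ∈ Subgroup.centralizer ({x} : Set G), (S₁ : Subgroup G).map (MulAut.conj c).toMonoidHom = (S₂ : Subgroup G)) := by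
  have hp : p.Prime := Fact.out
  have hq : q.Prime := Fact.out
  have h : MinCE p x := ⟨hx, hiso, hnz, hmin, hquot⟩
  constructor
  · intro Q hQ hxQ hmax
    by_cases hpq : q = p
    · subst hpq
      right
      have hR : IsPGroup q (Q ⊔ zpowers x : Subgroup G) :=
        IsPGroup.to_sup_of_normal_left' hQ h.isPGroup_zpowers (zpowers_le.2 hxQ)
      have hxR : x ∈ Q ⊔ zpowers x := mem_sup_right (mem_zpowers x)
      have h1 := hmax _ hR (le_normalizer hxR) le_sup_left
      have hxQ' : x ∈ Q := h1 ▸ hxR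
      obtain ⟨S, hS⟩ := hQ.exists_le_sylow
      exact ⟨S, hmax S S.2 (le_normalizer (hS hxQ')) hS⟩
    · by_cases hb : Q = ⊥
      · left; exact hb
      right
      set H := normalizer (Q : Set G) with hH
      have hHne : H ≠ ⊤ := by
        intro ht
        have hn : Q.Normal := normalizer_eq_top_iff.1 ht
        apply hb
        apply h.eq_bot_of_normal_coprime Q
        obtain ⟨n, hn⟩ := IsPGroup.iff_card.1 hQ
        rw [hn]
        exact Nat.Coprime.pow_left n ((Nat.coprime_primes hq hp).2 hpq)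
      have hz := hmin H hxQ hHne
      have hQn : (Q.subgroupOf H).Normal := normal_in_normalizer
      have hQ' : IsPGroup q (Q.subgroupOf H) := hQ.comap_subtype
      obtain ⟨P, hQP, hP, hPi, hxP⟩ := exists_invariant_sylow_ge hpq (⟨x, hxQ⟩ : H)
        (by rw [Subgroup.orderOf_mk]; exact hx) hz (Q.subgroupOf H) hQ'
      have hQH : Q ≤ H := le_normalizer
      have h1 : P.map H.subtype = Q := by
        apply hmax _ (hP.map _)
        · apply mem_normalizer_fintype
          rintro _ ⟨a, ha, rfl⟩
          exact ⟨⟨x, hxQ⟩ * a * ⟨x, hxQ⟩⁻¹, (mem_normalizer_iff.1 hxP a).1 ha, rfl⟩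
        · have := Subgroup.map_mono (f := H.subtype) hQP
          rwa [map_subgroupOf_eq_of_le hQH] at this
      have h2 : P = Q.subgroupOf H := by
        rw [← h1]
        exact (comap_map_eq_self_of_injective H.subtype_injective P).symm
      rw [h2] at hPi
      have h3 : ¬ q ∣ Q.relIndex ⊤ := by
        apply Lib.Helper1.sylow_of_sylow_normalizer le_top hQ
        rw [inf_top_eq]
        exact hPi
      rw [relIndex_top_right] at h3
      exact ⟨hQ.toSylow h3, hQ.toSylow_coe h3⟩
  · intro S₁ S₂ h1 h2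
    obtain ⟨g, hg⟩ := MulAction.exists_smul_eq G S₁ S₂
    have hg' : (S₁ : Subgroup G).map (MulAut.conj g).toMonoidHom = (S₂ : Subgroup G) := by
      rw [← hg]; rfl
    have h3 : g * x * g⁻¹ ∈ normalizer ((S₂ : Subgroup G) : Set G) := by
      apply mem_normalizer_fintype
      intro n hn
      rw [SetLike.mem_coe, ← hg'] at hn ⊢
      obtain ⟨a, ha, rfl⟩ := hn
      refine ⟨x * a * x⁻¹, (mem_normalizer_iff.1 h1 a).1 ha, ?_⟩
      show g * (x * a * x⁻¹) * g⁻¹ = g * x * g⁻¹ * (g * a * g⁻¹) * (g * x * g⁻¹)⁻¹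
      group
    obtain ⟨c, hc, hcg⟩ := Lib.Helper49.isolated_exists_conj h.pow_p hiso h2 h3
    refine ⟨c * g, ?_, ?_⟩
    · rw [mem_centralizer_singleton_iff]
      calc c * g * x = (c * g * x * (c * g)⁻¹) * (c * g) := by group
        _ = x * (c * g) := by rw [hcg]
    · show Lib.Helper49.cj (c * g) (S₁ : Subgroup G) = S₂
      rw [← Lib.Helper49.cj_cj]
      show Lib.Helper49.cj c ((S₁ : Subgroup G).map (MulAut.conj g).toMonoidHom) = S₂
      rw [hg']
      exact Lib.Helper49.cj_eq_iff_mem_normalizer.2 hc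

end Cfsg.Agent.S2975
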