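import Cfsg.Statements.S3025
import Cfsg.Agent.S0016
import Cfsg.Agent.Lib.Helper62.Subnormal

set_option autoImplicit false
set_option linter.style.haveILetI false
open Cfsg

namespace Cfsg.Agent.S3025

open Subgroup Cfsg.Agent.Lib.Helper62

/-- The conjugation action on a normal subgroup of prime order. -/
theorem index_centralizer {F : Type*} [Group F] [Finite F] (N : Subgroup F) [hN : N.Normal]
    (hp : (Nat.card N).Prime) :
    (∃ g : F, centralizer (N : Set F) ⊔ zpowers g = ⊤) ∧
      (centralizer (N : Set F)).index ∣ Nat.card N - 1 := by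
  classical
  haveI : Fact (Nat.card N).Prime := ⟨hp⟩
  haveI : IsCyclic N := isCyclic_of_prime_card rfl
  set f : F →* MulAut N := MulAut.conjNormal with hf
  have hker : f.ker = centralizer (N : Set F) := by
    ext g
    rw [MonoidHom.mem_ker, mem_centralizer_iff]
    constructor
    · intro h n hn
      have h1 := congrArg (fun φ : MulAut N => ((φ ⟨n, hn⟩ : N) : F)) h
      simp only [hf, MulAut.conjNormal_apply, MulAut.one_apply] at h1
      calc n * g = (g * n * g⁻¹) * g := by rw [h1]
        _ = g * n := by group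
    · intro h
      ext n
      rw [hf, MulAut.conjNormal_apply, MulAut.one_apply, ← h n.1 n.2]
      group
  have hcyc : IsCyclic (MulAut N) :=
    isCyclic_of_surjective (IsCyclic.mulAutMulEquiv N).symm (IsCyclic.mulAutMulEquiv N).symm.surjective
  have hcard : Nat.card (MulAut N) = Nat.card N - 1 := by
    rw [IsCyclic.card_mulAut, Nat.totient_prime hp]
  constructor
  · obtain ⟨⟨φ, hφ⟩, hgen⟩ := (inferInstance : IsCyclic f.range).exists_generator
    obtain ⟨g, rfl⟩ := hφ
    refine ⟨g, ?_⟩
    rw [eq_top_iff]
    intro x _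
    obtain ⟨k, hk⟩ := mem_zpowers_iff.mp (hgen ⟨f x, x, rfl⟩)
    have h1 : f g ^ k = f x := by
      have := congrArg Subtype.val hk
      simpa using this
    have h2 : x * (g ^ k)⁻¹ ∈ f.ker := by
      rw [MonoidHom.mem_ker, map_mul, map_inv, map_zpow, h1, mul_inv_cancel]
    rw [hker] at h2
    have h3 : x = (x * (g ^ k)⁻¹) * g ^ k := by group
    rw [h3]
    exact Subgroup.mul_mem _ (le_sup_left (b := zpowers g) h2)
      (le_sup_right (a := centralizer (N : Set F)) (zpow_mem_zpowers g k))
  · rw [← hker, Subgroup.index_ker, ← hcard]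
    exact Subgroup.card_subgroup_dvd_card _

/-- Let F be a finite group and H a nontrivial subgroup of F that is contained in every nontrivial subgroup of F which H normalizes. Then F has a nontrivial normal subgroup N contained in every nontrivial normal subgroup of F (a unique minimal normal subgroup), N is simple, and one of the following holds: C_F(N) = 1; or H = N has prime order p, C_F(N) is cyclic of order a power of p, and F/C_F(N) is cyclic of order dividing p − 1; or H = N has order 2, N is central in F, and F is a generalized quaternion group. -/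
theorem result {F : Type*} [Group F] [Finite F] (H : Subgroup F) (hH : H ≠ ⊥)
    (hmin : ∀ R : Subgroup F, R ≠ ⊥ → H ≤ Subgroup.normalizer (R : Set F) → H ≤ R) :
    ∃ N : Subgroup F, N.Normal ∧ N ≠ ⊥ ∧ (∀ M : Subgroup F, M.Normal → M ≠ ⊥ → N ≤ M) ∧ IsSimpleGroup ↥N ∧
      (Subgroup.centralizer (N : Set F) = ⊥ ∨
       (H = N ∧ (Nat.card N).Prime ∧ IsCyclic ↥(Subgroup.centralizer (N : Set F)) ∧
          (∃ k : ℕ, 1 ≤ k ∧ Nat.card ↥(Subgroup.centralizer (N : Set F)) = Nat.card N ^ k) ∧
          (∃ g : F, Subgroup.centralizer (N : Set F) ⊔ Subgroup.zpowers g = ⊤) ∧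
          (Subgroup.centralizer (N : Set F)).index ∣ Nat.card N - 1) ∨
       (H = N ∧ Nat.card N = 2 ∧ Subgroup.centralizer (N : Set F) = ⊤ ∧
          ∃ k : ℕ, 1 ≤ k ∧ Nonempty (F ≃* QuaternionGroup (2 ^ k)))) := by
  classical
  set N : Subgroup F := normalClosure (H : Set F) with hNdef
  have hNn : N.Normal := normalClosure_normal
  have hHN : H ≤ N := le_normalClosure
  have hN0 : N ≠ ⊥ := fun h => hH (le_bot_iff.mp (h ▸ hHN))
  have hNmin : ∀ M : Subgroup F, M.Normal → M ≠ ⊥ → N ≤ M := by
    intro M hM hM0
    apply normalClosure_le_normal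
    apply hmin M hM0
    rw [normalizer_eq_top_iff.mpr hM]
    exact le_top
  have hsimple : IsSimpleGroup ↥N := by
    haveI : Nontrivial ↥N := (Subgroup.nontrivial_iff_ne_bot N).mpr hN0
    refine ⟨fun K hK => ?_⟩
    by_cases hK0 : K = ⊥
    · exact Or.inl hK0
    right
    set K' : Subgroup F := K.map N.subtype with hK'
    have hK'0 : K' ≠ ⊥ := by
      intro h
      apply hK0
      rw [hK'] at h
      exact (Subgroup.map_eq_bot_iff_of_injective K N.subtype_injective).mp h
    have hK'N : K' ≤ N := Subgroup.map_subtype_le K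
    have hNK' : N ≤ normalizer (K' : Set F) := by
      have h1 : K'.subgroupOf N = K := by
        rw [hK']
        exact Subgroup.comap_map_eq_self_of_injective N.subtype_injective K
      rw [← Subgroup.normal_subgroupOf_iff_le_normalizer hK'N, h1]
      exact hK
    have hcore : H ≤ K'.normalCore := by
      intro h hh b
      have h1 : H ≤ K'.map (MulAut.conj b⁻¹).toMonoidHom := by
        apply hmin
        · intro h2
          exact hK'0 ((Subgroup.map_eq_bot_iff_of_injective K' (MulAut.conj b⁻¹).injective).mp h2)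
        · have h3 := le_normalizer_map_conj b⁻¹ hNK'
          have h4 : N.map (MulAut.conj b⁻¹).toMonoidHom = N := Subgroup.Normal.map_conj_eq N b⁻¹
          rw [h4] at h3
          exact hHN.trans h3
      obtain ⟨k, hk, hkh⟩ := h1 hh
      rw [← hkh]
      simpa [mul_assoc] using hk
    have h2 : N ≤ K' := (normalClosure_le_normal hcore).trans (normalCore_le K')
    rw [eq_top_iff]
    intro x _
    obtain ⟨y, hy, hyx⟩ := h2 x.2
    have : y = x := Subtype.ext hyx
    rwa [← this]
  refine ⟨N, hNn, hN0, hNmin, hsimple, ?_⟩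
  by_cases hC : centralizer (N : Set F) = ⊥
  · exact Or.inl hC
  right
  set C : Subgroup F := centralizer (N : Set F) with hCdef
  have hCn : C.Normal := Subgroup.normal_centralizer
  have hNC : N ≤ C := hNmin C hCn hC
  letI : CommGroup ↥N :=
    { (inferInstance : Group ↥N) with
      mul_comm := by
        intro a b
        apply Subtype.ext
        exact (mem_centralizer_iff.mp (hNC b.2) a.1 a.2) }
  have hp : (Nat.card N).Prime := IsSimpleGroup.prime_card
  haveI : Fact (Nat.card N).Prime := ⟨hp⟩
  have hHeq : H = N := by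
    rcases (H.subgroupOf N).eq_bot_or_eq_top_of_prime_card with h | h
    · exfalso
      apply hH
      rw [Subgroup.subgroupOf_eq_bot, disjoint_iff, inf_eq_left.mpr hHN] at h
      exact h
    · exact le_antisymm hHN (Subgroup.subgroupOf_eq_top.mp h)
  have hsub : ∀ R : Subgroup F, R ≤ C → R ≠ ⊥ → N ≤ R := by
    intro R hR hR0
    rw [← hHeq]
    apply hmin R hR0
    rw [hHeq, le_normalizer_iff]
    intro n hn r hr
    have h1 := mem_centralizer_iff.mp (hR hr) n hn
    rw [h1, mul_inv_cancel_right]
    exact hr
  obtain ⟨hgen, hidx⟩ := index_centralizer N hp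
  -- the order of `C`
  have hcardC : Nat.card C = Nat.card N ^ (Nat.card C).primeFactorsList.length := by
    apply Nat.eq_prime_pow_of_unique_prime_dvd Nat.card_pos.ne'
    intro q hq hqC
    haveI : Fact q.Prime := ⟨hq⟩
    obtain ⟨c, hc⟩ := exists_prime_orderOf_dvd_card' q hqC
    have h1 : N ≤ zpowers (c : F) := by
      apply hsub
      · exact zpowers_le.mpr c.2
      · rw [Ne, zpowers_eq_bot]
        intro h
        have : c = 1 := Subtype.ext h
        rw [this, orderOf_one] at hc
        exact hq.one_lt.ne hc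
    have h2 : Nat.card N ∣ q := by
      have h3 := Subgroup.card_dvd_of_le h1
      rwa [Nat.card_zpowers, Subgroup.orderOf_coe, hc] at h3
    exact ((Nat.prime_dvd_prime_iff_eq hp hq).mp h2).symm
  have hk1 : 1 ≤ (Nat.card C).primeFactorsList.length := by
    by_contra hlt
    have h0 : (Nat.card C).primeFactorsList.length = 0 := by omega
    rw [h0, pow_zero] at hcardC
    exact hC ((Subgroup.card_eq_one).mp hcardC)
  have hPG : IsPGroup (Nat.card N) ↥C := IsPGroup.of_card hcardC
  have huniq : ∀ K₁ K₂ : Subgroup ↥C, Nat.card K₁ = Nat.card N → Nat.card K₂ = Nat.card N →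
      K₁ = K₂ := by
    have key : ∀ K : Subgroup ↥C, Nat.card K = Nat.card N → K.map C.subtype = N := by
      intro K hK
      have h1 : Nat.card (K.map C.subtype) = Nat.card N := by
        rw [Subgroup.card_map_of_injective C.subtype_injective, hK]
      symm
      apply Subgroup.eq_of_le_of_card_ge
      · apply hsub _ (Subgroup.map_subtype_le K)
        intro h
        rw [h, Subgroup.card_bot] at h1
        exact hp.one_lt.ne h1
      · exact h1.le
    intro K₁ K₂ h₁ h₂
    apply Subgroup.map_injective C.subtype_injective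
    rw [key K₁ h₁, key K₂ h₂]
  have hcycCase : IsCyclic ↥C → _ := fun hcyc =>
    (Or.inl ⟨hHeq, hp, hcyc, ⟨_, hk1, hcardC⟩, hgen, hidx⟩ :
      (H = N ∧ (Nat.card N).Prime ∧ IsCyclic ↥C ∧
          (∃ k : ℕ, 1 ≤ k ∧ Nat.card ↥C = Nat.card N ^ k) ∧
          (∃ g : F, C ⊔ Subgroup.zpowers g = ⊤) ∧
          C.index ∣ Nat.card N - 1) ∨
       (H = N ∧ Nat.card N = 2 ∧ C = ⊤ ∧
          ∃ k : ℕ, 1 ≤ k ∧ Nonempty (F ≃* QuaternionGroup (2 ^ k))))
  rcases Cfsg.Agent.S0016.result (Nat.card N) hPG huniq with hcyc | ⟨h2, n, ⟨e⟩⟩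
  · exact hcycCase hcyc
  · rcases Nat.eq_zero_or_pos n with hn | hn
    · subst hn
      apply hcycCase
      haveI := QuaternionGroup.quaternionGroup_one_isCyclic
      exact isCyclic_of_surjective e.symm e.symm.surjective
    · right
      have hCtop : C = ⊤ := by
        rw [h2] at hidx
        exact Subgroup.index_eq_one.mp (Nat.dvd_one.mp hidx)
      refine ⟨hHeq, h2, hCtop, n, hn, ⟨?_⟩⟩
      exact (Subgroup.topEquiv.symm.trans (MulEquiv.subgroupCongr hCtop.symm)).trans e

end Cfsg.Agent.S3025
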