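import Cfsg.Statements.S3035
import Cfsg.Agent.Lib.Helper75.D8Cent5
import Cfsg.Agent.Lib.Helper75.Ord360b
-- import your own Cfsg.Agent.* helpers here

set_option autoImplicit false
open Cfsg

namespace Cfsg.Agent.S3035

/-- Let G be a finite group with an involution z whose centralizer is dihedral of order 8. Then G = C_G(z) O(G) with O(G) the largest normal subgroup of odd order, or G is isomorphic to the symmetric group of degree 4, the symmetric group of degree 5, the group SL₃(2), or the alternating group of degree 6. -/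
theorem result {G : Type*} [Group G] [Finite G] (z : G) (hz : orderOf z = 2)
    (hC : Nonempty (↥(Subgroup.centralizer ({z} : Set G)) ≃* DihedralGroup 4)) :
    Subgroup.centralizer ({z} : Set G) ⊔ Cfsg.oddCore G = ⊤ ∨ Nonempty (G ≃* Equiv.Perm (Fin 4)) ∨ Nonempty (G ≃* Equiv.Perm (Fin 5)) ∨
      Nonempty (G ≃* Matrix.SpecialLinearGroup (Fin 3) (ZMod 2)) ∨ Nonempty (G ≃* ↥(alternatingGroup (Fin 6))) := by
  open Cfsg.Agent.Lib.Helper75 in
  classical
  obtain ⟨e⟩ := hC
  obtain ⟨T, σ, τ, H, hJ⟩ := exists_D8C z hz e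
  rw [← hJ]
  -- one class fused with the centre, the other not
  have key : ∀ τ' : G, D8C T σ τ' → IsConj (σ ^ (4 / 2)) τ' → ¬ IsConj (σ ^ (4 / 2)) (σ * τ') →
      Nonempty (G ≃* Equiv.Perm (Fin 4)) ∨ Nonempty (G ≃* Equiv.Perm (Fin 5)) := by
    intro τ' H' c1 c2
    obtain ⟨M, hM, hMi, hστ⟩ := H'.exists_index_two c2
    rcases H'.card_or_alt c1 hM hMi hστ with h | ⟨⟨e'⟩⟩
    · exact Or.inl (H'.perm4 c1 h)
    · exact Or.inr (H'.perm5 c1 hM hMi e')
  by_cases c1 : IsConj (σ ^ (4 / 2)) τ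
  · by_cases c2 : IsConj (σ ^ (4 / 2)) (σ * τ)
    · have := H.isSimpleGroup c1 c2
      rcases H.card_eq c1 c2 with h | h
      · exact Or.inr (Or.inr (Or.inr (Or.inl (nonempty_mulEquiv_sl3 h))))
      · exact Or.inr (Or.inr (Or.inr (Or.inr (Ord360.nonempty_mulEquiv_alt h))))
    · rcases key τ H c1 c2 with h | h
      · exact Or.inr (Or.inl h)
      · exact Or.inr (Or.inr (Or.inl h))
  · by_cases c2 : IsConj (σ ^ (4 / 2)) (σ * τ)
    · rcases key (σ * τ) H.swap c2 (fun h => c1 (h.trans H.isConj_σστ.symm)) with h | h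
      · exact Or.inr (Or.inl h)
      · exact Or.inr (Or.inr (Or.inl h))
    · exact Or.inl (H.isolated c1 c2)

end Cfsg.Agent.S3035
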