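import Cfsg.Statements.S3043
import Cfsg.Agent.Lib.Helper75.TIC3
import Cfsg.Agent.Lib.Helper75.BendB2c
import Cfsg.Agent.Lib.Helper73.BendS
import Cfsg.Agent.Lib.Helper73.BendB2b
import Cfsg.Agent.Lib.Helper3.BendF
import Cfsg.Agent.Lib.Helper3.BendA4
import Cfsg.Agent.Lib.Helper55.BendA1
import Cfsg.Agent.Lib.Helper91.BendA2
import Cfsg.Agent.Lib.Helper91.BendA3
import Cfsg.Agent.Lib.Helper91.BendB1

set_option autoImplicit false
open Cfsg

namespace Cfsg.Agent.S3043

/-- Let M be a nontrivial subgroup of a finite group G meeting each of its other conjugates trivially, with N_G(M) = M · C_{N_G(M)}(z) for some involution z ∈ N_G(M), and with C_G(x) of odd order for every nontrivial x ∈ M. Then one of the following holds: M is normal in G; the number of involutions of G is at most |G : M|; G is isomorphic to PGL₂(F) or to PSL₂(F) for a finite field F with |F| = |M|, M is an elementary abelian p-group for the characteristic p of F, and |F| ≡ 1 (mod 4) in the PSL₂ case; G is isomorphic to PSL₂(F) with |F| = 2^e,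 e > 1, and M is cyclic of order 2^e + 1; or for some d ≥ 1, G has an elementary abelian normal subgroup of order 2^{2d} complemented by N_G(M), and N_G(M) is dihedral of order 2(2^d + 1). -/
theorem result {G : Type*} [Group G] [Finite G] (M : Subgroup G) (hM1 : M ≠ ⊥)
    (hTI : ∀ g : G, M ⊓ M.map (MulAut.conj g).toMonoidHom ≠ ⊥ → M.map (MulAut.conj g).toMonoidHom = M)
    (z : G) (hz : orderOf z = 2) (hzN : z ∈ Subgroup.normalizer (M : Set G))
    (hfac : M ⊔ (Subgroup.normalizer (M : Set G) ⊓ Subgroup.centralizer ({z} : Set G)) = Subgroup.normalizer (M : Set G))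
    (hodd : ∀ x ∈ M, x ≠ 1 → Odd (Nat.card ↥(Subgroup.centralizer ({x} : Set G)))) :
    M.Normal ∨
    Nat.card {g : G // orderOf g = 2} ≤ M.index ∨
    (∃ (F : Type) (_ : Field F) (_ : Fintype F) (p : ℕ) (_ : Fact p.Prime) (_ : CharP F p), Fintype.card F = Nat.card M ∧ Cfsg.IsElementaryAbelian p M ∧
        (Nonempty (G ≃* (GL (Fin 2) F ⧸ Subgroup.center (GL (Fin 2) F))) ∨
         (Fintype.card F % 4 = 1 ∧ Nonempty (G ≃* Matrix.ProjectiveSpecialLinearGroup (Fin 2) F)))) ∨
    (∃ (F : Type) (_ : Field F) (_ : Fintype F) (e : ℕ), 1 < e ∧ Fintype.card F = 2 ^ e ∧ IsCyclic ↥M ∧ Nat.card M = 2 ^ e + 1 ∧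
        Nonempty (G ≃* Matrix.ProjectiveSpecialLinearGroup (Fin 2) F)) ∨
    (∃ (d : ℕ) (E : Subgroup G), 1 ≤ d ∧ E.Normal ∧ Cfsg.IsElementaryAbelian 2 E ∧ Nat.card E = 2 ^ (2 * d) ∧
        E ⊓ Subgroup.normalizer (M : Set G) = ⊥ ∧ E ⊔ Subgroup.normalizer (M : Set G) = ⊤ ∧
        Nonempty (↥(Subgroup.normalizer (M : Set G)) ≃* DihedralGroup (2 ^ d + 1))) := by
  open Cfsg.Agent.Lib.Helper75.Bend Cfsg.Agent.Lib.Helper75 in
  classical
  by_cases hn : M.Normal
  · exact Or.inl hn
  by_cases hcount : Nat.card {g : G // orderOf g = 2} ≤ M.index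
  · exact Or.inr (Or.inl hcount)
  right; right
  have t0 : TIC M z := tic_of_hyp hM1 hTI hz hzN hfac hodd
  have h : TIS M z := Cfsg.Agent.Lib.Helper73.Bend.tis_of_count t0 (not_le.1 hcount)
  have hMcomm : IsMulCommutative M :=
    ⟨⟨fun a b => Subtype.ext (t0.comm a.1 a.2 b.1 b.2)⟩⟩
  -- the order of `M`
  have hμodd := t0.odd_card
  have hμ3 : 3 ≤ Nat.card M := by
    have h1 : Nat.card M ≠ 1 := by
      intro e
      exact hM1 (Subgroup.card_eq_one.1 e)
    have h0 : 0 < Nat.card M := Nat.card_pos
    obtain ⟨r, hr⟩ := hμodd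
    omega
  -- an element of `C(z)` outside `N(M)`
  obtain ⟨g, hg⟩ : ∃ g, g ∉ Subgroup.normalizer (M : Set G) := by
    by_contra hcon
    push Not at hcon
    apply hn
    rw [← Subgroup.normalizer_eq_top_iff, eq_top_iff]
    intro x _
    exact hcon x
  obtain ⟨-, -, u, huz, huN, -⟩ := h.decomp hg
  by_cases hA : ∀ w, w * z = z * w → w ∉ Subgroup.normalizer (M : Set G) →
      u * w ∈ Subgroup.normalizer (M : Set G)
  · -- the doubly transitive case
    left
    have zd := Cfsg.Agent.Lib.Helper55.Bend.zdata h huz huN hA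
    have hst := Cfsg.Agent.Lib.Helper55.Bend.stab_inf h huz huN
    obtain ⟨t, ht⟩ := Cfsg.Agent.Lib.Helper3.Bend.card_D_dvd h huz huN
    have key : ∀ (F : Type) (_ : Field F) (_ : Fintype F), Fintype.card F = Nat.card M →
        Nat.card M - 1 ≤ 2 * Nat.card ↥(Subgroup.normalizer (M : Set G) ⊓
          Subgroup.centralizer ({z} : Set G)) →
        ∃ (p : ℕ) (_ : Fact p.Prime) (_ : CharP F p), Cfsg.IsElementaryAbelian p M := by
      intro F _ _ hF hhalf
      obtain ⟨n, hp, hn'⟩ := FiniteField.card F (ringChar F)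
      refine ⟨ringChar F, ⟨hp⟩, ringChar.charP F, hMcomm, ?_⟩
      exact Cfsg.Agent.Lib.Helper3.Bend.pow_eq_one_of_half h huz huN (ringChar F) n hp (by rw [← hF, hn']) hhalf
    have ht0 : t ≠ 0 := by
      rintro rfl
      omega
    by_cases ht1 : t = 1
    · have hfull : Nat.card ↥(Subgroup.normalizer (M : Set G) ⊓
          Subgroup.centralizer ({z} : Set G)) = Nat.card M - 1 := by
        rw [ht, ht1, mul_one]
      obtain ⟨F, i1, i2, hF, hiso⟩ := Cfsg.Agent.Lib.Helper91.Bend.pgl_branch h huz huN zd hst hfull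
      obtain ⟨p, hp, hc, he⟩ := key F i1 i2 hF (by omega)
      exact ⟨F, i1, i2, p, hp, hc, hF, he, Or.inl hiso⟩
    · have hhalf : 2 * Nat.card ↥(Subgroup.normalizer (M : Set G) ⊓
          Subgroup.centralizer ({z} : Set G)) ≤ Nat.card M - 1 := by
        rw [ht, mul_comm]
        exact Nat.mul_le_mul_left _ (by omega)
      obtain ⟨F, i1, i2, hF, h4, h2, hiso⟩ := Cfsg.Agent.Lib.Helper91.Bend.psl_branch h huz huN zd hst hhalf
      obtain ⟨p, hp, hc, he⟩ := key F i1 i2 hF (by omega)
      exact ⟨F, i1, i2, p, hp, hc, hF, he, Or.inr ⟨h4, hiso⟩⟩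
  · -- the case `|C(z) : D| > 2`
    right
    push Not at hA
    obtain ⟨w, hwz, hwN, huw⟩ := hA
    have hsq : ∀ d ∈ Subgroup.normalizer (M : Set G), d * z = z * d → d * d = 1 :=
      fun d hd hdz => h.caseB_sq huz huN hwz hwN huw hd hdz
    have hC := h.caseB_C hsq
    have hD := h.caseB_N hsq
    have hcD := h.caseB_cardD hsq
    have hcN := Cfsg.Agent.Lib.Helper3.Bend.card_N t0
    have hcG := Cfsg.Agent.Lib.Helper3.Bend.card_G h
    have hcI := Cfsg.Agent.Lib.Helper3.Bend.card_invol h
    rw [hcD] at hcN hcG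
    rw [hcN] at hcG hcI
    -- `C(z)` is a 2-group
    have hpC : IsPGroup 2 ↥(Subgroup.centralizer ({z} : Set G)) := by
      intro c
      refine ⟨1, ?_⟩
      apply Subtype.ext
      have := hC c.1 (Subgroup.mem_centralizer_singleton_iff.1 c.2)
      simpa [pow_succ] using this
    obtain ⟨j, hj⟩ := IsPGroup.iff_card.1 hpC
    have hj2 : 2 ≤ j := by
      by_contra hcon
      have hle : Nat.card ↥(Subgroup.centralizer ({z} : Set G)) ≤ 2 := by
        rw [hj]
        calc 2 ^ j ≤ 2 ^ 1 := Nat.pow_le_pow_right (by norm_num) (by omega)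
          _ = 2 := rfl
      have hzC : z ∈ Subgroup.centralizer ({z} : Set G) :=
        Subgroup.mem_centralizer_singleton_iff.2 rfl
      have huC : u ∈ Subgroup.centralizer ({z} : Set G) :=
        Subgroup.mem_centralizer_singleton_iff.2 huz
      have h3 : 2 < Nat.card ↥(Subgroup.centralizer ({z} : Set G)) := by
        have : Fintype ↥(Subgroup.centralizer ({z} : Set G)) := Fintype.ofFinite _
        rw [Nat.card_eq_fintype_card]
        apply Fintype.two_lt_card_iff.2
        refine ⟨1, ⟨z, hzC⟩, ⟨u, huC⟩, ?_, ?_, ?_⟩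
        · intro e
          exact ne_one_of_orderOf_two hz (congrArg Subtype.val e).symm
        · intro e
          apply huN
          have e' : (1 : G) = u := congrArg Subtype.val e
          rw [← e']
          exact Subgroup.one_mem _
        · intro e
          apply huN
          have e' : z = u := congrArg Subtype.val e
          rw [← e']
          exact hzN
      omega
    -- involutions: conjugates of `z` and the others
    have hsum : Nat.card {g : G // orderOf g = 2} = Nat.card {y : G // IsConj z y} +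
        Nat.card {y : G // orderOf y = 2 ∧ ¬ IsConj z y} := by
      have e1 : Nat.card {y : G // IsConj z y} = Nat.card {y : G // orderOf y = 2 ∧ IsConj z y} := by
        apply Nat.card_congr
        apply Equiv.subtypeEquivRight
        intro y
        constructor
        · intro hy
          refine ⟨?_, hy⟩
          obtain ⟨c, hc⟩ := isConj_iff.1 hy
          rw [← hc]
          have := orderOf_injective (MulAut.conj c).toMonoidHom (MulAut.conj c).injective z
          simpa [MulAut.conj_apply, hz] using this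
        · exact fun hy => hy.2
      rw [e1]
      have : Fintype G := Fintype.ofFinite G
      simp only [Nat.card_eq_fintype_card, Fintype.card_subtype]
      rw [← Finset.card_union_of_disjoint]
      · congr 1
        ext y
        simp only [Finset.mem_filter, Finset.mem_univ, true_and, Finset.mem_union]
        tauto
      · rw [Finset.disjoint_filter]
        intro y _ h1 h2
        exact h2.2 h1.2
    have hnum := numB (Nat.card M) (Nat.card ↥(Subgroup.centralizer ({z} : Set G)))
      (Nat.card {g : G // orderOf g = 2}) (Nat.card {y : G // IsConj z y})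
      (Nat.card {y : G // orderOf y = 2 ∧ ¬ IsConj z y}) (Nat.card G) j hj hj2 hμodd hμ3
      (by linarith) (by linarith) (card_conj_mul z) hsum
    rcases Nat.eq_zero_or_pos (Nat.card {y : G // orderOf y = 2 ∧ ¬ IsConj z y}) with hF0 | hFpos
    · left
      have hconj : ∀ y : G, orderOf y = 2 → IsConj z y := by
        intro y hy
        by_contra hcon
        have : IsEmpty {y : G // orderOf y = 2 ∧ ¬ IsConj z y} := by
          rcases Nat.card_eq_zero.1 hF0 with h1 | h1
          · exact h1
          · exact absurd (inferInstance : Finite _) (not_finite_iff_infinite.2 h1)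
        exact this.elim ⟨y, hy, hcon⟩
      apply Cfsg.Agent.Lib.Helper91.Bend.caseB1 z hz hC hconj M t0.comm (hnum.1 hF0)
      rw [hj]
      calc 2 < 2 ^ 2 := by norm_num
        _ ≤ 2 ^ j := Nat.pow_le_pow_right (by norm_num) hj2
    · right
      obtain ⟨hμ, hG, hF⟩ := hnum.2 hFpos
      obtain ⟨E, hEn, hEe, hEc, hE1, hE2⟩ := Cfsg.Agent.Lib.Helper73.Bend.exists_E t0 hD (2 * (j - 1)) hG hF
      have hEne : E ≠ ⊥ := by
        intro e
        rw [e, Subgroup.card_bot] at hEc
        have : 2 ^ 1 ≤ 2 ^ (2 * (j - 1)) := Nat.pow_le_pow_right (by norm_num) (by omega)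
        omega
      have hEp : IsPGroup 2 E := IsPGroup.of_card hEc
      have hcyc := isCyclic_of_E t0 E hEn hEne hEp
      have hdih := dihedral_N t0 hD hcyc
      rw [hμ] at hdih
      exact ⟨j - 1, E, by omega, hEn, hEe, hEc, hE1, hE2, hdih⟩

end Cfsg.Agent.S3043
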