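import Cfsg.Statements.S3045
import Cfsg.Agent.Lib.Helper48.Iso.Fin

set_option autoImplicit false
open Cfsg

namespace Cfsg.Agent.S3045

theorem eq_bot_of_perfect_solvable {G : Type*} [Group G] {S : Subgroup G} (h : ⁅S, S⁆ = S)
    (hs : Group.IsSolvable S) : S = ⊥ := by
  by_contra hne
  have : Nontrivial S := (Subgroup.nontrivial_iff_ne_bot S).mpr hne
  have h1 := Group.IsSolvable.commutator_lt_top_of_nontrivial ↥S
  apply h1.ne
  apply Subgroup.map_injective S.subtype_injective
  rw [commutator_def, Subgroup.map_commutator, ← MonoidHom.range_eq_map, Subgroup.range_subtype, h]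

/-- Let G be a finite group, p a prime, S a Sylow p-subgroup of G and P a p-minimal subgroup of G containing S. Let L be the subgroup generated by N_G(S) and all p-minimal subgroups of G containing S other than P, and suppose O_p(L) is not contained in O_p(P). Put Y for the normal closure of O^p(P) in G. Then O^p(P) is contained in the preimage in G of F*(G/O_p(G)); and if Y is solvable, then Y = O^p(P) and Y/O_p(Y) is a t-group of nilpotency class at most 2 for some prime t ≠ p. -/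
theorem result {G : Type*} [Group G] [Finite G] {p : ℕ} [Fact p.Prime] (S : Sylow p G) (P : Subgroup G) (hSP : (S : Subgroup G) ≤ P) (hPmin : Cfsg.IsPMinimal p ↥P)
    (L Y : Subgroup G)
    (hL : L = Subgroup.normalizer ((S : Subgroup G) : Set G) ⊔ ⨆ P' : {P' : Subgroup G // (S : Subgroup G) ≤ P' ∧ Cfsg.IsPMinimal p ↥P' ∧ P' ≠ P}, (P' : Subgroup G))
    (hiso : ¬ (Cfsg.pCore p ↥L).map L.subtype ≤ (Cfsg.pCore p ↥P).map P.subtype)
    (hY : Y = Subgroup.normalClosure (((Cfsg.pResidual p ↥P).map P.subtype : Subgroup G) : Set G)) [hn : (Cfsg.pCore p G).Normal] :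
    (Cfsg.pResidual p ↥P).map P.subtype ≤ (Cfsg.generalizedFittingSubgroup (G ⧸ Cfsg.pCore p G)).comap (QuotientGroup.mk' (Cfsg.pCore p G)) ∧
    (Group.IsSolvable ↥Y → (Cfsg.pResidual p ↥P).map P.subtype = Y ∧
       ∃ _ : (Cfsg.pCore p ↥Y).Normal, ∃ t : ℕ, t.Prime ∧ t ≠ p ∧ IsPGroup t (↥Y ⧸ Cfsg.pCore p ↥Y) ∧
         ∃ _ : Group.IsNilpotent (↥Y ⧸ Cfsg.pCore p ↥Y), Group.nilpotencyClass (↥Y ⧸ Cfsg.pCore p ↥Y) ≤ 2) := by
  have h : Lib.Helper48.Iso.Setup p S P L Y := ⟨hSP, hPmin, hL, hiso, hY⟩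
  have hH := h.hyp
  refine ⟨?_, ?_⟩
  · rw [← Subgroup.map_le_iff_le_comap]
    refine (Subgroup.map_mono h.T_le_Y).trans ?_
    rcases Lib.Helper48.Iso.dichotomy hH with hnil | hlay
    · exact Lib.Helper48.Iso.le_genFitting_of_nilp _ hH.nY hnil
    · exact Lib.Helper48.Iso.le_genFitting_of_layer _ hH.nY hlay
  · intro hsol
    have hnil : Group.IsNilpotent ↥(Y.map (QuotientGroup.mk' (Cfsg.pCore p G))) := by
      rcases Lib.Helper48.Iso.dichotomy hH with hnil | hlay
      · exact hnil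
      · exfalso
        have hperf := Lib.Helper48.Iso.perfect_of_layer _ hH.nY hlay
        have hsol' : Group.IsSolvable ↥(Y.map (QuotientGroup.mk' (Cfsg.pCore p G))) :=
          Group.isSolvable_of_surjective
            (MonoidHom.subgroupMap_surjective (QuotientGroup.mk' (Cfsg.pCore p G)) Y)
        have hbot := eq_bot_of_perfect_solvable hperf hsol'
        apply hH.T0ne
        rw [eq_bot_iff, ← hbot]
        exact hH.T0Y
    have hm : (Cfsg.pCore p ↥Y).Normal := Lib.Helper47.pCore_normal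
    obtain ⟨e, he⟩ := Lib.Helper48.Iso.exists_equiv (p := p) Y h.nY
    obtain ⟨t, ht, htp, hpt⟩ := Lib.Helper48.Iso.nilp_prime hH hnil
    obtain ⟨h1, h2, h3⟩ := Lib.Helper48.Iso.transport_nilp _ e t hpt
      (Lib.Helper48.Iso.nilp_class hH hnil)
    exact ⟨h.T_eq_Y (Lib.Helper48.Iso.nilp_eq hH hnil), hm, t, ht, htp, h1, h2, h3⟩

end Cfsg.Agent.S3045
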