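import Mathlib
import Cfsg.Statements.S3058
import Cfsg.Agent.Lib.Helper51.SylowChain
import Cfsg.Agent.Lib.Helper51.ChermakDelgado
import Cfsg.Agent.S1324

set_option autoImplicit false
open Cfsg

namespace Cfsg.Agent.S3058

open Cfsg.Agent.Lib.Helper51 Subgroup

theorem exists_orderOf_eq_prime {G : Type*} [Group G] [Finite G] {p : ℕ} [Fact p.Prime] {Q : Subgroup G}
    (hQ : IsPGroup p Q) (hQ1 : Q ≠ ⊥) : ∃ x ∈ Q, orderOf x = p := by
  obtain ⟨x, hx, hx1⟩ := exists_ne_one_of_ne_bot hQ1
  have h1 := dvd_orderOf_of_mem_pGroup hQ hx hx1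
  exact ⟨x ^ (orderOf x / p), Q.pow_mem hx _, orderOf_pow_orderOf_div (orderOf_pos x).ne' h1⟩

/-- two commuting elements of order `p` generate an elementary abelian group -/
theorem elemAb_of_commute {G : Type*} [Group G] {p : ℕ} (x y : G) (hxy : x * y = y * x) (hx : x ^ p = 1)
    (hy : y ^ p = 1) : Cfsg.IsElementaryAbelian p (zpowers x ⊔ zpowers y) := by
  have hxx : zpowers x ≤ centralizer (zpowers x : Set G) := by
    rw [zpowers_le, mem_centralizer_iff]
    intro z hz
    obtain ⟨k, rfl⟩ := mem_zpowers_iff.mp hz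
    exact ((Commute.refl x).zpow_left k).eq
  have hyy : zpowers y ≤ centralizer (zpowers y : Set G) := by
    rw [zpowers_le, mem_centralizer_iff]
    intro z hz
    obtain ⟨k, rfl⟩ := mem_zpowers_iff.mp hz
    exact ((Commute.refl y).zpow_left k).eq
  have hxy' : zpowers x ≤ centralizer (zpowers y : Set G) := by
    rw [zpowers_le, mem_centralizer_iff]
    intro z hz
    obtain ⟨k, rfl⟩ := mem_zpowers_iff.mp hz
    have : Commute y x := hxy.symm
    exact (this.zpow_left k).eq
  have hc : zpowers x ⊔ zpowers y ≤ centralizer ((zpowers x ⊔ zpowers y : Subgroup G) : Set G) := by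
    rw [centralizer_sup_eq]
    exact sup_le (le_inf hxx hxy') (le_inf (le_centralizer_iff.mp hxy') hyy)
  refine ⟨le_centralizer_iff_isMulCommutative.mp hc, ?_⟩
  let W : Subgroup G :=
    { carrier := {a | a ∈ zpowers x ⊔ zpowers y ∧ a ^ p = 1}
      one_mem' := ⟨one_mem _, one_pow _⟩
      mul_mem' := by
        rintro a b ⟨ha, ha'⟩ ⟨hb, hb'⟩
        refine ⟨mul_mem ha hb, ?_⟩
        have : Commute a b := ((mem_centralizer_iff.mp (hc ha)) b hb).symm
        rw [this.mul_pow, ha', hb', one_mul]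
      inv_mem' := by
        rintro a ⟨ha, ha'⟩
        exact ⟨inv_mem ha, by rw [inv_pow, ha', inv_one]⟩ }
  have hW : zpowers x ⊔ zpowers y ≤ W := by
    refine sup_le ?_ ?_
    · rw [zpowers_le]; exact ⟨mem_sup_left (mem_zpowers x), hx⟩
    · rw [zpowers_le]; exact ⟨mem_sup_right (mem_zpowers y), hy⟩
  intro a ha
  exact (hW ha).2

/-- Let p be a prime and G a finite group whose Sylow p-subgroups are not chain-connected through nontrivial intersections (so G has a strongly p-embedded subgroup). If N and M are normal subgroups of G whose orders are both divisible by p, then the order of N ∩ M is divisible by p. Consequently, among the normal subgroups of G whose order is divisible by p there is a smallest one (the intersection of all of them). -/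
theorem result {G : Type*} [Group G] [Finite G]
    (p : ℕ) [Fact p.Prime] (hG : ¬ Cfsg.IsSylowChainConnected p G)
    (N M : Subgroup G) [N.Normal] [M.Normal] (hN : p ∣ Nat.card N) (hM : p ∣ Nat.card M) :
    p ∣ Nat.card ↥(N ⊓ M) := by
  by_contra hD
  have hpp : p.Prime := Fact.out
  have hNn : N.Normal := inferInstance
  have hMn : M.Normal := inferInstance
  obtain ⟨H, h⟩ := not_isSylowChainConnected_iff_exists_SPE.mp hG
  obtain ⟨P, hPH, -⟩ := h.exists_sylow_le
  obtain ⟨x, hx, hxo⟩ := exists_orderOf_eq_prime (P.isPGroup'.to_le inf_le_left) (sylow_inf_normal_ne_bot P N hN)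
  obtain ⟨y, hy, hyo⟩ := exists_orderOf_eq_prime (P.isPGroup'.to_le inf_le_left) (sylow_inf_normal_ne_bot P M hM)
  -- p-elements of D are trivial
  have htriv : ∀ d : G, d ∈ (P : Subgroup G) → d ∈ N ⊓ M → d = 1 := by
    intro d hdP hdD
    by_contra hd1
    apply hD
    have h1 := dvd_orderOf_of_mem_pGroup P.isPGroup' hdP hd1
    have h2 : orderOf d ∣ Nat.card ↥(N ⊓ M) := by
      have : orderOf (⟨d, hdD⟩ : ↥(N ⊓ M)) = orderOf d := Subgroup.orderOf_mk d _
      rw [← this]; exact orderOf_dvd_natCard _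
    exact h1.trans h2
  have hxy : x * y = y * x := by
    have h1 : x * y * x⁻¹ * y⁻¹ = 1 := by
      apply htriv
      · exact mul_mem (mul_mem (mul_mem hx.1 hy.1) (inv_mem hx.1)) (inv_mem hy.1)
      · constructor
        · have : x * y * x⁻¹ * y⁻¹ = x * (y * x⁻¹ * y⁻¹) := by group
          rw [this]
          exact N.mul_mem hx.2 (hNn.conj_mem _ (N.inv_mem hx.2) y)
        · exact M.mul_mem (hMn.conj_mem _ hy.2 x) (M.inv_mem hy.2)
    have h2 := mul_inv_eq_one.mp h1
    exact mul_inv_eq_iff_eq_mul.mp h2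
  set E := zpowers x ⊔ zpowers y with hE
  have hEel : Cfsg.IsElementaryAbelian p E :=
    elemAb_of_commute x y hxy (hxo ▸ pow_orderOf_eq_one x) (hyo ▸ pow_orderOf_eq_one y)
  have hEP : E ≤ (P : Subgroup G) := sup_le (zpowers_le.mpr hx.1) (zpowers_le.mpr hy.1)
  have hEcard : p ^ 2 ≤ Nat.card E := by
    have h1 := card_mul_card_le (zpowers x) (zpowers y)
    have h2 : zpowers x ⊓ zpowers y = ⊥ := by
      rw [eq_bot_iff]
      intro d hd
      rw [mem_bot]
      exact htriv d (zpowers_le.mpr hx.1 hd.1) ⟨zpowers_le.mpr hx.2 hd.1, zpowers_le.mpr hy.2 hd.2⟩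
    rw [h2, Nat.card_zpowers, Nat.card_zpowers, hxo, hyo] at h1
    simpa [pow_two] using h1
  have hgen := Cfsg.Agent.S1324.result p E (N ⊓ M) hEel hEcard hD le_normalizer_of_normal
  have hDH : N ⊓ M ≤ H := by
    rw [hgen]
    apply iSup_le
    rintro ⟨B, hBE, hBi⟩
    have hB1 : B ≠ ⊥ := by
      intro hb
      rw [hb, relIndex_bot_left] at hBi
      have : p < p ^ 2 := by
        rw [pow_two]; exact lt_mul_of_one_lt_left hpp.pos hpp.one_lt
      omega
    obtain ⟨b, hb, hb1⟩ := exists_ne_one_of_ne_bot hB1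
    refine inf_le_right.trans ?_
    refine (centralizer_le (Set.singleton_subset_iff.mpr hb)).trans ?_
    exact h.centralizer_le P.isPGroup' (hEP (hBE hb)) hb1 (hPH (hEP (hBE hb)))
  have hx1 : x ≠ 1 := by
    intro h1
    rw [h1, orderOf_one] at hxo
    exact hpp.one_lt.ne hxo
  apply h.not_le_of_normal M hM
  intro m hm
  apply h.mem_of_conj_mem P.isPGroup' hx.1 hx1 (hPH hx.1)
  have h1 : m * x * m⁻¹ = (m * x * m⁻¹ * x⁻¹) * x := by group
  rw [h1]
  refine H.mul_mem (hDH ⟨?_, ?_⟩) (hPH hx.1)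
  · exact N.mul_mem (hNn.conj_mem _ hx.2 m) (N.inv_mem hx.2)
  · have : m * x * m⁻¹ * x⁻¹ = m * (x * m⁻¹ * x⁻¹) := by group
    rw [this]
    exact M.mul_mem hm (hMn.conj_mem _ (M.inv_mem hm) x)

end Cfsg.Agent.S3058
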