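import Mathlib
import Cfsg.Statements.S3053
import Cfsg.Agent.Lib.Helper24.PGroup
import Cfsg.Agent.Lib.Helper90.Extraspecial
import Cfsg.Agent.Lib.Helper51.PGroup
import Cfsg.Agent.Lib.Helper51.SylowSub
import Cfsg.Agent.S3058

set_option autoImplicit false
open Cfsg

namespace Cfsg.Agent.S3053

open Cfsg.Agent.Lib.Helper51 Subgroup
open scoped Pointwise commutatorElement

variable {G : Type*} [Group G]

/-- ambient, elementwise description of an extraspecial subgroup `P` of order `p ^ 3` with centre `Z` -/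
structure ES3 (p : ℕ) (P Z : Subgroup G) : Prop where
  le : Z ≤ P
  cardZ : Nat.card Z = p
  cardP : Nat.card P = p ^ 3
  central : ∀ a ∈ P, ∀ c ∈ Z, a * c = c * a
  comm : ∀ a ∈ P, ∀ b ∈ P, a * b * a⁻¹ * b⁻¹ ∈ Z
  pow : ∀ a ∈ P, a ^ p ∈ Z
  max : ∀ y ∈ P, (∀ a ∈ P, a * y = y * a) → y ∈ Z

theorem conj_pow_of_conj {u z c : G} (h : u * z * u⁻¹ = z * c) (hc : u * c = c * u) (n : ℕ) :
    u ^ n * z * (u ^ n)⁻¹ = z * c ^ n := by
  induction n with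
  | zero => simp
  | succ n ih =>
    have h1 : u ^ (n + 1) * z * (u ^ (n + 1))⁻¹ = u * (u ^ n * z * (u ^ n)⁻¹) * u⁻¹ := by
      rw [pow_succ']; group
    have h2 : u * c ^ n * u⁻¹ = c ^ n := by
      have : Commute u (c ^ n) := Commute.pow_right hc n
      rw [this.eq]; group
    have h3 : u * (z * c ^ n) * u⁻¹ = (u * z * u⁻¹) * (u * c ^ n * u⁻¹) := by group
    rw [h1, ih, h3, h, h2, pow_succ', mul_assoc]

/-- If `t` inverts the `P`-invariant set `E` then `t a t⁻¹` and `a` act in the same way on `E`. -/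
theorem conj_conj_eq {E : Subgroup G} {t a : G} (ht : ∀ x ∈ E, t * x * t⁻¹ = x⁻¹)
    (ha : ∀ x ∈ E, a * x * a⁻¹ ∈ E) : ∀ x ∈ E, (t * a * t⁻¹) * x * (t * a * t⁻¹)⁻¹ = a * x * a⁻¹ := by
  intro x hx
  have h1 : t⁻¹ * x * t = x⁻¹ := by
    have := ht x⁻¹ (E.inv_mem hx)
    rw [inv_inv] at this
    calc t⁻¹ * x * t = t⁻¹ * (t * x⁻¹ * t⁻¹) * t := by rw [this]
      _ = x⁻¹ := by group
  have h2 : (t * a * t⁻¹) * x * (t * a * t⁻¹)⁻¹ = t * (a * (t⁻¹ * x * t) * a⁻¹) * t⁻¹ := by group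
  rw [h2, h1, ht _ (ha _ (E.inv_mem hx))]
  group

theorem main [Finite G] {p : ℕ} [Fact p.Prime] (hp : p ≠ 2) (P : Sylow p G) {Z : Subgroup G}
    (h : ES3 p (P : Subgroup G) Z) {z g : G} (hz : z ∈ Z) (hy : g * z * g⁻¹ ∈ (P : Subgroup G))
    (hyZ : g * z * g⁻¹ ∉ Z) : ∀ b ∈ (P : Subgroup G), b ^ p = 1 := by
  have hpp : p.Prime := Fact.out
  obtain ⟨y, hydef⟩ : ∃ y, y = g * z * g⁻¹ := ⟨_, rfl⟩
  rw [← hydef] at hy hyZ
  have hz1 : z ≠ 1 := by
    rintro rfl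
    apply hyZ
    have : y = 1 := by rw [hydef]; group
    rw [this]; exact one_mem _
  have hZz : zpowers z = Z := zpowers_eq_of_card_eq_prime h.cardZ hz hz1
  have hZpow : ∀ c ∈ Z, c ^ p = 1 := by
    intro c hc
    have := pow_card_eq_one' (x := (⟨c, hc⟩ : Z))
    rw [h.cardZ] at this
    exact congrArg Subtype.val this
  have hyp : y ^ p = 1 := by rw [hydef, conj_pow, hZpow z hz]; group
  have hy1 : y ≠ 1 := fun h1 => hyZ (h1 ▸ one_mem _)
  have hyo : orderOf y = p := orderOf_eq_prime hyp hy1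
  -- the first transvection
  obtain ⟨s, hs, hsy⟩ : ∃ s ∈ (P : Subgroup G), s * y ≠ y * s := by
    by_contra hcon
    push Not at hcon
    exact hyZ (h.max y hy hcon)
  obtain ⟨z₁, hz₁def⟩ : ∃ z₁, z₁ = s * y * s⁻¹ * y⁻¹ := ⟨_, rfl⟩
  have hz₁ : z₁ ∈ Z := hz₁def ▸ h.comm s hs y hy
  have hz₁1 : z₁ ≠ 1 := by
    intro h1
    apply hsy
    have : s * y = z₁ * (y * s) := by rw [hz₁def]; group
    rw [this, h1, one_mul]
  have hZz₁ : zpowers z₁ = Z := zpowers_eq_of_card_eq_prime h.cardZ hz₁ hz₁1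
  have hz₁y : z₁ * y = y * z₁ := (h.central y hy z₁ hz₁).symm
  have hs1 : s * z₁ * s⁻¹ = z₁ := by rw [h.central s hs z₁ hz₁]; group
  have hs2 : s * y * s⁻¹ = y * z₁ := by rw [← hz₁y, hz₁def]; group
  have hz₁o : orderOf z₁ = p := orderOf_eq_prime (hZpow z₁ hz₁) hz₁1
  have hyz : y ∉ zpowers z₁ := by rw [hZz₁]; exact hyZ
  have hdisj : zpowers y ⊓ zpowers z₁ = ⊥ := zpowers_inf_zpowers_eq_bot hyo hyz
  obtain ⟨E, hEdef⟩ : ∃ E, E = zpowers z₁ ⊔ zpowers y := ⟨_, rfl⟩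
  have hEel : Cfsg.IsElementaryAbelian p E :=
    hEdef ▸ Cfsg.Agent.S3058.elemAb_of_commute z₁ y hz₁y (hZpow z₁ hz₁) hyp
  have hEcomm : ∀ a ∈ E, ∀ b ∈ E, a * b = b * a := fun a ha b hb =>
    congrArg Subtype.val (hEel.1.is_comm.comm (⟨a, ha⟩ : E) ⟨b, hb⟩)
  have hZE : Z ≤ E := by rw [hEdef, ← hZz₁]; exact le_sup_left
  have hyE : y ∈ E := by rw [hEdef]; exact mem_sup_right (mem_zpowers y)
  have hEP : E ≤ (P : Subgroup G) := by
    rw [hEdef]; exact sup_le (hZz₁ ▸ h.le) (zpowers_le.mpr hy)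
  have hEcard : p ^ 2 ≤ Nat.card E := by
    have h1 := card_mul_card_le (zpowers z₁) (zpowers y)
    rw [inf_comm, hdisj, Nat.card_zpowers, Nat.card_zpowers, hz₁o, hyo, ← hEdef] at h1
    simpa [pow_two] using h1
  -- C_P(y) = E
  have hCE : ∀ c ∈ (P : Subgroup G), c * y = y * c → c ∈ E := by
    obtain ⟨D, hD⟩ : ∃ D, D = (P : Subgroup G) ⊓ centralizer {y} := ⟨_, rfl⟩
    have hED : E ≤ D := by
      rw [hD]
      refine le_inf hEP ?_
      intro x hx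
      rw [mem_centralizer_singleton_iff]
      exact hEcomm x hx y hyE
    have hDP : D ≤ P := by rw [hD]; exact inf_le_left
    have hDne : D ≠ P := by
      intro heq
      apply hyZ
      apply h.max y hy
      intro a ha
      have : a ∈ D := heq ▸ ha
      rw [hD] at this
      exact (mem_centralizer_singleton_iff.mp this.2)
    have hDcard : Nat.card D ∣ p ^ 3 := h.cardP ▸ card_dvd_of_le hDP
    obtain ⟨k, hk, hDk⟩ := (Nat.dvd_prime_pow hpp).mp hDcard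
    have hk2 : k ≤ 2 := by
      by_contra hk3
      have : k = 3 := by omega
      apply hDne
      exact eq_of_le_of_card_ge hDP (by rw [hDk, this, h.cardP])
    have hDE : E = D :=
      eq_of_le_of_card_ge hED (by rw [hDk]; exact (Nat.pow_le_pow_right hpp.pos hk2).trans hEcard)
    intro c hc hcy
    rw [hDE, hD]
    exact ⟨hc, mem_centralizer_singleton_iff.mpr hcy⟩
  have hEnorm : ∀ a ∈ (P : Subgroup G), ∀ x ∈ E, a * x * a⁻¹ ∈ E := by
    intro a ha x hx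
    have : a * x * a⁻¹ = (a * x * a⁻¹ * x⁻¹) * x := by group
    rw [this]
    exact E.mul_mem (hZE (h.comm a ha x (hEP hx))) hx
  -- a second Sylow subgroup, with centre generated by `y`, containing `Z`
  have hgP : ((g • P : Sylow p G) : Subgroup G) ≤ centralizer {y} := by
    intro a ha
    rw [mem_smul_sylow] at ha
    rw [mem_centralizer_singleton_iff]
    have e1 := h.central _ ha z hz
    have e2 : a * y = g * ((g⁻¹ * a * g) * z) * g⁻¹ := by rw [hydef]; group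
    rw [e2, e1, hydef]; group
  have hZy : Z ≤ centralizer {y} := by
    intro a ha
    rw [mem_centralizer_singleton_iff]
    exact (h.central y hy a ha).symm
  obtain ⟨c, hc, hcD⟩ := exists_mem_conj_mem_sylow (g • P) (centralizer {y}) Z hgP
    (P.isPGroup'.to_le h.le) hZy
  rw [mem_centralizer_singleton_iff] at hc
  obtain ⟨k, hkdef⟩ : ∃ k, k = g⁻¹ * c := ⟨_, rfl⟩
  have hk1 : k⁻¹ * z * k = y := by
    have : k⁻¹ * z * k = c⁻¹ * (g * z * g⁻¹) * c := by rw [hkdef]; group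
    rw [this, ← hydef, mul_assoc, ← hc]; group
  have hkpow : ∀ a ∈ Z, k⁻¹ * a * k ∈ zpowers y := by
    intro a ha
    rw [← hZz] at ha
    obtain ⟨m, rfl⟩ := mem_zpowers_iff.mp ha
    refine mem_zpowers_iff.mpr ⟨m, ?_⟩
    rw [← hk1]
    have := conj_zpow (a := k⁻¹) (b := z) (i := m)
    rw [inv_inv] at this
    exact this
  obtain ⟨x₁, hx₁def⟩ : ∃ x₁, x₁ = k * z₁ * k⁻¹ := ⟨_, rfl⟩
  have hx₁P : x₁ ∈ (P : Subgroup G) := by
    have := hcD z₁ hz₁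
    rw [mem_smul_sylow] at this
    have e : x₁ = g⁻¹ * (c * z₁ * c⁻¹) * g := by rw [hx₁def, hkdef]; group
    rw [e]; exact this
  have hx₁Z : x₁ ∉ Z := by
    intro hx
    have h1 := hkpow x₁ hx
    have e : k⁻¹ * x₁ * k = z₁ := by rw [hx₁def]; group
    rw [e] at h1
    have h2 : z₁ ∈ zpowers y ⊓ zpowers z₁ := ⟨h1, mem_zpowers z₁⟩
    rw [hdisj, mem_bot] at h2
    exact hz₁1 h2
  obtain ⟨u₀, hu₀, hu₀x⟩ : ∃ u ∈ (P : Subgroup G), u * x₁ ≠ x₁ * u := by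
    by_contra hcon
    push Not at hcon
    exact hx₁Z (h.max x₁ hx₁P hcon)
  obtain ⟨c₀, hc₀def⟩ : ∃ c₀, c₀ = x₁⁻¹ * u₀ * x₁ * u₀⁻¹ := ⟨_, rfl⟩
  have hc₀ : c₀ ∈ Z := by
    have := h.comm x₁⁻¹ (inv_mem hx₁P) u₀ hu₀
    rw [inv_inv] at this
    rw [hc₀def]; exact this
  have hc₀1 : c₀ ≠ 1 := by
    intro h1
    apply hu₀x
    have : u₀ * x₁ = x₁ * c₀ * u₀ := by rw [hc₀def]; group
    rw [this, h1, mul_one]
  obtain ⟨u, hudef⟩ : ∃ u, u = k⁻¹ * u₀ * k := ⟨_, rfl⟩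
  obtain ⟨cc, hccdef⟩ : ∃ cc, cc = k⁻¹ * c₀ * k := ⟨_, rfl⟩
  have hcc : cc ∈ zpowers y := hccdef ▸ hkpow c₀ hc₀
  have hcc1 : cc ≠ 1 := by
    intro h1
    apply hc₀1
    have : c₀ = k * cc * k⁻¹ := by rw [hccdef]; group
    rw [this, h1]; group
  have huz : u * z₁ * u⁻¹ = z₁ * cc := by
    rw [hudef, hccdef, hc₀def, hx₁def]; group
  have huy : u * y = y * u := by
    have e1 := h.central u₀ hu₀ z hz
    have e2 : u * y = k⁻¹ * (u₀ * z) * k := by rw [hudef, ← hk1]; group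
    rw [e2, e1, hudef, ← hk1]; group
  have hucc : u * cc = cc * u := by
    obtain ⟨m, rfl⟩ := mem_zpowers_iff.mp hcc
    exact (Commute.zpow_right huy m).eq
  have hycc : zpowers cc = zpowers y :=
    zpowers_eq_of_card_eq_prime (by rw [Nat.card_zpowers, hyo]) hcc hcc1
  obtain ⟨n, hn⟩ : ∃ n : ℕ, cc ^ n = y⁻¹ := by
    have h1 : y⁻¹ ∈ zpowers cc := by rw [hycc]; exact inv_mem (mem_zpowers y)
    rw [← mem_powers_iff_mem_zpowers] at h1
    exact Submonoid.mem_powers_iff _ _ |>.mp h1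
  obtain ⟨τ, hτdef⟩ : ∃ τ, τ = u ^ n := ⟨_, rfl⟩
  have hτ1 : τ * z₁ * τ⁻¹ = z₁ * y⁻¹ := by
    rw [hτdef, conj_pow_of_conj huz hucc n, hn]
  have hτ2 : τ * y * τ⁻¹ = y := by
    have : Commute τ y := hτdef ▸ Commute.pow_left huy n
    rw [this.eq]; group
  -- the element inverting `E`
  obtain ⟨w, hwdef⟩ : ∃ w, w = s * τ * s := ⟨_, rfl⟩
  have hw1 : w * z₁ * w⁻¹ = y⁻¹ := by
    calc w * z₁ * w⁻¹ = s * (τ * (s * z₁ * s⁻¹) * τ⁻¹) * s⁻¹ := by rw [hwdef]; group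
      _ = s * (z₁ * y⁻¹) * s⁻¹ := by rw [hs1, hτ1]
      _ = (s * z₁ * s⁻¹) * (s * y * s⁻¹)⁻¹ := by group
      _ = z₁ * (y * z₁)⁻¹ := by rw [hs1, hs2]
      _ = y⁻¹ := by group
  have hw2 : w * y * w⁻¹ = z₁ := by
    calc w * y * w⁻¹ = s * (τ * (s * y * s⁻¹) * τ⁻¹) * s⁻¹ := by rw [hwdef]; group
      _ = s * (τ * (y * z₁) * τ⁻¹) * s⁻¹ := by rw [hs2]
      _ = s * ((τ * y * τ⁻¹) * (τ * z₁ * τ⁻¹)) * s⁻¹ := by group
      _ = s * (y * (z₁ * y⁻¹)) * s⁻¹ := by rw [hτ2, hτ1]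
      _ = s * z₁ * s⁻¹ := by rw [← mul_assoc y, ← hz₁y]; group
      _ = z₁ := hs1
  obtain ⟨t, htdef⟩ : ∃ t, t = w * w := ⟨_, rfl⟩
  have ht1 : t * z₁ * t⁻¹ = z₁⁻¹ := by
    calc t * z₁ * t⁻¹ = w * (w * z₁ * w⁻¹) * w⁻¹ := by rw [htdef]; group
      _ = (w * y * w⁻¹)⁻¹ := by rw [hw1]; group
      _ = z₁⁻¹ := by rw [hw2]
  have ht2 : t * y * t⁻¹ = y⁻¹ := by
    calc t * y * t⁻¹ = w * (w * y * w⁻¹) * w⁻¹ := by rw [htdef]; group
      _ = y⁻¹ := by rw [hw2, hw1]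
  have htE : ∀ x ∈ E, t * x * t⁻¹ = x⁻¹ := by
    rw [hEdef]; exact conj_eq_inv_of_mem_sup_zpowers hz₁y ht1 ht2
  -- Frattini argument
  let X : Subgroup G :=
    { carrier := {v | ∃ a ∈ (P : Subgroup G), ∀ x ∈ E, v * x * v⁻¹ = a * x * a⁻¹}
      one_mem' := ⟨1, one_mem _, fun x _ => rfl⟩
      mul_mem' := by
        rintro v₁ v₂ ⟨a₁, ha₁, h₁⟩ ⟨a₂, ha₂, h₂⟩
        refine ⟨a₁ * a₂, mul_mem ha₁ ha₂, fun x hx => ?_⟩
        have e1 : v₁ * v₂ * x * (v₁ * v₂)⁻¹ = v₁ * (v₂ * x * v₂⁻¹) * v₁⁻¹ := by group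
        rw [e1, h₂ x hx, h₁ _ (hEnorm a₂ ha₂ x hx)]; group
      inv_mem' := by
        rintro v ⟨a, ha, h₁⟩
        refine ⟨a⁻¹, inv_mem ha, fun x hx => ?_⟩
        have hx' : a⁻¹ * x * a⁻¹⁻¹ ∈ E := hEnorm a⁻¹ (inv_mem ha) x hx
        have e1 := h₁ _ hx'
        have e2 : a * (a⁻¹ * x * a⁻¹⁻¹) * a⁻¹ = x := by group
        rw [e2] at e1
        calc v⁻¹ * x * v⁻¹⁻¹ = v⁻¹ * (v * (a⁻¹ * x * a⁻¹⁻¹) * v⁻¹) * v⁻¹⁻¹ := by rw [e1]
          _ = _ := by group }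
  have hPX : (P : Subgroup G) ≤ X := fun a ha => ⟨a, ha, fun _ _ => rfl⟩
  have hDX : ((t • P : Sylow p G) : Subgroup G) ≤ X := by
    intro d hd
    rw [mem_smul_sylow] at hd
    refine ⟨t⁻¹ * d * t, hd, ?_⟩
    have e := conj_conj_eq htE (hEnorm _ hd)
    have e2 : t * (t⁻¹ * d * t) * t⁻¹ = d := by group
    rw [e2] at e
    exact e
  obtain ⟨x₀, ⟨a₀, ha₀, hx₀⟩, hx₀D⟩ := exists_mem_conj_mem_sylow P X _ hPX (t • P : Sylow p G).isPGroup' hDX
  obtain ⟨t', ht'def⟩ : ∃ t', t' = a₀⁻¹ * x₀ * t := ⟨_, rfl⟩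
  have ht'P : ∀ b ∈ (P : Subgroup G), t' * b * t'⁻¹ ∈ (P : Subgroup G) := by
    intro b hb
    have e : t' * b * t'⁻¹ = a₀⁻¹ * (x₀ * (t * b * t⁻¹) * x₀⁻¹) * a₀ := by rw [ht'def]; group
    rw [e]
    refine mul_mem (mul_mem (inv_mem ha₀) (hx₀D _ ?_)) ha₀
    rw [mem_smul_sylow]
    have e2 : t⁻¹ * (t * b * t⁻¹) * t = b := by group
    rw [e2]; exact hb
  have ht'E : ∀ x ∈ E, t' * x * t'⁻¹ = x⁻¹ := by
    intro x hx
    have e : t' * x * t'⁻¹ = a₀⁻¹ * (x₀ * (t * x * t⁻¹) * x₀⁻¹) * a₀ := by rw [ht'def]; group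
    rw [e, htE x hx, hx₀ _ (inv_mem hx)]; group
  -- conclusion
  intro b hb
  obtain ⟨b', hb'⟩ : ∃ b', b' = t' * b * t'⁻¹ := ⟨_, rfl⟩
  have hb'P : b' ∈ (P : Subgroup G) := hb' ▸ ht'P b hb
  obtain ⟨d, hd⟩ : ∃ d, d = b⁻¹ * b' := ⟨_, rfl⟩
  have hdP : d ∈ (P : Subgroup G) := hd ▸ mul_mem (inv_mem hb) hb'P
  have hdy : d * y = y * d := by
    have e1 := conj_conj_eq ht'E (hEnorm b hb) y hyE
    rw [← hb'] at e1
    have e2 : d * y * d⁻¹ = y := by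
      calc d * y * d⁻¹ = b⁻¹ * (b' * y * b'⁻¹) * b := by rw [hd]; group
        _ = b⁻¹ * (b * y * b⁻¹) * b := by rw [e1]
        _ = y := by group
    calc d * y = (d * y * d⁻¹) * d := by group
      _ = y * d := by rw [e2]
  have hdE := hCE d hdP hdy
  have hdp : d ^ p = 1 := hEel.2 d hdE
  have hbd : b' = b * d := by rw [hd]; group
  have hcomm : ⁅d, b⁆ ∈ Z := h.comm d hdP b hb
  have e3 : (b * d) ^ p = b ^ p * d ^ p := Cfsg.Agent.Lib.Helper24.mul_pow_prime_of_commute p hp b d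
     (h.central b hb _ hcomm).symm (h.central d hdP _ hcomm).symm (by rw [hdp]; exact Commute.one_left b)
  have e4 : b' ^ p = (b ^ p)⁻¹ := by
    rw [hb', conj_pow]; exact ht'E _ (hZE (h.pow b hb))
  have e5 : b ^ p = (b ^ p)⁻¹ := by rw [← e4, hbd, e3, hdp, mul_one]
  have e6 : (b ^ p) ^ 2 = 1 := by
    rw [pow_two]; nth_rewrite 1 [e5]; group
  have e7 : (b ^ p) ^ p = 1 := hZpow _ (h.pow b hb)
  have h2p : Nat.Coprime 2 p := (Nat.coprime_primes Nat.prime_two hpp).mpr (Ne.symm hp)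
  have e8 : orderOf (b ^ p) = 1 :=
    Nat.eq_one_of_dvd_coprimes h2p (orderOf_dvd_of_pow_eq_one e6) (orderOf_dvd_of_pow_eq_one e7)
  exact orderOf_eq_one_iff.mp e8

/-- Let p be an odd prime and G a finite group with a Sylow p-subgroup P that is extraspecial of order p³ and exponent p². Then the centre of P is strongly closed in P with respect to G: a G-conjugate of an element of Z(P) that lies in P already lies in Z(P). In particular a nontrivial central element of P is conjugate in G to no noncentral element of P. -/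
theorem result {G : Type*} [Group G] [Finite G]
    {p : ℕ} [Fact p.Prime] (hp : p ≠ 2) (P : Sylow p G) (hE : Cfsg.IsExtraspecial p ↥P)
    (hcard : Nat.card P = p ^ 3) (hexp : Monoid.exponent ↥P = p ^ 2) :
    Cfsg.IsStronglyClosed ((Subgroup.center ↥P).map (P : Subgroup G).subtype) (P : Subgroup G) := by
  have hpp : p.Prime := Fact.out
  obtain ⟨⟨hPp, hfr, hco⟩, hZc⟩ := hE
  have h : ES3 p (P : Subgroup G) ((Subgroup.center ↥P).map (P : Subgroup G).subtype) := by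
    refine ⟨map_subtype_le _, ?_, hcard, ?_, ?_, ?_, ?_⟩
    · rw [Subgroup.card_map_of_injective (Subgroup.subtype_injective _)]; exact hZc
    · rintro a ha c ⟨c0, hc0, rfl⟩
      exact congrArg Subtype.val (mem_center_iff.mp hc0 ⟨a, ha⟩)
    · intro a ha b hb
      refine ⟨⁅(⟨a, ha⟩ : ↥P), ⟨b, hb⟩⁆, ?_, rfl⟩
      rw [SetLike.mem_coe, ← hco, commutator_def]
      exact Subgroup.commutator_mem_commutator (mem_top _) (mem_top _)
    · intro a ha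
      refine ⟨(⟨a, ha⟩ : ↥P) ^ p, ?_, rfl⟩
      rw [SetLike.mem_coe, ← hfr]
      exact Cfsg.Agent.Lib.Helper90.pow_mem_frattini hPp _
    · intro y hy hyc
      refine ⟨⟨y, hy⟩, ?_, rfl⟩
      refine mem_center_iff.mpr ?_
      intro a
      exact Subtype.ext (hyc a a.2)
  refine ⟨h.le, ?_⟩
  intro x hx g hg
  by_contra hcon
  have h1 := main hp P h hx hg hcon
  have h2 : Monoid.exponent ↥P ∣ p := by
    apply Monoid.exponent_dvd_of_forall_pow_eq_one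
    intro a
    exact Subtype.ext (h1 a a.2)
  rw [hexp] at h2
  have := Nat.le_of_dvd hpp.pos h2
  have h3 : p < p ^ 2 := by
    rw [pow_two]; exact lt_mul_of_one_lt_left hpp.pos hpp.one_lt
  omega

end Cfsg.Agent.S3053
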