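import Cfsg.Statements.S3071
import Mathlib
import Cfsg.Agent.Lib.Helper33.PairControl2
import Cfsg.Agent.Lib.Helper33.ThompsonA
import Cfsg.Agent.Lib.Helper9.SectionFusion6
import Cfsg.Agent.Lib.Lead.ZJFunctor
import Cfsg.Agent.Lib.Helper1.QuadSL2
import Cfsg.Agent.S0653
import Cfsg.Agent.S0274

set_option autoImplicit false
open Cfsg

namespace Cfsg.Agent.S3071

open scoped Pointwise
open Cfsg.Agent.Lib.Helper33 Cfsg.Agent.Lib.Helper9 Cfsg.Agent.Lib.Helper34 Cfsg.Agent.Lib.Lead
open Cfsg.Agent.Lib.Helper1.QuadSL2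

universe u

variable {p : ℕ} [Fact p.Prime]

theorem hfam : ∀ W' ∈ ({zjA} : Set (∀ (Q : Type u) [Group Q], Subgroup Q)),
    IsCharPFunctor.{u} p W' := by
  intro W' hW'
  rw [Set.mem_singleton_iff] at hW'
  subst hW'
  exact isCharPFunctor_zjA

theorem cs_of_free (hp : p ≠ 2) {Y : Type u} [Group Y] [Finite Y]
    (hfree : ¬ Involves (Matrix.SpecialLinearGroup (Fin 2) (ZMod p)) Y) :
    CS p ({zjA} : Set (∀ (Q : Type u) [Group Q], Subgroup Q)) Y := by
  have hD : DicksonHyp.{u} p := fun F _ _ _ H h => Cfsg.Agent.S0274.result p hp H h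
  refine CS_of_involves (G := Y) hfam ?_ Y (involves_self Y)
  intro K R _ hC
  obtain ⟨T⟩ : Nonempty (Sylow p (↥K ⧸ R.subgroupOf K)) := Sylow.nonempty
  rw [CS_iff hfam T]
  intro A h _ hA hhA
  have hq : QStable p (↥K ⧸ R.subgroupOf K) :=
    qStable_of_sl2_free hD (fun h => hfree (involves_trans h (involves_section K R)))
  have hN := Cfsg.Agent.S0653.result hp hC (fun P _ hP => hq.isPStableOn P hP) T
  refine ⟨h, StepChain.single ⟨hA, hhA, _, ⟨zjA, rfl, rfl⟩, ⟨Subgroup.mem_top _, ?_⟩⟩,
    fun _ _ => rfl⟩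
  show h ∈ Subgroup.normalizer ((inducedFunctor zjA (T : Subgroup (↥K ⧸ R.subgroupOf K)) :
      Subgroup (↥K ⧸ R.subgroupOf K)) : Set (↥K ⧸ R.subgroupOf K))
  rw [inducedFunctor_zjA]
  have hn : (centerThompsonAOf (T : Subgroup (↥K ⧸ R.subgroupOf K))).Normal := inferInstance
  rw [Subgroup.normalizer_eq_top]
  exact Subgroup.mem_top _

theorem exists_section_of_involves {G : Type u} [Group G] {X : Type*} [Group X] (N : Subgroup G)
    (h : Involves X ↥N) : ∃ (H K : Subgroup G) (_ : (K.subgroupOf H).Normal), H ≤ N ∧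
      Nonempty ((H ⧸ K.subgroupOf H) ≃* X) := by
  obtain ⟨K, f, hf⟩ := exists_surjective_of_involves h
  let e : ↥K ≃* ↥(K.map N.subtype) := K.equivMapOfInjective N.subtype (Subgroup.subtype_injective _)
  set H := K.map N.subtype with hH
  let f' : ↥H →* X := f.comp e.symm.toMonoidHom
  have hf' : Function.Surjective f' := hf.comp e.symm.surjective
  have e1 : (f'.ker.map H.subtype).subgroupOf H = f'.ker :=
    Subgroup.comap_map_eq_self_of_injective (Subgroup.subtype_injective _) _
  have hn : ((f'.ker.map H.subtype).subgroupOf H).Normal := by rw [e1]; infer_instance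
  exact ⟨H, f'.ker.map H.subtype, hn, Subgroup.map_subtype_le _,
    ⟨(QuotientGroup.quotientMulEquivOfEq e1).trans
      (QuotientGroup.quotientKerEquivOfSurjective f' hf')⟩⟩

/-- Let p be an odd prime and S a Sylow p-subgroup of the finite group G such that, for every subgroup P with Z(S) ≤ P ≤ S, the normalizer N_G(P) has no section isomorphic to SL₂(p). Let J(S) be the subgroup generated by the abelian subgroups of S of largest order. Then two elements of S are conjugate in G if and only if they are conjugate in N_G(Z(J(S))). -/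
theorem result {G : Type*} [Group G] [Finite G] {p : ℕ} [Fact p.Prime]
    (hp : p ≠ 2) (S : Sylow p G)
    (hfree : ∀ P : Subgroup G, (S : Subgroup G) ⊓ Subgroup.centralizer ((S : Subgroup G) : Set G) ≤ P → P ≤ S →
      ¬ ∃ (H K : Subgroup G) (hK : (K.subgroupOf H).Normal), H ≤ Subgroup.normalizer (P : Set G) ∧
        Nonempty ((H ⧸ K.subgroupOf H) ≃* Matrix.SpecialLinearGroup (Fin 2) (ZMod p))) :
    ∀ x ∈ S, ∀ y ∈ S, (∃ g : G, g * x * g⁻¹ = y) ↔
      ∃ n ∈ Subgroup.normalizer (Cfsg.centerThompsonAOf (S : Subgroup G) : Set G), n * x * n⁻¹ = y := by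
  intro x hx y hy
  constructor
  swap
  · rintro ⟨n, -, hn⟩
    exact ⟨n, hn⟩
  rintro ⟨g, hg⟩
  have hcf := ind_isConjugacyFunctor (G := G) (p := p) hfam
  have hG := fusionRel_stepW (ind G {zjA}) ⊤ (S : Subgroup G)
  have hWZ : ∀ H : Subgroup G, IsPGroup p ↥H →
      H ⊓ Subgroup.centralizer (H : Set G) ≤ inducedFunctor zjA H := by
    intro H _
    rw [inducedFunctor_zjA]
    refine le_inf (center_le_J H) ?_
    exact inf_le_right.trans (Subgroup.centralizer_le (J_le_self H))
  have key : GoodS (stepW (ind G {zjA}) ⊤ (S : Subgroup G)) ({x} : Set G) g := by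
    refine local_to_global_centric S hcf hG (overCenter (S : Subgroup G))
      (fun U hU hc => mem_overCenter_of_centric hU hc) ?_ ?_ ?_ {x} (by simpa using hx) g ?_
    · rintro _ ⟨W, hW, rfl⟩ R hR hZ u _
      rw [Set.mem_singleton_iff] at hW
      subst hW
      exact mem_overCenter_functor (hcf _ ⟨zjA, rfl, rfl⟩) hWZ S.2 hR hZ u
    · intro W hW y hy A hA hyA
      exact ⟨y, StepChain.single ⟨hA, hyA, W, hW, ⟨Subgroup.mem_top y, hy⟩⟩, fun _ _ => rfl⟩
    · intro T hTS hTH hT hrel Hy A hA h hh hhA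
      have hfreeT : ¬ Involves (Matrix.SpecialLinearGroup (Fin 2) (ZMod p))
          ↥(Subgroup.normalizer (T : Set G)) := by
        intro hinv
        obtain ⟨u, hu1, hu2⟩ := hTH
        apply hfree _ hu1 hu2
        rw [← smul_normalizer]
        have e : ↥(Subgroup.normalizer (T : Set G)) ≃*
            ↥(MulAut.conj u • Subgroup.normalizer (T : Set G)) :=
          Subgroup.equivSMul (MulAut.conj u) _
        have hinv' : Involves (Matrix.SpecialLinearGroup (Fin 2) (ZMod p))
            ↥(MulAut.conj u • Subgroup.normalizer (T : Set G)) := by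
          refine involves_trans hinv ?_
          exact involves_of_equiv e.symm (involves_self _)
        exact exists_section_of_involves _ hinv'
      have hfcs := fcs_of_subgroup hfam (Subgroup.normalizer (T : Set G)) (cs_of_free hp hfreeT)
      obtain ⟨z, hz, hz'⟩ := FamilyControlsStrongFusionIn.fcsf hcf hfcs hrel A h hh hA hhA
      refine hG.congr A z h hz' ?_
      refine hG.of_stepChain ?_ hz
      rintro B y ⟨hB, hyB, W, hW, hy⟩
      exact Hy W hW y hy B hB hyB
    · rintro _ ⟨a, ha, rfl⟩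
      rw [Set.mem_singleton_iff] at ha
      subst ha
      show g * a * g⁻¹ ∈ (S : Subgroup G)
      rw [hg]; exact hy
  obtain ⟨n, hn, hn'⟩ := key
  have e : ind G {zjA} = {inducedFunctor zjA} := Set.image_singleton
  rw [e] at hn
  have h2 := (mem_normalizer_of_stepChain hn).2
  rw [inducedFunctor_zjA] at h2
  exact ⟨n, h2, by rw [hn' x rfl, hg]⟩

end Cfsg.Agent.S3071
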