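import Mathlib
import Cfsg.Statements.S3078
import Cfsg.Agent.Lib.Helper51.Card
import Cfsg.Agent.Lib.Helper24.PGroup
import Cfsg.Agent.Lib.Helper11.EA
import Cfsg.Agent.S0649
import Cfsg.Agent.S0650

set_option autoImplicit false
open Cfsg

namespace Cfsg.Agent.S3078

open Cfsg.Agent.Lib.Helper51 Cfsg.Agent.Lib.Helper11 Subgroup
open scoped commutatorElement

theorem mem_omegaOne_iff_of_comm {G : Type*} [Group G] {p : ℕ} {H : Subgroup G} (hH : IsMulCommutative H) {x : G} :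
    x ∈ Cfsg.omegaOne p H ↔ x ∈ H ∧ x ^ p = 1 := by
  constructor
  · intro hx
    unfold Cfsg.omegaOne at hx
    induction hx using Subgroup.closure_induction with
    | mem x hx => exact hx
    | one => exact ⟨one_mem _, one_pow _⟩
    | mul x y _ _ ihx ihy =>
      refine ⟨mul_mem ihx.1 ihy.1, ?_⟩
      rw [(show Commute x y from setLike_mul_comm ihx.1 ihy.1).mul_pow, ihx.2, ihy.2, one_mul]
    | inv x _ ih => exact ⟨inv_mem ih.1, by rw [inv_pow, ih.2, inv_one]⟩
  · intro hx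
    exact Subgroup.subset_closure hx

/-- the rank inequality for the Glauberman replacement -/
theorem card_omegaOne_le {S : Type*} [Group S] [Finite S] {p : ℕ} [Fact p.Prime] (hp : p ≠ 2)
    (A As : Subgroup S) (hA : IsMulCommutative A) (hAs : IsMulCommutative As) (b : S)
    (hbN : b ∈ normalizer ((normalizer (A : Set S)) : Set S))
    (hD : A ⊓ A.map (MulAut.conj (b⁻¹)).toMonoidHom ≤ As)
    (hgen : ∀ a ∈ A, a * b⁻¹ * a⁻¹ * b ∈ As) :
    Nat.card (Cfsg.omegaOne p A) ≤ Nat.card (Cfsg.omegaOne p As) := by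
  set Ab := A.map (MulAut.conj (b⁻¹)).toMonoidHom with hAbdef
  set D := A ⊓ Ab with hDdef
  set N := normalizer (A : Set S) with hN
  have hAb : ∀ x, x ∈ Ab ↔ b * x * b⁻¹ ∈ A := by
    intro x
    constructor
    · rintro ⟨a, ha, rfl⟩
      simpa [mul_assoc] using ha
    · intro h
      exact ⟨b * x * b⁻¹, h, by simp [mul_assoc]⟩
  have hAN : A ≤ N := Subgroup.le_normalizer
  have nA : ∀ g ∈ N, ∀ a ∈ A, g * a * g⁻¹ ∈ A := fun g hg a ha => conj_mem_of_mem_normalizer hg ha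
  have nN : ∀ g ∈ N, b * g * b⁻¹ ∈ N := fun g hg => conj_mem_of_mem_normalizer hbN hg
  have nN' : ∀ g ∈ N, b⁻¹ * g * b ∈ N := fun g hg => conj_inv_mem_of_mem_normalizer hbN hg
  have cA : ∀ a ∈ A, ∀ a' ∈ A, a * a' = a' * a := fun a ha a' ha' => setLike_mul_comm ha ha'
  have hconjAb : ∀ a ∈ A, b⁻¹ * a * b ∈ Ab := fun a ha => (hAb _).2 (by simpa [mul_assoc] using ha)
  have hAbN : Ab ≤ N := by
    intro x hx
    have := nN' _ (hAN ((hAb x).1 hx))
    simpa [mul_assoc] using this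
  have cAb : ∀ c ∈ Ab, ∀ c' ∈ Ab, c * c' = c' * c := by
    intro c hc c' hc'
    have := cA _ ((hAb c).1 hc) _ ((hAb c').1 hc')
    have h2 : b * (c * c') * b⁻¹ = b * (c' * c) * b⁻¹ := by
      calc b * (c * c') * b⁻¹ = (b * c * b⁻¹) * (b * c' * b⁻¹) := by group
        _ = (b * c' * b⁻¹) * (b * c * b⁻¹) := this
        _ = b * (c' * c) * b⁻¹ := by group
    exact mul_left_cancel (mul_right_cancel h2)
  have nAb : ∀ a ∈ A, ∀ c ∈ Ab, a * c * a⁻¹ ∈ Ab := by
    intro a ha c hc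
    rw [hAb]
    have := nA _ (nN a (hAN ha)) _ ((hAb c).1 hc)
    have e : b * (a * c * a⁻¹) * b⁻¹ = b * a * b⁻¹ * (b * c * b⁻¹) * (b * a * b⁻¹)⁻¹ := by group
    rw [e]; exact this
  have hcomD : ∀ c ∈ Ab, ∀ a ∈ A, ⁅c, a⁆ ∈ D := by
    intro c hc a ha
    refine Subgroup.mem_inf.2 ⟨?_, ?_⟩
    · rw [commutatorElement_def]
      exact mul_mem (nA c (hAbN hc) a ha) (inv_mem ha)
    · have : ⁅c, a⁆ = c * (a * c⁻¹ * a⁻¹) := by rw [commutatorElement_def]; group
      rw [this]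
      exact mul_mem hc (nAb a ha _ (inv_mem hc))
  have hDA : D ≤ A := inf_le_left
  have hDAb : D ≤ Ab := inf_le_right
  set E := Cfsg.omegaOne p A with hE
  set F := Cfsg.omegaOne p As with hF
  have hmemE : ∀ x, x ∈ E ↔ x ∈ A ∧ x ^ p = 1 := fun x => mem_omegaOne_iff_of_comm hA
  have hmemF : ∀ x, x ∈ F ↔ x ∈ As ∧ x ^ p = 1 := fun x => mem_omegaOne_iff_of_comm hAs
  have hgenF : ∀ e ∈ E, e * b⁻¹ * e⁻¹ * b ∈ F := by
    intro e he
    obtain ⟨heA, hep⟩ := (hmemE e).1 he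
    refine (hmemF _).2 ⟨hgen e heA, ?_⟩
    have hy := hconjAb _ (inv_mem heA)
    have hk := hcomD _ hy e heA
    have e1 : e * b⁻¹ * e⁻¹ * b = e * (b⁻¹ * e⁻¹ * b) := by group
    have hyp : (b⁻¹ * e⁻¹ * b) ^ p = 1 := by
      have := conj_pow (a := b⁻¹) (b := e⁻¹) (i := p)
      rw [inv_inv] at this
      rw [this, inv_pow, hep]; group
    rw [e1, Cfsg.Agent.Lib.Helper24.mul_pow_prime_of_commute p hp e (b⁻¹ * e⁻¹ * b)
      (cA _ (hDA hk) e heA) (cAb _ (hDAb hk) _ hy) (by rw [hyp]; exact Commute.one_left e), hep, hyp, one_mul]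
  have hinf : E ⊓ D = F ⊓ D := by
    ext x
    simp only [mem_inf, hmemE, hmemF]
    constructor
    · rintro ⟨⟨_, h2⟩, h3⟩
      exact ⟨⟨hD (mem_inf.2 h3), h2⟩, h3⟩
    · rintro ⟨⟨_, h2⟩, h3⟩
      exact ⟨⟨h3.1, h2⟩, h3⟩
  have hrel : D.relIndex E ≤ D.relIndex F := by
    unfold Subgroup.relIndex Subgroup.index
    let f : (E ⧸ D.subgroupOf E) → (F ⧸ D.subgroupOf F) := fun q =>
      QuotientGroup.mk ⟨(q.out : S) * b⁻¹ * (q.out : S)⁻¹ * b, hgenF _ q.out.2⟩
    apply Nat.card_le_card_of_injective f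
    intro q₁ q₂ h
    have h1 := QuotientGroup.eq.1 h
    rw [mem_subgroupOf] at h1
    have h2 : ((q₁.out : S) * b⁻¹ * (q₁.out : S)⁻¹ * b)⁻¹ * ((q₂.out : S) * b⁻¹ * (q₂.out : S)⁻¹ * b) ∈ D := h1
    have ha₁ : (q₁.out : S) ∈ A := ((hmemE _).1 q₁.out.2).1
    have ha₂ : (q₂.out : S) ∈ A := ((hmemE _).1 q₂.out.2).1
    have h3 : (q₁.out : S)⁻¹ * (q₂.out : S) ∈ D := by
      refine mem_inf.2 ⟨mul_mem (inv_mem ha₁) ha₂, ?_⟩
      have e : (q₁.out : S)⁻¹ * (q₂.out : S) = (b⁻¹ * (q₁.out : S) * b)⁻¹ *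
          (((q₁.out : S) * b⁻¹ * (q₁.out : S)⁻¹ * b)⁻¹ * ((q₂.out : S) * b⁻¹ * (q₂.out : S)⁻¹ * b)) *
          (b⁻¹ * (q₂.out : S) * b) := by group
      rw [e]
      exact mul_mem (mul_mem (inv_mem (hconjAb _ ha₁)) (hDAb h2)) (hconjAb _ ha₂)
    have h4 : (QuotientGroup.mk q₁.out : E ⧸ D.subgroupOf E) = QuotientGroup.mk q₂.out := by
      rw [QuotientGroup.eq, mem_subgroupOf]
      exact h3
    rwa [QuotientGroup.out_eq', QuotientGroup.out_eq'] at h4
  rw [card_eq_card_inf_mul_relIndex E D, card_eq_card_inf_mul_relIndex F D, hinf]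
  exact Nat.mul_le_mul_left _ hrel

/-- the statement when `B` is normal -/
theorem core {S : Type*} [Group S] [Finite S] {p : ℕ} [Fact p.Prime] (hp : p ≠ 2) (hS : IsPGroup p S)
    (A B : Subgroup S) [B.Normal] (hA : IsMulCommutative A) (hBA : ⁅B, B⁆ ≤ A)
    (hBnA : ¬ B ≤ normalizer (A : Set S)) :
    ∃ As : Subgroup S, IsMulCommutative As ∧ Nat.card As = Nat.card A ∧ A ⊓ B < As ⊓ B ∧
      As ≤ normalizer (A : Set S) ∧ As ≤ normalClosure (A : Set S) ∧
      Monoid.exponent As ∣ Monoid.exponent A ∧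
      Nat.card (Cfsg.omegaOne p A) ≤ Nat.card (Cfsg.omegaOne p As) := by
  obtain ⟨b, hb, hbN, hbA⟩ := Cfsg.Agent.S0649.result hS B (fun h => absurd h hp) A hA hBA hBnA
  obtain ⟨h1, h2, -, h4, -, -, h7, -, -, h10⟩ :=
    Cfsg.Agent.S0650.result hS B (fun h => absurd h hp) A hA hBA hBnA b hb hbN hbA
  refine ⟨_, h2, h1, h4, h7, ?_, h10 hp, ?_⟩
  · refine sup_le (inf_le_left.trans le_normalClosure) ?_
    rw [closure_le]
    rintro _ ⟨a, ha, rfl⟩
    have e : a * b⁻¹ * a⁻¹ * b = a * (b⁻¹ * a⁻¹ * b⁻¹⁻¹) := by group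
    rw [e]
    exact mul_mem (le_normalClosure ha)
      (normalClosure_normal.conj_mem _ (le_normalClosure (inv_mem ha)) _)
  · exact card_omegaOne_le hp A _ hA h2 b hbN le_sup_left
      (fun a ha => mem_sup_right (Subgroup.subset_closure ⟨a, ha, rfl⟩))

theorem omegaOne_map_of_injective {S G : Type*} [Group S] [Group G] (p : ℕ) (f : S →* G)
    (hf : Function.Injective f) (X : Subgroup S) :
    Cfsg.omegaOne p (X.map f) = (Cfsg.omegaOne p X).map f := by
  unfold Cfsg.omegaOne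
  rw [MonoidHom.map_closure]
  congr 1
  ext y
  constructor
  · rintro ⟨⟨x, hx, rfl⟩, hy⟩
    refine ⟨x, ⟨hx, ?_⟩, rfl⟩
    apply hf
    rw [map_pow, map_one]; exact hy
  · rintro ⟨x, ⟨hx, hxp⟩, rfl⟩
    exact ⟨⟨x, hx, rfl⟩, by rw [← map_pow, hxp, map_one]⟩

/-- A replacement Theorem for abelian subgroups of p-groups, p odd. Let G be a finite p-group with p odd, A an abelian subgroup of G, and B a subgroup of nilpotency class at most 2 with [B, B] ≤ A, such that A normalizes B but B does not normalize A. Then there is an abelian subgroup A* of G of the same order as A with A ∩ B strictly contained in A* ∩ B, A* contained in N_G(A) and in the normal closure of A, the exponent of A* dividing the exponent of A, and with the subgroup generated by the elements of order dividing p in A of order at most that of the corresponding subgroup of A* (the rank of A is at most the rank of A*). -/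
theorem result {G : Type*} [Group G] [Finite G] {p : ℕ} [Fact p.Prime] (hp : p ≠ 2) (hG : IsPGroup p G) (A B : Subgroup G) (hA : IsMulCommutative A) (hB2 : ⁅⁅B, B⁆, B⁆ = ⊥) (hBA : ⁅B, B⁆ ≤ A) (hAB : A ≤ Subgroup.normalizer (B : Set G)) (hBnA : ¬ B ≤ Subgroup.normalizer (A : Set G)) : ∃ Astar : Subgroup G, IsMulCommutative Astar ∧ Nat.card Astar = Nat.card A ∧ A ⊓ B < Astar ⊓ B ∧ Astar ≤ Subgroup.normalizer (A : Set G) ∧ Astar ≤ Subgroup.normalClosure (A : Set G) ∧ Monoid.exponent Astar ∣ Monoid.exponent A ∧ Nat.card (Cfsg.omegaOne p A) ≤ Nat.card (Cfsg.omegaOne p Astar) := by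
  obtain ⟨H, hH⟩ : ∃ H, H = A ⊔ B := ⟨_, rfl⟩
  have hAH : A ≤ H := hH ▸ le_sup_left
  have hBH : B ≤ H := hH ▸ le_sup_right
  have hinj := H.subtype_injective
  set A₀ := A.subgroupOf H with hA₀
  set B₀ := B.subgroupOf H with hB₀
  have eA : A₀.map H.subtype = A := by rw [hA₀, subgroupOf_map_subtype, inf_eq_left.2 hAH]
  have eB : B₀.map H.subtype = B := by rw [hB₀, subgroupOf_map_subtype, inf_eq_left.2 hBH]
  have hB₀n : B₀.Normal :=
    (normal_subgroupOf_iff_le_normalizer hBH).2 (hH ▸ sup_le hAB Subgroup.le_normalizer)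
  have hA₀c : IsMulCommutative A₀ := inferInstance
  have hBA₀ : ⁅B₀, B₀⁆ ≤ A₀ := by
    rw [← map_le_map_iff_of_injective hinj, map_commutator, eA, eB]; exact hBA
  have hBnA₀ : ¬ B₀ ≤ normalizer (A₀ : Set H) := by
    intro h
    apply hBnA
    rw [le_normalizer_iff_commutator_le_right] at h ⊢
    rw [← map_le_map_iff_of_injective hinj, map_commutator, eA, eB] at h
    exact h
  obtain ⟨As, h1, h2, h3, h4, h5, h6, h7⟩ := core hp (hG.to_subgroup H) A₀ B₀ hA₀c hBA₀ hBnA₀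
  refine ⟨As.map H.subtype, inferInstance, ?_, ?_, ?_, ?_, ?_, ?_⟩
  · rw [card_map_of_injective hinj, h2]
    exact Nat.card_congr (subgroupOfEquivOfLe hAH).toEquiv
  · have := (map_lt_map_iff_of_injective hinj).2 h3
    rwa [map_inf _ _ _ hinj, map_inf _ _ _ hinj, eA, eB] at this
  · rw [le_normalizer_iff_commutator_le_right] at h4 ⊢
    rw [← map_le_map_iff_of_injective hinj, map_commutator, eA] at h4
    exact h4
  · rw [map_le_iff_le_comap]
    refine h5.trans ?_
    have : ((normalClosure (A : Set G)).comap H.subtype).Normal := normalClosure_normal.comap _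
    apply normalClosure_le_normal
    intro a ha
    exact le_normalClosure (mem_subgroupOf.1 ha)
  · rw [Monoid.exponent_eq_of_mulEquiv (equivMapOfInjective As H.subtype hinj).symm,
      ← Monoid.exponent_eq_of_mulEquiv (subgroupOfEquivOfLe hAH)]
    exact h6
  · rw [omegaOne_map_of_injective p _ hinj, card_map_of_injective hinj]
    have e : Cfsg.omegaOne p A = (Cfsg.omegaOne p A₀).map H.subtype := by
      rw [← omegaOne_map_of_injective p _ hinj, eA]
    rw [e, card_map_of_injective hinj]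
    exact h7

end Cfsg.Agent.S3078
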