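import Mathlib
import Cfsg.Statements.S3082
import Cfsg.Agent.Lib.Helper51.SCReduction
import Cfsg.Agent.Lib.Helper51.ZJDTransport
import Cfsg.Agent.Lib.Lead.ZJFunctor
import Cfsg.Agent.Lib.Helper11.StableClosure
import Cfsg.Agent.S3058
import Cfsg.Agent.S3078

set_option autoImplicit false
open Cfsg

namespace Cfsg.Agent.S3082

open Cfsg.Agent.Lib.Helper51 Cfsg.Agent.Lib.Helper11 Cfsg.Agent.Lib.Lead

universe u

theorem isCharPFunctor_omegaCenterThompson (p : ℕ) [Fact p.Prime] :
    IsCharPFunctor.{u} p (fun Q _ => omegaCenterThompson p Q) := by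
  refine ⟨?_, fun _ _ _ _ _ _ φ => omegaCenterThompson_map p φ⟩
  intro Q _ _ hQ hnt hbot
  replace hbot : omegaCenterThompson p Q = ⊥ := hbot
  have hc : Nontrivial (Subgroup.center Q) := hQ.center_nontrivial
  have hcb : Subgroup.center Q ≠ ⊥ := (Subgroup.nontrivial_iff_ne_bot _).mp hc
  obtain ⟨x, hx, hxo⟩ := Cfsg.Agent.S3058.exists_orderOf_eq_prime (hQ.to_subgroup _) hcb
  have h1 : x ∈ omegaOne p (Subgroup.center Q) :=
    mem_omegaOne hx (orderOf_dvd_iff_pow_eq_one.mp (dvd_of_eq hxo))
  have h2 := omegaOne_center_le_omegaCenterThompson p Q h1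
  rw [hbot, Subgroup.mem_bot] at h2
  rw [h2, orderOf_one] at hxo
  exact (Fact.out : p.Prime).one_lt.ne hxo

theorem inducedFunctor_omegaCenterThompson {G : Type u} [Group G] (p : ℕ) (T : Subgroup G) :
    inducedFunctor (fun Q _ => omegaCenterThompson p Q) T = omegaOne p (centerThompsonOf p T) := by
  unfold inducedFunctor omegaCenterThompson
  rw [← Cfsg.Agent.S3078.omegaOne_map_of_injective p T.subtype T.subtype_injective]
  congr 1
  unfold centerThompsonOf thompsonSubgroupOf
  ext x
  constructor
  · rintro ⟨y, hy, rfl⟩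
    obtain ⟨hy1, hy2⟩ := Subgroup.mem_inf.mp hy
    refine Subgroup.mem_inf.mpr ⟨Subgroup.mem_map_of_mem _ hy1, ?_⟩
    rw [Subgroup.mem_centralizer_iff] at hy2 ⊢
    rintro _ ⟨w, hw, rfl⟩
    exact congrArg Subtype.val (hy2 w hw)
  · intro hx
    obtain ⟨⟨y, hy, rfl⟩, hx2⟩ := Subgroup.mem_inf.mp hx
    refine ⟨y, Subgroup.mem_inf.mpr ⟨hy, ?_⟩, rfl⟩
    rw [Subgroup.mem_centralizer_iff] at hx2 ⊢
    intro w hw
    exact Subtype.ext (hx2 _ (Subgroup.mem_map_of_mem _ hw))

/-- The Glauberman–Thompson normal p-complement criterion for strongly closed subgroups, p odd. Let G be a finite group, P a Sylow p-subgroup and D a subgroup of P strongly closed in P with respect to G. If N_G(Z(J(D))) has a normal p-complement (J(D) generated by the abelian subgroups of D of largest order), or N_G(Ω₁(Z(J_e(D)))) has one (J_e(D) generated by the elementary abelian subgroups of largest order), then G has a normal p-complement. -/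
theorem result {G : Type*} [Group G] [Finite G] {p : ℕ} [Fact p.Prime] (hp : p ≠ 2) (P : Sylow p G) (D : Subgroup G) (hD : Cfsg.IsStronglyClosed D (P : Subgroup G)) (h : Cfsg.HasNormalPComplement p ↥(Subgroup.normalizer ((Cfsg.centerThompsonAOf D) : Set G)) ∨ Cfsg.HasNormalPComplement p ↥(Subgroup.normalizer ((Cfsg.omegaOne p (Cfsg.centerThompsonOf p D)) : Set G))) : Cfsg.HasNormalPComplement p G := by
  rcases h with h | h
  · refine hasNormalPComplement_of_stronglyClosed zjA isCharPFunctor_zjA ?_ G P D hD ?_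
    · intro Y _ _ T hT E hE
      rw [inducedFunctor_zjA, Cfsg.Agent.S0653.centerThompsonAOf_eq]
      exact zjD_generic (fun A : Subgroup Y => IsMulCommutative A) (fun _ h => h) inferInstance
        (fun φ A hA => by have := hA; infer_instance) hT.1 (fun V _ hV => hT.isPStableOn hp V hV) T E hE
        (hrepD_abelian hp T E hE)
    · rw [inducedFunctor_zjA]; exact h
  · refine hasNormalPComplement_of_stronglyClosed (fun Q _ => omegaCenterThompson p Q)
      (isCharPFunctor_omegaCenterThompson p) ?_ G P D hD ?_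
    · intro Y _ _ T hT E hE
      rw [inducedFunctor_omegaCenterThompson, omegaOne_centerThompsonOf_eq]
      exact zjD_generic (fun A : Subgroup Y => Cfsg.IsElementaryAbelian p A) (fun _ h => h.1)
        (isElementaryAbelian_bot p) (fun φ A hA => IsElementaryAbelian.map hA φ.toMonoidHom) hT.1
        (fun V _ hV => hT.isPStableOn hp V hV) T E hE (hrepD_elementary hp T E hE)
    · rw [inducedFunctor_omegaCenterThompson]; exact h

end Cfsg.Agent.S3082
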