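import Mathlib
import Cfsg.Statements.S3081
import Cfsg.Agent.S2795
import Cfsg.Agent.Lib.Helper51.SCSections
import Cfsg.Agent.S3082

set_option autoImplicit false
open Cfsg

namespace Cfsg.Agent.S3081

open Cfsg.Agent.Lib.Helper51 Cfsg.Agent.Lib.Helper11 Cfsg.Agent.Lib.Lead

/-- Let p be an odd prime, G a finite group in which Qd(p) (the natural semidirect product of an elementary abelian group of order p² by SL₂(p)) is not involved, P a Sylow p-subgroup and D a subgroup of P strongly closed in P with respect to G. Then N_G(Z(J(D))) controls strong G-fusion in P (for every subset A of P and every g ∈ G with gAg⁻¹ ⊆ P, some element of that normalizer acts on A exactly as g does; J(D) is generated by the abelian subgroups of D of largest order), and so does N_G(Ω₁(Z(J_e(D)))) (J_e(D) generated by the elementary abelian subgroups of largest order). -/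
theorem result {G : Type*} [Group G] [Finite G] {p : ℕ} [Fact p.Prime] (hp : p ≠ 2) (P : Sylow p G) (D : Subgroup G) (hD : Cfsg.IsStronglyClosed D (P : Subgroup G)) (hqd : ¬ Cfsg.Involves ↥(Cfsg.qd p) G) : (∀ A : Set G, A ⊆ (P : Subgroup G) → Cfsg.ControlsStrongFusionOf (Subgroup.normalizer ((Cfsg.centerThompsonAOf D) : Set G)) (P : Subgroup G) A) ∧ (∀ A : Set G, A ⊆ (P : Subgroup G) → Cfsg.ControlsStrongFusionOf (Subgroup.normalizer ((Cfsg.omegaOne p (Cfsg.centerThompsonOf p D)) : Set G)) (P : Subgroup G) A) := by
  have hst := (Cfsg.Agent.S2795.result hp).1 hqd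
  constructor
  · have h := controlsStrongFusion_of_stronglyClosed_of_sections hp zjA isCharPFunctor_zjA (by
      intro Y _ _ T hcY hstY E hE
      rw [inducedFunctor_zjA, Cfsg.Agent.S0653.centerThompsonAOf_eq]
      exact zjD_generic (fun A : Subgroup Y => IsMulCommutative A) (fun _ h => h) inferInstance
        (fun φ A hA => by have := hA; infer_instance) hcY hstY T E hE
        (hrepD_abelian hp T E hE)) P D hD hst
    rw [inducedFunctor_zjA] at h
    exact h
  · have h := controlsStrongFusion_of_stronglyClosed_of_sections hp (fun Q _ => omegaCenterThompson p Q)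
      (Cfsg.Agent.S3082.isCharPFunctor_omegaCenterThompson p) (by
      intro Y _ _ T hcY hstY E hE
      rw [Cfsg.Agent.S3082.inducedFunctor_omegaCenterThompson, omegaOne_centerThompsonOf_eq]
      exact zjD_generic (fun A : Subgroup Y => Cfsg.IsElementaryAbelian p A) (fun _ h => h.1)
        (isElementaryAbelian_bot p) (fun φ A hA => IsElementaryAbelian.map hA φ.toMonoidHom) hcY
        hstY T E hE (hrepD_elementary hp T E hE)) P D hD hst
    rw [Cfsg.Agent.S3082.inducedFunctor_omegaCenterThompson] at h
    exact h

end Cfsg.Agent.S3081
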