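import Mathlib
import Cfsg.Statements.S3085
import Cfsg.Agent.Lib.Helper51.ESNonsplit
import Cfsg.Agent.Lib.Helper90.ESClass6

set_option autoImplicit false
open Cfsg

namespace Cfsg.Agent.S3085

open Cfsg.Agent.Lib.Helper51 Cfsg.Agent.Lib.Helper90

theorem exists_mem_notMem {Q : Type*} [Group Q] [Finite Q] (E : Subgroup Q) (s : Finset Q)
    (h : s.card < Nat.card E) : ∃ e ∈ E, e ∉ s := by
  by_contra hcon
  push Not at hcon
  have h1 : (E : Set Q) ⊆ (s : Set Q) := fun e he => hcon e he
  have h2 := Set.ncard_le_ncard h1 (Finset.finite_toSet s)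
  rw [Set.ncard_coe_finset] at h2
  have h3 : (E : Set Q).ncard = Nat.card E := rfl
  omega

theorem index_centralizer_le {Q : Type*} [Group Q] {z : Q} (h : E2 z) (e : Q) :
    (Subgroup.centralizer ({e} : Set Q)).index ≤ 2 := by
  by_cases hc : ∀ q, q * e = e * q
  · have : Subgroup.centralizer ({e} : Set Q) = ⊤ := by
      rw [eq_top_iff]
      intro q _
      rw [Subgroup.mem_centralizer_singleton_iff]
      exact hc q
    rw [this, Subgroup.index_top]
    norm_num
  · push Not at hc
    obtain ⟨a, ha⟩ := hc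
    have ha' := h.anti_of_ne ha
    apply le_of_eq
    rw [Subgroup.index_eq_two_iff]
    refine ⟨a, fun b => ?_⟩
    rw [Subgroup.mem_centralizer_singleton_iff, Subgroup.mem_centralizer_singleton_iff]
    rcases h.comm b e with hb | hb
    · right
      refine ⟨hb, ?_⟩
      apply h.anti_ne
      simp only [mul_assoc, ha', assoc_rule hb, h.z_left]
    · left
      refine ⟨?_, h.anti_ne hb⟩
      simp only [mul_assoc, ha', assoc_rule hb, h.z_left, h.z_z]

/-- Let Q be an extraspecial 2-group of order 2^(2n+1) with n ≥ 3 that is of plus type (it contains an elementary abelian subgroup of order 2^(n+1)). Then the group of inner automorphisms of Q has no complement in the full automorphism group of Q: the extension of the inner automorphism group (elementary abelian of order 2^(2n)) by the outer automorphism group (the orthogonal group of plus type) does not split. -/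
theorem result {Q : Type*} [Group Q] [Finite Q] (n : ℕ) (hn : 3 ≤ n) (hQ : Cfsg.IsExtraspecial 2 Q) (hcard : Nat.card Q = 2 ^ (2 * n + 1)) (hplus : ∃ E : Subgroup Q, Cfsg.IsElementaryAbelian 2 E ∧ Nat.card ↥E = 2 ^ (n + 1)) (L : Subgroup (MulAut Q)) : ¬ (Cfsg.Inn Q).IsComplement' L := by
  classical
  obtain ⟨z, hES⟩ := exists_es_top hQ
  have h : E2 z := ⟨hES.z_ne, hES.z_sq, fun q => hES.z_comm q trivial,
    fun y hy => hES.center y trivial (fun q _ => hy q), fun x y => hES.comm x trivial y trivial,
    fun x => hES.sq x trivial⟩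
  obtain ⟨E, hE, hEc⟩ := hplus
  have h16 : 16 ≤ Nat.card E := by
    rw [hEc]
    calc 16 = 2 ^ 4 := by norm_num
      _ ≤ 2 ^ (n + 1) := Nat.pow_le_pow_right (by norm_num) (by omega)
  have hEsq : ∀ e ∈ E, e * e = 1 := fun e he => by rw [← pow_two]; exact hE.2 e he
  have hEcomm : ∀ a ∈ E, ∀ b ∈ E, a * b = b * a := fun a ha b hb =>
    congrArg Subtype.val (hE.1.is_comm.comm ⟨a, ha⟩ ⟨b, hb⟩)
  obtain ⟨e1, he1, hn1⟩ := exists_mem_notMem E {1, z} (lt_of_le_of_lt (Finset.card_le_two) (by omega))
  obtain ⟨e2, he2, hn2⟩ := exists_mem_notMem E {1, z, e1, z * e1}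
    (lt_of_le_of_lt (Finset.card_le_four) (by omega))
  simp only [Finset.mem_insert, Finset.mem_singleton, not_or] at hn1 hn2
  -- the centralizer of `e1, e2`
  set C := Subgroup.centralizer ({e1} : Set Q) ⊓ Subgroup.centralizer ({e2} : Set Q) with hC
  have hCidx : C.index ≤ 4 := by
    calc C.index ≤ (Subgroup.centralizer ({e1} : Set Q)).index * (Subgroup.centralizer ({e2} : Set Q)).index :=
          Subgroup.index_inf_le
      _ ≤ 2 * 2 := Nat.mul_le_mul (index_centralizer_le h e1) (index_centralizer_le h e2)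
  have hCcard : 2 ^ (2 * n + 1) ≤ 4 * Nat.card C := by
    rw [← hcard, ← C.index_mul_card]
    exact Nat.mul_le_mul_right _ hCidx
  obtain ⟨y, hyC, hyy⟩ : ∃ y ∈ C, y * y ≠ 1 := by
    by_contra hcon
    push Not at hcon
    have hab : IsMulCommutative C := by
      refine ⟨⟨fun a b => ?_⟩⟩
      apply Subtype.ext
      have h1 := hcon _ (C.mul_mem a.2 b.2)
      have h2 := hcon _ a.2
      have h3 := hcon _ b.2
      change (a : Q) * b = b * a
      calc (a : Q) * b = (b * b) * ((a : Q) * b) * (a * a) := by rw [h2, h3]; simp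
        _ = b * (((b : Q) * a) * (b * a)) * a := by group
        _ = b * a := by
          have h4 := hcon _ (C.mul_mem b.2 a.2)
          rw [h4, mul_one]
    have h5 := card_le_of_abelian hQ n hcard C hab
    have h6 : 2 ^ (2 * n + 1) ≤ 2 ^ (n + 3) := by
      calc 2 ^ (2 * n + 1) ≤ 4 * Nat.card C := hCcard
        _ ≤ 4 * 2 ^ (n + 1) := Nat.mul_le_mul_left _ h5
        _ = 2 ^ (n + 3) := by ring
    have h7 := (Nat.pow_le_pow_iff_right (by norm_num : 1 < 2)).1 h6
    omega
  have hyz : y * y = z := (h.sq y).resolve_left hyy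
  obtain ⟨hy1, hy2⟩ := Subgroup.mem_inf.1 hyC
  rw [Subgroup.mem_centralizer_singleton_iff] at hy1 hy2
  have h12 := hEcomm e1 he1 e2 he2
  have hs1 := hEsq e1 he1
  have hs2 := hEsq e2 he2
  have hz : ∀ x : Q, (z * x = 1 ∨ z * x = z) → (x = 1 ∨ x = z) := by
    intro x hx
    rcases hx with hx | hx
    · right
      have := congrArg (fun w => z * w) hx
      simpa [h.z_z] using this
    · left
      exact mul_eq_left.1 hx
  have t : Triple z y (y * e1) (y * e2) := by
    have ry := assoc_rule hyz
    have r1 := assoc_rule hy1.symm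
    have r2 := assoc_rule hy2.symm
    have r12 := assoc_rule h12.symm
    refine ⟨hyz, ?_, ?_, ?_, ?_, ?_, ?_, ?_, ?_⟩
    · simp only [mul_assoc, r1, hs1, mul_one, hyz]
    · simp only [mul_assoc, r2, hs2, mul_one, hyz]
    · simp only [mul_assoc, hy1.symm]
    · simp only [mul_assoc, hy2.symm]
    · simp only [mul_assoc, r1, r2, h12.symm]
    · intro hc
      have e : y * (y * e1) = z * e1 := by rw [← mul_assoc, hyz]
      rw [e] at hc
      rcases hz _ hc with h1 | h1
      · exact hn1.1 h1
      · exact hn1.2 h1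
    · intro hc
      have e : y * (y * e2) = z * e2 := by rw [← mul_assoc, hyz]
      rw [e] at hc
      rcases hz _ hc with h1 | h1
      · exact hn2.1 h1
      · exact hn2.2.1 h1
    · intro hc
      have e : y * e1 * (y * e2) = z * (e1 * e2) := by simp only [mul_assoc, r1, ry]
      rw [e] at hc
      rcases hz _ hc with h1 | h1
      · apply hn2.2.2.1
        calc e2 = (e1 * e1) * e2 := by rw [hs1, one_mul]
          _ = e1 * (e1 * e2) := mul_assoc _ _ _
          _ = e1 := by rw [h1, mul_one]
      · apply hn2.2.2.2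
        calc e2 = (e1 * e1) * e2 := by rw [hs1, one_mul]
          _ = e1 * (e1 * e2) := mul_assoc _ _ _
          _ = z * e1 := by rw [h1, h.z_comm]
  refine no_complement h (Abelianization.of : Q →* Abelianization Q) ?_ t L
  intro x
  rw [← MonoidHom.mem_ker, Abelianization.ker_of, hQ.1.2.2, Subgroup.mem_center_iff]
  constructor
  · intro hx
    exact h.center x hx
  · rintro (rfl | rfl)
    · simp
    · exact h.z_comm

end Cfsg.Agent.S3085
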