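import Cfsg.Statements.S3264
import Cfsg.Agent.S3947

set_option autoImplicit false
open Cfsg

namespace Cfsg.Agent.S3264

/-- the edge relation -/
def E {G : Type*} [Group G] (a b : G) : Prop := IsConj a b ∧ Odd (orderOf (a * b))

theorem orderOf_mul_swap {G : Type*} [Group G] (a b : G) : orderOf (b * a) = orderOf (a * b) := by
  have h : SemiconjBy a (b * a) (a * b) := by
    unfold SemiconjBy
    group
  exact h.orderOf_eq

theorem E.symm {G : Type*} [Group G] {a b : G} (h : E a b) : E b a :=
  ⟨h.1.symm, by rw [orderOf_mul_swap]; exact h.2⟩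

theorem isConj_orderOf {G : Type*} [Group G] {a b : G} (h : IsConj a b) : orderOf a = orderOf b := by
  obtain ⟨c, hc⟩ := h
  exact SemiconjBy.orderOf_eq (c : G) hc

theorem E.conj {G : Type*} [Group G] {a b : G} (h : E a b) (g : G) :
    E (g * a * g⁻¹) (g * b * g⁻¹) := by
  refine ⟨?_, ?_⟩
  · have h1 : IsConj a (g * a * g⁻¹) := isConj_iff.mpr ⟨g, rfl⟩
    have h2 : IsConj b (g * b * g⁻¹) := isConj_iff.mpr ⟨g, rfl⟩
    exact (h1.symm.trans h.1).trans h2
  · have h1 : IsConj (a * b) (g * a * g⁻¹ * (g * b * g⁻¹)) := isConj_iff.mpr ⟨g, by group⟩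
    rw [← isConj_orderOf h1]
    exact h.2

abbrev Rch {G : Type*} [Group G] (a b : G) : Prop := Relation.ReflTransGen E a b

theorem Rch.symm {G : Type*} [Group G] {a b : G} (h : Rch a b) : Rch b a := by
  induction h with
  | refl => exact Relation.ReflTransGen.refl
  | tail _ hbc ih => exact Relation.ReflTransGen.head hbc.symm ih

theorem Rch.conj {G : Type*} [Group G] {a b : G} (h : Rch a b) (g : G) :
    Rch (g * a * g⁻¹) (g * b * g⁻¹) :=
  Relation.ReflTransGen.lift (fun y => g * y * g⁻¹) (fun _ _ hab => E.conj hab g) _ _ h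

theorem Rch.isConj {G : Type*} [Group G] {a b : G} (h : Rch a b) : IsConj a b := by
  induction h with
  | refl => exact IsConj.refl _
  | tail _ hbc ih => exact ih.trans hbc.1

/-- two conjugate involutions generating the whole group -/
theorem dihedral {G : Type*} [Group G] {x y : G} (hx : orderOf x = 2) (hxy : IsConj x y)
    (hgen : Subgroup.closure {x, y} = ⊤) (z : G) (hz : IsConj x z) : Odd (orderOf (x * z)) := by
  have hy : orderOf y = 2 := (isConj_orderOf hxy).symm.trans hx
  have hx2 : x * x = 1 := by
    have := pow_orderOf_eq_one x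
    rwa [hx, pow_two] at this
  have hy2 : y * y = 1 := by
    have := pow_orderOf_eq_one y
    rwa [hy, pow_two] at this
  have hxi : x⁻¹ = x := inv_eq_of_mul_eq_one_left hx2
  have hyi : y⁻¹ = y := inv_eq_of_mul_eq_one_left hy2
  set r : G := x * y with hr
  set N : Subgroup G := Subgroup.zpowers (r * r) with hN
  have hri : r⁻¹ = y * x := by rw [hr, mul_inv_rev, hxi, hyi]
  have hxN : x ∈ Subgroup.normalizer (N : Set G) := by
    rw [Subgroup.mem_normalizer_iff_map_conj_eq, hN, MonoidHom.map_zpowers]
    have : (MulAut.conj x) (r * r) = (r * r)⁻¹ := by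
      rw [MulAut.conj_apply, mul_inv_rev, hri, hxi, hr]
      calc x * (x * y * (x * y)) * x = (x * x) * y * x * y * x := by group
        _ = y * x * (y * x) := by rw [hx2]; group
    show Subgroup.zpowers ((MulAut.conj x) (r * r)) = _
    rw [this, Subgroup.zpowers_inv]
  have hyN : y ∈ Subgroup.normalizer (N : Set G) := by
    rw [Subgroup.mem_normalizer_iff_map_conj_eq, hN, MonoidHom.map_zpowers]
    have : (MulAut.conj y) (r * r) = (r * r)⁻¹ := by
      rw [MulAut.conj_apply, mul_inv_rev, hri, hyi, hr]
      calc y * (x * y * (x * y)) * y = y * x * y * x * (y * y) := by group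
        _ = y * x * (y * x) := by rw [hy2]; group
    show Subgroup.zpowers ((MulAut.conj y) (r * r)) = _
    rw [this, Subgroup.zpowers_inv]
  have hnorm : N.Normal := by
    rw [← Subgroup.normalizer_eq_top_iff, eq_top_iff, ← hgen, Subgroup.closure_le]
    rintro g (rfl | rfl)
    · exact hxN
    · exact hyN
  let φ := QuotientGroup.mk' N
  have hcomm : ∀ g : G, φ g * φ x = φ x * φ g := by
    have h1 : Subgroup.closure {x, y} ≤ (Subgroup.centralizer {φ x}).comap φ := by
      rw [Subgroup.closure_le]
      rintro g (rfl | rfl)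
      · show φ g ∈ Subgroup.centralizer {φ g}
        rw [Subgroup.mem_centralizer_singleton_iff]
      · show φ g ∈ Subgroup.centralizer {φ x}
        rw [Subgroup.mem_centralizer_singleton_iff, ← map_mul, ← map_mul]
        apply (QuotientGroup.eq).mpr
        rw [mul_inv_rev, hxi, hyi]
        exact Subgroup.mem_zpowers _
    intro g
    have h2 : g ∈ (Subgroup.centralizer {φ x}).comap φ := h1 (by rw [hgen]; exact Subgroup.mem_top g)
    exact Subgroup.mem_centralizer_singleton_iff.mp h2
  have hmem : ∀ w : G, IsConj x w → x * w ∈ N := by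
    intro w hw
    obtain ⟨g, rfl⟩ := isConj_iff.mp hw
    have h1 : φ (g * x * g⁻¹) = φ x := by
      rw [map_mul, map_mul, hcomm g, map_inv, mul_inv_cancel_right]
    have h2 := (QuotientGroup.eq).mp h1.symm
    rwa [hxi] at h2
  have hrodd : Odd (orderOf r) := by
    obtain ⟨k, hk⟩ := Subgroup.mem_zpowers_iff.mp (hmem y hxy)
    have h1 : r ^ (2 * k - 1) = 1 := by
      have h2 : (r * r) ^ k = r ^ (2 * k) := by rw [zpow_mul, zpow_two]
      rw [zpow_sub, ← h2, hk, zpow_one, mul_inv_cancel]
    have h3 : (orderOf r : ℤ) ∣ 2 * k - 1 := orderOf_dvd_iff_zpow_eq_one.mpr h1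
    obtain ⟨c, hc⟩ := h3
    have h4 : Odd ((orderOf r : ℤ) * c) := by
      rw [← hc]
      exact ⟨k - 1, by ring⟩
    exact (Int.odd_coe_nat _).mp (Int.Odd.of_mul_left h4)
  have h5 : x * z ∈ Subgroup.zpowers r := by
    have : N ≤ Subgroup.zpowers r := by
      rw [hN, Subgroup.zpowers_le]
      exact Subgroup.mul_mem _ (Subgroup.mem_zpowers r) (Subgroup.mem_zpowers r)
    exact this (hmem z hz)
  exact Odd.of_dvd_nat hrodd (orderOf_dvd_of_mem_zpowers h5)

universe u

theorem main : ∀ (k : ℕ) (G : Type u) [Group G] [Finite G], Nat.card G = k → ∀ x : G,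
    orderOf x = 2 → Subgroup.normalClosure {x} = ⊤ → ∀ y, IsConj x y → Rch x y := by
  intro k
  induction k using Nat.strong_induction_on with
  | _ k ih =>
    intro G _ _ hk x hx hcl y₀ hy₀
    by_contra hcon
    set Δ : Set G := {y | Rch x y} with hΔ
    have hxΔ : x ∈ Δ := Relation.ReflTransGen.refl
    have hinv : ∀ d ∈ Δ, d⁻¹ = d := by
      intro d hd
      have h1 : orderOf d = 2 := (isConj_orderOf (Rch.isConj hd)).symm.trans hx
      have h2 := pow_orderOf_eq_one d
      rw [h1, pow_two] at h2
      exact inv_eq_of_mul_eq_one_left h2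
    have hstab : ∀ d ∈ Δ, ∀ y ∈ Δ, d * y * d⁻¹ ∈ Δ := by
      intro d hd y hy
      have h1 : Rch (d * x * d⁻¹) (d * y * d⁻¹) := Rch.conj hy d
      have h2 : Rch (d * x * d⁻¹) (d * d * d⁻¹) := Rch.conj hd d
      rw [mul_inv_cancel_right] at h2
      exact (Relation.ReflTransGen.trans hd h2.symm).trans h1
    have hD : ∀ g ∈ Subgroup.closure Δ, (∀ y ∈ Δ, g * y * g⁻¹ ∈ Δ) ∧ (∀ y ∈ Δ, g⁻¹ * y * g ∈ Δ) := by
      intro g hg
      induction hg using Subgroup.closure_induction with
      | mem d hd =>
        refine ⟨hstab d hd, fun y hy => ?_⟩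
        have := hstab d hd y hy
        rwa [hinv d hd] at this ⊢
      | one => simp
      | mul a b _ _ ha hb =>
        refine ⟨fun y hy => ?_, fun y hy => ?_⟩
        · have := ha.1 _ (hb.1 y hy)
          have e : a * b * y * (a * b)⁻¹ = a * (b * y * b⁻¹) * a⁻¹ := by group
          rwa [e]
        · have := hb.2 _ (ha.2 y hy)
          have e : (a * b)⁻¹ * y * (a * b) = b⁻¹ * (a⁻¹ * y * a) * b := by group
          rwa [e]
      | inv a _ ha =>
        refine ⟨fun y hy => ?_, fun y hy => ?_⟩
        · have := ha.2 y hy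
          rwa [inv_inv]
        · have := ha.1 y hy
          rwa [inv_inv]
    have hDtop : Subgroup.closure Δ ≠ ⊤ := by
      intro e
      obtain ⟨g, rfl⟩ := isConj_iff.mp hy₀
      exact hcon ((hD g (by rw [e]; exact Subgroup.mem_top g)).1 x hxΔ)
    set A : Subgroup G := Subgroup.zpowers x with hA
    have hxA : x ∈ A := Subgroup.mem_zpowers x
    have hAtop : A ≠ ⊤ := by
      intro e
      obtain ⟨g, rfl⟩ := isConj_iff.mp hy₀
      have hg : g ∈ Subgroup.zpowers x := by rw [← hA, e]; exact Subgroup.mem_top g
      obtain ⟨i, rfl⟩ := Subgroup.mem_zpowers_iff.mp hg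
      apply hcon
      have : x ^ i * x * (x ^ i)⁻¹ = x := by
        rw [← zpow_add_one, add_comm, zpow_add, zpow_one, mul_inv_cancel_right]
      rw [this]
    have hAcl : Subgroup.normalClosure (A : Set G) = ⊤ := by
      rw [eq_top_iff, ← hcl]
      exact Subgroup.normalClosure_mono (by simpa using hxA)
    rcases Cfsg.Agent.S3947.result A hAcl hAtop with h | h
    · -- the proper subgroups generated by their conjugates of `x` lie in `⟨Δ⟩`
      apply hDtop
      rw [eq_top_iff, ← h]
      refine sSup_le ?_
      rintro H ⟨hAH, hHtop, hHcl⟩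
      have hxH : x ∈ H := hAH hxA
      have hcard : Nat.card H < k := by
        rw [← hk]
        by_contra hnot
        exact hHtop (Subgroup.eq_top_of_card_eq H (le_antisymm (Subgroup.card_le_card_group H) (not_lt.mp hnot)))
      set x' : ↥H := ⟨x, hxH⟩ with hx'
      have hx'o : orderOf x' = 2 := by rw [hx', Subgroup.orderOf_mk, hx]
      have hcl' : Subgroup.normalClosure {x'} = ⊤ := by
        rw [eq_top_iff, ← hHcl]
        apply Subgroup.normalClosure_le_normal
        rintro ⟨a, haH⟩ ha
        have ha' : a ∈ Subgroup.zpowers x := ha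
        obtain ⟨i, rfl⟩ := Subgroup.mem_zpowers_iff.mp ha'
        have e : (⟨x ^ i, haH⟩ : ↥H) = x' ^ i := Subtype.ext (by simp [hx'])
        show (⟨x ^ i, haH⟩ : ↥H) ∈ Subgroup.normalClosure {x'}
        rw [e]
        exact Subgroup.zpow_mem _ (Subgroup.subset_normalClosure (Set.mem_singleton x')) i
      have hreach : ∀ y' : ↥H, IsConj x' y' → (y' : G) ∈ Δ := by
        intro y' hy'
        have h1 := ih _ hcard ↥H rfl x' hx'o hcl' y' hy'
        have h2 : Rch ((x' : ↥H) : G) (y' : G) := by
          refine Relation.ReflTransGen.lift (fun w : ↥H => (w : G)) ?_ _ _ h1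
          rintro a b ⟨hab, hodd⟩
          refine ⟨?_, ?_⟩
          · obtain ⟨c, hc⟩ := isConj_iff.mp hab
            exact isConj_iff.mpr ⟨(c : G), by rw [← hc]; simp⟩
          · have : orderOf ((a : G) * (b : G)) = orderOf (a * b) := by
              rw [← Subgroup.orderOf_coe]; simp
            rw [this]
            exact hodd
        exact h2
      have h3 : (⊤ : Subgroup ↥H) ≤ (Subgroup.closure Δ).comap H.subtype := by
        rw [← hcl', Subgroup.normalClosure, Subgroup.closure_le]
        intro w hw
        obtain ⟨a, ha, haw⟩ := Group.mem_conjugatesOfSet_iff.mp hw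
        rw [Set.mem_singleton_iff] at ha
        subst ha
        exact Subgroup.subset_closure (hreach w haw)
      intro g hg
      exact h3 (Subgroup.mem_top (⟨g, hg⟩ : ↥H))
    · obtain ⟨M, ⟨hM, hAM⟩, huniq⟩ := h
      by_cases hall : ∀ y, IsConj x y → Subgroup.closure {x, y} ≠ ⊤
      · apply hM.1
        rw [eq_top_iff, ← hcl, Subgroup.normalClosure, Subgroup.closure_le]
        intro w hw
        obtain ⟨a, ha, haw⟩ := Group.mem_conjugatesOfSet_iff.mp hw
        rw [Set.mem_singleton_iff] at ha
        subst ha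
        obtain ⟨L, hL, hle⟩ := (eq_top_or_exists_le_coatom _).resolve_left (hall w haw)
        have hxL : a ∈ L := hle (Subgroup.subset_closure (by simp))
        have hAL : A ≤ L := by
          rw [hA, Subgroup.zpowers_le]
          exact hxL
        rw [← huniq L ⟨hL, hAL⟩]
        exact hle (Subgroup.subset_closure (by simp))
      · push Not at hall
        obtain ⟨y, hy, hgen⟩ := hall
        apply hcon
        exact Relation.ReflTransGen.single ⟨hy₀, dihedral hx hy hgen y₀ hy₀⟩

/-- Let G be a non-abelian finite simple group and X a conjugacy class of involutions of G. Form the graph on X in which two distinct involutions are joined when their product has odd order. Then this graph is connected. (By the Baer–Suzuki Theorem the graph has at least one edge; connectedness is the stronger statement.) -/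
theorem result {G : Type*} [Group G] [Finite G] [IsSimpleGroup G]
    (hG : ¬ IsMulCommutative G) (t : G) (ht : orderOf t = 2) :
    (SimpleGraph.fromRel fun x y : {x : G // IsConj t x} => Odd (orderOf (x.1 * y.1))).Connected := by
  have hcl : Subgroup.normalClosure {t} = ⊤ := by
    rcases (Subgroup.normalClosure_normal (s := {t})).eq_bot_or_eq_top with h | h
    · exfalso
      have h1 : t ∈ Subgroup.normalClosure {t} := Subgroup.subset_normalClosure (Set.mem_singleton t)
      rw [h, Subgroup.mem_bot] at h1
      rw [h1, orderOf_one] at ht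
      omega
    · exact h
  have key : ∀ y, Rch t y → ∃ hy : IsConj t y,
      (SimpleGraph.fromRel fun x y : {x : G // IsConj t x} => Odd (orderOf (x.1 * y.1))).Reachable
        ⟨t, IsConj.refl t⟩ ⟨y, hy⟩ := by
    intro y hy
    induction hy with
    | refl => exact ⟨IsConj.refl t, SimpleGraph.Reachable.refl _⟩
    | @tail b c _ hbc ih =>
      obtain ⟨hb, hr⟩ := ih
      refine ⟨hb.trans hbc.1, ?_⟩
      by_cases e : b = c
      · subst e
        exact hr
      · refine hr.trans (SimpleGraph.Adj.reachable ?_)
        rw [SimpleGraph.fromRel_adj]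
        exact ⟨fun h => e (congrArg Subtype.val h), Or.inl hbc.2⟩
  have : Nonempty {x : G // IsConj t x} := ⟨⟨t, IsConj.refl t⟩⟩
  refine SimpleGraph.Connected.mk ?_
  have hall : ∀ v : {x : G // IsConj t x},
      (SimpleGraph.fromRel fun x y : {x : G // IsConj t x} => Odd (orderOf (x.1 * y.1))).Reachable
        ⟨t, IsConj.refl t⟩ v := by
    rintro ⟨y, hy⟩
    obtain ⟨_, h⟩ := key y (main _ G rfl t ht hcl y hy)
    exact h
  intro v w
  exact (hall v).symm.trans (hall w)

end Cfsg.Agent.S3264
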