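import Cfsg.Statements.S3358
import Cfsg.Agent.Lib.Helper32.FCSol5
import Cfsg.Agent.Lib.Helper32.FCMeta

set_option autoImplicit false
open Cfsg

namespace Cfsg.Agent.S3358

theorem exists_hom_of_small {G : Type*} [Group G] {N : Subgroup G}
    (h : Cfsg.Agent.Lib.Helper32.FCSol.Small N) :
    ∃ f : G →* Equiv.Perm (Fin 4), f.ker = N := by
  have key : ∀ {X : Type} [Group X] (f : G →* X) (ι : X →* Equiv.Perm (Fin 4)),
      Function.Injective ι → (ι.comp f).ker = f.ker := by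
    intro X _ f ι hι
    ext x
    rw [MonoidHom.mem_ker, MonoidHom.mem_ker, MonoidHom.comp_apply, map_eq_one_iff ι hι]
  rcases h with rfl | ⟨f, -, rfl⟩ | ⟨f, -, rfl⟩ | ⟨f, -, rfl⟩
  · exact ⟨1, MonoidHom.ker_one⟩
  · have hc : Fintype.card (DihedralGroup 2) = 4 := by rw [DihedralGroup.card]
    set ι : DihedralGroup 2 →* Equiv.Perm (Fin 4) :=
      (Fintype.equivFinOfCardEq hc).permCongrHom.toMonoidHom.comp
        (MulAction.toPermHom (DihedralGroup 2) (DihedralGroup 2)) with hι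
    refine ⟨ι.comp f, key f ι ?_⟩
    exact ((Fintype.equivFinOfCardEq hc).permCongrHom.injective).comp MulAction.toPerm_injective
  · exact ⟨(alternatingGroup (Fin 4)).subtype.comp f, key f _ (Subgroup.subtype_injective _)⟩
  · exact ⟨f, rfl⟩

/-- Structure of solvable Frobenius complements. Let G be a finite solvable group that occurs as a Frobenius complement. Then G has a normal subgroup G₀ such that G/G₀ is isomorphic to a subgroup of Sym(4) (G₀ is the kernel of a homomorphism to Sym(4)), all Sylow subgroups of G₀ are cyclic, and G₀ has a presentation ⟨x, y | x^n = 1, y^m = 1, x⁻¹ y x = y^r⟩ with n, m ≥ 1, gcd(r − 1, m) = gcd(n, m) = 1 and r^(n/n′) ≡ 1 (mod m), where n′ is the product of the distinct primes dividing n. -/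
theorem result {G : Type*} [Group G] [Finite G] (hsol : Group.IsSolvable G)
    (hFC : ∃ (L : Type) (_ : Group L) (_ : Finite L) (H : Subgroup L), Cfsg.IsFrobeniusComplement H ∧ Nonempty (G ≃* H)) :
    ∃ G₀ : Subgroup G, G₀.Normal ∧
      (∃ f : G →* Equiv.Perm (Fin 4), f.ker = G₀) ∧
      (∀ (p : ℕ) [Fact p.Prime] (P : Sylow p G₀), IsCyclic P) ∧
      ∃ n m r : ℕ, 0 < n ∧ 0 < m ∧ Nat.Coprime (r - 1) m ∧ Nat.Coprime n m ∧ 1 ≤ r ∧
        r ^ (n / ∏ p ∈ n.primeFactors, p) % m = 1 % m ∧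
        Nonempty (G₀ ≃* PresentedGroup
          ({FreeGroup.of (0 : Fin 2) ^ n, FreeGroup.of (1 : Fin 2) ^ m,
            (FreeGroup.of (0 : Fin 2))⁻¹ * FreeGroup.of 1 * FreeGroup.of 0 * (FreeGroup.of (1 : Fin 2) ^ r)⁻¹} :
            Set (FreeGroup (Fin 2)))) := by
  have hfc : Cfsg.Agent.Lib.Helper32.FrobSL25.IsFC G := hFC
  obtain ⟨N, hN, hZ, hS⟩ := Cfsg.Agent.Lib.Helper32.FCSol.solvable_structure hfc.fc hfc.ui
  exact ⟨N, hN, exists_hom_of_small hS, hZ,
    Cfsg.Agent.Lib.Helper32.FCMeta.exists_presentation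
      (Cfsg.Agent.Lib.Helper32.FrobSL25.FC.subgroup hfc.fc N) hZ⟩

end Cfsg.Agent.S3358
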