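import Cfsg.Statements.S3361
import Cfsg.Agent.S0688
import Cfsg.Agent.S0684
import Cfsg.Agent.Lib.Helper53.Hup.Semi
import Cfsg.Agent.Lib.Helper53.Hup.Quad
import Cfsg.Agent.Lib.Helper53.Hup.Exc

set_option autoImplicit false
set_option linter.style.haveILetI false
open Cfsg

namespace Cfsg.Agent.S3361

/-- Let q be a prime and V a non-trivial finite vector space over the field with q elements, and let G be a finite solvable group acting faithfully and linearly on V and regularly on the non-zero vectors (transitively, with only the identity fixing a non-zero vector). Then either V can be identified with the additive group of a finite field F so that every element of G acts as x ↦ a·σ(x) (a ∈ F, σ a field automorphism), or V has 5^2, 7^2, 11^2 or 23^2 elements. Moreover, if q ≠ 2 then G has a normal subgroup of index 2, except that when V has 25 elements G may be isomorphic to SL(2,3) and when V has 121 elements G may be isomorphic to SL(2,3)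 × C₅. -/
theorem result
    (q : ℕ) [Fact q.Prime] {V : Type*} [AddCommGroup V] [Module (ZMod q) V] [Finite V] [Nontrivial V]
    {G : Type*} [Group G] [Finite G] (hsol : Group.IsSolvable G)
    (ρ : G →* (V ≃ₗ[ZMod q] V)) (hρ : Function.Injective ρ)
    (htrans : ∀ v w : V, v ≠ 0 → w ≠ 0 → ∃ g : G, ρ g v = w)
    (hreg : ∀ v : V, v ≠ 0 → ∀ g : G, ρ g v = v → g = 1) :
    ((∃ (F : Type) (_ : Field F) (_ : Fintype F) (e : V ≃+ F),
        ∀ g : G, ∃ (a : F) (σ : F ≃+* F), ∀ v : V, e (ρ g v) = a * σ (e v)) ∨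
      Nat.card V ∈ ({25, 49, 121, 529} : Set ℕ)) ∧
    (q ≠ 2 → (∃ N : Subgroup G, N.Normal ∧ N.index = 2) ∨
      (Nat.card V = 25 ∧ Nonempty (G ≃* Matrix.SpecialLinearGroup (Fin 2) (ZMod 3))) ∨
      (Nat.card V = 121 ∧ Nonempty (G ≃* Matrix.SpecialLinearGroup (Fin 2) (ZMod 3) × Multiplicative (ZMod 5)))) := by
  classical
  have hp : q.Prime := Fact.out
  let H : Subgroup (V ≃ₗ[ZMod q] V) := ρ.range
  let eG : G ≃* H := ρ.ofInjective hρ
  have heG : ∀ g : G, ((eG g : H) : V ≃ₗ[ZMod q] V) = ρ g := fun g => rfl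
  haveI : Finite H := Finite.of_equiv G eG.toEquiv
  have hsolv : Group.IsSolvable H := Group.isSolvable_of_surjective (f := eG.toMonoidHom) eG.surjective
  have hreg' : ∀ v w : V, v ≠ 0 → w ≠ 0 → ∃! h : H, (h : V ≃ₗ[ZMod q] V) v = w := by
    intro v w hv hw
    obtain ⟨g, hg⟩ := htrans v w hv hw
    refine ⟨eG g, hg, ?_⟩
    intro h hh
    obtain ⟨g', rfl⟩ := eG.surjective h
    have h1 : ρ (g⁻¹ * g') v = v := by
      rw [map_mul, LinearEquiv.mul_apply]
      have h2 : ρ g' v = w := hh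
      rw [h2, ← hg, ← LinearEquiv.mul_apply, ← map_mul, inv_mul_cancel, map_one]
      rfl
    have h3 := hreg v hv _ h1
    rw [inv_mul_eq_one] at h3
    rw [h3]
  have htransport : (∃ M : Subgroup H, M.Normal ∧ M.index = 2) →
      ∃ N : Subgroup G, N.Normal ∧ N.index = 2 := by
    rintro ⟨M, hMn, hM⟩
    refine ⟨M.comap eG.toMonoidHom, hMn.comap _, ?_⟩
    rw [Subgroup.index_comap_of_surjective (f := eG.toMonoidHom) M eG.surjective, hM]
  by_cases hI : ∀ A : Subgroup H, A.Normal → IsCyclic A → ∃ W : Submodule (ZMod q) V,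
      W ≠ ⊥ ∧ W ≠ ⊤ ∧ ∀ a ∈ A, ∀ v ∈ W, ((a : H) : V ≃ₗ[ZMod q] V) v ∈ W
  · have hcV := Cfsg.Agent.S0688.result H hreg' hI hsolv
    refine ⟨Or.inr ?_, fun _ => ?_⟩
    · simp only [Set.mem_insert_iff, Set.mem_singleton_iff]
      exact hcV
    obtain ⟨A, hAn, hAc, hAmax⟩ := Cfsg.Agent.Lib.Helper96.nf_exists_max (H := H)
    obtain ⟨-, hCna⟩ := Cfsg.Agent.S0685.result H hreg' hI A hAn hAc hAmax
    obtain ⟨hAcyc, -⟩ := Cfsg.Agent.S0684.result H hreg' hI A hAn hAc hAmax
    obtain ⟨N, hNn, hNle, hNna, hNmin⟩ :=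
      Cfsg.Agent.Lib.Helper96.nf_exists_min (Subgroup.centralizer (A : Set H)) inferInstance hCna
    have hFC := (Cfsg.Agent.Lib.Helper96.nf_fc H hreg' N hNna).fc
    have hq : ∀ N : Subgroup H, N.Normal → N ≤ Subgroup.centralizer (A : Set H) →
        ¬ IsMulCommutative N →
        (∀ M : Subgroup H, M.Normal → M ≤ N → ¬ IsMulCommutative M → M = N) →
        Nonempty (N ≃* QuaternionGroup 2) := by
      intro N hNn hNle hNna hNmin
      apply Cfsg.Agent.Lib.Helper96.nf_quaternion_of_not_perfect hFC A hAn hAc hAmax N hNn hNle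
        hNna hNmin
      intro hperf
      have h1 := Cfsg.Agent.Lib.Helper32.FrobSL25.commutator_subtype_eq_top hperf
      haveI : Nontrivial N := by
        by_contra hcon
        rw [not_nontrivial_iff_subsingleton] at hcon
        exact hNna ⟨⟨fun x y => Subsingleton.elim _ _⟩⟩
      exact (Group.IsSolvable.commutator_lt_top_of_nontrivial N).ne h1
    obtain ⟨hn2, hcent, -⟩ := Cfsg.Agent.Lib.Helper96.nf_dim_two H hreg' hI A hAn hAc hAmax
      (fun N h1 h2 h3 h4 => (hq N h1 h2 h3 h4).elim fun e =>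
        Cfsg.Agent.Lib.Helper96.HasQuat.of_equiv e Cfsg.Agent.Lib.Helper96.hasQuat_quaternion)
      N hNn hNle hNna hNmin (Or.inl (hq N hNn hNle hNna hNmin))
    obtain ⟨ε⟩ := hq N hNn hNle hNna hNmin
    obtain ⟨w, hw0⟩ := exists_ne (0 : V)
    have hcH : Nat.card H = Nat.card V - 1 := by
      rw [Cfsg.Agent.Lib.Helper96.nf_card_H H hreg' w hw0,
        Module.natCard_eq_pow_finrank (K := ZMod q) (V := V), Nat.card_zmod]
    have hcH' : Nat.card H = 24 ∨ Nat.card H = 48 ∨ Nat.card H = 120 ∨ Nat.card H = 528 := by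
      rcases hcV with h | h | h | h <;> rw [hcH, h] <;> simp
    rcases Cfsg.Agent.Lib.Helper53.Hup.exc hFC N A ε hcent hAcyc hcH' with h | ⟨h, ⟨e⟩⟩ | ⟨h, ⟨e⟩⟩
    · exact Or.inl (htransport h)
    · refine Or.inr (Or.inl ⟨?_, ⟨eG.trans e⟩⟩)
      rcases hcV with h' | h' | h' | h' <;> rw [hcH, h'] at h <;> first | exact h' | omega
    · refine Or.inr (Or.inr ⟨?_, ⟨eG.trans e⟩⟩)
      rcases hcV with h' | h' | h' | h' <;> rw [hcH, h'] at h <;> first | exact h' | omega
  · push Not at hI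
    obtain ⟨A, hAn, hAcyc, hirr⟩ := hI
    let S : Set (V ≃ₗ[ZMod q] V) := {s | ∃ a ∈ A, ((a : H) : V ≃ₗ[ZMod q] V) = s}
    have hcomm : ∀ s ∈ S, ∀ t ∈ S, s * t = t * s := by
      rintro _ ⟨a, ha, rfl⟩ _ ⟨b, hb, rfl⟩
      letI := hAcyc.commGroup
      have h1 : (⟨a, ha⟩ : A) * ⟨b, hb⟩ = ⟨b, hb⟩ * ⟨a, ha⟩ := mul_comm _ _
      have h2 : a * b = b * a := congrArg Subtype.val h1
      exact congrArg Subtype.val h2
    have hirr' : ∀ W : Submodule (ZMod q) V, (∀ s ∈ S, ∀ v ∈ W, s v ∈ W) → W = ⊥ ∨ W = ⊤ := by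
      intro W hW
      by_contra hcon
      push Not at hcon
      obtain ⟨a, ha, v, hv, hav⟩ := hirr W hcon.1 hcon.2
      exact hav (hW _ ⟨a, ha, rfl⟩ v hv)
    obtain ⟨F, iF, iFt, e, he⟩ := Cfsg.Agent.Lib.Helper53.Semi.main S hcomm hirr'
    have hsemi : ∀ g : G, ∃ (a : F) (σ : F ≃+* F), ∀ v : V, e (ρ g v) = a * σ (e v) := by
      intro g
      apply he (ρ g)
      · rintro _ ⟨a, ha, rfl⟩
        exact ⟨eG g * a * (eG g)⁻¹, hAn.conj_mem a ha (eG g), rfl⟩
      · rintro _ ⟨a, ha, rfl⟩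
        refine ⟨(eG g)⁻¹ * a * (eG g), ?_, rfl⟩
        have := hAn.conj_mem a ha (eG g)⁻¹
        rwa [inv_inv] at this
    refine ⟨Or.inl ⟨F, iF, iFt, e, hsemi⟩, fun hq2 => Or.inl ?_⟩
    exact Cfsg.Agent.Lib.Helper53.Hup.index_two_of_semilinear ρ htrans hq2 F e hsemi

end Cfsg.Agent.S3361
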