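import Mathlib
import Cfsg.Statements.S3374
import Cfsg.Agent.Lib.Helper56.SL2Table

set_option autoImplicit false
open Cfsg

namespace Cfsg.Agent.S3374

open Cfsg.Agent.Lib.Helper56

/-- table of an embedding `SL(2,5) → SL(2,11)` (entries indexed by the four matrix entries) -/
def tbl : List (ZMod 11 × ZMod 11 × ZMod 11 × ZMod 11) := [
  (0, 0, 0, 0), (0, 0, 0, 0), (0, 0, 0, 0), (0, 0, 0, 0), (0, 0, 0, 0),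
  (0, 0, 0, 0), (0, 0, 0, 0), (0, 0, 0, 0), (0, 0, 0, 0), (0, 0, 0, 0),
  (0, 0, 0, 0), (0, 0, 0, 0), (0, 0, 0, 0), (0, 0, 0, 0), (0, 0, 0, 0),
  (0, 0, 0, 0), (0, 0, 0, 0), (0, 0, 0, 0), (0, 0, 0, 0), (0, 0, 0, 0),
  (0, 0, 0, 0), (0, 0, 0, 0), (0, 0, 0, 0), (0, 0, 0, 0), (0, 0, 0, 0),
  (0, 0, 0, 0), (0, 0, 0, 0), (0, 0, 0, 0), (0, 0, 0, 0), (0, 0, 0, 0),
  (0, 0, 0, 0), (0, 0, 0, 0), (0, 0, 0, 0), (0, 0, 0, 0), (0, 0, 0, 0),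
  (0, 0, 0, 0), (0, 0, 0, 0), (0, 0, 0, 0), (0, 0, 0, 0), (0, 0, 0, 0),
  (0, 0, 0, 0), (0, 0, 0, 0), (0, 0, 0, 0), (0, 0, 0, 0), (0, 0, 0, 0),
  (6, 8, 5, 5), (0, 10, 1, 1), (5, 0, 9, 9), (4, 1, 4, 4), (7, 3, 3, 3),
  (0, 0, 0, 0), (0, 0, 0, 0), (0, 0, 0, 0), (0, 0, 0, 0), (0, 0, 0, 0),
  (0, 0, 0, 0), (0, 0, 0, 0), (0, 0, 0, 0), (0, 0, 0, 0), (0, 0, 0, 0),
  (6, 10, 4, 5), (8, 9, 1, 4), (6, 9, 3, 1), (1, 10, 9, 3), (1, 6, 5, 9),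
  (0, 0, 0, 0), (0, 0, 0, 0), (0, 0, 0, 0), (0, 0, 0, 0), (0, 0, 0, 0),
  (0, 0, 0, 0), (0, 0, 0, 0), (0, 0, 0, 0), (0, 0, 0, 0), (0, 0, 0, 0),
  (0, 0, 0, 0), (0, 0, 0, 0), (0, 0, 0, 0), (0, 0, 0, 0), (0, 0, 0, 0),
  (0, 0, 0, 0), (0, 0, 0, 0), (0, 0, 0, 0), (0, 0, 0, 0), (0, 0, 0, 0),
  (0, 0, 0, 0), (0, 0, 0, 0), (0, 0, 0, 0), (0, 0, 0, 0), (0, 0, 0, 0),
  (5, 1, 7, 6), (10, 5, 6, 2), (10, 1, 2, 8), (5, 2, 8, 10), (3, 2, 10, 7),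
  (0, 0, 0, 0), (0, 0, 0, 0), (0, 0, 0, 0), (0, 0, 0, 0), (0, 0, 0, 0),
  (0, 0, 0, 0), (0, 0, 0, 0), (0, 0, 0, 0), (0, 0, 0, 0), (0, 0, 0, 0),
  (5, 3, 6, 6), (4, 8, 8, 8), (7, 10, 7, 7), (6, 0, 2, 2), (0, 1, 10, 10),
  (0, 0, 0, 0), (0, 0, 0, 0), (0, 0, 0, 0), (0, 0, 0, 0), (0, 0, 0, 0),
  (0, 0, 0, 0), (0, 0, 0, 0), (0, 0, 0, 0), (0, 0, 0, 0), (0, 0, 0, 0),
  (0, 0, 0, 0), (0, 0, 0, 0), (0, 0, 0, 0), (0, 0, 0, 0), (0, 0, 0, 0),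
  (0, 0, 0, 0), (1, 0, 0, 1), (0, 0, 0, 0), (0, 0, 0, 0), (0, 0, 0, 0),
  (0, 0, 0, 0), (5, 5, 0, 9), (0, 0, 0, 0), (0, 0, 0, 0), (0, 0, 0, 0),
  (0, 0, 0, 0), (3, 4, 0, 4), (0, 0, 0, 0), (0, 0, 0, 0), (0, 0, 0, 0),
  (0, 0, 0, 0), (4, 7, 0, 3), (0, 0, 0, 0), (0, 0, 0, 0), (0, 0, 0, 0),
  (0, 0, 0, 0), (9, 6, 0, 5), (0, 0, 0, 0), (0, 0, 0, 0), (0, 0, 0, 0),
  (0, 0, 0, 0), (0, 2, 5, 3), (0, 0, 0, 0), (0, 0, 0, 0), (0, 0, 0, 0),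
  (0, 0, 0, 0), (0, 0, 0, 0), (3, 3, 1, 5), (0, 0, 0, 0), (0, 0, 0, 0),
  (0, 0, 0, 0), (0, 0, 0, 0), (0, 0, 0, 0), (9, 7, 9, 1), (0, 0, 0, 0),
  (0, 0, 0, 0), (0, 0, 0, 0), (0, 0, 0, 0), (0, 0, 0, 0), (2, 7, 4, 9),
  (8, 3, 3, 4), (0, 0, 0, 0), (0, 0, 0, 0), (0, 0, 0, 0), (0, 0, 0, 0),
  (0, 0, 0, 0), (10, 6, 4, 8), (0, 0, 0, 0), (0, 0, 0, 0), (0, 0, 0, 0),
  (0, 0, 0, 0), (0, 0, 0, 0), (0, 0, 0, 0), (4, 4, 3, 6), (0, 0, 0, 0),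
  (2, 6, 5, 10), (0, 0, 0, 0), (0, 0, 0, 0), (0, 0, 0, 0), (0, 0, 0, 0),
  (0, 0, 0, 0), (0, 0, 0, 0), (2, 3, 1, 2), (0, 0, 0, 0), (0, 0, 0, 0),
  (0, 0, 0, 0), (0, 0, 0, 0), (0, 0, 0, 0), (0, 0, 0, 0), (4, 3, 9, 7),
  (0, 0, 0, 0), (8, 5, 7, 10), (0, 0, 0, 0), (0, 0, 0, 0), (0, 0, 0, 0),
  (0, 0, 0, 0), (0, 0, 0, 0), (0, 0, 0, 0), (0, 0, 0, 0), (9, 9, 8, 2),
  (0, 0, 0, 0), (0, 0, 0, 0), (8, 0, 6, 7), (0, 0, 0, 0), (0, 0, 0, 0),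
  (4, 2, 10, 8), (0, 0, 0, 0), (0, 0, 0, 0), (0, 0, 0, 0), (0, 0, 0, 0),
  (0, 0, 0, 0), (0, 0, 0, 0), (0, 0, 0, 0), (4, 6, 2, 6), (0, 0, 0, 0),
  (0, 0, 0, 0), (3, 9, 6, 0), (0, 0, 0, 0), (0, 0, 0, 0), (0, 0, 0, 0),
  (1, 1, 10, 0), (0, 0, 0, 0), (0, 0, 0, 0), (0, 0, 0, 0), (0, 0, 0, 0),
  (0, 0, 0, 0), (0, 0, 0, 0), (0, 0, 0, 0), (0, 0, 0, 0), (0, 5, 2, 0),
  (0, 0, 0, 0), (0, 0, 0, 0), (0, 0, 0, 0), (10, 3, 7, 0), (0, 0, 0, 0),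
  (0, 0, 0, 0), (0, 0, 0, 0), (8, 4, 8, 0), (0, 0, 0, 0), (0, 0, 0, 0),
  (0, 0, 0, 0), (0, 0, 0, 0), (0, 0, 0, 0), (2, 1, 6, 9), (0, 0, 0, 0),
  (0, 0, 0, 0), (0, 0, 0, 0), (0, 0, 0, 0), (6, 1, 7, 5), (0, 0, 0, 0),
  (0, 0, 0, 0), (0, 0, 0, 0), (0, 0, 0, 0), (7, 6, 10, 4), (0, 0, 0, 0),
  (0, 0, 0, 0), (0, 0, 0, 0), (0, 0, 0, 0), (10, 8, 8, 1), (0, 0, 0, 0),
  (0, 0, 0, 0), (0, 0, 0, 0), (0, 0, 0, 0), (8, 6, 2, 3), (0, 0, 0, 0),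
  (0, 0, 0, 0), (0, 0, 0, 0), (0, 0, 0, 0), (1, 9, 1, 10), (0, 0, 0, 0),
  (0, 0, 0, 0), (0, 7, 3, 8), (0, 0, 0, 0), (0, 0, 0, 0), (0, 0, 0, 0),
  (0, 0, 0, 0), (0, 0, 0, 0), (0, 0, 0, 0), (0, 0, 0, 0), (10, 7, 9, 2),
  (0, 0, 0, 0), (0, 0, 0, 0), (4, 9, 5, 6), (0, 0, 0, 0), (0, 0, 0, 0),
  (7, 1, 4, 7), (0, 0, 0, 0), (0, 0, 0, 0), (0, 0, 0, 0), (0, 0, 0, 0),
  (0, 0, 0, 0), (0, 0, 0, 0), (0, 0, 0, 0), (5, 7, 1, 6), (0, 0, 0, 0),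
  (0, 0, 0, 0), (0, 0, 0, 0), (0, 0, 0, 0), (0, 0, 0, 0), (5, 4, 3, 7),
  (8, 10, 9, 10), (0, 0, 0, 0), (0, 0, 0, 0), (0, 0, 0, 0), (0, 0, 0, 0),
  (0, 0, 0, 0), (7, 0, 5, 8), (0, 0, 0, 0), (0, 0, 0, 0), (0, 0, 0, 0),
  (0, 0, 0, 0), (0, 0, 0, 0), (8, 1, 4, 2), (0, 0, 0, 0), (0, 0, 0, 0),
  (0, 0, 0, 0), (0, 0, 0, 0), (0, 0, 0, 0), (1, 7, 6, 10), (0, 0, 0, 0),
  (0, 0, 0, 0), (0, 0, 0, 0), (2, 10, 7, 8), (0, 0, 0, 0), (0, 0, 0, 0),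
  (0, 0, 0, 0), (2, 8, 10, 2), (0, 0, 0, 0), (0, 0, 0, 0), (0, 0, 0, 0),
  (1, 2, 8, 6), (0, 0, 0, 0), (0, 0, 0, 0), (0, 0, 0, 0), (0, 0, 0, 0),
  (0, 0, 0, 0), (0, 0, 0, 0), (0, 0, 0, 0), (0, 0, 0, 0), (5, 6, 2, 7),
  (0, 0, 0, 0), (0, 0, 0, 0), (0, 0, 0, 0), (2, 9, 8, 9), (0, 0, 0, 0),
  (9, 0, 2, 5), (0, 0, 0, 0), (0, 0, 0, 0), (0, 0, 0, 0), (0, 0, 0, 0),
  (0, 0, 0, 0), (0, 0, 0, 0), (6, 2, 6, 4), (0, 0, 0, 0), (0, 0, 0, 0),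
  (0, 0, 0, 0), (0, 0, 0, 0), (0, 0, 0, 0), (0, 0, 0, 0), (0, 3, 7, 1),
  (0, 0, 0, 0), (5, 8, 10, 3), (0, 0, 0, 0), (0, 0, 0, 0), (0, 0, 0, 0),
  (0, 0, 0, 0), (0, 0, 0, 0), (9, 10, 5, 2), (0, 0, 0, 0), (0, 0, 0, 0),
  (0, 0, 0, 0), (0, 0, 0, 0), (3, 5, 9, 8), (0, 0, 0, 0), (0, 0, 0, 0),
  (0, 0, 0, 0), (0, 0, 0, 0), (1, 3, 3, 10), (0, 0, 0, 0), (0, 0, 0, 0),
  (0, 0, 0, 0), (0, 0, 0, 0), (4, 5, 1, 7), (0, 0, 0, 0), (0, 0, 0, 0),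
  (0, 0, 0, 0), (0, 0, 0, 0), (5, 10, 4, 6), (0, 0, 0, 0), (0, 0, 0, 0),
  (0, 0, 0, 0), (0, 0, 0, 0), (9, 2, 3, 2), (0, 0, 0, 0), (0, 0, 0, 0),
  (0, 0, 0, 0), (0, 0, 0, 0), (0, 0, 0, 0), (0, 0, 0, 0), (6, 3, 1, 8),
  (0, 0, 0, 0), (0, 8, 4, 10), (0, 0, 0, 0), (0, 0, 0, 0), (0, 0, 0, 0),
  (0, 0, 0, 0), (0, 0, 0, 0), (0, 0, 0, 0), (5, 9, 5, 7), (0, 0, 0, 0),
  (2, 0, 9, 6), (0, 0, 0, 0), (0, 0, 0, 0), (0, 0, 0, 0), (0, 0, 0, 0),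
  (0, 0, 0, 0), (0, 0, 0, 0), (10, 4, 5, 1), (0, 0, 0, 0), (0, 0, 0, 0),
  (0, 0, 0, 0), (6, 5, 9, 4), (0, 0, 0, 0), (0, 0, 0, 0), (0, 0, 0, 0),
  (10, 9, 3, 5), (0, 0, 0, 0), (0, 0, 0, 0), (0, 0, 0, 0), (0, 0, 0, 0),
  (0, 0, 0, 0), (0, 0, 0, 0), (0, 0, 0, 0), (0, 0, 0, 0), (9, 3, 1, 9),
  (0, 0, 0, 0), (0, 0, 0, 0), (0, 0, 0, 0), (9, 1, 4, 3), (0, 0, 0, 0),
  (0, 0, 0, 0), (0, 0, 0, 0), (6, 4, 10, 5), (0, 0, 0, 0), (0, 0, 0, 0),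
  (0, 0, 0, 0), (0, 0, 0, 0), (0, 0, 0, 0), (3, 10, 7, 9), (0, 0, 0, 0),
  (0, 0, 0, 0), (0, 0, 0, 0), (0, 0, 0, 0), (0, 0, 0, 0), (4, 0, 6, 3),
  (3, 1, 2, 1), (0, 0, 0, 0), (0, 0, 0, 0), (0, 0, 0, 0), (0, 0, 0, 0),
  (0, 0, 0, 0), (6, 7, 8, 4), (0, 0, 0, 0), (0, 0, 0, 0), (0, 0, 0, 0),
  (0, 0, 0, 0), (0, 0, 0, 0), (10, 2, 10, 1), (0, 0, 0, 0), (0, 0, 0, 0),
  (4, 10, 7, 4), (0, 0, 0, 0), (0, 0, 0, 0), (0, 0, 0, 0), (0, 0, 0, 0),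
  (0, 0, 0, 0), (0, 0, 0, 0), (0, 0, 0, 0), (7, 2, 6, 5), (0, 0, 0, 0),
  (0, 0, 0, 0), (1, 4, 2, 9), (0, 0, 0, 0), (0, 0, 0, 0), (0, 0, 0, 0),
  (0, 0, 0, 0), (0, 0, 0, 0), (0, 0, 0, 0), (0, 0, 0, 0), (0, 4, 8, 3),
  (0, 0, 0, 0), (0, 0, 0, 0), (0, 0, 0, 0), (0, 0, 0, 0), (10, 0, 0, 10),
  (0, 0, 0, 0), (0, 0, 0, 0), (0, 0, 0, 0), (0, 0, 0, 0), (2, 5, 0, 6),
  (0, 0, 0, 0), (0, 0, 0, 0), (0, 0, 0, 0), (0, 0, 0, 0), (7, 4, 0, 8),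
  (0, 0, 0, 0), (0, 0, 0, 0), (0, 0, 0, 0), (0, 0, 0, 0), (8, 7, 0, 7),
  (0, 0, 0, 0), (0, 0, 0, 0), (0, 0, 0, 0), (0, 0, 0, 0), (6, 6, 0, 2),
  (0, 0, 0, 0), (0, 0, 0, 0), (0, 0, 0, 0), (0, 0, 0, 0), (8, 2, 5, 0),
  (0, 0, 0, 0), (0, 0, 0, 0), (0, 0, 0, 0), (3, 7, 3, 0), (0, 0, 0, 0),
  (0, 0, 0, 0), (0, 0, 0, 0), (1, 8, 4, 0), (0, 0, 0, 0), (0, 0, 0, 0),
  (0, 0, 0, 0), (0, 6, 9, 0), (0, 0, 0, 0), (0, 0, 0, 0), (0, 0, 0, 0),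
  (10, 10, 1, 0), (0, 0, 0, 0), (0, 0, 0, 0), (0, 0, 0, 0), (0, 0, 0, 0),
  (0, 0, 0, 0), (0, 0, 0, 0), (0, 0, 0, 0), (0, 0, 0, 0), (3, 6, 4, 1),
  (0, 0, 0, 0), (0, 0, 0, 0), (7, 5, 9, 5), (0, 0, 0, 0), (0, 0, 0, 0),
  (7, 9, 1, 3), (0, 0, 0, 0), (0, 0, 0, 0), (0, 0, 0, 0), (0, 0, 0, 0),
  (0, 0, 0, 0), (0, 0, 0, 0), (0, 0, 0, 0), (3, 0, 5, 4), (0, 0, 0, 0),
  (0, 0, 0, 0), (2, 2, 3, 9), (0, 0, 0, 0), (0, 0, 0, 0), (0, 0, 0, 0),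
  (0, 0, 0, 0), (0, 0, 0, 0), (0, 0, 0, 0), (0, 0, 0, 0), (1, 5, 7, 3),
  (0, 0, 0, 0), (7, 8, 2, 4), (0, 0, 0, 0), (0, 0, 0, 0), (0, 0, 0, 0),
  (0, 0, 0, 0), (0, 0, 0, 0), (0, 0, 0, 0), (9, 8, 10, 9), (0, 0, 0, 0),
  (9, 5, 6, 1), (0, 0, 0, 0), (0, 0, 0, 0), (0, 0, 0, 0), (0, 0, 0, 0),
  (0, 0, 0, 0), (0, 0, 0, 0), (7, 7, 8, 5), (0, 0, 0, 0), (0, 0, 0, 0),
  (0, 0, 0, 0), (0, 0, 0, 0), (0, 0, 0, 0), (0, 0, 0, 0), (0, 9, 6, 8),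
  (3, 8, 8, 7), (0, 0, 0, 0), (0, 0, 0, 0), (0, 0, 0, 0), (0, 0, 0, 0),
  (0, 0, 0, 0), (9, 4, 7, 2), (0, 0, 0, 0), (0, 0, 0, 0), (0, 0, 0, 0),
  (0, 0, 0, 0), (0, 0, 0, 0), (2, 4, 2, 10), (0, 0, 0, 0), (0, 0, 0, 0),
  (0, 0, 0, 0), (0, 0, 0, 0), (0, 0, 0, 0), (8, 8, 10, 6), (0, 0, 0, 0)]

def T (a b c d : ZMod 5) : ZMod 11 × ZMod 11 × ZMod 11 × ZMod 11 :=
  tbl.getD (a.val * 125 + b.val * 25 + c.val * 5 + d.val) (0, 0, 0, 0)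

set_option maxRecDepth 100000 in
theorem T_mul : ∀ a b c d : ZMod 5, a * d - b * c = 1 → ∀ a' b' c' d' : ZMod 5, a' * d' - b' * c' = 1 →
      T (a * a' + b * c') (a * b' + b * d') (c * a' + d * c') (c * b' + d * d')
        = mul4 (T a b c d) (T a' b' c' d') := by
  decide +kernel

set_option maxRecDepth 100000 in
theorem T_fpf : ∀ a b c d : ZMod 5, a * d - b * c = 1 → (a, b, c, d) ≠ (1, 0, 0, 1) →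
      ((T a b c d).1 - 1) * ((T a b c d).2.2.2 - 1) - (T a b c d).2.1 * (T a b c d).2.2.1 ≠ 0 := by
  decide +kernel

theorem T_one : T 1 0 0 1 = (1, 0, 0, 1) := by decide +kernel

/-- SL(2,5) occurs as a Frobenius complement: there is a finite group L with a subgroup H isomorphic to SL(2,5) which is a non-trivial proper subgroup meeting each conjugate gHg⁻¹ with g outside H trivially. -/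
theorem result :
    ∃ (L : Type) (_ : Group L) (_ : Finite L) (H : Subgroup L),
      Cfsg.IsFrobeniusComplement H ∧ Nonempty (H ≃* Matrix.SpecialLinearGroup (Fin 2) (ZMod 5)) := by
  have : Fact (Nat.Prime 5) := ⟨by norm_num⟩
  have : Fact (Nat.Prime 11) := ⟨by norm_num⟩
  exact frobenius_of_table 5 11 T T_one T_mul T_fpf

end Cfsg.Agent.S3374
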