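import Cfsg.Statements.S3494
import Cfsg.Agent.Lib.Helper58.Manning

set_option autoImplicit false
open Cfsg

namespace Cfsg.Agent.S3494

open MulAction Cfsg.Agent.Lib.Helper58

/-- Manning's Theorem on extremely primitive groups. Let a finite group G act faithfully and primitively on a finite set Ω with non-trivial point stabilizers, and suppose every point stabilizer G_α acts primitively on each of its orbits. Then G_α acts faithfully on each of its orbits other than {α}: an element of G_α fixing every point of one such orbit is the identity. -/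
theorem result {G : Type*} [Group G] [Finite G] {Ω : Type*} [Fintype Ω] [MulAction G Ω] [FaithfulSMul G Ω] (hprim : MulAction.IsPreprimitive G Ω) (hH : ∀ α : Ω, MulAction.stabilizer G α ≠ ⊥) (hep : ∀ (α : Ω) (ω : Ω), MulAction.IsPreprimitive (MulAction.stabilizer G α) (MulAction.orbit (MulAction.stabilizer G α) ω))
    (α ω : Ω) (hω : ω ≠ α) (h : MulAction.stabilizer G α) (hfix : ∀ x ∈ MulAction.orbit (MulAction.stabilizer G α) ω, h • x = x) : h = 1 := by
  let K : Subgroup G :=
    { carrier := {x | x • α = α ∧ ∀ y ∈ orbit (stabilizer G α) ω, x • y = y}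
      one_mem' := ⟨one_smul _ _, fun y _ => one_smul _ _⟩
      mul_mem' := by
        rintro x y ⟨hx1, hx2⟩ ⟨hy1, hy2⟩
        exact ⟨by rw [mul_smul, hy1, hx1], fun z hz => by rw [mul_smul, hy2 z hz, hx2 z hz]⟩
      inv_mem' := by
        rintro x ⟨hx1, hx2⟩
        exact ⟨by rw [inv_smul_eq_iff, hx1], fun z hz => by rw [inv_smul_eq_iff, hx2 z hz]⟩ }
  have hK : K ≤ stabilizer G α := fun x hx => hx.1
  have hconj : ∀ s : G, s • α = α → ∀ x ∈ K, s * x * s⁻¹ ∈ K := by
    rintro s hs x ⟨hx1, hx2⟩
    have hs' : s⁻¹ • α = α := by rw [inv_smul_eq_iff, hs]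
    refine ⟨by rw [mul_smul, mul_smul, hs', hx1, hs], ?_⟩
    intro y hy
    have hy' : s⁻¹ • y ∈ orbit (stabilizer G α) ω := by
      obtain ⟨t, rfl⟩ := hy
      exact ⟨⟨s⁻¹, hs'⟩ * t, mul_smul (⟨s⁻¹, hs'⟩ : stabilizer G α) t ω⟩
    rw [mul_smul, mul_smul, hx2 _ hy', smul_inv_smul]
  have hn : stabilizer G α ≤ Subgroup.normalizer (K : Set G) := by
    intro s hs
    rw [Subgroup.mem_normalizer_iff]
    intro x
    constructor
    · exact hconj s hs x
    · intro hx
      have hs' : s⁻¹ • α = α := by rw [inv_smul_eq_iff]; exact (show s • α = α from hs).symm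
      have := hconj s⁻¹ hs' _ hx
      simpa [mul_assoc] using this
  have hbot : K = ⊥ := manning_eq_bot hK hn hep hω (fun k hk => hk.2 ω (mem_orbit_self ω))
  have hh : (h : G) ∈ K := ⟨h.2, fun y hy => hfix y hy⟩
  rw [hbot, Subgroup.mem_bot] at hh
  exact Subtype.ext hh

end Cfsg.Agent.S3494
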