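import Cfsg.Statements.S3497
import Cfsg.Agent.S3494
import Cfsg.Agent.Lib.Helper91.Fitting
set_option autoImplicit false
open Cfsg

namespace Cfsg.Agent.S3497
open MulAction

section prim
variable {H : Type*} [Group H] {Δ : Type*} [MulAction H Δ] [FaithfulSMul H Δ]

/-- A non-trivial abelian normal subgroup of a faithful primitive group is transitive, and an element
centralising it and fixing a point is trivial. -/
theorem abelian_normal (hprim : IsPreprimitive H Δ) (A : Subgroup H) [A.Normal] (hA : A ≠ ⊥) :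
    (∀ δ δ' : Δ, ∃ a ∈ A, a • δ = δ') ∧
      (∀ δ : Δ, ∀ c : H, (∀ a ∈ A, c * a = a * c) → c • δ = δ → c = 1) := by
  have hfix : fixedPoints A Δ ≠ Set.univ := by
    intro hall
    apply hA
    rw [Subgroup.eq_bot_iff_forall]
    intro a ha
    apply FaithfulSMul.eq_of_smul_eq_smul (α := Δ)
    intro δ
    have : δ ∈ fixedPoints A Δ := by rw [hall]; trivial
    rw [one_smul]; exact this ⟨a, ha⟩
  have htr : IsPretransitive A Δ := IsQuasiPreprimitive.isPretransitive_of_normal hfix
  have h1 : ∀ δ δ' : Δ, ∃ a ∈ A, a • δ = δ' := by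
    intro δ δ'
    obtain ⟨a, ha⟩ := htr.exists_smul_eq δ δ'
    exact ⟨a, a.2, ha⟩
  refine ⟨h1, ?_⟩
  intro δ c hc hcδ
  apply FaithfulSMul.eq_of_smul_eq_smul (α := Δ)
  intro δ'
  obtain ⟨a, ha, rfl⟩ := h1 δ δ'
  rw [one_smul, smul_smul, hc a ha, mul_smul, hcδ]

theorem self_centralizing (hprim : IsPreprimitive H Δ) [Nonempty Δ] (A : Subgroup H) [A.Normal]
    (hA : A ≠ ⊥) (hc : ∀ a ∈ A, ∀ b ∈ A, a * b = b * a) (c : H) (hcA : ∀ a ∈ A, c * a = a * c) :
    c ∈ A := by
  obtain ⟨h1, h2⟩ := abelian_normal hprim A hA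
  obtain ⟨δ⟩ := ‹Nonempty Δ›
  obtain ⟨a, ha, haδ⟩ := h1 δ (c • δ)
  have : a⁻¹ * c = 1 := by
    apply h2 δ
    · intro b hb
      rw [mul_assoc, hcA b hb, ← mul_assoc, ← mul_assoc]
      congr 1
      rw [inv_mul_eq_iff_eq_mul, ← mul_assoc, hc a ha b hb, mul_assoc, mul_inv_cancel, mul_one]
    · rw [mul_smul, ← haδ, inv_smul_smul]
  rw [inv_mul_eq_one] at this
  rw [← this]; exact ha

theorem nilpotent_normal_comm (hprim : IsPreprimitive H Δ) [Nonempty Δ] (X : Subgroup H) [X.Normal]
    (hX : Group.IsNilpotent X) : ∀ a ∈ X, ∀ b ∈ X, a * b = b * a := by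
  by_cases hXb : X = ⊥
  · intro a ha b hb
    rw [hXb, Subgroup.mem_bot] at ha hb
    rw [ha, hb]
  have hnt : Nontrivial X := (Subgroup.nontrivial_iff_ne_bot X).2 hXb
  have hZ : Subgroup.center X ≠ ⊥ := Group.IsNilpotent.center_ne_bot X
  set Z : Subgroup H := (Subgroup.center X).map X.subtype with hZdef
  have hZn : Z.Normal := ConjAct.normal_of_characteristic_of_normal
  have hZb : Z ≠ ⊥ := by
    intro h
    rw [hZdef, Subgroup.map_eq_bot_iff_of_injective _ X.subtype_injective] at h
    exact hZ h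
  have hmem : ∀ z ∈ Z, z ∈ X ∧ ∀ x ∈ X, x * z = z * x := by
    rintro z ⟨z', hz', rfl⟩
    refine ⟨z'.2, fun x hx => ?_⟩
    have := Subgroup.mem_center_iff.1 hz' ⟨x, hx⟩
    exact congrArg Subtype.val this
  have hZc : ∀ a ∈ Z, ∀ b ∈ Z, a * b = b * a := fun a ha b hb => (hmem b hb).2 a (hmem a ha).1
  intro a ha b hb
  have hbZ : b ∈ Z := self_centralizing hprim Z hZb hZc b (fun z hz => (hmem z hz).2 b hb)
  exact (hmem b hbZ).2 a ha

end prim

open scoped IsMulCommutative in
theorem exists_rep {H : Type*} [Group H] (A : Subgroup H) [A.Normal] (p e : ℕ) [Fact p.Prime]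
    (hc : ∀ a ∈ A, ∀ b ∈ A, a * b = b * a) (hp : ∀ a ∈ A, a ^ p = 1) (hcard : Nat.card A = p ^ e) :
    ∃ φ : H →* GL (Fin e) (ZMod p), ∀ h, φ h = 1 ↔ ∀ a ∈ A, h * a = a * h := by
  have hpp : p.Prime := Fact.out
  have : IsMulCommutative A := ⟨⟨fun a b => Subtype.ext (hc a a.2 b b.2)⟩⟩
  have hpow : ∀ x : Additive A, p • x = 0 := fun x => by
    have : (Additive.toMul x) ^ p = 1 := Subtype.ext (hp _ (Additive.toMul x).2)
    exact congrArg Additive.ofMul this
  obtain ⟨inst⟩ : Nonempty (Module (ZMod p) (Additive A)) := ⟨AddCommGroup.zmodModule hpow⟩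
  have hfinA : Finite A := Nat.finite_of_card_ne_zero (by rw [hcard]; exact (Nat.pow_pos hpp.pos).ne')
  have : Finite (Additive A) := inferInstanceAs (Finite A)
  have : Module.Finite (ZMod p) (Additive A) := Module.Finite.of_finite
  have hrank : Module.finrank (ZMod p) (Additive A) = e := by
    have h := Module.natCard_eq_pow_finrank (K := ZMod p) (V := Additive A)
    have h' : Nat.card (Additive A) = p ^ e := hcard
    rw [h', Nat.card_zmod] at h
    exact (Nat.pow_right_injective hpp.two_le h).symm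
  let b : Module.Basis (Fin e) (ZMod p) (Additive A) := Module.finBasisOfFinrankEq _ _ hrank
  let ρ : H →* Module.End (ZMod p) (Additive A) :=
    { toFun := fun h => ((MulAut.conjNormal h : A ≃* A).toMonoidHom.toAdditive).toZModLinearMap p
      map_one' := by
        apply LinearMap.ext
        intro v
        change Additive.ofMul (MulAut.conjNormal (1 : H) (Additive.toMul v)) = v
        rw [map_one]; rfl
      map_mul' := by
        intro x y
        apply LinearMap.ext
        intro v
        change Additive.ofMul (MulAut.conjNormal (x * y) (Additive.toMul v)) = _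
        rw [map_mul]; rfl }
  have hρ : ∀ h (v : Additive A), ρ h v = Additive.ofMul (MulAut.conjNormal h (Additive.toMul v)) :=
    fun h v => rfl
  let ψ : H →* Matrix (Fin e) (Fin e) (ZMod p) :=
    ((LinearMap.toMatrixAlgEquiv b : _ ≃ₐ[ZMod p] _) : _ →* _).comp ρ
  have hψ : ∀ h, ψ h = LinearMap.toMatrixAlgEquiv b (ρ h) := fun h => rfl
  refine ⟨ψ.toHomUnits, fun h => ?_⟩
  rw [Units.ext_iff, MonoidHom.coe_toHomUnits, Units.val_one, hψ,
    ← map_one (LinearMap.toMatrixAlgEquiv b), (LinearMap.toMatrixAlgEquiv b).injective.eq_iff]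
  constructor
  · intro h1 a ha
    have h2 := LinearMap.congr_fun h1 (Additive.ofMul (⟨a, ha⟩ : A))
    rw [hρ] at h2
    have h3 : MulAut.conjNormal h (⟨a, ha⟩ : A) = ⟨a, ha⟩ := h2
    have h4 := congrArg Subtype.val h3
    rw [MulAut.conjNormal_apply] at h4
    exact mul_inv_eq_iff_eq_mul.1 h4
  · intro h1
    apply LinearMap.ext
    intro v
    rw [hρ]
    change Additive.ofMul _ = Additive.ofMul (Additive.toMul v)
    congr 1
    apply Subtype.ext
    rw [MulAut.conjNormal_apply]
    exact mul_inv_eq_iff_eq_mul.2 (h1 _ (Additive.toMul v).2)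


theorem card_prime_of_regular {H : Type*} [Group H] [Finite H] {Δ : Type*} [MulAction H Δ]
    [Nontrivial Δ] (hprim : IsPreprimitive H Δ) (δ : Δ) (hreg : stabilizer H δ = ⊥) :
    (Nat.card H).Prime := by
  have hco := IsPreprimitive.isCoatom_stabilizer_of_isPreprimitive (G := H) δ
  rw [hreg] at hco
  have hnt : Nontrivial H := by
    have : (⊥ : Subgroup H) ≠ ⊤ := hco.1
    by_contra hcon
    rw [not_nontrivial_iff_subsingleton] at hcon
    exact this (Subsingleton.elim _ _)
  have h1 : Nat.card H ≠ 1 := by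
    intro h
    have := Finite.one_lt_card (α := H)
    omega
  obtain ⟨q, hq, hqd⟩ := Nat.exists_prime_and_dvd h1
  have : Fact q.Prime := ⟨hq⟩
  obtain ⟨x, hx⟩ := exists_prime_orderOf_dvd_card' q hqd
  have hxb : ⊥ < Subgroup.zpowers x := by
    rw [bot_lt_iff_ne_bot]
    intro h
    rw [Subgroup.zpowers_eq_bot] at h
    rw [h, orderOf_one] at hx
    exact hq.one_lt.ne hx
  have htop := hco.2 _ hxb
  have : Nat.card H = q := by
    rw [← hx, ← Nat.card_zpowers, htop, Subgroup.card_top]
  rw [this]; exact hq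

/-- Restrictions on the point stabilizer of an extremely primitive group. Let a finite group G act faithfully and primitively on a finite set Ω with point stabilizers H = G_α whose order is neither 1 nor a prime, each acting primitively on every one of its orbits. Then H has trivial center, the Fitting subgroup F(H) is an elementary abelian p-group for some prime p, and if F(H) ≠ 1 has order p ^ e then p ^ e divides the number of points minus one and H / F(H) embeds in GL_e(p) (there is a homomorphism from H to GL_e(p) with kernel exactly F(H)). -/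
theorem result {G : Type*} [Group G] [Finite G] {Ω : Type*} [Fintype Ω] [MulAction G Ω] [FaithfulSMul G Ω] (hprim : MulAction.IsPreprimitive G Ω) (hep : ∀ (α : Ω) (ω : Ω), MulAction.IsPreprimitive (MulAction.stabilizer G α) (MulAction.orbit (MulAction.stabilizer G α) ω)) (α : Ω)
    (hH1 : MulAction.stabilizer G α ≠ ⊥) (hHp : ¬ (Nat.card (MulAction.stabilizer G α)).Prime) :
    Subgroup.center (MulAction.stabilizer G α) = ⊥ ∧
    IsMulCommutative (Cfsg.fittingSubgroup (MulAction.stabilizer G α)) ∧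
    ∃ p e : ℕ, p.Prime ∧ Nat.card (Cfsg.fittingSubgroup (MulAction.stabilizer G α)) = p ^ e ∧
      (∀ x ∈ Cfsg.fittingSubgroup (MulAction.stabilizer G α), x ^ p = 1) ∧
      (Cfsg.fittingSubgroup (MulAction.stabilizer G α) ≠ ⊥ →
        p ^ e ∣ Fintype.card Ω - 1 ∧
        ∃ φ : MulAction.stabilizer G α →* GL (Fin e) (ZMod p), φ.ker = Cfsg.fittingSubgroup (MulAction.stabilizer G α)) := by
  -- all stabilisers are non-trivial
  have hH : ∀ β : Ω, stabilizer G β ≠ ⊥ := by
    intro β hβ
    obtain ⟨g, rfl⟩ := exists_smul_eq G α β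
    rw [stabilizer_smul_eq_stabilizer_map_conj,
      Subgroup.map_eq_bot_iff_of_injective _ (MulAut.conj g).injective] at hβ
    exact hH1 hβ
  set H := stabilizer G α with hHdef
  have hfaith : ∀ ω : Ω, ω ≠ α → FaithfulSMul H (orbit H ω) := by
    intro ω hω
    constructor
    intro h₁ h₂ hh
    have : h₂⁻¹ * h₁ = 1 := by
      apply Cfsg.Agent.S3494.result hprim hH hep α ω hω
      intro x hx
      have := hh ⟨x, hx⟩
      have h3 : h₁ • x = h₂ • x := congrArg Subtype.val this
      rw [mul_smul, h3, inv_smul_smul]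
    rw [inv_mul_eq_one] at this
    exact this.symm
  -- a second point
  obtain ⟨ω, hω⟩ : ∃ ω : Ω, ω ≠ α := by
    by_contra hcon
    push Not at hcon
    apply hH1
    rw [Subgroup.eq_bot_iff_forall]
    intro h _
    apply FaithfulSMul.eq_of_smul_eq_smul (α := Ω)
    intro x
    rw [hcon x, hcon (h • α), one_smul]
  have hnontriv : ∀ ω : Ω, ω ≠ α → Nontrivial (orbit H ω) := by
    intro ω hω
    by_contra hcon
    rw [not_nontrivial_iff_subsingleton] at hcon
    have := hfaith ω hω
    apply hH1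
    rw [Subgroup.eq_bot_iff_forall]
    intro h hh
    have : (⟨h, hh⟩ : H) = 1 := by
      apply FaithfulSMul.eq_of_smul_eq_smul (α := orbit H ω)
      intro x
      exact Subsingleton.elim _ _
    exact congrArg Subtype.val this
  have hF1 := hfaith ω hω
  have hN1 := hnontriv ω hω
  have hP1 := hep α ω
  have hFn : (Cfsg.fittingSubgroup H).Normal := Cfsg.Agent.Lib.Helper91.fittingSubgroup_normal
  have hFnil : Group.IsNilpotent (Cfsg.fittingSubgroup H) :=
    Cfsg.Agent.Lib.Helper91.fittingSubgroup_isNilpotent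
  set F := Cfsg.fittingSubgroup H with hFdef
  have hFc : ∀ a ∈ F, ∀ b ∈ F, a * b = b * a := nilpotent_normal_comm hP1 F hFnil
  refine ⟨?_, ⟨⟨fun a b => Subtype.ext (hFc a a.2 b b.2)⟩⟩, ?_⟩
  · -- trivial centre
    by_contra hZ
    obtain ⟨-, h2⟩ := abelian_normal hP1 (Subgroup.center H) hZ
    apply hHp
    apply card_prime_of_regular hP1 ⟨ω, mem_orbit_self ω⟩
    rw [Subgroup.eq_bot_iff_forall]
    intro c hc
    exact h2 _ c (fun a ha => (Subgroup.mem_center_iff.1 ha c)) hc
  by_cases hFb : F = ⊥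
  · refine ⟨2, 0, Nat.prime_two, by rw [hFb]; simp, ?_, fun h => absurd hFb h⟩
    intro x hx
    rw [hFb, Subgroup.mem_bot] at hx
    rw [hx, one_pow]
  -- F ≠ ⊥
  have hFnt : Nontrivial F := (Subgroup.nontrivial_iff_ne_bot F).2 hFb
  have hcard1 : Nat.card F ≠ 1 := by
    have := Finite.one_lt_card (α := F)
    omega
  obtain ⟨p, hp, hpd⟩ := Nat.exists_prime_and_dvd hcard1
  have : Fact p.Prime := ⟨hp⟩
  let Fp : Subgroup H :=
    { carrier := {x | x ∈ F ∧ x ^ p = 1}
      one_mem' := ⟨F.one_mem, one_pow _⟩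
      mul_mem' := by
        rintro x y ⟨hx, hx1⟩ ⟨hy, hy1⟩
        exact ⟨F.mul_mem hx hy, by rw [(show Commute x y from hFc x hx y hy).mul_pow, hx1, hy1, one_mul]⟩
      inv_mem' := by
        rintro x ⟨hx, hx1⟩
        exact ⟨F.inv_mem hx, by rw [inv_pow, hx1, inv_one]⟩ }
  have hFpn : Fp.Normal := by
    constructor
    rintro x ⟨hx, hx1⟩ g
    exact ⟨hFn.conj_mem x hx g, by rw [conj_pow, hx1, mul_one, mul_inv_cancel]⟩
  have hFpb : Fp ≠ ⊥ := by
    obtain ⟨x, hx⟩ := exists_prime_orderOf_dvd_card' (G := F) p hpd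
    intro h
    have hxm : (x : H) ∈ Fp := ⟨x.2, by
      have := pow_orderOf_eq_one x
      rw [hx] at this
      exact_mod_cast congrArg Subtype.val this⟩
    rw [h, Subgroup.mem_bot] at hxm
    have : x = 1 := Subtype.ext hxm
    rw [this, orderOf_one] at hx
    exact hp.one_lt.ne hx
  have hexp : ∀ x ∈ F, x ^ p = 1 := by
    intro x hx
    obtain ⟨h1, -⟩ := abelian_normal hP1 Fp hFpb
    obtain ⟨-, h2⟩ := abelian_normal hP1 F hFb
    obtain ⟨y, hy, hyx⟩ := h1 ⟨ω, mem_orbit_self ω⟩ (x • ⟨ω, mem_orbit_self ω⟩)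
    have : y⁻¹ * x = 1 := by
      apply h2 ⟨ω, mem_orbit_self ω⟩
      · intro a ha
        exact hFc _ (F.mul_mem (F.inv_mem hy.1) hx) a ha
      · rw [mul_smul, ← hyx, inv_smul_smul]
    rw [inv_mul_eq_one] at this
    rw [← this]; exact hy.2
  have hpg : IsPGroup p F := by
    intro x
    refine ⟨1, ?_⟩
    rw [pow_one]
    exact Subtype.ext (hexp x x.2)
  obtain ⟨e, he⟩ := IsPGroup.iff_card.1 hpg
  refine ⟨p, e, hp, he, hexp, fun _ => ⟨?_, ?_⟩⟩
  · -- free action on the remaining points
    have hfree : ∀ x : SubMulAction.ofStabilizer G α, stabilizer F x = ⊥ := by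
      intro x
      have hx : (x : Ω) ≠ α := SubMulAction.neq_of_mem_ofStabilizer G α
      have := hfaith x hx
      obtain ⟨-, h2⟩ := abelian_normal (hep α x) F hFb
      rw [Subgroup.eq_bot_iff_forall]
      intro c hc
      apply Subtype.ext
      apply h2 ⟨x, mem_orbit_self _⟩ c (fun a ha => hFc c c.2 a ha)
      apply Subtype.ext
      have hc' : c • x = x := hc
      have hc'' : ((c • x : SubMulAction.ofStabilizer G α) : Ω) = (x : Ω) := by rw [hc']
      exact hc''
    have hequiv := selfEquivOrbitsQuotientProd hfree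
    have hc := Nat.card_congr hequiv
    rw [Nat.card_prod, SubMulAction.nat_card_ofStabilizer_eq, Nat.card_eq_fintype_card, he] at hc
    rw [hc]
    exact Dvd.intro_left _ rfl
  · obtain ⟨φ, hφ⟩ := exists_rep F p e hFc hexp he
    refine ⟨φ, ?_⟩
    ext h
    rw [MonoidHom.mem_ker, hφ]
    constructor
    · intro hh
      exact self_centralizing hP1 F hFb hFc h hh
    · intro hh a ha
      exact hFc h hh a ha

end Cfsg.Agent.S3497
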