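import Cfsg.Statements.S3520
import Cfsg.Agent.Lib.Helper59.MinNormal2

set_option autoImplicit false
open Cfsg

namespace Cfsg.Agent.S3520

open MulAction Cfsg.Agent.Lib.Helper59

theorem not_three {G Ω : Type*} [Group G] [MulAction G Ω]
    (hκ : Nat.card {c : ConjClasses G // ∃ g : G, ConjClasses.mk g = c ∧ ∀ ω : Ω, g • ω ≠ ω} = 2)
    (e₁ e₂ e₃ : G) (h₁ : ∀ ω : Ω, e₁ • ω ≠ ω) (h₂ : ∀ ω : Ω, e₂ • ω ≠ ω)
    (h₃ : ∀ ω : Ω, e₃ • ω ≠ ω) (h12 : ¬ IsConj e₁ e₂) (h13 : ¬ IsConj e₁ e₃)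
    (h23 : ¬ IsConj e₂ e₃) : False := by
  rw [Nat.card_eq_two_iff] at hκ
  obtain ⟨a, b, hab, huniv⟩ := hκ
  let c₁ : {c : ConjClasses G // ∃ g : G, ConjClasses.mk g = c ∧ ∀ ω : Ω, g • ω ≠ ω} :=
    ⟨ConjClasses.mk e₁, e₁, rfl, h₁⟩
  let c₂ : {c : ConjClasses G // ∃ g : G, ConjClasses.mk g = c ∧ ∀ ω : Ω, g • ω ≠ ω} :=
    ⟨ConjClasses.mk e₂, e₂, rfl, h₂⟩
  let c₃ : {c : ConjClasses G // ∃ g : G, ConjClasses.mk g = c ∧ ∀ ω : Ω, g • ω ≠ ω} :=
    ⟨ConjClasses.mk e₃, e₃, rfl, h₃⟩
  have n12 : c₁ ≠ c₂ := fun h => h12 (ConjClasses.mk_eq_mk_iff_isConj.mp (congrArg Subtype.val h))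
  have n13 : c₁ ≠ c₃ := fun h => h13 (ConjClasses.mk_eq_mk_iff_isConj.mp (congrArg Subtype.val h))
  have n23 : c₂ ≠ c₃ := fun h => h23 (ConjClasses.mk_eq_mk_iff_isConj.mp (congrArg Subtype.val h))
  have m₁ : c₁ ∈ ({a, b} : Set _) := huniv ▸ Set.mem_univ _
  have m₂ : c₂ ∈ ({a, b} : Set _) := huniv ▸ Set.mem_univ _
  have m₃ : c₃ ∈ ({a, b} : Set _) := huniv ▸ Set.mem_univ _
  simp only [Set.mem_insert_iff, Set.mem_singleton_iff] at m₁ m₂ m₃
  rcases m₁ with m₁ | m₁ <;> rcases m₂ with m₂ | m₂ <;> rcases m₃ with m₃ | m₃ <;>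
    simp_all

theorem isSimpleGroup_of_isMinInv_self {G : Type*} [Group G] {T : Subgroup G} (hT : IsMinInv T T) :
    IsSimpleGroup T := by
  have hnt : Nontrivial T := (Subgroup.nontrivial_iff_ne_bot T).mpr hT.2.1
  refine { exists_pair_ne := hnt.exists_pair_ne, eq_bot_or_eq_top_of_normal := ?_ }
  intro K hK
  by_cases hK0 : K = ⊥
  · left; exact hK0
  · right
    have h1 : K.map T.subtype = T := by
      apply hT.2.2.2
      · exact Subgroup.map_subtype_le K
      · intro h
        apply hK0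
        exact (Subgroup.map_eq_bot_iff_of_injective K T.subtype_injective).mp h
      · rintro n hn _ ⟨k, hk, rfl⟩
        exact ⟨⟨n, hn⟩ * k * ⟨n, hn⟩⁻¹, hK.conj_mem k hk ⟨n, hn⟩, rfl⟩
    rw [eq_top_iff]
    intro t _
    have : (t : G) ∈ K.map T.subtype := by rw [h1]; exact t.2
    obtain ⟨k, hk, hkt⟩ := this
    have : k = t := Subtype.ext hkt
    rwa [← this]

theorem orderOf_conj' {G : Type*} [Group G] (g t : G) : orderOf (g * t * g⁻¹) = orderOf t := by
  have hsc : SemiconjBy g t (g * t * g⁻¹) := by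
    unfold SemiconjBy; group
  exact hsc.orderOf_eq.symm

theorem IsConj.orderOf_eq' {G : Type*} [Group G] {a b : G} (h : IsConj a b) :
    orderOf a = orderOf b := by
  rw [isConj_iff] at h
  obtain ⟨c, rfl⟩ := h
  exact (orderOf_conj' c a).symm

theorem IsConj.mem_cj {G : Type*} [Group G] {T : Subgroup G} {a b : G} (h : IsConj a b)
    (ha : ∃ k, a ∈ cj k T) : ∃ k, b ∈ cj k T := by
  rw [isConj_iff] at h
  obtain ⟨c, rfl⟩ := h
  obtain ⟨k, hk⟩ := ha
  refine ⟨c * k, ?_⟩
  rw [Cfsg.Agent.Lib.Helper59.mem_cj] at hk ⊢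
  have e : (c * k)⁻¹ * (c * a * c⁻¹) * (c * k) = k⁻¹ * a * k := by group
  rwa [e]

theorem IsConj.pow' {G : Type*} [Group G] {a b : G} (h : IsConj a b) (n : ℕ) :
    IsConj (a ^ n) (b ^ n) := by
  rw [isConj_iff] at h ⊢
  obtain ⟨c, rfl⟩ := h
  exact ⟨c, (conj_pow).symm⟩

/-- Step A: a minimal normal subgroup is abelian. -/
theorem minNormal_abelian {G Ω : Type*} [Group G] [Finite G] [MulAction G Ω] [FaithfulSMul G Ω]
    [Finite Ω] (hΩ : 2 ≤ Nat.card Ω) (hprim : IsPreprimitive G Ω)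
    (hnas : ¬ ∃ T : Subgroup G, T.Normal ∧ IsSimpleGroup T ∧ ¬ IsMulCommutative T ∧
      Subgroup.centralizer (T : Set G) = ⊥)
    (hκ : Nat.card {c : ConjClasses G // ∃ g : G, ConjClasses.mk g = c ∧ ∀ ω : Ω, g • ω ≠ ω} = 2)
    {N : Subgroup G} (hN : IsMinInv ⊤ N) : ∀ x ∈ N, ∀ y ∈ N, x * y = y * x := by
  classical
  by_contra hab
  have hNn : N.Normal := (invUnder_top_iff N).mp hN.2.2.1
  have hN0 : N ≠ ⊥ := hN.2.1
  have hNtr : IsPretransitive N Ω := isPretransitive_of_normal_of_ne_bot hprim N hNn hN0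
  have hne : Nonempty Ω := by
    rcases isEmpty_or_nonempty Ω with h | h
    · rw [Nat.card_of_isEmpty] at hΩ; omega
    · exact h
  obtain ⟨α⟩ := hne
  obtain ⟨T, hT⟩ := exists_isMinInv N hN0
  have hTnab : ¬ ∀ s ∈ T, ∀ t ∈ T, s * t = t * s := fun h =>
    hab (commute_of_isMinInv_of_commute hN hT h)
  obtain ⟨q, r, hq, hr, hqr, ⟨aq, haqT, haq⟩, ⟨ar, harT, har⟩⟩ := exists_two_primes hT hTnab
  have haq1 : aq ≠ 1 := by
    intro h; rw [h, orderOf_one] at haq; exact hq.one_lt.ne haq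
  have har1 : ar ≠ 1 := by
    intro h; rw [h, orderOf_one] at har; exact hr.one_lt.ne har
  by_cases hconj : ∀ g : G, cj g T = T
  · -- T = N is simple
    have hTN : T = N := by
      apply hN.2.2.2 T hT.1 hT.2.1
      intro g _ t ht
      have := conj_mem_cj (g := g) ht
      rwa [hconj g] at this
    subst hTN
    have hC0 : Subgroup.centralizer (T : Set G) ≠ ⊥ := by
      intro hC
      apply hnas
      refine ⟨T, hNn, isSimpleGroup_of_isMinInv_self hT, ?_, hC⟩
      intro hc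
      apply hab
      intro a ha b hb
      have := hc.is_comm.comm ⟨a, ha⟩ ⟨b, hb⟩
      exact congrArg Subtype.val this
    have hCn : (Subgroup.centralizer (T : Set G)).Normal := Subgroup.normal_centralizer
    have hCtr := isPretransitive_of_normal_of_ne_bot hprim _ hCn hC0
    -- elements of T \ 1 are derangements
    have hTder : ∀ t ∈ T, t ≠ 1 → ∀ ω : Ω, t • ω ≠ ω := by
      intro t ht ht1 ω hω
      apply ht1
      apply FaithfulSMul.eq_of_smul_eq_smul (α := Ω)
      intro ω'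
      obtain ⟨c, rfl⟩ := hCtr.exists_smul_eq ω ω'
      show t • (c : G) • ω = (1 : G) • (c : G) • ω
      rw [one_smul, ← mul_smul, (Subgroup.mem_centralizer_iff.mp c.2) t ht, mul_smul, hω]
    obtain ⟨c, hc, hc1⟩ : ∃ c ∈ Subgroup.centralizer (T : Set G), c ≠ 1 := by
      by_contra hcon
      push Not at hcon
      exact hC0 ((Subgroup.eq_bot_iff_forall _).mpr hcon)
    have hcder : ∀ ω : Ω, c • ω ≠ ω := by
      intro ω hω
      apply hc1
      apply FaithfulSMul.eq_of_smul_eq_smul (α := Ω)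
      intro ω'
      obtain ⟨t, rfl⟩ := hNtr.exists_smul_eq ω ω'
      show c • (t : G) • ω = (1 : G) • (t : G) • ω
      rw [one_smul, ← mul_smul, ← (Subgroup.mem_centralizer_iff.mp hc) t t.2, mul_smul, hω]
    have hcT : c ∉ T := by
      intro hcT
      apply hc1
      apply center_trivial_of_isMinInv hT hTnab c hcT
      intro t ht
      exact ((Subgroup.mem_centralizer_iff.mp hc) t ht).symm
    have hnc : ∀ t ∈ T, ¬ IsConj t c := by
      intro t ht h
      rw [isConj_iff] at h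
      obtain ⟨k, rfl⟩ := h
      exact hcT (hNn.conj_mem t ht k)
    refine not_three hκ aq ar c (hTder aq haqT haq1) (hTder ar harT har1) hcder ?_
      (hnc aq haqT) (hnc ar harT)
    intro h
    have := IsConj.orderOf_eq' h
    rw [haq, har] at this
    exact hqr this
  · push Not at hconj
    obtain ⟨g, hg⟩ := hconj
    have hcomm : ∀ t ∈ T, ∀ s ∈ cj g T, t * s = s * t :=
      (cj_eq_or_commute hNn hT g).resolve_left hg
    -- elements of the other conjugate
    set bq := g * aq * g⁻¹ with hbq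
    set br := g * ar * g⁻¹ with hbr
    have hbqT : bq ∈ cj g T := conj_mem_cj haqT
    have hbrT : br ∈ cj g T := conj_mem_cj harT
    have hbqN : bq ∈ N := cj_le_of_normal hNn hT.1 g hbqT
    have hbrN : br ∈ N := cj_le_of_normal hNn hT.1 g hbrT
    have hbqo : orderOf bq = q := by rw [hbq, orderOf_conj', haq]
    have hbro : orderOf br = r := by rw [hbr, orderOf_conj', har]
    have hbqc : ∀ s ∈ T, bq * s = s * bq := fun s hs => (hcomm s hs bq hbqT).symm
    have hbrc : ∀ s ∈ T, br * s = s * br := fun s hs => (hcomm s hs br hbrT).symm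
    have hbq1 : bq ≠ 1 := by
      intro h; rw [h, orderOf_one] at hbqo; exact hq.one_lt.ne hbqo
    have hbr1 : br ≠ 1 := by
      intro h; rw [h, orderOf_one] at hbro; exact hr.one_lt.ne hbro
    have hcop : Nat.Coprime q r := (Nat.coprime_primes hq hr).mpr hqr
    by_cases hsemi : ∀ t ∈ T, t ≠ 1 → ∀ ω : Ω, t • ω ≠ ω
    · -- case (I)
      have hc : Commute aq br := hcomm aq haqT br hbrT
      have h3 : ∀ ω : Ω, (aq * br) • ω ≠ ω :=
        derangement_mul_of_coprime (hsemi aq haqT haq1) hc (by rw [hbro, haq]; exact hcop.symm)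
      have ho3 : orderOf (aq * br) = q * r := by
        rw [hc.orderOf_mul_eq_mul_orderOf_of_coprime (by rw [hbro, haq]; exact hcop), haq, hbro]
      refine not_three hκ aq ar (aq * br) (hsemi aq haqT haq1) (hsemi ar harT har1) h3 ?_ ?_ ?_
      · intro h
        have := IsConj.orderOf_eq' h
        rw [haq, har] at this
        exact hqr this
      · intro h
        have := IsConj.orderOf_eq' h
        rw [haq, ho3] at this
        have h2 := hr.two_le
        have h1 := hq.pos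
        nlinarith
      · intro h
        have := IsConj.orderOf_eq' h
        rw [har, ho3] at this
        have h2 := hq.two_le
        have h1 := hr.pos
        nlinarith
    · -- case (II)
      push Not at hsemi
      obtain ⟨t₀, ht₀, ht₀1, ω₀, hω₀⟩ := hsemi
      obtain ⟨x, hxT, hx⟩ := exists_strong_derangement hN hT hNtr t₀ ht₀ ht₀1 ω₀ hω₀
      have hxder : ∀ ω : Ω, x • ω ≠ ω := by
        have := hx 1 N.one_mem (fun s _ => by simp)
        simpa using this
      have hx1 : x ≠ 1 := by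
        intro h
        exact hxder α (by rw [h, one_smul])
      -- general argument for a pair of primes
      have key : ∀ (s s' : ℕ) (bs bs' : G), s.Prime → Nat.Coprime s s' → x ^ s ≠ 1 →
          bs ∈ N → bs' ∈ N → (∀ t ∈ T, bs * t = t * bs) → (∀ t ∈ T, bs' * t = t * bs') →
          orderOf bs = s → orderOf bs' = s' → bs ≠ 1 → bs' ≠ 1 → False := by
        intro s s' bs bs' hs hss' hxs hbsN hbs'N hbsc hbs'c hbso hbs'o hbs1 hbs'1
        have hU1 : ∃ k, x ∈ cj k T := ⟨1, by rw [Cfsg.Agent.Lib.Helper59.mem_cj]; simpa using hxT⟩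
        have hU2 : ¬ ∃ k, x * bs ∈ cj k T := by
          rintro ⟨k, hk⟩
          exact not_mem_cj_of_mul hNn hT hTnab hxT hx1 hbsc hbs1 k hk
        have hU3 : ¬ ∃ k, x * bs' ∈ cj k T := by
          rintro ⟨k, hk⟩
          exact not_mem_cj_of_mul hNn hT hTnab hxT hx1 hbs'c hbs'1 k hk
        have hc2 : Commute x bs := (hbsc x hxT).symm
        have hc3 : Commute x bs' := (hbs'c x hxT).symm
        have hp2 : (x * bs) ^ s = x ^ s := by
          rw [hc2.mul_pow, ← hbso, pow_orderOf_eq_one, mul_one]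
        have hp3 : (x * bs') ^ s = x ^ s * bs' ^ s := hc3.mul_pow s
        have hbs's : bs' ^ s ≠ 1 := by
          intro h
          have h1 : s' ∣ s := hbs'o ▸ orderOf_dvd_of_pow_eq_one h
          have h2 : s' ∣ 1 := by
            have := Nat.dvd_gcd h1 (dvd_refl s')
            rwa [hss'] at this
          have h3 : s' = 1 := Nat.dvd_one.mp h2
          rw [h3] at hbs'o
          exact hbs'1 (orderOf_eq_one_iff.mp hbs'o)
        have hV2 : ∃ k, (x * bs) ^ s ∈ cj k T :=
          ⟨1, by rw [hp2, Cfsg.Agent.Lib.Helper59.mem_cj]; simpa using T.pow_mem hxT s⟩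
        have hV3 : ¬ ∃ k, (x * bs') ^ s ∈ cj k T := by
          rintro ⟨k, hk⟩
          rw [hp3] at hk
          refine not_mem_cj_of_mul hNn hT hTnab (T.pow_mem hxT s) hxs ?_ hbs's k hk
          intro t ht
          exact ((show Commute bs' t from hbs'c t ht).pow_left s).eq
        refine not_three hκ x (x * bs) (x * bs') hxder (hx bs hbsN hbsc) (hx bs' hbs'N hbs'c)
          ?_ ?_ ?_
        · intro h; exact hU2 (IsConj.mem_cj h hU1)
        · intro h; exact hU3 (IsConj.mem_cj h hU1)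
        · intro h; exact hV3 (IsConj.mem_cj (IsConj.pow' h s) hV2)
      by_cases hxq : x ^ q = 1
      · have hxr : x ^ r ≠ 1 := by
          intro hxr
          apply hx1
          have h1 : orderOf x ∣ q := orderOf_dvd_of_pow_eq_one hxq
          have h2 : orderOf x ∣ r := orderOf_dvd_of_pow_eq_one hxr
          have h3 : orderOf x ∣ 1 := by
            have := Nat.dvd_gcd h1 h2
            rwa [hcop] at this
          exact orderOf_eq_one_iff.mp (Nat.dvd_one.mp h3)
        exact key r q br bq hr hcop.symm hxr hbrN hbqN hbrc hbqc hbro hbqo hbr1 hbq1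
      · exact key q r bq br hq hcop hxq hbqN hbrN hbqc hbrc hbqo hbro hbq1 hbr1

theorem fix_eq_one_of_le_one {G Ω : Type*} [Group G] [Finite G] [MulAction G Ω] [Finite Ω]
    [Nonempty Ω] (htrans : IsPretransitive G Ω) (N : Subgroup G) (hN : IsPretransitive N Ω)
    (h : ∀ g : G, g ∉ N → Nat.card (fixedBy Ω g) ≤ 1) :
    ∀ g : G, g ∉ N → Nat.card (fixedBy Ω g) = 1 := by
  classical
  have := Fintype.ofFinite G
  have horb : ∀ (K : Type _) [Group K] [MulAction K Ω], IsPretransitive K Ω →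
      Nat.card (orbitRel.Quotient K Ω) = 1 := by
    intro K _ _ hK
    rw [Nat.card_eq_one_iff_unique]
    exact ⟨(pretransitive_iff_subsingleton_quotient K Ω).mp hK,
      ⟨Quotient.mk'' (Classical.arbitrary Ω)⟩⟩
  have hG : ∑ g : G, Nat.card (fixedBy Ω g) = Nat.card G := by
    rw [burnside_natCard G Ω, horb G htrans, one_mul]
  have hNsum := burnside_subgroup Ω N
  rw [horb N hN, one_mul] at hNsum
  have hsplit := Finset.sum_filter_add_sum_filter_not (Finset.univ : Finset G) (· ∈ N)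
    (fun g => Nat.card (fixedBy Ω g))
  have hcard : (Finset.univ.filter (· ∈ N)).card + (Finset.univ.filter (fun g : G => g ∉ N)).card
      = Nat.card G := by
    rw [Finset.card_filter_add_card_filter_not, Finset.card_univ, Nat.card_eq_fintype_card]
  have hcardN : (Finset.univ.filter (· ∈ N)).card = Nat.card N := by
    rw [Nat.card_eq_fintype_card, Fintype.card_subtype]
  have heq : ∑ g ∈ Finset.univ.filter (fun g : G => g ∉ N), Nat.card (fixedBy Ω g) =
      ∑ g ∈ Finset.univ.filter (fun g : G => g ∉ N), 1 := by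
    rw [← Finset.card_eq_sum_ones]
    omega
  intro g hg
  exact (Finset.sum_eq_sum_iff_of_le (s := Finset.univ.filter (fun g : G => g ∉ N))
    (f := fun g => Nat.card (fixedBy Ω g)) (g := fun _ => 1)
    (fun g hg => h g (Finset.mem_filter.mp hg).2)).mp heq g
    (Finset.mem_filter.mpr ⟨Finset.mem_univ _, hg⟩)

theorem result {G : Type*} [Group G] [Finite G] {Ω : Type*} [Fintype Ω] [MulAction G Ω] [FaithfulSMul G Ω] (hΩ : 2 ≤ Fintype.card Ω) (hprim : MulAction.IsPreprimitive G Ω) (hnas : ¬ ∃ T : Subgroup G, T.Normal ∧ IsSimpleGroup T ∧ ¬ IsMulCommutative T ∧ Subgroup.centralizer (T : Set G) = ⊥)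
    (hκ : Nat.card {c : ConjClasses G // ∃ g : G, ConjClasses.mk g = c ∧ ∀ ω : Ω, g • ω ≠ ω} = 2) (α : Ω) :
    (Fintype.card Ω = 3 ∧ Nat.card G = 3) ∨
    ((∃ N : Subgroup G, N.Normal ∧ N ≠ ⊥ ∧ IsMulCommutative N ∧ ∀ ω : Ω, MulAction.stabilizer N ω = ⊥) ∧ (∀ g : G, g ≠ 1 → Nat.card (MulAction.fixedBy Ω g) ≤ 1) ∧ ¬ 2 ∣ Fintype.card Ω ∧
        2 * Nat.card (MulAction.stabilizer G α) = Fintype.card Ω - 1) ∨
    ((∃ N : Subgroup G, N.Normal ∧ N ≠ ⊥ ∧ IsMulCommutative N ∧ ∀ ω : Ω, MulAction.stabilizer N ω = ⊥) ∧ MulAction.IsMultiplyPretransitive G Ω 2 ∧ ∃ g : G, g ≠ 1 ∧ 2 ≤ Nat.card (MulAction.fixedBy Ω g)) := by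
  classical
  right
  have hΩ' : 2 ≤ Nat.card Ω := by rw [Nat.card_eq_fintype_card]; exact hΩ
  have hne : Nonempty Ω := ⟨α⟩
  have htrans : IsPretransitive G Ω := hprim.toIsPretransitive
  have hGtop : (⊤ : Subgroup G) ≠ ⊥ := by
    intro h
    obtain ⟨x, hx⟩ := exists_derangement (K := G) (X := Ω) htrans hΩ'
    have : x ∈ (⊥ : Subgroup G) := h ▸ Subgroup.mem_top x
    rw [Subgroup.mem_bot] at this
    exact hx α (by rw [this, one_smul])
  obtain ⟨N, hN⟩ := exists_isMinInv (⊤ : Subgroup G) hGtop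
  have hNn : N.Normal := (invUnder_top_iff N).mp hN.2.2.1
  have hN0 : N ≠ ⊥ := hN.2.1
  have hNtr : IsPretransitive N Ω := isPretransitive_of_normal_of_ne_bot hprim N hNn hN0
  have hab := minNormal_abelian hΩ' hprim hnas hκ hN
  -- regularity
  have hreg : ∀ x ∈ N, ∀ ω : Ω, x • ω = ω → x = 1 := by
    intro x hx ω hω
    apply FaithfulSMul.eq_of_smul_eq_smul (α := Ω)
    intro ω'
    obtain ⟨n, rfl⟩ := hNtr.exists_smul_eq ω ω'
    show x • (n : G) • ω = (1 : G) • (n : G) • ω
    rw [one_smul, ← mul_smul, hab x hx n n.2, mul_smul, hω]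
  have hNex : ∃ N : Subgroup G, N.Normal ∧ N ≠ ⊥ ∧ IsMulCommutative N ∧
      ∀ ω : Ω, MulAction.stabilizer N ω = ⊥ := by
    refine ⟨N, hNn, hN0, ⟨⟨fun a b => Subtype.ext (hab a a.2 b b.2)⟩⟩, fun ω => ?_⟩
    rw [Subgroup.eq_bot_iff_forall]
    intro x hx
    exact Subtype.ext (hreg x x.2 ω hx)
  have hNder : ∀ x ∈ N, x ≠ 1 → ∀ ω : Ω, x • ω ≠ ω := fun x hx hx1 ω hω => hx1 (hreg x hx ω hω)
  have hfac : ∀ g : G, ∃ m ∈ N, ∃ h : G, h • α = α ∧ g = m * h := by
    intro g
    obtain ⟨m, hm⟩ := hNtr.exists_smul_eq α (g • α)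
    have hm' : (m : G) • α = g • α := hm
    refine ⟨m, m.2, (m : G)⁻¹ * g, ?_, by group⟩
    rw [mul_smul, ← hm', inv_smul_smul]
  -- conjugation of elements of N only depends on the H-part
  have hconjN : ∀ x ∈ N, ∀ g : G, ∃ h : G, h • α = α ∧ g * x * g⁻¹ = h * x * h⁻¹ := by
    intro x hx g
    obtain ⟨m, hm, h, hh, rfl⟩ := hfac g
    refine ⟨h, hh, ?_⟩
    have h1 : h * x * h⁻¹ ∈ N := hNn.conj_mem x hx h
    calc m * h * x * (m * h)⁻¹ = m * (h * x * h⁻¹) * m⁻¹ := by group
      _ = (h * x * h⁻¹) * m * m⁻¹ := by rw [hab m hm _ h1]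
      _ = h * x * h⁻¹ := by group
  have hcardN : Nat.card N = Nat.card Ω := by
    have h1 : (stabilizer N α).index = Nat.card Ω := index_stabilizer_of_transitive N α
    have h2 : stabilizer N α = ⊥ := by
      rw [Subgroup.eq_bot_iff_forall]
      intro x hx
      exact Subtype.ext (hreg x x.2 α hx)
    rw [h2, Subgroup.index_bot] at h1
    exact h1
  by_cases hall : ∀ g : G, (∀ ω : Ω, g • ω ≠ ω) → g ∈ N
  · left
    have hfix1 := (derangement_key htrans N hall).2
    have hfrob : ∀ g : G, g ≠ 1 → Nat.card (MulAction.fixedBy Ω g) ≤ 1 := by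
      intro g hg
      by_cases hgN : g ∈ N
      · have : IsEmpty (fixedBy Ω g) := ⟨fun ω => hNder g hgN hg ω.1 ω.2⟩
        rw [Nat.card_of_isEmpty]; omega
      · rw [hfix1 g hgN]
    have hfrob' : ∀ g : G, ∀ a b : Ω, g • a = a → g • b = b → a ≠ b → g = 1 := by
      intro g a b ha hb hab'
      by_contra hg
      have h1 := hfrob g hg
      rw [Finite.card_le_one_iff_subsingleton] at h1
      exact hab' (congrArg Subtype.val (h1.elim (⟨a, ha⟩ : fixedBy Ω g) ⟨b, hb⟩))
    -- counting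
    have hcount : 2 * Nat.card (stabilizer G α) = Nat.card Ω - 1 := by
      have hderconj : ∀ (x k : G), (∀ ω : Ω, x • ω ≠ ω) → ∀ ω : Ω, (k * x * k⁻¹) • ω ≠ ω := by
        intro x k hx ω hω
        apply hx (k⁻¹ • ω)
        rw [mul_smul, mul_smul, smul_eq_iff_eq_inv_smul] at hω
        exact hω
      let X := {c : ConjClasses G // ∃ g : G, ConjClasses.mk g = c ∧ ∀ ω : Ω, g • ω ≠ ω}
      let rep : X → G := fun c => c.2.choose
      have hrep : ∀ c : X, ConjClasses.mk (rep c) = c.1 ∧ ∀ ω : Ω, rep c • ω ≠ ω :=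
        fun c => c.2.choose_spec
      let φ : X × stabilizer G α → {g : G // ∀ ω : Ω, g • ω ≠ ω} := fun ch =>
        ⟨(ch.2 : G) * rep ch.1 * (ch.2 : G)⁻¹, hderconj _ _ (hrep ch.1).2⟩
      have hφ : Function.Bijective φ := by
        constructor
        · rintro ⟨c, h⟩ ⟨c', h'⟩ heq
          have heq' : (h : G) * rep c * (h : G)⁻¹ = (h' : G) * rep c' * (h' : G)⁻¹ :=
            congrArg Subtype.val heq
          have hcc : c = c' := by
            apply Subtype.ext
            rw [← (hrep c).1, ← (hrep c').1, ConjClasses.mk_eq_mk_iff_isConj, isConj_iff]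
            refine ⟨(h' : G)⁻¹ * h, ?_⟩
            calc (h' : G)⁻¹ * h * rep c * ((h' : G)⁻¹ * h)⁻¹
                = (h' : G)⁻¹ * ((h : G) * rep c * (h : G)⁻¹) * h' := by group
              _ = (h' : G)⁻¹ * ((h' : G) * rep c' * (h' : G)⁻¹) * h' := by rw [heq']
              _ = rep c' := by group
          subst hcc
          have hx := (hrep c).2
          set x := rep c with hxdef
          -- k = h'⁻¹ h commutes with x
          have hk : ((h' : G)⁻¹ * h) * x = x * ((h' : G)⁻¹ * h) := by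
            calc ((h' : G)⁻¹ * h) * x = (h' : G)⁻¹ * ((h : G) * x * (h : G)⁻¹) * h := by group
              _ = (h' : G)⁻¹ * ((h' : G) * x * (h' : G)⁻¹) * h := by rw [heq']
              _ = x * ((h' : G)⁻¹ * h) := by group
          have hkα : ((h' : G)⁻¹ * h) • α = α := by
            rw [mul_smul, h.2, inv_smul_eq_iff, h'.2]
          have hkx : ((h' : G)⁻¹ * h) • (x • α) = x • α := by
            rw [← mul_smul, hk, mul_smul, hkα]
          have := hfrob' _ α (x • α) hkα hkx (hx α).symm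
          have hh : (h : G) = h' := by
            have := congrArg (fun z => (h' : G) * z) this
            simpa using this
          rw [Subtype.ext hh]
        · rintro ⟨g, hg⟩
          let c : X := ⟨ConjClasses.mk g, g, rfl, hg⟩
          have h1 : IsConj (rep c) g := ConjClasses.mk_eq_mk_iff_isConj.mp (hrep c).1
          rw [isConj_iff] at h1
          obtain ⟨k, hk⟩ := h1
          obtain ⟨h, hh, hkh⟩ := hconjN (rep c) (hall _ (hrep c).2) k
          refine ⟨(c, ⟨h, hh⟩), ?_⟩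
          apply Subtype.ext
          show h * rep c * h⁻¹ = g
          rw [← hkh, hk]
      have e1 : Nat.card {g : G // ∀ ω : Ω, g • ω ≠ ω} = 2 * Nat.card (stabilizer G α) := by
        rw [← Nat.card_congr (Equiv.ofBijective φ hφ), Nat.card_prod, hκ]
      have e2 : Nat.card {g : G // ∀ ω : Ω, g • ω ≠ ω} + 1 = Nat.card N := by
        have e3 : {g : G // ∀ ω : Ω, g • ω ≠ ω} ≃ {x : N // x ≠ 1} :=
          { toFun := fun g => ⟨⟨g.1, hall g.1 g.2⟩, fun h => g.2 α (by
              have : g.1 = 1 := congrArg Subtype.val h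
              rw [this, one_smul])⟩
            invFun := fun x => ⟨x.1.1, hNder x.1.1 x.1.2 (fun h => x.2 (Subtype.ext h))⟩
            left_inv := fun _ => rfl
            right_inv := fun _ => rfl }
        rw [Nat.card_congr e3, ← Finite.card_option, Nat.card_congr (Equiv.optionSubtypeNe (1 : N))]
      omega
    refine ⟨hNex, hfrob, ?_, ?_⟩
    · rw [← Nat.card_eq_fintype_card]
      intro h2
      omega
    · rw [← Nat.card_eq_fintype_card]; exact hcount
  · right
    push Not at hall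
    obtain ⟨g₀, hg₀, hg₀N⟩ := hall
    have hg₀c : ∀ x ∈ N, ¬ IsConj x g₀ := by
      intro x hx h
      rw [isConj_iff] at h
      obtain ⟨k, rfl⟩ := h
      exact hg₀N (hNn.conj_mem x hx k)
    have hone : ∀ x ∈ N, ∀ x' ∈ N, x ≠ 1 → x' ≠ 1 → IsConj x x' := by
      intro x hx x' hx' hx1 hx'1
      by_contra hnc
      exact not_three hκ x x' g₀ (hNder x hx hx1) (hNder x' hx' hx'1) hg₀ hnc (hg₀c x hx)
        (hg₀c x' hx')
    refine ⟨hNex, ?_, ?_⟩
    · rw [is_two_pretransitive_iff]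
      intro a b c d hab' hcd
      obtain ⟨g₁, hg₁⟩ := htrans.exists_smul_eq a α
      obtain ⟨g₂, hg₂⟩ := htrans.exists_smul_eq c α
      obtain ⟨x, hx⟩ := hNtr.exists_smul_eq α (g₁ • b)
      obtain ⟨x', hx'⟩ := hNtr.exists_smul_eq α (g₂ • d)
      have hx_ : (x : G) • α = g₁ • b := hx
      have hx'_ : (x' : G) • α = g₂ • d := hx'
      have hx1 : (x : G) ≠ 1 := by
        intro h
        rw [h, one_smul, ← hg₁] at hx_
        exact hab' (smul_left_cancel g₁ hx_)
      have hx'1 : (x' : G) ≠ 1 := by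
        intro h
        rw [h, one_smul, ← hg₂] at hx'_
        exact hcd (smul_left_cancel g₂ hx'_)
      have hc := hone x x.2 x' x'.2 hx1 hx'1
      rw [isConj_iff] at hc
      obtain ⟨k, hk⟩ := hc
      obtain ⟨h, hh, hkh⟩ := hconjN x x.2 k
      rw [hkh] at hk
      have hhinv : h⁻¹ • α = α := by rw [inv_smul_eq_iff, hh]
      refine ⟨g₂⁻¹ * h * g₁, ?_, ?_⟩
      · rw [mul_smul, mul_smul, hg₁, hh, ← hg₂, inv_smul_smul]
      · rw [mul_smul, mul_smul, ← hx_, inv_smul_eq_iff, ← hx'_, ← hk, mul_smul, mul_smul, hhinv]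
    · by_contra hcon
      push Not at hcon
      have h1 : ∀ g : G, g ∉ N → Nat.card (fixedBy Ω g) ≤ 1 := by
        intro g hg
        have hg1 : g ≠ 1 := fun h => hg (h ▸ N.one_mem)
        have := hcon g hg1
        omega
      have h2 := fix_eq_one_of_le_one htrans N hNtr h1 g₀ hg₀N
      have : IsEmpty (fixedBy Ω g₀) := ⟨fun ω => hg₀ ω.1 ω.2⟩
      rw [Nat.card_of_isEmpty] at h2
      omega

end Cfsg.Agent.S3520
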