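import Cfsg.Statements.S3493
import Cfsg.Agent.Lib.Helper58.EP1
import Cfsg.Agent.Lib.Helper58.Manning
import Cfsg.Agent.S3497
import Cfsg.Agent.S3520

set_option autoImplicit false
open Cfsg

namespace Cfsg.Agent.S3493

open MulAction Subgroup Cfsg.Agent.Lib.Helper58 Cfsg.Agent.Lib.Helper59
open scoped Pointwise

variable {G : Type*} [Group G] [Finite G] {Ω : Type*} [Finite Ω] [MulAction G Ω] [FaithfulSMul G Ω]

theorem inf_stabilizer_normalized (N : Subgroup G) (hNn : N.Normal) (α : Ω) :
    stabilizer G α ≤ normalizer ((N ⊓ stabilizer G α : Subgroup G) : Set G) := by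
  intro h hh
  have hinv : h⁻¹ ∈ stabilizer G α := inv_mem hh
  rw [mem_normalizer_iff]
  intro x
  constructor
  · rintro ⟨hx1, hx2⟩
    exact ⟨hNn.conj_mem x hx1 h, (stabilizer G α).mul_mem ((stabilizer G α).mul_mem hh hx2) hinv⟩
  · rintro ⟨hx1, hx2⟩
    have e : x = h⁻¹ * (h * x * h⁻¹) * h⁻¹⁻¹ := by group
    rw [e]
    exact ⟨hNn.conj_mem _ hx1 h⁻¹, (stabilizer G α).mul_mem ((stabilizer G α).mul_mem hinv hx2)
      ((stabilizer G α).inv_mem hinv)⟩

/-- If `N_α ≠ 1`, a minimal normal subgroup `T` of `N` is transitive. -/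
theorem trans_of_inf_ne_bot (hprim : IsPreprimitive G Ω)
    (hep : ∀ (α ω : Ω), IsPreprimitive (stabilizer G α) (orbit (stabilizer G α) ω))
    {N T : Subgroup G} (hNn : N.Normal) (hT : IsMinInv N T) (hNtr : IsPretransitive N Ω) (α : Ω)
    (hNα : N ⊓ stabilizer G α ≠ ⊥) : ∀ ω : Ω, ∃ t ∈ T, t • α = ω := by
  set B : Set Ω := {ω | ∃ t ∈ T, t • α = ω} with hB
  have hBfin : B.Finite := Set.toFinite B
  obtain ⟨t₀, ht₀, ht₀α⟩ := exists_moves hT hNtr α
  have hnt : Nontrivial Ω := ⟨⟨t₀ • α, α, ht₀α⟩⟩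
  have hco := IsPreprimitive.isCoatom_stabilizer_of_isPreprimitive (G := G) α
  have hHL : stabilizer G α ≤ stabilizer G B := by
    intro h hh
    rw [mem_stabilizer_set_iff_smul_set_subset hBfin]
    rintro _ ⟨_, ⟨t, ht, rfl⟩, rfl⟩
    obtain ⟨k, hk, hkt⟩ := manning_same_orbits (K₀ := N ⊓ stabilizer G α) inf_le_right
      (inf_stabilizer_normalized N hNn α) hep hNα (t • α) h hh
    show h • (t • α) ∈ B
    rw [← hkt]
    have hkα : k • α = α := hk.2
    have hkinv : k⁻¹ • α = α := by rw [inv_smul_eq_iff, hkα]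
    refine ⟨k * t * k⁻¹, hT.2.2.1 k hk.1 t ht, ?_⟩
    rw [mul_smul, mul_smul, hkinv]
  have hTL : T ≤ stabilizer G B := by
    intro s hs
    rw [mem_stabilizer_set_iff_smul_set_subset hBfin]
    rintro _ ⟨_, ⟨t, ht, rfl⟩, rfl⟩
    exact ⟨s * t, T.mul_mem hs ht, mul_smul _ _ _⟩
  have hlt : stabilizer G α < stabilizer G B := by
    refine lt_of_le_of_ne hHL ?_
    intro h
    apply ht₀α
    have : t₀ ∈ stabilizer G α := by rw [h]; exact hTL ht₀
    exact this
  have htop := hco.2 _ hlt
  intro ω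
  obtain ⟨g, rfl⟩ := exists_smul_eq G α ω
  have hg : g ∈ stabilizer G B := by rw [htop]; trivial
  have hgB : g • B = B := hg
  have : g • α ∈ g • B := Set.smul_mem_smul_set ⟨1, T.one_mem, one_smul _ _⟩
  rw [hgB] at this
  exact this

/-- If `N` is regular and `T` is not normal in `G`, there is an abelian normal subgroup. -/
theorem regular_case (hprim : IsPreprimitive G Ω)
    (hep : ∀ (α ω : Ω), IsPreprimitive (stabilizer G α) (orbit (stabilizer G α) ω))
    {N T : Subgroup G} (hN : IsMinInv ⊤ N) (hT : IsMinInv N T)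
    (hTnab : ¬ ∀ s ∈ T, ∀ t ∈ T, s * t = t * s) (hNtr : IsPretransitive N Ω) (α : Ω)
    (hNα : N ⊓ stabilizer G α = ⊥) (hH : stabilizer G α ≠ ⊥) (hg : ∃ g, cj g T ≠ T) :
    ∃ A : Subgroup G, A.Normal ∧ A ≠ ⊥ ∧ ∀ a ∈ A, ∀ b ∈ A, a * b = b * a := by
  have hNn : N.Normal := (invUnder_top_iff N).mp hN.2.2.1
  obtain ⟨t, ht, ht1⟩ : ∃ t ∈ T, t ≠ 1 := by
    by_contra hcon
    push Not at hcon
    exact hT.2.1 ((eq_bot_iff_forall T).2 hcon)
  have htN : t ∈ N := hT.1 ht
  have hω : t • α ≠ α := by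
    intro h
    have : t ∈ N ⊓ stabilizer G α := ⟨htN, h⟩
    rw [hNα, mem_bot] at this
    exact ht1 this
  have hnt : Nontrivial Ω := ⟨⟨t • α, α, hω⟩⟩
  have hco := IsPreprimitive.isCoatom_stabilizer_of_isPreprimitive (G := G) α
  have hmove : ∃ g : G, g • α = α ∧ g • (t • α) ≠ t • α := by
    by_contra hcon
    push Not at hcon
    apply hH
    exact manning_eq_bot (K₀ := stabilizer G α) le_rfl le_normalizer hep hω (fun k hk => hcon k hk)
  -- an element of `G_α` fixing `tα` centralises `t`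
  have hkey : ∀ h : G, h • α = α → h • (t • α) = t • α → h * t * h⁻¹ = t := by
    intro h hh hht
    have hinv : h⁻¹ • α = α := by rw [inv_smul_eq_iff, hh]
    have : t⁻¹ * (h * t * h⁻¹) ∈ N ⊓ stabilizer G α := by
      refine ⟨N.mul_mem (N.inv_mem htN) (hNn.conj_mem t htN h), ?_⟩
      show (t⁻¹ * (h * t * h⁻¹)) • α = α
      rw [mul_smul, mul_smul, mul_smul, hinv, hht, inv_smul_smul]
    rw [hNα, mem_bot, inv_mul_eq_one] at this
    exact this.symm
  have hcjT : ∀ h : G, h * t * h⁻¹ = t → cj h T = T := by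
    intro h hh
    rcases cj_eq_or_commute hNn hT h with e | e
    · exact e
    · exfalso
      apply ht1
      apply center_trivial_of_isMinInv hT hTnab t ht
      intro s hs
      have : t ∈ cj h T := by
        have := conj_mem_cj (g := h) ht
        rwa [hh] at this
      exact (e s hs t this).symm
  let L : Subgroup G :=
    { carrier := {h | h • α = α ∧ cj h T = T}
      one_mem' := ⟨one_smul _ _, by ext x; rw [mem_cj]; simp⟩
      mul_mem' := by
        rintro a b ⟨ha, ha'⟩ ⟨hb, hb'⟩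
        refine ⟨by rw [mul_smul, hb, ha], ?_⟩
        ext x
        rw [mem_cj]
        have e : (a * b)⁻¹ * x * (a * b) = b⁻¹ * (a⁻¹ * x * a) * b := by group
        rw [e, ← mem_cj, hb', ← mem_cj, ha']
      inv_mem' := by
        rintro a ⟨ha, ha'⟩
        refine ⟨by rw [inv_smul_eq_iff, ha], ?_⟩
        ext x
        rw [mem_cj, inv_inv]
        constructor
        · intro h
          have h2 : a * x * a⁻¹ ∈ cj a T := by rw [ha']; exact h
          rw [mem_cj] at h2
          have e : a⁻¹ * (a * x * a⁻¹) * a = x := by group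
          rwa [e] at h2
        · intro h
          have := conj_mem_cj (g := a) h
          rwa [ha'] at this }
  have hM := EP1.max_of_hep (hep α) hmove L
    (fun g hg hgt => ⟨hg, hcjT g (hkey g hg hgt)⟩) (fun g hg => hg.1)
  rcases hM with hM | hM
  · -- the conjugates of `t` under `G_α` commute
    set X : Set G := {x | ∃ h : G, h • α = α ∧ x = h * t * h⁻¹} with hX
    have hcomm : ∀ x ∈ X, ∀ y ∈ X, x * y = y * x := by
      rintro _ ⟨h, hh, rfl⟩ _ ⟨h', hh', rfl⟩
      have hk : (h'⁻¹ * h) • α = α := by rw [mul_smul, hh, inv_smul_eq_iff, hh']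
      have h1 : ((h'⁻¹ * h) * t * (h'⁻¹ * h)⁻¹) * t = t * ((h'⁻¹ * h) * t * (h'⁻¹ * h)⁻¹) := by
        rcases cj_eq_or_commute hNn hT (h'⁻¹ * h) with e | e
        · have h2 := hM (h'⁻¹ * h) ⟨hk, e⟩
          rw [hkey _ hk h2]
        · exact (e t ht _ (conj_mem_cj ht)).symm
      calc h * t * h⁻¹ * (h' * t * h'⁻¹)
          = h' * (((h'⁻¹ * h) * t * (h'⁻¹ * h)⁻¹) * t) * h'⁻¹ := by group
        _ = h' * (t * ((h'⁻¹ * h) * t * (h'⁻¹ * h)⁻¹)) * h'⁻¹ := by rw [h1]
        _ = h' * t * h'⁻¹ * (h * t * h⁻¹) := by group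
    set A : Subgroup G := closure X with hA
    have hAc : ∀ a ∈ A, ∀ b ∈ A, a * b = b * a := by
      have h1 : X ⊆ centralizer X := by
        intro x hx
        rw [SetLike.mem_coe, mem_centralizer_iff]
        intro y hy
        exact hcomm y hy x hx
      have h2 : A ≤ centralizer X := (closure_le _).2 h1
      have h3 : A ≤ centralizer (A : Set G) := by
        rw [hA, centralizer_closure]
        exact h2
      intro a ha b hb
      exact ((mem_centralizer_iff.1 (h3 ha)) b hb).symm
    have htA : t ∈ A := Subgroup.subset_closure ⟨1, one_smul _ _, by simp⟩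
    have hAne : A ≠ ⊥ := by
      intro h
      rw [h, mem_bot] at htA
      exact ht1 htA
    have hHn : stabilizer G α ≤ normalizer (A : Set G) := by
      have hsub : ∀ h : G, h • α = α → ∀ a ∈ A, h * a * h⁻¹ ∈ A := by
        intro h hh a ha
        have : A ≤ A.comap (MulAut.conj h).toMonoidHom := by
          rw [hA, closure_le]
          rintro _ ⟨h', hh', rfl⟩
          show h * (h' * t * h'⁻¹) * h⁻¹ ∈ closure X
          apply Subgroup.subset_closure
          exact ⟨h * h', by rw [mul_smul, hh', hh], by group⟩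
        exact this ha
      intro h hh
      rw [mem_normalizer_iff]
      intro a
      constructor
      · exact hsub h hh a
      · intro ha
        have hinv : h⁻¹ • α = α := by rw [inv_smul_eq_iff]; exact (show h • α = α from hh).symm
        have := hsub h⁻¹ hinv _ ha
        have e : h⁻¹ * (h * a * h⁻¹) * h⁻¹⁻¹ = a := by group
        rwa [e] at this
    have hlt : stabilizer G α < normalizer (A : Set G) := by
      refine lt_of_le_of_ne hHn ?_
      intro h
      apply hω
      have : t ∈ stabilizer G α := by rw [h]; exact le_normalizer htA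
      exact this
    have htop := hco.2 _ hlt
    exact ⟨A, normalizer_eq_top_iff.1 htop, hAne, hAc⟩
  · -- `T` is normal in `G`
    exfalso
    obtain ⟨g, hg⟩ := hg
    apply hg
    obtain ⟨n, hn⟩ := hNtr.exists_smul_eq α (g • α)
    have hn' : (n : G) • α = g • α := hn
    have hh : ((n : G)⁻¹ * g) • α = α := by rw [mul_smul, ← hn', inv_smul_smul]
    have h1 : cj ((n : G)⁻¹ * g) T = T := (hM _ hh).2
    ext x
    rw [mem_cj]
    have e : g⁻¹ * x * g = ((n : G)⁻¹ * g)⁻¹ * ((n : G)⁻¹ * x * (n : G)⁻¹⁻¹) * ((n : G)⁻¹ * g) := by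
      group
    rw [e, ← mem_cj, h1]
    constructor
    · intro h
      have := hT.2.2.1 n n.2 _ h
      have e2 : (n : G) * ((n : G)⁻¹ * x * (n : G)⁻¹⁻¹) * (n : G)⁻¹ = x := by group
      rwa [e2] at this
    · intro h
      exact hT.2.2.1 _ (N.inv_mem n.2) x h

omit [Finite G] [Finite Ω] in
theorem left_of_abelian (hprim : IsPreprimitive G Ω) (A : Subgroup G) (hAn : A.Normal) (hA : A ≠ ⊥)
    (hc : ∀ a ∈ A, ∀ b ∈ A, a * b = b * a) :
    ∃ N : Subgroup G, N.Normal ∧ N ≠ ⊥ ∧ IsMulCommutative N ∧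
      ∀ ω : Ω, MulAction.stabilizer N ω = ⊥ := by
  refine ⟨A, hAn, hA, ⟨⟨fun a b => Subtype.ext (hc a a.2 b b.2)⟩⟩, fun ω => ?_⟩
  obtain ⟨-, h2⟩ := Cfsg.Agent.S3497.abelian_normal hprim A hA
  rw [eq_bot_iff_forall]
  intro a ha
  apply Subtype.ext
  exact h2 ω a (fun b hb => hc a a.2 b hb) ha

end Cfsg.Agent.S3493

namespace Cfsg.Agent.S3493

open MulAction Subgroup Cfsg.Agent.Lib.Helper58 Cfsg.Agent.Lib.Helper59
open scoped Pointwise

/-- An extremely primitive permutation group is of affine type or almost simple. Let a finite group G act faithfully and primitively on a finite set Ω with at least two points, in such a way that every point stabilizer acts primitively on each of its own orbits in Ω (an orbit of size one counts as primitive). Then either G has a non-trivial abelian normal subgroup whose elements other than the identity fix no point (affine type), or G has a non-abelian simple normal subgroup with trivial centralizer (almost simple). -/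
theorem result {G : Type*} [Group G] [Finite G] {Ω : Type*} [Fintype Ω] [MulAction G Ω] [FaithfulSMul G Ω] (hΩ : 2 ≤ Fintype.card Ω) (hprim : MulAction.IsPreprimitive G Ω) (hep : ∀ (α : Ω) (ω : Ω), MulAction.IsPreprimitive (MulAction.stabilizer G α) (MulAction.orbit (MulAction.stabilizer G α) ω)) :
    (∃ N : Subgroup G, N.Normal ∧ N ≠ ⊥ ∧ IsMulCommutative N ∧ ∀ ω : Ω, MulAction.stabilizer N ω = ⊥) ∨ (∃ T : Subgroup G, T.Normal ∧ IsSimpleGroup T ∧ ¬ IsMulCommutative T ∧ Subgroup.centralizer (T : Set G) = ⊥) := by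
  classical
  by_cases hNA : ∃ A : Subgroup G, A.Normal ∧ A ≠ ⊥ ∧ ∀ a ∈ A, ∀ b ∈ A, a * b = b * a
  · obtain ⟨A, hAn, hA, hc⟩ := hNA
    exact Or.inl (left_of_abelian hprim A hAn hA hc)
  right
  have hnt : Nontrivial Ω := Fintype.one_lt_card_iff_nontrivial.1 (by omega)
  obtain ⟨α⟩ : Nonempty Ω := inferInstance
  have htrans : IsPretransitive G Ω := hprim.toIsPretransitive
  have hGtop : (⊤ : Subgroup G) ≠ ⊥ := by
    intro h
    obtain ⟨a, b, hab⟩ := exists_pair_ne Ω
    obtain ⟨g, hg⟩ := exists_smul_eq G a b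
    have : g ∈ (⊥ : Subgroup G) := h ▸ mem_top g
    rw [mem_bot] at this
    rw [this, one_smul] at hg
    exact hab hg
  -- the point stabiliser is non-trivial
  have hH : stabilizer G α ≠ ⊥ := by
    intro h
    have hp := Cfsg.Agent.S3497.card_prime_of_regular hprim α h
    have : Fact (Nat.card G).Prime := ⟨hp⟩
    have hcyc : IsCyclic G := isCyclic_of_prime_card rfl
    apply hNA
    refine ⟨⊤, inferInstance, hGtop, fun a _ b _ => ?_⟩
    obtain ⟨g, hg⟩ := hcyc.exists_generator
    obtain ⟨i, rfl⟩ := mem_zpowers_iff.1 (hg a)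
    obtain ⟨j, rfl⟩ := mem_zpowers_iff.1 (hg b)
    rw [← zpow_add, ← zpow_add, add_comm]
  obtain ⟨N, hN⟩ := exists_isMinInv (⊤ : Subgroup G) hGtop
  have hNn : N.Normal := (invUnder_top_iff N).mp hN.2.2.1
  have hN0 : N ≠ ⊥ := hN.2.1
  have hNtr : IsPretransitive N Ω := isPretransitive_of_normal_of_ne_bot hprim N hNn hN0
  have hNnab : ¬ ∀ x ∈ N, ∀ y ∈ N, x * y = y * x := fun h => hNA ⟨N, hNn, hN0, h⟩
  obtain ⟨T, hT⟩ := exists_isMinInv N hN0
  have hTnab : ¬ ∀ s ∈ T, ∀ t ∈ T, s * t = t * s := fun h =>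
    hNnab (commute_of_isMinInv_of_commute hN hT h)
  have hTT : IsMinInv T T := by
    refine ⟨le_rfl, hT.2.1, fun n hn t ht => T.mul_mem (T.mul_mem hn ht) (T.inv_mem hn), ?_⟩
    intro K hK hK0 hKinv
    apply hT.2.2.2 K hK hK0
    intro n hn k hk
    obtain ⟨c, t, ht, -, hc, rfl⟩ := exists_centralizing_factor hN hT n hn
    have h1 : t * k * t⁻¹ ∈ K := hKinv t ht k hk
    have h2 : c * t * k * (c * t)⁻¹ = c * (t * k * t⁻¹) * c⁻¹ := by group
    rw [h2, hc _ (hK h1), mul_inv_cancel_right]
    exact h1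
  have hTs : IsSimpleGroup T := Cfsg.Agent.S3520.isSimpleGroup_of_isMinInv_self hTT
  have hctr : ∀ z ∈ T, (∀ x ∈ T, x * z = z * x) → z = 1 := by
    intro z hz hzc
    exact center_trivial_of_isMinInv hT hTnab z hz (fun t ht => (hzc t ht).symm)
  have hconjT : ∀ h : G, (∀ t ∈ T, h * t * h⁻¹ ∈ T) ∨
      (∀ t ∈ T, ∀ s ∈ T, (h * t * h⁻¹) * s = s * (h * t * h⁻¹)) := by
    intro h
    rcases cj_eq_or_commute hNn hT h with e | e
    · left
      intro t ht
      have := conj_mem_cj (g := h) ht
      rwa [e] at this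
    · right
      intro t ht s hs
      exact (e s hs _ (conj_mem_cj ht)).symm
  by_cases hconj : ∀ g : G, cj g T = T
  · -- `T` is normal in `G`
    have hTn : T.Normal := by
      constructor
      intro t ht g
      have := conj_mem_cj (g := g) ht
      rwa [hconj g] at this
    by_cases hC : centralizer (T : Set G) = ⊥
    · refine ⟨T, hTn, hTs, ?_, hC⟩
      intro hcom
      apply hTnab
      intro s hs t ht
      exact congrArg Subtype.val (mul_comm' (⟨s, hs⟩ : T) ⟨t, ht⟩)
    · exfalso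
      have hCn : (centralizer (T : Set G)).Normal := inferInstance
      have hTtr : IsPretransitive T Ω := isPretransitive_of_normal_of_ne_bot hprim T hTn hT.2.1
      have hCtr : IsPretransitive (centralizer (T : Set G)) Ω :=
        isPretransitive_of_normal_of_ne_bot hprim _ hCn hC
      have S : EP1.HS α T (centralizer (T : Set G)) :=
        { trT := fun ω => by
            obtain ⟨t, ht⟩ := hTtr.exists_smul_eq α ω
            exact ⟨t, t.2, ht⟩
          trC := fun ω => by
            obtain ⟨c, hc⟩ := hCtr.exists_smul_eq α ω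
            exact ⟨c, c.2, hc⟩
          comm := fun t ht c hc => (mem_centralizer_iff.1 hc) t ht
          conj := fun h _ => hconjT h
          ctr := hctr }
      exact S.false (hep α) hTnab
  · exfalso
    push Not at hconj
    obtain ⟨g, hg⟩ := hconj
    by_cases hNα : N ⊓ stabilizer G α = ⊥
    · exact hNA (regular_case hprim hep hN hT hTnab hNtr α hNα hH ⟨g, hg⟩)
    · have htrT := trans_of_inf_ne_bot hprim hep hNn hT hNtr α hNα
      have hcomm : ∀ t ∈ T, ∀ s ∈ cj g T, t * s = s * t := by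
        rcases cj_eq_or_commute hNn hT g with e | e
        · exact absurd e hg
        · exact e
      have S : EP1.HS α T (cj g T) :=
        { trT := htrT
          trC := fun ω => by
            obtain ⟨t₁, ht₁, h₁⟩ := htrT (g⁻¹ • α)
            obtain ⟨t₂, ht₂, h₂⟩ := htrT (g⁻¹ • ω)
            refine ⟨g * (t₂ * t₁⁻¹) * g⁻¹, conj_mem_cj (T.mul_mem ht₂ (T.inv_mem ht₁)), ?_⟩
            rw [mul_smul, mul_smul, mul_smul, ← h₁, inv_smul_smul, h₂, smul_inv_smul]
          comm := hcomm
          conj := fun h _ => hconjT h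
          ctr := hctr }
      exact S.false (hep α) hTnab

end Cfsg.Agent.S3493
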