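import Cfsg.Statements.S3496
import Cfsg.Agent.S3495
import Cfsg.Agent.S3497
import Cfsg.Agent.Lib.Helper1.MinimalNormal

set_option autoImplicit false
open Cfsg

namespace Cfsg.Agent.S3496

universe u

open scoped IsMulCommutative in
theorem exists_field (p : ℕ) [Fact p.Prime] (A : Type u) [Ring A] [Algebra (ZMod p) A] [Finite A] [Nontrivial A]
    (S : Subalgebra (ZMod p) A) [IsMulCommutative S]
    (hdom : ∀ x ∈ S, ∀ y ∈ S, x * y = 0 → x = 0 ∨ y = 0) :
    ∃ (K : Type u) (_ : Field K) (_ : Algebra (ZMod p) K) (ι : K →ₐ[ZMod p] A),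
      Function.Injective ι ∧ ∀ a, a ∈ S ↔ ∃ x, ι x = a := by
  have hd : IsDomain S := by
    have : NoZeroDivisors S := ⟨by
      intro a b hab
      have := hdom a a.2 b b.2 (congrArg Subtype.val hab)
      rcases this with h | h
      · left; exact Subtype.ext h
      · right; exact Subtype.ext h⟩
    exact NoZeroDivisors.to_isDomain S
  have hf : IsField S := Finite.isField_of_domain S
  refine ⟨S, hf.toField, inferInstance, S.val, Subtype.val_injective, fun a => ?_⟩
  constructor
  · intro ha; exact ⟨⟨a, ha⟩, rfl⟩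
  · rintro ⟨x, rfl⟩; exact x.2

theorem gal_lemma (p : ℕ) [Fact p.Prime] {K : Type*} [Field K] [Finite K] [Algebra (ZMod p) K]
    {Γ : Type*} [Group Γ] [Finite Γ] (φ : Γ →* (K ≃ₐ[ZMod p] K)) :
    (∃ g : Γ, φ.ker ⊔ Subgroup.zpowers g = ⊤) ∧
      Nat.card Γ ∣ Nat.card φ.ker * Module.finrank (ZMod p) K := by
  constructor
  · have : IsCyclic φ.range := inferInstance
    obtain ⟨⟨_, g, rfl⟩, hg⟩ := this.exists_zpow_surjective
    refine ⟨g, ?_⟩
    rw [eq_top_iff]
    intro x _
    obtain ⟨k, hk⟩ := hg ⟨φ x, x, rfl⟩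
    have hk' : φ g ^ k = φ x := congrArg Subtype.val hk
    have h1 : x * (g ^ k)⁻¹ ∈ φ.ker := by
      rw [MonoidHom.mem_ker, map_mul, map_inv, map_zpow, hk', mul_inv_cancel]
    have h2 : x = (x * (g ^ k)⁻¹) * g ^ k := by group
    rw [h2]
    exact Subgroup.mul_mem _ (Subgroup.mem_sup_left h1)
      (Subgroup.mem_sup_right (Subgroup.zpow_mem_zpowers g k))
  · rw [← Subgroup.card_mul_index φ.ker, Subgroup.index_ker]
    apply Nat.mul_dvd_mul_left
    rw [← IsGalois.card_aut_eq_finrank (ZMod p) K]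
    exact Subgroup.card_subgroup_dvd_card _

theorem core_field (p d : ℕ) [Fact p.Prime] {W : Type*} [AddCommGroup W] [Module (ZMod p) W]
    [Finite W] (hW : Nat.card W = p ^ d) {H : Type*} [Group H] [Finite H]
    (ρ : H →* Module.End (ZMod p) W) (hρ : Function.Injective ρ)
    (T : Subgroup H)
    (hcent : ∀ c : H, (∀ a ∈ T, c * a = a * c) → c ∈ T)
    {K : Type*} [Field K] [Algebra (ZMod p) K] (ι : K →ₐ[ZMod p] Module.End (ZMod p) W)
    (hι : Function.Injective ι)
    (hbij : ∃ w : W, Function.Bijective (fun x : K => ι x w))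
    (hT : ∀ t ∈ T, ∃ x, ι x = ρ t)
    (hconj : ∀ (h : H) (x : K), ∃ y, ι y = ρ h * ι x * ρ h⁻¹)
    (hgen : Algebra.adjoin (ZMod p) {x : K | ∃ t ∈ T, ι x = ρ t} = ⊤) :
    IsCyclic T ∧ Nat.card T ∣ p ^ d - 1 ∧ (∀ i, 0 < i → i < d → ¬ Nat.card T ∣ p ^ i - 1) ∧
      (∃ h : H, T ⊔ Subgroup.zpowers h = ⊤) ∧ Nat.card H ∣ Nat.card T * d := by
  classical
  have hp : p.Prime := Fact.out
  obtain ⟨w, hw⟩ := hbij
  have hfinK : Finite K := Finite.of_injective _ hw.1
  have hcardK : Nat.card K = p ^ d := by rw [← hW]; exact Nat.card_eq_of_bijective _ hw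
  have hrank : Module.finrank (ZMod p) K = d := by
    have h := Module.natCard_eq_pow_finrank (K := ZMod p) (V := K)
    rw [hcardK, Nat.card_zmod] at h
    exact (Nat.pow_right_injective hp.two_le h).symm
  choose τ hτ using fun t : T => hT t t.2
  let τh : T →* K :=
    { toFun := τ
      map_one' := hι (by rw [hτ, map_one]; simp)
      map_mul' := fun a b => hι (by rw [hτ, map_mul, hτ, hτ]; simp) }
  have hτh : ∀ t, ι (τh t) = ρ t := hτ
  have hτinj : Function.Injective τh := fun a b hab =>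
    Subtype.ext (hρ (by rw [← hτh a, ← hτh b, hab]))
  have hcyc : IsCyclic T := isCyclic_of_subgroup_isDomain τh hτinj
  have hdvd : Nat.card T ∣ p ^ d - 1 := by
    have h1 : Nat.card Kˣ = p ^ d - 1 := by rw [Nat.card_units, hcardK]
    rw [← h1]
    apply Subgroup.card_dvd_of_injective τh.toHomUnits
    intro a b hab
    apply hτinj
    have := congrArg Units.val hab
    simpa using this
  refine ⟨hcyc, hdvd, ?_, ?_⟩
  · intro i hi hid hdi
    have hfr : FiniteField.frobeniusAlgHom (ZMod p) K ^ i = 1 := by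
      apply AlgHom.ext_of_adjoin_eq_top hgen
      rintro x ⟨t, ht, hx⟩
      have hx' : x = τh ⟨t, ht⟩ := hι (by rw [hx, hτh])
      rw [AlgHom.coe_pow, FiniteField.coe_frobeniusAlgHom, pow_iterate, AlgHom.one_apply, ZMod.card]
      have h1 : (⟨t, ht⟩ : T) ^ (p ^ i - 1) = 1 := by
        obtain ⟨k, hk⟩ := hdi
        rw [hk, pow_mul, pow_card_eq_one', one_pow]
      have h2 : x ^ (p ^ i - 1) = 1 := by rw [hx', ← map_pow, h1, map_one]
      have h3 : p ^ i = (p ^ i - 1) + 1 := by
        have := Nat.pow_pos (n := i) hp.pos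
        omega
      change x ^ (p ^ i) = x
      rw [h3, pow_succ, h2, one_mul]
    have h4 := orderOf_dvd_of_pow_eq_one hfr
    rw [FiniteField.orderOf_frobeniusAlgHom, hrank] at h4
    have := Nat.le_of_dvd hi h4
    omega
  · choose c hc using hconj
    have hρinv : ∀ h : H, ρ h * ρ h⁻¹ = 1 := fun h => by rw [← map_mul, mul_inv_cancel, map_one]
    have hρinv' : ∀ h : H, ρ h⁻¹ * ρ h = 1 := fun h => by rw [← map_mul, inv_mul_cancel, map_one]
    let ca : H → (K →ₐ[ZMod p] K) := fun h =>
      { toFun := c h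
        map_one' := hι (by rw [hc, map_one, mul_one, hρinv])
        map_mul' := fun x y => hι (by
          rw [hc, map_mul, map_mul, hc, hc]
          calc ρ h * (ι x * ι y) * ρ h⁻¹ = ρ h * ι x * 1 * ι y * ρ h⁻¹ := by
                rw [mul_one]; simp only [mul_assoc]
            _ = _ := by rw [← hρinv' h]; simp only [mul_assoc])
        map_zero' := hι (by rw [hc, map_zero, mul_zero, zero_mul])
        map_add' := fun x y => hι (by rw [hc, map_add, map_add, hc, hc, mul_add, add_mul])
        commutes' := fun r => hι (by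
          rw [hc, AlgHom.commutes, ← Algebra.commutes, mul_assoc, hρinv, mul_one]) }
    have hca : ∀ h x, ι (ca h x) = ρ h * ι x * ρ h⁻¹ := hc
    let cm : H →* (K →ₐ[ZMod p] K) :=
      { toFun := ca
        map_one' := AlgHom.ext fun x => hι (by rw [hca]; simp)
        map_mul' := fun a b => AlgHom.ext fun x => hι (by
          rw [hca, AlgHom.mul_apply, hca, hca, map_mul, mul_inv_rev, map_mul]
          simp only [mul_assoc]) }
    have hcm : ∀ h x, ι (cm h x) = ρ h * ι x * ρ h⁻¹ := hc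
    have : Module.Finite (ZMod p) K := Module.Finite.of_finite
    let φ : H →* (K ≃ₐ[ZMod p] K) :=
      (Algebra.IsAlgebraic.algEquivEquivAlgHom (ZMod p) K).symm.toMonoidHom.comp cm
    have hker : φ.ker = T := by
      ext h
      rw [MonoidHom.mem_ker]
      have h1 : φ h = 1 ↔ cm h = 1 := by
        change (Algebra.IsAlgebraic.algEquivEquivAlgHom (ZMod p) K).symm (cm h) = 1 ↔ _
        rw [MulEquiv.map_eq_one_iff]
      rw [h1]
      constructor
      · intro hh
        apply hcent
        intro a ha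
        apply hρ
        have h2 := hcm h (τh ⟨a, ha⟩)
        rw [hh, AlgHom.one_apply, hτh] at h2
        rw [map_mul, map_mul]
        calc ρ h * ρ a = ρ h * ρ a * (ρ h⁻¹ * ρ h) := by rw [hρinv', mul_one]
          _ = (ρ h * ρ a * ρ h⁻¹) * ρ h := by simp only [mul_assoc]
          _ = ρ a * ρ h := by rw [← h2]
      · intro hh
        apply AlgHom.ext
        intro x
        apply hι
        rw [hcm, AlgHom.one_apply, ← hτh ⟨h, hh⟩, ← map_mul, mul_comm, map_mul, hτh, mul_assoc, hρinv,
          mul_one]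
    have := gal_lemma p φ
    rw [hker, hrank] at this
    exact this

theorem core (p d : ℕ) [Fact p.Prime] {W : Type*} [AddCommGroup W] [Module (ZMod p) W]
    [Finite W] [Nontrivial W] (hW : Nat.card W = p ^ d) {H : Type*} [Group H] [Finite H]
    (ρ : H →* Module.End (ZMod p) W) (hρ : Function.Injective ρ)
    (T : Subgroup H) [hTn : T.Normal] (hTc : ∀ a ∈ T, ∀ b ∈ T, a * b = b * a)
    (hirr : ∀ U : Submodule (ZMod p) W, (∀ t ∈ T, ∀ u ∈ U, ρ t u ∈ U) → U = ⊥ ∨ U = ⊤)
    (hcent : ∀ c : H, (∀ a ∈ T, c * a = a * c) → c ∈ T) :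
    IsCyclic T ∧ Nat.card T ∣ p ^ d - 1 ∧ (∀ i, 0 < i → i < d → ¬ Nat.card T ∣ p ^ i - 1) ∧
      (∃ h : H, T ⊔ Subgroup.zpowers h = ⊤) ∧ Nat.card H ∣ Nat.card T * d := by
  classical
  set s : Set (Module.End (ZMod p) W) := ρ '' (T : Set H) with hs
  have hsc : ∀ a ∈ s, ∀ b ∈ s, a * b = b * a := by
    rintro _ ⟨a, ha, rfl⟩ _ ⟨b, hb, rfl⟩
    rw [← map_mul, ← map_mul, hTc a ha b hb]
  have hcS := Algebra.isMulCommutative_adjoin (ZMod p) hsc
  set S := Algebra.adjoin (ZMod p) s with hS
  have hTS : ∀ t ∈ T, ρ t ∈ S := fun t ht => Algebra.subset_adjoin ⟨t, ht, rfl⟩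
  have hcomm : ∀ x ∈ S, ∀ y ∈ S, x * y = y * x := fun x hx y hy =>
    congrArg Subtype.val (hcS.is_comm.comm ⟨x, hx⟩ ⟨y, hy⟩)
  have hinj : ∀ x ∈ S, x ≠ 0 → ∀ v, x v = 0 → v = 0 := by
    intro x hx hx0 v hv
    rcases hirr (LinearMap.ker x) (by
      intro t ht u hu
      rw [LinearMap.mem_ker] at hu ⊢
      have := hcomm x hx (ρ t) (hTS t ht)
      have h2 := LinearMap.congr_fun this u
      rw [Module.End.mul_apply, Module.End.mul_apply, hu, map_zero] at h2
      exact h2) with h | h
    · have : v ∈ LinearMap.ker x := hv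
      rw [h] at this
      exact this
    · exact absurd (LinearMap.ker_eq_top.1 h) hx0
  have hdom : ∀ x ∈ S, ∀ y ∈ S, x * y = 0 → x = 0 ∨ y = 0 := by
    intro x hx y hy hxy
    by_cases hx0 : x = 0
    · exact Or.inl hx0
    · right
      apply LinearMap.ext
      intro v
      apply hinj x hx hx0
      rw [← Module.End.mul_apply, hxy]; rfl
  have hfin : Finite (Module.End (ZMod p) W) := Finite.of_injective _ DFunLike.coe_injective
  obtain ⟨K, _, _, ι, hι, hSK⟩ := exists_field p (Module.End (ZMod p) W) S hdom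
  have hιS : ∀ x, ι x ∈ S := fun x => (hSK _).2 ⟨x, rfl⟩
  apply core_field p d hW ρ hρ T hcent ι hι
  · obtain ⟨w, hw⟩ := exists_ne (0 : W)
    refine ⟨w, ?_, ?_⟩
    · intro x y hxy
      by_contra hne
      apply hw
      apply hinj (ι (x - y)) (hιS _)
      · intro h0
        apply hne
        rw [← map_zero ι] at h0
        exact sub_eq_zero.1 (hι h0)
      · have hxy' : ι x w = ι y w := hxy
        rw [map_sub, LinearMap.sub_apply, hxy', sub_self]
    · let f : K →ₗ[ZMod p] W := (LinearMap.applyₗ w).comp ι.toLinearMap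
      have hf : ∀ x, f x = ι x w := fun x => rfl
      rcases hirr (LinearMap.range f) (by
        rintro t ht _ ⟨x, rfl⟩
        obtain ⟨y, hy⟩ := (hSK _).1 (S.mul_mem (hTS t ht) (hιS x))
        exact ⟨y, by rw [hf, hy, hf]; rfl⟩) with h | h
      · exfalso
        apply hw
        have : f 1 ∈ LinearMap.range f := ⟨1, rfl⟩
        rw [h, hf, map_one] at this
        exact this
      · intro v
        have : v ∈ LinearMap.range f := by rw [h]; trivial
        exact this
  · intro t ht
    exact (hSK _).1 (hTS t ht)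
  · intro h x
    apply (hSK _).1
    have hρinv : ρ h * ρ h⁻¹ = 1 := by rw [← map_mul, mul_inv_cancel, map_one]
    have hρinv' : ρ h⁻¹ * ρ h = 1 := by rw [← map_mul, inv_mul_cancel, map_one]
    refine Algebra.adjoin_induction (p := fun a _ => ρ h * a * ρ h⁻¹ ∈ S) ?_ ?_ ?_ ?_ (hιS x)
    · rintro _ ⟨t, ht, rfl⟩
      rw [← map_mul, ← map_mul]
      exact hTS _ (hTn.conj_mem t ht h)
    · intro r
      rw [← Algebra.commutes, mul_assoc, hρinv, mul_one]
      exact S.algebraMap_mem r
    · intro a b _ _ ha hb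
      rw [mul_add, add_mul]
      exact S.add_mem ha hb
    · intro a b _ _ ha hb
      have : ρ h * (a * b) * ρ h⁻¹ = (ρ h * a * ρ h⁻¹) * (ρ h * b * ρ h⁻¹) := by
        calc ρ h * (a * b) * ρ h⁻¹ = ρ h * a * 1 * b * ρ h⁻¹ := by
              rw [mul_one]; simp only [mul_assoc]
          _ = _ := by rw [← hρinv']; simp only [mul_assoc]
      rw [this]
      exact S.mul_mem ha hb
  · apply Subalgebra.map_injective hι
    rw [AlgHom.map_adjoin, Algebra.map_top]
    have h1 : ι '' {x : K | ∃ t ∈ T, ι x = ρ t} = s := by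
      ext a
      constructor
      · rintro ⟨x, ⟨t, ht, hx⟩, rfl⟩
        exact ⟨t, ht, hx.symm⟩
      · rintro ⟨t, ht, rfl⟩
        obtain ⟨x, hx⟩ := (hSK _).1 (hTS t ht)
        exact ⟨x, ⟨t, ht, hx⟩, hx⟩
    rw [h1]
    ext a
    rw [← hS, hSK, AlgHom.mem_range]

open MulAction in
open scoped IsMulCommutative in
/-- The soluble extremely primitive groups. Let a finite solvable group G act faithfully and primitively on a finite set Ω with p ^ d points (p prime), with non-trivial point stabilizers each acting primitively on every one of its orbits. Then there is a prime q such that every orbit of a point stabilizer G_α other than {α} has exactly q points, q divides p ^ d − 1 but no p ^ i − 1 with 0 < i < d, and G_α has a normal subgroup T of order q with G_α generated by T and one further element and the order of G_α dividing q·d (so G_α is cyclic of order q, or an extension of T by a cyclic group of order dividing d). -/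
theorem result {G : Type*} [Group G] [Finite G] {Ω : Type*} [Fintype Ω] [MulAction G Ω] [FaithfulSMul G Ω] [Group.IsSolvable G] (p d : ℕ) (hp : p.Prime) (hcard : Fintype.card Ω = p ^ d)
    (hprim : MulAction.IsPreprimitive G Ω) (hH : ∀ α : Ω, MulAction.stabilizer G α ≠ ⊥) (hep : ∀ (α : Ω) (ω : Ω), MulAction.IsPreprimitive (MulAction.stabilizer G α) (MulAction.orbit (MulAction.stabilizer G α) ω)) (α : Ω) :
    ∃ q : ℕ, q.Prime ∧ (∀ ω : Ω, ω ≠ α → Nat.card (MulAction.orbit (MulAction.stabilizer G α) ω) = q) ∧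
      q ∣ p ^ d - 1 ∧ (∀ i : ℕ, 0 < i → i < d → ¬ q ∣ p ^ i - 1) ∧
      ∃ T : Subgroup G, T ≤ MulAction.stabilizer G α ∧ MulAction.stabilizer G α ≤ Subgroup.normalizer (T : Set G) ∧ Nat.card T = q ∧
        (∃ h : G, MulAction.stabilizer G α = T ⊔ Subgroup.zpowers h) ∧ Nat.card (MulAction.stabilizer G α) ∣ q * d := by
  classical
  have : Fact p.Prime := ⟨hp⟩
  set H := stabilizer G α with hHdef
  have hHb : H ≠ ⊥ := hH α
  have hHnt : Nontrivial H := (Subgroup.nontrivial_iff_ne_bot H).2 hHb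
  have hGnt : Nontrivial G := by
    obtain ⟨a, b, hab⟩ := hHnt
    exact ⟨a, b, fun h => hab (Subtype.ext h)⟩
  -- the regular normal subgroup
  obtain ⟨V, hVn, hVb, hVmin⟩ := Cfsg.Agent.Lib.Helper1.exists_minimal_normal (G := G)
  obtain ⟨hVc, r, hr, hVr⟩ :=
    Cfsg.Agent.Lib.Helper1.minimal_normal_elementary_abelian V inferInstance hVb hVmin
  obtain ⟨hVtr, hVreg⟩ := Cfsg.Agent.S3497.abelian_normal hprim V hVb
  have hVcomm : ∀ a ∈ V, ∀ b ∈ V, a * b = b * a := fun a ha b hb =>
    congrArg Subtype.val (hVc.is_comm.comm ⟨a, ha⟩ ⟨b, hb⟩)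
  have hVfree : ∀ ω : Ω, ∀ v ∈ V, v • ω = ω → v = 1 := fun ω v hv hvω =>
    hVreg ω v (fun a ha => hVcomm v hv a ha) hvω
  have hbij : Function.Bijective (fun v : V => (v : G) • α) := by
    constructor
    · intro a b hab
      have hab' : (a : G) • α = (b : G) • α := hab
      have := hVfree α ((a : G)⁻¹ * b) (V.mul_mem (V.inv_mem a.2) b.2)
        (by rw [mul_smul, ← hab', inv_smul_smul])
      rw [inv_mul_eq_one] at this
      exact Subtype.ext this
    · intro ω
      obtain ⟨a, ha, haω⟩ := hVtr α ω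
      exact ⟨⟨a, ha⟩, haω⟩
  have hcardV : Nat.card V = p ^ d := by
    rw [← hcard, ← Nat.card_eq_fintype_card]
    exact Nat.card_eq_of_bijective _ hbij
  have hrp : r = p := by
    obtain ⟨x, hx1⟩ := (Subgroup.ne_bot_iff_exists_ne_one).1 hVb
    have h1 : x ^ r = 1 := Subtype.ext (hVr x x.2)
    have : Fact r.Prime := ⟨hr⟩
    have h2 : orderOf x = r := orderOf_eq_prime h1 hx1
    have h3 : r ∣ p ^ d := by rw [← h2, ← hcardV]; exact orderOf_dvd_natCard x
    exact (Nat.prime_dvd_prime_iff_eq hr hp).1 (hr.dvd_of_dvd_pow h3)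
  subst hrp
  -- the minimal normal subgroup of the stabiliser
  obtain ⟨T, hTn, hTb, hTmin⟩ := Cfsg.Agent.Lib.Helper1.exists_minimal_normal (G := H)
  obtain ⟨hTc, q, hq, hTq⟩ :=
    Cfsg.Agent.Lib.Helper1.minimal_normal_elementary_abelian T inferInstance hTb hTmin
  have hTcomm : ∀ a ∈ T, ∀ b ∈ T, a * b = b * a := fun a ha b hb =>
    congrArg Subtype.val (hTc.is_comm.comm ⟨a, ha⟩ ⟨b, hb⟩)
  have hfaith : ∀ ω : Ω, ω ≠ α → FaithfulSMul H (orbit H ω) := by
    intro ω hω
    constructor
    intro h₁ h₂ hh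
    have : h₂⁻¹ * h₁ = 1 := by
      apply Cfsg.Agent.S3494.result hprim hH hep α ω hω
      intro x hx
      have := hh ⟨x, hx⟩
      have h3 : h₁ • x = h₂ • x := congrArg Subtype.val this
      rw [mul_smul, h3, inv_smul_smul]
    rw [inv_mul_eq_one] at this
    exact this.symm
  have horb : ∀ ω : Ω, ω ≠ α → Nat.card (orbit H ω) = Nat.card T := by
    intro ω hω
    have := hfaith ω hω
    obtain ⟨h1, h2⟩ := Cfsg.Agent.S3497.abelian_normal (hep α ω) T hTb
    symm
    apply Nat.card_eq_of_bijective (fun t : T => (t : H) • (⟨ω, mem_orbit_self ω⟩ : orbit H ω))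
    constructor
    · intro a b hab
      have hab' : (a : H) • (⟨ω, mem_orbit_self ω⟩ : orbit H ω) = (b : H) • ⟨ω, mem_orbit_self ω⟩ := hab
      have := h2 ⟨ω, mem_orbit_self ω⟩ ((a : H)⁻¹ * b)
        (fun c hc => hTcomm _ (T.mul_mem (T.inv_mem a.2) b.2) c hc)
        (by rw [mul_smul, ← hab', inv_smul_smul])
      rw [inv_mul_eq_one] at this
      exact Subtype.ext this
    · intro x
      obtain ⟨a, ha, hax⟩ := h1 ⟨ω, mem_orbit_self ω⟩ x
      exact ⟨⟨a, ha⟩, hax⟩
  obtain ⟨ω₀, hω₀⟩ : ∃ ω : Ω, ω ≠ α := by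
    by_contra hcon
    push Not at hcon
    apply hHb
    rw [Subgroup.eq_bot_iff_forall]
    intro h _
    apply FaithfulSMul.eq_of_smul_eq_smul (α := Ω)
    intro x
    rw [hcon x, hcon (h • α), one_smul]
  have hcent : ∀ c : H, (∀ a ∈ T, c * a = a * c) → c ∈ T := by
    intro c hc
    have := hfaith ω₀ hω₀
    have : Nonempty (orbit H ω₀) := ⟨⟨ω₀, mem_orbit_self ω₀⟩⟩
    exact Cfsg.Agent.S3497.self_centralizing (hep α ω₀) T hTb hTcomm c hc
  -- the module
  have hpow : ∀ x : Additive V, r • x = 0 := fun x => by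
    have : (Additive.toMul x) ^ r = 1 := Subtype.ext (hVr _ (Additive.toMul x).2)
    exact congrArg Additive.ofMul this
  obtain ⟨inst⟩ : Nonempty (Module (ZMod r) (Additive V)) := ⟨AddCommGroup.zmodModule hpow⟩
  have hfinW : Finite (Additive V) := inferInstanceAs (Finite V)
  have hntV : Nontrivial V := (Subgroup.nontrivial_iff_ne_bot V).2 hVb
  have hntW : Nontrivial (Additive V) := inferInstanceAs (Nontrivial V)
  let ρ : H →* Module.End (ZMod r) (Additive V) :=
    { toFun := fun h => ((MulAut.conjNormal (h : G) : V ≃* V).toMonoidHom.toAdditive).toZModLinearMap r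
      map_one' := by
        apply LinearMap.ext
        intro v
        change Additive.ofMul (MulAut.conjNormal (1 : G) (Additive.toMul v)) = v
        rw [map_one]; rfl
      map_mul' := by
        intro x y
        apply LinearMap.ext
        intro v
        change Additive.ofMul (MulAut.conjNormal ((x : G) * (y : G)) (Additive.toMul v)) = _
        rw [map_mul]; rfl }
  have hρ : ∀ (h : H) (v : Additive V),
      ρ h v = Additive.ofMul (MulAut.conjNormal (h : G) (Additive.toMul v)) := fun h v => rfl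
  have hρinj : Function.Injective ρ := by
    rw [injective_iff_map_eq_one]
    intro h hh
    apply Subtype.ext
    apply hVreg α (h : G) _ h.2
    intro a ha
    have h2 := LinearMap.congr_fun hh (Additive.ofMul (⟨a, ha⟩ : V))
    rw [hρ] at h2
    have h3 : MulAut.conjNormal (h : G) (⟨a, ha⟩ : V) = ⟨a, ha⟩ := h2
    have h4 := congrArg Subtype.val h3
    rw [MulAut.conjNormal_apply] at h4
    exact mul_inv_eq_iff_eq_mul.1 h4
  set M : Subgroup G := T.map H.subtype with hMdef
  have hMle : M ≤ H := Subgroup.map_subtype_le T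
  have hMmem : ∀ g : G, g ∈ M ↔ ∃ hg : g ∈ H, (⟨g, hg⟩ : H) ∈ T := by
    intro g
    constructor
    · rintro ⟨t, ht, rfl⟩
      exact ⟨t.2, ht⟩
    · rintro ⟨hg, ht⟩
      exact ⟨⟨g, hg⟩, ht, rfl⟩
  have hMb : M ≠ ⊥ := by
    intro h
    rw [hMdef, Subgroup.map_eq_bot_iff_of_injective _ H.subtype_injective] at h
    exact hTb h
  have hMn : H ≤ Subgroup.normalizer (M : Set G) := by
    intro h hh
    rw [Subgroup.mem_normalizer_iff]
    intro x
    constructor
    · intro hx
      obtain ⟨hx1, hx2⟩ := (hMmem x).1 hx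
      exact (hMmem _).2 ⟨H.mul_mem (H.mul_mem hh hx1) (H.inv_mem hh), hTn.conj_mem _ hx2 ⟨h, hh⟩⟩
    · intro hx
      obtain ⟨hx1, hx2⟩ := (hMmem _).1 hx
      have h3 := hTn.conj_mem _ hx2 ⟨h, hh⟩⁻¹
      have h4 : x ∈ H := by
        have := H.mul_mem (H.mul_mem (H.inv_mem hh) hx1) hh
        simpa [mul_assoc] using this
      refine (hMmem _).2 ⟨h4, ?_⟩
      convert h3 using 1
      apply Subtype.ext
      simp [mul_assoc]
  have hNtr : IsPretransitive V Ω := ⟨fun x y => by
    obtain ⟨a, ha, hax⟩ := hVtr x y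
    exact ⟨⟨a, ha⟩, hax⟩⟩
  have hNreg : ∀ ω : Ω, stabilizer V ω = ⊥ := by
    intro ω
    rw [Subgroup.eq_bot_iff_forall]
    intro v hv
    exact Subtype.ext (hVfree ω v v.2 hv)
  obtain ⟨-, hirrG⟩ := Cfsg.Agent.S3495.result hprim hH hep V hVc r hp hVr hNtr hNreg α M hMb hMle hMn
  have hirr : ∀ U : Submodule (ZMod r) (Additive V), (∀ t ∈ T, ∀ u ∈ U, ρ t u ∈ U) →
      U = ⊥ ∨ U = ⊤ := by
    intro U hU
    let L : Subgroup G :=
      { carrier := {g | ∃ hg : g ∈ V, Additive.ofMul (⟨g, hg⟩ : V) ∈ U}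
        one_mem' := ⟨V.one_mem, U.zero_mem⟩
        mul_mem' := by
          rintro a b ⟨ha, ha'⟩ ⟨hb, hb'⟩
          exact ⟨V.mul_mem ha hb, U.add_mem ha' hb'⟩
        inv_mem' := by
          rintro a ⟨ha, ha'⟩
          exact ⟨V.inv_mem ha, U.neg_mem ha'⟩ }
    have hLmem : ∀ g : G, g ∈ L ↔ ∃ hg : g ∈ V, Additive.ofMul (⟨g, hg⟩ : V) ∈ U := fun g => Iff.rfl
    have hLV : L ≤ V := fun g hg => hg.1
    have hconj : ∀ m ∈ M, ∀ l ∈ L, m * l * m⁻¹ ∈ L := by
      intro m hm l hl
      obtain ⟨hm1, hm2⟩ := (hMmem m).1 hm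
      obtain ⟨hl1, hl2⟩ := hl
      refine ⟨hVn.conj_mem l hl1 m, ?_⟩
      have := hU _ hm2 _ hl2
      rw [hρ] at this
      convert this using 2
      apply Subtype.ext
      rw [MulAut.conjNormal_apply]
      rfl
    have hML : M ≤ Subgroup.normalizer (L : Set G) := by
      intro m hm
      rw [Subgroup.mem_normalizer_iff]
      intro x
      constructor
      · exact hconj m hm x
      · intro hx
        have := hconj m⁻¹ (M.inv_mem hm) _ hx
        simpa [mul_assoc] using this
    rcases hirrG L hLV hML with h | h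
    · left
      rw [Submodule.eq_bot_iff]
      intro u hu
      have : ((Additive.toMul u : V) : G) ∈ L := ⟨(Additive.toMul u).2, hu⟩
      rw [h, Subgroup.mem_bot] at this
      have h5 : Additive.toMul u = 1 := Subtype.ext this
      exact h5
    · right
      rw [Submodule.eq_top_iff']
      intro u
      have : ((Additive.toMul u : V) : G) ∈ L := by rw [h]; exact (Additive.toMul u).2
      exact this.2
  obtain ⟨hcyc, hd1, hd2, ⟨h₀, hh₀⟩, hd3⟩ :=
    core r d (W := Additive V) hcardV ρ hρinj T hTcomm hirr hcent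
  have hcardT : Nat.card T = q := by
    obtain ⟨g, hg⟩ := hcyc.exists_generator
    have h1 : orderOf g = Nat.card T := orderOf_eq_card_of_forall_mem_zpowers hg
    have h2 : g ^ q = 1 := Subtype.ext (hTq g g.2)
    have h3 : g ≠ 1 := by
      intro h
      rw [h, orderOf_one] at h1
      have hnt : Nontrivial T := (Subgroup.nontrivial_iff_ne_bot T).2 hTb
      have := Finite.one_lt_card (α := T)
      omega
    rw [← h1]
    have : Fact q.Prime := ⟨hq⟩
    exact orderOf_eq_prime h2 h3
  rw [hcardT] at hd1 hd2 hd3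
  refine ⟨q, hq, fun ω hω => by rw [horb ω hω, hcardT], hd1, hd2, M, hMle, hMn, ?_, ⟨h₀, ?_⟩, hd3⟩
  · rw [hMdef, Subgroup.card_map_of_injective H.subtype_injective, hcardT]
  · have := congrArg (Subgroup.map H.subtype) hh₀
    rw [Subgroup.map_sup, MonoidHom.map_zpowers, ← MonoidHom.range_eq_map, Subgroup.range_subtype] at this
    exact this.symm

end Cfsg.Agent.S3496
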