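import Cfsg.Statements.S3501
import Cfsg.Agent.S3520
import Cfsg.Agent.Lib.Helper12.Sharp2

set_option autoImplicit false
open Cfsg

namespace Cfsg.Agent.S3501

open MulAction Cfsg.Agent.Lib.Helper59 Cfsg.Agent.S3520

/-- Step A: a minimal normal subgroup is abelian. -/
theorem minNormal_abelian' {G Ω : Type*} [Group G] [Finite G] [MulAction G Ω] [FaithfulSMul G Ω]
    [Finite Ω] (hΩ : 2 ≤ Nat.card Ω) (hprim : IsPreprimitive G Ω)
    (hnas : ¬ ∃ T : Subgroup G, T.Normal ∧ IsSimpleGroup T ∧ ¬ IsMulCommutative T ∧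
      Subgroup.centralizer (T : Set G) = ⊥)
    (hthree : ∀ (e₁ e₂ e₃ : G), (∀ ω : Ω, e₁ • ω ≠ ω) → (∀ ω : Ω, e₂ • ω ≠ ω) →
      (∀ ω : Ω, e₃ • ω ≠ ω) → ¬ IsConj e₁ e₂ → ¬ IsConj e₁ e₃ → ¬ IsConj e₂ e₃ → False)
    {N : Subgroup G} (hN : IsMinInv ⊤ N) : ∀ x ∈ N, ∀ y ∈ N, x * y = y * x := by
  classical
  by_contra hab
  have hNn : N.Normal := (invUnder_top_iff N).mp hN.2.2.1
  have hN0 : N ≠ ⊥ := hN.2.1
  have hNtr : IsPretransitive N Ω := isPretransitive_of_normal_of_ne_bot hprim N hNn hN0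
  have hne : Nonempty Ω := by
    rcases isEmpty_or_nonempty Ω with h | h
    · rw [Nat.card_of_isEmpty] at hΩ; omega
    · exact h
  obtain ⟨α⟩ := hne
  obtain ⟨T, hT⟩ := exists_isMinInv N hN0
  have hTnab : ¬ ∀ s ∈ T, ∀ t ∈ T, s * t = t * s := fun h =>
    hab (commute_of_isMinInv_of_commute hN hT h)
  obtain ⟨q, r, hq, hr, hqr, ⟨aq, haqT, haq⟩, ⟨ar, harT, har⟩⟩ := exists_two_primes hT hTnab
  have haq1 : aq ≠ 1 := by
    intro h; rw [h, orderOf_one] at haq; exact hq.one_lt.ne haq
  have har1 : ar ≠ 1 := by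
    intro h; rw [h, orderOf_one] at har; exact hr.one_lt.ne har
  by_cases hconj : ∀ g : G, cj g T = T
  · -- T = N is simple
    have hTN : T = N := by
      apply hN.2.2.2 T hT.1 hT.2.1
      intro g _ t ht
      have := conj_mem_cj (g := g) ht
      rwa [hconj g] at this
    subst hTN
    have hC0 : Subgroup.centralizer (T : Set G) ≠ ⊥ := by
      intro hC
      apply hnas
      refine ⟨T, hNn, isSimpleGroup_of_isMinInv_self hT, ?_, hC⟩
      intro hc
      apply hab
      intro a ha b hb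
      have := hc.is_comm.comm ⟨a, ha⟩ ⟨b, hb⟩
      exact congrArg Subtype.val this
    have hCn : (Subgroup.centralizer (T : Set G)).Normal := Subgroup.normal_centralizer
    have hCtr := isPretransitive_of_normal_of_ne_bot hprim _ hCn hC0
    -- elements of T \ 1 are derangements
    have hTder : ∀ t ∈ T, t ≠ 1 → ∀ ω : Ω, t • ω ≠ ω := by
      intro t ht ht1 ω hω
      apply ht1
      apply FaithfulSMul.eq_of_smul_eq_smul (α := Ω)
      intro ω'
      obtain ⟨c, rfl⟩ := hCtr.exists_smul_eq ω ω'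
      show t • (c : G) • ω = (1 : G) • (c : G) • ω
      rw [one_smul, ← mul_smul, (Subgroup.mem_centralizer_iff.mp c.2) t ht, mul_smul, hω]
    obtain ⟨c, hc, hc1⟩ : ∃ c ∈ Subgroup.centralizer (T : Set G), c ≠ 1 := by
      by_contra hcon
      push Not at hcon
      exact hC0 ((Subgroup.eq_bot_iff_forall _).mpr hcon)
    have hcder : ∀ ω : Ω, c • ω ≠ ω := by
      intro ω hω
      apply hc1
      apply FaithfulSMul.eq_of_smul_eq_smul (α := Ω)
      intro ω'
      obtain ⟨t, rfl⟩ := hNtr.exists_smul_eq ω ω'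
      show c • (t : G) • ω = (1 : G) • (t : G) • ω
      rw [one_smul, ← mul_smul, ← (Subgroup.mem_centralizer_iff.mp hc) t t.2, mul_smul, hω]
    have hcT : c ∉ T := by
      intro hcT
      apply hc1
      apply center_trivial_of_isMinInv hT hTnab c hcT
      intro t ht
      exact ((Subgroup.mem_centralizer_iff.mp hc) t ht).symm
    have hnc : ∀ t ∈ T, ¬ IsConj t c := by
      intro t ht h
      rw [isConj_iff] at h
      obtain ⟨k, rfl⟩ := h
      exact hcT (hNn.conj_mem t ht k)
    refine hthree aq ar c (hTder aq haqT haq1) (hTder ar harT har1) hcder ?_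
      (hnc aq haqT) (hnc ar harT)
    intro h
    have := IsConj.orderOf_eq' h
    rw [haq, har] at this
    exact hqr this
  · push Not at hconj
    obtain ⟨g, hg⟩ := hconj
    have hcomm : ∀ t ∈ T, ∀ s ∈ cj g T, t * s = s * t :=
      (cj_eq_or_commute hNn hT g).resolve_left hg
    -- elements of the other conjugate
    set bq := g * aq * g⁻¹ with hbq
    set br := g * ar * g⁻¹ with hbr
    have hbqT : bq ∈ cj g T := conj_mem_cj haqT
    have hbrT : br ∈ cj g T := conj_mem_cj harT
    have hbqN : bq ∈ N := cj_le_of_normal hNn hT.1 g hbqT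
    have hbrN : br ∈ N := cj_le_of_normal hNn hT.1 g hbrT
    have hbqo : orderOf bq = q := by rw [hbq, orderOf_conj', haq]
    have hbro : orderOf br = r := by rw [hbr, orderOf_conj', har]
    have hbqc : ∀ s ∈ T, bq * s = s * bq := fun s hs => (hcomm s hs bq hbqT).symm
    have hbrc : ∀ s ∈ T, br * s = s * br := fun s hs => (hcomm s hs br hbrT).symm
    have hbq1 : bq ≠ 1 := by
      intro h; rw [h, orderOf_one] at hbqo; exact hq.one_lt.ne hbqo
    have hbr1 : br ≠ 1 := by
      intro h; rw [h, orderOf_one] at hbro; exact hr.one_lt.ne hbro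
    have hcop : Nat.Coprime q r := (Nat.coprime_primes hq hr).mpr hqr
    by_cases hsemi : ∀ t ∈ T, t ≠ 1 → ∀ ω : Ω, t • ω ≠ ω
    · -- case (I)
      have hc : Commute aq br := hcomm aq haqT br hbrT
      have h3 : ∀ ω : Ω, (aq * br) • ω ≠ ω :=
        derangement_mul_of_coprime (hsemi aq haqT haq1) hc (by rw [hbro, haq]; exact hcop.symm)
      have ho3 : orderOf (aq * br) = q * r := by
        rw [hc.orderOf_mul_eq_mul_orderOf_of_coprime (by rw [hbro, haq]; exact hcop), haq, hbro]
      refine hthree aq ar (aq * br) (hsemi aq haqT haq1) (hsemi ar harT har1) h3 ?_ ?_ ?_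
      · intro h
        have := IsConj.orderOf_eq' h
        rw [haq, har] at this
        exact hqr this
      · intro h
        have := IsConj.orderOf_eq' h
        rw [haq, ho3] at this
        have h2 := hr.two_le
        have h1 := hq.pos
        nlinarith
      · intro h
        have := IsConj.orderOf_eq' h
        rw [har, ho3] at this
        have h2 := hq.two_le
        have h1 := hr.pos
        nlinarith
    · -- case (II)
      push Not at hsemi
      obtain ⟨t₀, ht₀, ht₀1, ω₀, hω₀⟩ := hsemi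
      obtain ⟨x, hxT, hx⟩ := exists_strong_derangement hN hT hNtr t₀ ht₀ ht₀1 ω₀ hω₀
      have hxder : ∀ ω : Ω, x • ω ≠ ω := by
        have := hx 1 N.one_mem (fun s _ => by simp)
        simpa using this
      have hx1 : x ≠ 1 := by
        intro h
        exact hxder α (by rw [h, one_smul])
      -- general argument for a pair of primes
      have key : ∀ (s s' : ℕ) (bs bs' : G), s.Prime → Nat.Coprime s s' → x ^ s ≠ 1 →
          bs ∈ N → bs' ∈ N → (∀ t ∈ T, bs * t = t * bs) → (∀ t ∈ T, bs' * t = t * bs') →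
          orderOf bs = s → orderOf bs' = s' → bs ≠ 1 → bs' ≠ 1 → False := by
        intro s s' bs bs' hs hss' hxs hbsN hbs'N hbsc hbs'c hbso hbs'o hbs1 hbs'1
        have hU1 : ∃ k, x ∈ cj k T := ⟨1, by rw [Cfsg.Agent.Lib.Helper59.mem_cj]; simpa using hxT⟩
        have hU2 : ¬ ∃ k, x * bs ∈ cj k T := by
          rintro ⟨k, hk⟩
          exact not_mem_cj_of_mul hNn hT hTnab hxT hx1 hbsc hbs1 k hk
        have hU3 : ¬ ∃ k, x * bs' ∈ cj k T := by
          rintro ⟨k, hk⟩
          exact not_mem_cj_of_mul hNn hT hTnab hxT hx1 hbs'c hbs'1 k hk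
        have hc2 : Commute x bs := (hbsc x hxT).symm
        have hc3 : Commute x bs' := (hbs'c x hxT).symm
        have hp2 : (x * bs) ^ s = x ^ s := by
          rw [hc2.mul_pow, ← hbso, pow_orderOf_eq_one, mul_one]
        have hp3 : (x * bs') ^ s = x ^ s * bs' ^ s := hc3.mul_pow s
        have hbs's : bs' ^ s ≠ 1 := by
          intro h
          have h1 : s' ∣ s := hbs'o ▸ orderOf_dvd_of_pow_eq_one h
          have h2 : s' ∣ 1 := by
            have := Nat.dvd_gcd h1 (dvd_refl s')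
            rwa [hss'] at this
          have h3 : s' = 1 := Nat.dvd_one.mp h2
          rw [h3] at hbs'o
          exact hbs'1 (orderOf_eq_one_iff.mp hbs'o)
        have hV2 : ∃ k, (x * bs) ^ s ∈ cj k T :=
          ⟨1, by rw [hp2, Cfsg.Agent.Lib.Helper59.mem_cj]; simpa using T.pow_mem hxT s⟩
        have hV3 : ¬ ∃ k, (x * bs') ^ s ∈ cj k T := by
          rintro ⟨k, hk⟩
          rw [hp3] at hk
          refine not_mem_cj_of_mul hNn hT hTnab (T.pow_mem hxT s) hxs ?_ hbs's k hk
          intro t ht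
          exact ((show Commute bs' t from hbs'c t ht).pow_left s).eq
        refine hthree x (x * bs) (x * bs') hxder (hx bs hbsN hbsc) (hx bs' hbs'N hbs'c)
          ?_ ?_ ?_
        · intro h; exact hU2 (IsConj.mem_cj h hU1)
        · intro h; exact hU3 (IsConj.mem_cj h hU1)
        · intro h; exact hV3 (IsConj.mem_cj (IsConj.pow' h s) hV2)
      by_cases hxq : x ^ q = 1
      · have hxr : x ^ r ≠ 1 := by
          intro hxr
          apply hx1
          have h1 : orderOf x ∣ q := orderOf_dvd_of_pow_eq_one hxq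
          have h2 : orderOf x ∣ r := orderOf_dvd_of_pow_eq_one hxr
          have h3 : orderOf x ∣ 1 := by
            have := Nat.dvd_gcd h1 h2
            rwa [hcop] at this
          exact orderOf_eq_one_iff.mp (Nat.dvd_one.mp h3)
        exact key r q br bq hr hcop.symm hxr hbrN hbqN hbrc hbqc hbro hbqo hbr1 hbq1
      · exact key q r bq br hq hcop hxq hbqN hbrN hbqc hbrc hbqo hbro hbq1 hbr1


/-- Let a finite group G act faithfully and primitively on a finite set Ω with at least two points, and suppose G is not almost simple (it has no non-abelian simple normal subgroup with trivial centralizer). Then the derangements of G form a single conjugacy class if and only if G is sharply 2-transitive (2-transitive, and no non-identity element fixes two points). -/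
theorem result {G : Type*} [Group G] [Finite G] {Ω : Type*} [Fintype Ω] [MulAction G Ω] [FaithfulSMul G Ω] (hΩ : 2 ≤ Fintype.card Ω) (hprim : MulAction.IsPreprimitive G Ω) (hnas : ¬ ∃ T : Subgroup G, T.Normal ∧ IsSimpleGroup T ∧ ¬ IsMulCommutative T ∧ Subgroup.centralizer (T : Set G) = ⊥) :
    Nat.card {c : ConjClasses G // ∃ g : G, ConjClasses.mk g = c ∧ ∀ ω : Ω, g • ω ≠ ω} = 1 ↔ (MulAction.IsMultiplyPretransitive G Ω 2 ∧ ∀ g : G, g ≠ 1 → ∀ a b : Ω, a ≠ b → g • a = a → g • b ≠ b) := by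
  classical
  have hΩ' : 2 ≤ Nat.card Ω := by rw [Nat.card_eq_fintype_card]; exact hΩ
  have hne : Nonempty Ω := by
    rcases isEmpty_or_nonempty Ω with h | h
    · rw [Nat.card_of_isEmpty] at hΩ'; omega
    · exact h
  obtain ⟨α⟩ := hne
  have hne : Nonempty Ω := ⟨α⟩
  have htrans : IsPretransitive G Ω := hprim.toIsPretransitive
  constructor
  · intro hκ
    rw [Nat.card_eq_one_iff_unique] at hκ
    obtain ⟨hsub, -⟩ := hκ
    have hconj : ∀ x y : G, (∀ ω : Ω, x • ω ≠ ω) → (∀ ω : Ω, y • ω ≠ ω) → IsConj x y := by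
      intro x y hx hy
      have := hsub.elim (⟨ConjClasses.mk x, x, rfl, hx⟩ :
        {c : ConjClasses G // ∃ g : G, ConjClasses.mk g = c ∧ ∀ ω : Ω, g • ω ≠ ω})
        ⟨ConjClasses.mk y, y, rfl, hy⟩
      exact ConjClasses.mk_eq_mk_iff_isConj.mp (congrArg Subtype.val this)
    have hGtop : (⊤ : Subgroup G) ≠ ⊥ := by
      intro h
      obtain ⟨x, hx⟩ := exists_derangement (K := G) (X := Ω) htrans hΩ'
      have : x ∈ (⊥ : Subgroup G) := h ▸ Subgroup.mem_top x
      rw [Subgroup.mem_bot] at this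
      exact hx α (by rw [this, one_smul])
    obtain ⟨N, hN⟩ := exists_isMinInv (⊤ : Subgroup G) hGtop
    have hNn : N.Normal := (invUnder_top_iff N).mp hN.2.2.1
    have hN0 : N ≠ ⊥ := hN.2.1
    have hNtr : IsPretransitive N Ω := isPretransitive_of_normal_of_ne_bot hprim N hNn hN0
    have hab := minNormal_abelian' hΩ' hprim hnas
      (fun e₁ e₂ _ h₁ h₂ _ h12 _ _ => h12 (hconj e₁ e₂ h₁ h₂)) hN
    have hreg : ∀ x ∈ N, ∀ ω : Ω, x • ω = ω → x = 1 := by
      intro x hx ω hω
      apply FaithfulSMul.eq_of_smul_eq_smul (α := Ω)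
      intro ω'
      obtain ⟨n, rfl⟩ := hNtr.exists_smul_eq ω ω'
      show x • (n : G) • ω = (1 : G) • (n : G) • ω
      rw [one_smul, ← mul_smul, hab x hx n n.2, mul_smul, hω]
    have hNder : ∀ x ∈ N, x ≠ 1 → ∀ ω : Ω, x • ω ≠ ω := fun x hx hx1 ω hω => hx1 (hreg x hx ω hω)
    obtain ⟨x₀, hx₀N, hx₀1⟩ : ∃ x ∈ N, x ≠ 1 := by
      by_contra hcon
      push Not at hcon
      exact hN0 ((Subgroup.eq_bot_iff_forall N).2 hcon)
    have hall : ∀ g : G, (∀ ω : Ω, g • ω ≠ ω) → g ∈ N := by
      intro g hg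
      have := hconj x₀ g (hNder x₀ hx₀N hx₀1) hg
      rw [isConj_iff] at this
      obtain ⟨k, rfl⟩ := this
      exact hNn.conj_mem x₀ hx₀N k
    have hfac : ∀ g : G, ∃ m ∈ N, ∃ h : G, h • α = α ∧ g = m * h := by
      intro g
      obtain ⟨m, hm⟩ := hNtr.exists_smul_eq α (g • α)
      have hm' : (m : G) • α = g • α := hm
      refine ⟨m, m.2, (m : G)⁻¹ * g, ?_, by group⟩
      rw [mul_smul, ← hm', inv_smul_smul]
    have hconjN : ∀ x ∈ N, ∀ g : G, ∃ h : G, h • α = α ∧ g * x * g⁻¹ = h * x * h⁻¹ := by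
      intro x hx g
      obtain ⟨m, hm, h, hh, rfl⟩ := hfac g
      refine ⟨h, hh, ?_⟩
      have h1 : h * x * h⁻¹ ∈ N := hNn.conj_mem x hx h
      calc m * h * x * (m * h)⁻¹ = m * (h * x * h⁻¹) * m⁻¹ := by group
        _ = (h * x * h⁻¹) * m * m⁻¹ := by rw [hab m hm _ h1]
        _ = h * x * h⁻¹ := by group
    have hfix1 := (derangement_key htrans N hall).2
    have hfrob : ∀ g : G, g ≠ 1 → Nat.card (MulAction.fixedBy Ω g) ≤ 1 := by
      intro g hg
      by_cases hgN : g ∈ N
      · have : IsEmpty (fixedBy Ω g) := ⟨fun ω => hNder g hgN hg ω.1 ω.2⟩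
        rw [Nat.card_of_isEmpty]; omega
      · rw [hfix1 g hgN]
    refine ⟨?_, ?_⟩
    · rw [is_two_pretransitive_iff]
      intro a b c d hab' hcd
      obtain ⟨g₁, hg₁⟩ := htrans.exists_smul_eq a α
      obtain ⟨g₂, hg₂⟩ := htrans.exists_smul_eq c α
      obtain ⟨x, hx⟩ := hNtr.exists_smul_eq α (g₁ • b)
      obtain ⟨x', hx'⟩ := hNtr.exists_smul_eq α (g₂ • d)
      have hx_ : (x : G) • α = g₁ • b := hx
      have hx'_ : (x' : G) • α = g₂ • d := hx'
      have hx1 : (x : G) ≠ 1 := by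
        intro h
        rw [h, one_smul, ← hg₁] at hx_
        exact hab' (smul_left_cancel g₁ hx_)
      have hx'1 : (x' : G) ≠ 1 := by
        intro h
        rw [h, one_smul, ← hg₂] at hx'_
        exact hcd (smul_left_cancel g₂ hx'_)
      have hc := hconj x x' (hNder x x.2 hx1) (hNder x' x'.2 hx'1)
      rw [isConj_iff] at hc
      obtain ⟨k, hk⟩ := hc
      obtain ⟨h, hh, hkh⟩ := hconjN x x.2 k
      rw [hkh] at hk
      have hhinv : h⁻¹ • α = α := by rw [inv_smul_eq_iff, hh]
      refine ⟨g₂⁻¹ * h * g₁, ?_, ?_⟩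
      · rw [mul_smul, mul_smul, hg₁, hh, ← hg₂, inv_smul_smul]
      · rw [mul_smul, mul_smul, ← hx_, inv_smul_eq_iff, ← hx'_, ← hk, mul_smul, mul_smul, hhinv]
    · intro g hg a b hab' ha hb
      have h1 := hfrob g hg
      rw [Finite.card_le_one_iff_subsingleton] at h1
      exact hab' (congrArg Subtype.val (h1.elim (⟨a, ha⟩ : fixedBy Ω g) ⟨b, hb⟩))
  · rintro ⟨h2t, hs⟩
    have hsharp : ∀ x : Fin 2 ↪ Ω, stabilizer G x = ⊥ := by
      intro x
      rw [Subgroup.eq_bot_iff_forall]
      intro g hg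
      by_contra hg1
      have hgx : g • x = x := hg
      have h0 : g • x 0 = x 0 := by
        conv_rhs => rw [← hgx]
        rfl
      have h1 : g • x 1 = x 1 := by
        conv_rhs => rw [← hgx]
        rfl
      exact hs g hg1 (x 0) (x 1) (fun h => by simpa using x.injective h) h0 h1
    have hcard := Cfsg.Agent.Lib.Helper12.Sharp2.card_fpf' h2t hsharp hΩ'
    have hex : Nonempty {g : G // ∀ a : Ω, g • a ≠ a} := by
      rcases isEmpty_or_nonempty {g : G // ∀ a : Ω, g • a ≠ a} with h | h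
      · rw [Nat.card_of_isEmpty] at hcard; omega
      · exact h
    obtain ⟨y, hy⟩ := hex
    rw [Nat.card_eq_one_iff_unique]
    refine ⟨⟨?_⟩, ⟨⟨ConjClasses.mk y, y, rfl, hy⟩⟩⟩
    rintro ⟨_, x, rfl, hx⟩ ⟨_, z, rfl, hz⟩
    apply Subtype.ext
    rw [ConjClasses.mk_eq_mk_iff_isConj, isConj_iff]
    obtain ⟨g, hg⟩ := (Cfsg.Agent.Lib.Helper12.Sharp2.centralizer_facts h2t hsharp hΩ' hx).2.2 z hz
    exact ⟨g, hg.symm⟩

end Cfsg.Agent.S3501
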