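import Mathlib
import Cfsg.Statements.S3532
import Cfsg.Agent.S2475
import Cfsg.Agent.Lib.Helper57.FrobSpec

set_option autoImplicit false
open Cfsg

namespace Cfsg.Agent.S3532

open Cfsg.Agent.Lib.Helper57

theorem mem_range_orderOf_prod {A B : Type*} [Group A] [Group B] (m : ℕ) :
    m ∈ Set.range (orderOf : A × B → ℕ) ↔
      ∃ x ∈ Set.range (orderOf : A → ℕ), ∃ y ∈ Set.range (orderOf : B → ℕ), m = Nat.lcm x y := by
  constructor
  · rintro ⟨⟨a, b⟩, rfl⟩
    exact ⟨_, ⟨a, rfl⟩, _, ⟨b, rfl⟩, Prod.orderOf_mk⟩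
  · rintro ⟨_, ⟨a, rfl⟩, _, ⟨b, rfl⟩, rfl⟩
    exact ⟨(a, b), Prod.orderOf_mk⟩

/-- Let q ≥ 4 be a prime power and L = PSL(2,q). There is a finite solvable group with the same set of element orders as L × L (so L × L is not determined by its spectrum). -/
theorem result {F : Type*} [Field F] [Fintype F] (hF : 4 ≤ Fintype.card F) :
    ∃ (H : Type) (_ : Group H) (_ : Finite H), Group.IsSolvable H ∧
      Set.range (orderOf : H → ℕ) = Set.range (orderOf : Matrix.ProjectiveSpecialLinearGroup (Fin 2) F × Matrix.ProjectiveSpecialLinearGroup (Fin 2) F → ℕ) := by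
  obtain ⟨p, hchar⟩ := CharP.exists F
  have hp : Fact p.Prime := ⟨CharP.char_is_prime F p⟩
  obtain ⟨k, -, hk⟩ := FiniteField.card F p
  set q := Fintype.card F with hq
  set d := Nat.gcd 2 (q - 1) with hd
  set a := (q - 1) / d with ha
  set b := (q + 1) / d with hb
  have hspecL := Cfsg.Agent.S2475.result (F := F) p hF
  -- the first Frobenius group, over `F`
  have ha1 : a ∣ Nat.card F - 1 := by
    rw [Nat.card_eq_fintype_card]
    exact Nat.div_dvd_of_dvd (Nat.gcd_dvd_right _ _)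
  obtain ⟨X, _, _, hXs, hX⟩ := exists_solvable_spec_field F p ha1
  -- the second one, over the field with `q ^ 2` elements
  have hk0 : (k : ℕ) ≠ 0 := k.ne_zero
  have hcardK : Nat.card (GaloisField p (2 * k)) = q ^ 2 := by
    rw [GaloisField.card p (2 * k) (by positivity), hk, ← pow_mul, mul_comm]
  have hdq : d ∣ q + 1 := by
    have h1 : d ∣ q - 1 := Nat.gcd_dvd_right _ _
    have h2 : d ∣ 2 := Nat.gcd_dvd_left _ _
    have : q + 1 = (q - 1) + 2 := by omega
    rw [this]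
    exact Dvd.dvd.add h1 h2
  have hb1 : b ∣ Nat.card (GaloisField p (2 * k)) - 1 := by
    rw [hcardK]
    have h1 : b ∣ q + 1 := Nat.div_dvd_of_dvd hdq
    have h2 : q ^ 2 - 1 = (q + 1) * (q - 1) := by
      have := Nat.sq_sub_sq q 1
      simpa using this
    rw [h2]
    exact Dvd.dvd.mul_right h1 _
  have : Finite (GaloisField p (2 * k)) := Nat.finite_of_card_ne_zero (by rw [hcardK]; positivity)
  obtain ⟨Y, _, _, hYs, hY⟩ := exists_solvable_spec_field (GaloisField p (2 * k)) p hb1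
  obtain ⟨H, iG, iF, ⟨e⟩⟩ := exists_type_copy (X × Y)
  refine ⟨H, iG, iF, Group.isSolvable_of_isSolvable_injective (f := e.toMonoidHom) e.injective, ?_⟩
  rw [range_orderOf_congr e]
  ext m
  rw [mem_range_orderOf_prod, mem_range_orderOf_prod, hspecL]
  simp only [hX, hY, Set.mem_ofPred_eq]
  constructor
  · rintro ⟨x, hx, y, hy, rfl⟩
    refine ⟨x, ?_, y, ?_, rfl⟩
    · rcases hx with h | h
      · exact Or.inl h
      · exact Or.inr (Or.inl h)
    · rcases hy with h | h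
      · exact Or.inl h
      · exact Or.inr (Or.inr h)
  · rintro ⟨x, hx, y, hy, rfl⟩
    rcases hx with hx | hx | hx <;> rcases hy with hy | hy | hy
    · exact ⟨x, Or.inl hx, y, Or.inl hy, rfl⟩
    · exact ⟨y, Or.inr hy, x, Or.inl hx, Nat.lcm_comm _ _⟩
    · exact ⟨x, Or.inl hx, y, Or.inr hy, rfl⟩
    · exact ⟨x, Or.inr hx, y, Or.inl hy, rfl⟩
    · exact ⟨Nat.lcm x y, Or.inr (Nat.lcm_dvd hx hy), 1, Or.inl (one_dvd _), by simp⟩
    · exact ⟨x, Or.inr hx, y, Or.inr hy, rfl⟩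
    · exact ⟨y, Or.inl hy, x, Or.inr hx, Nat.lcm_comm _ _⟩
    · exact ⟨y, Or.inr hy, x, Or.inr hx, Nat.lcm_comm _ _⟩
    · exact ⟨1, Or.inl (one_dvd _), Nat.lcm x y, Or.inr (Nat.lcm_dvd hx hy), by simp⟩

end Cfsg.Agent.S3532
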