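import Cfsg.Statements.S3554

set_option autoImplicit false
open Cfsg

namespace Cfsg.Agent.S3554

theorem result {G Ω : Type*} [Group G] [Finite G] [MulAction G Ω] [FaithfulSMul G Ω] [Finite Ω]
    (htrans : MulAction.IsPretransitive G Ω) (C : Subgroup G) (hC : C.Normal) (hC1 : C ≠ ⊥) (hcyc : IsCyclic ↥C) :
    ∃ g : G, (orderOf g).Prime ∧ ∀ ω : Ω, g • ω ≠ ω := by
  obtain ⟨c, hc⟩ := hcyc.exists_generator
  -- c : C generates
  have hcne : (c : G) ≠ 1 := by
    intro h
    apply hC1
    rw [Subgroup.eq_bot_iff_forall]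
    intro x hx
    have := hc ⟨x, hx⟩
    rw [Subgroup.mem_zpowers_iff] at this
    obtain ⟨k, hk⟩ := this
    have h2 : ((c ^ k : C) : G) = x := by rw [hk]
    rw [Subgroup.coe_zpow, h, one_zpow] at h2
    exact h2.symm
  set n := orderOf (c : G) with hn
  have hnpos : 0 < n := orderOf_pos _
  have hn1 : n ≠ 1 := by
    intro h
    exact hcne (orderOf_eq_one_iff.mp h)
  obtain ⟨p, hp, hpn⟩ := Nat.exists_prime_and_dvd hn1
  obtain ⟨m, hm⟩ := hpn
  set g : G := (c : G) ^ m with hg
  have hmpos : 0 < m := by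
    rcases Nat.eq_zero_or_pos m with h | h
    · rw [h] at hm; omega
    · exact h
  have hord : orderOf g = p := by
    rw [hg, orderOf_pow' _ hmpos.ne', ← hn, hm]
    rw [Nat.gcd_eq_right (Dvd.intro_left p rfl)]
    exact Nat.mul_div_cancel _ hmpos
  refine ⟨g, hord ▸ hp, ?_⟩
  intro ω hω
  -- g fixes everything
  have hall : ∀ x : Ω, g • x = x := by
    intro x
    obtain ⟨h, rfl⟩ := MulAction.exists_smul_eq G ω x
    -- h⁻¹ c h ∈ C so is power of c
    have hmem : h⁻¹ * (c : G) * h ∈ C := by
      have := hC.conj_mem (c : G) c.2 h⁻¹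
      simpa using this
    have := hc ⟨_, hmem⟩
    rw [Subgroup.mem_zpowers_iff] at this
    obtain ⟨k, hk⟩ := this
    have h2 : (c : G) ^ k = h⁻¹ * (c : G) * h := by
      have := congrArg (Subtype.val) hk
      simpa using this
    have h3 : h⁻¹ * g * h = g ^ k := by
      have e1 : h⁻¹ * g * h = (h⁻¹ * (c : G) * h) ^ m := by
        rw [hg]
        have := conj_pow (a := h⁻¹) (b := (c : G)) (i := m)
        simp only [inv_inv] at this
        exact this.symm
      rw [e1, ← h2, hg, ← zpow_natCast, ← zpow_natCast, ← zpow_mul, ← zpow_mul, mul_comm]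
    have h4 : g ^ k • ω = ω := by
      have : g ∈ MulAction.stabilizer G ω := hω
      exact (MulAction.stabilizer G ω).zpow_mem this k
    have h5 : g * h = h * g ^ k := by
      rw [← h3]; group
    rw [← mul_smul, h5, mul_smul, h4]
  have : g = 1 := by
    apply FaithfulSMul.eq_of_smul_eq_smul (α := Ω)
    intro x
    rw [hall x, one_smul]
  rw [this, orderOf_one] at hord
  exact hp.one_lt.ne hord

end Cfsg.Agent.S3554
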