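import Cfsg.Statements.S3555
import Cfsg.Agent.Lib.Helper59.Derangement

set_option autoImplicit false
open Cfsg

namespace Cfsg.Agent.S3555

open MulAction
open scoped Pointwise

/-- Counting core: if all derangements are involutions then every non-identity element fixes at
most one point. -/
theorem frobenius_of_derangements_involutions {G Ω : Type*} [Group G] [Fintype G] [MulAction G Ω]
    [FaithfulSMul G Ω] [Fintype Ω] [DecidableEq Ω] [DecidableEq G] [Nonempty Ω]
    (htrans : IsPretransitive G Ω) (hinv : ∀ g : G, (∀ ω : Ω, g • ω ≠ ω) → g * g = 1)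
    (g : G) (hg : g ≠ 1) (a b : Ω) (ha : g • a = a) (hb : g • b = b) : a = b := by
  classical
  set Fix : G → Finset Ω := fun g => Finset.univ.filter (fun ω => g • ω = ω) with hFix
  set Δ : Finset G := Finset.univ.filter (fun g => ∀ ω : Ω, g • ω ≠ ω) with hΔ
  set n := Fintype.card Ω with hn
  have hfixcard : ∀ g : G, Nat.card (fixedBy Ω g) = (Fix g).card := by
    intro g
    rw [Nat.card_eq_fintype_card, Fintype.card_subtype]
    rfl
  have T1 : ∑ g : G, (Fix g).card = Fintype.card G := by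
    have := Cfsg.Agent.Lib.Helper59.burnside_natCard G Ω
    simp_rw [hfixcard] at this
    rw [this]
    have h1 : Nat.card (orbitRel.Quotient G Ω) = 1 := by
      rw [Nat.card_eq_one_iff_unique]
      exact ⟨(pretransitive_iff_subsingleton_quotient G Ω).mp htrans,
        ⟨Quotient.mk'' (Classical.arbitrary Ω)⟩⟩
    rw [h1, one_mul, Nat.card_eq_fintype_card]
  -- choice of a derangement mapping ω to β
  let x₀ : Ω → Ω → G := fun ω β =>
    if h : ∃ x : G, (∀ ω : Ω, x • ω ≠ ω) ∧ x • ω = β then h.choose else 1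
  have hx₀ : ∀ (x : G) (ω : Ω), (∀ ω : Ω, x • ω ≠ ω) →
      (∀ ω' : Ω, x₀ ω (x • ω) • ω' ≠ ω') ∧ x₀ ω (x • ω) • ω = x • ω := by
    intro x ω hx
    have h : ∃ y : G, (∀ ω : Ω, y • ω ≠ ω) ∧ y • ω = x • ω := ⟨x, hx, rfl⟩
    have : x₀ ω (x • ω) = h.choose := dif_pos h
    rw [this]
    exact h.choose_spec
  have hU : Δ.card * n ≤ ∑ g : G, (Fix g).offDiag.card := by
    rw [hn, ← Finset.card_univ, ← Finset.card_product, ← Finset.card_sigma]
    apply Finset.card_le_card_of_injOn
      (fun gω : G × Ω => (⟨(x₀ gω.2 (gω.1 • gω.2))⁻¹ * gω.1, (gω.2, gω.1 • gω.2)⟩ : Σ _ : G, Ω × Ω))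
    · rintro ⟨x, ω⟩ hxω
      have hx : ∀ ω : Ω, x • ω ≠ ω := by
        have := (Finset.mem_product.mp hxω).1
        exact (Finset.mem_filter.mp this).2
      obtain ⟨h1, h2⟩ := hx₀ x ω hx
      simp only [Finset.coe_sigma, Finset.coe_univ, Set.mem_sigma_iff, Set.mem_univ, true_and,
        Finset.mem_coe, Finset.mem_offDiag]
      set y := x₀ ω (x • ω) with hy
      have hyy : y * y = 1 := hinv y h1
      have hxx : x * x = 1 := hinv x hx
      have hyinv : y⁻¹ = y := inv_eq_of_mul_eq_one_left hyy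
      refine ⟨?_, ?_, (hx ω).symm⟩
      · rw [hFix]
        simp only [Finset.mem_filter, Finset.mem_univ, true_and]
        rw [mul_smul, ← h2, inv_smul_smul]
      · rw [hFix]
        simp only [Finset.mem_filter, Finset.mem_univ, true_and]
        rw [mul_smul, ← mul_smul x x, hxx, one_smul, hyinv, h2]
    · rintro ⟨x, ω⟩ _ ⟨x', ω'⟩ _ heq
      simp only [Sigma.mk.injEq, heq_eq_eq, Prod.mk.injEq] at heq
      obtain ⟨h1, h2, h3⟩ := heq
      subst h2
      rw [h3] at h1
      have := mul_left_cancel h1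
      rw [this]
  -- arithmetic in ℤ
  have hoff : ∀ g : G, ((Fix g).offDiag.card : ℤ) = ((Fix g).card : ℤ) * ((Fix g).card : ℤ) - (Fix g).card := by
    intro g
    rw [Finset.offDiag_card, Nat.cast_sub (Nat.le_mul_self _), Nat.cast_mul]
  have hle : ∀ g : G, (Fix g).card ≤ n := fun g => Finset.card_le_univ _
  have hΔ0 : ∀ g ∈ Δ, (Fix g).card = 0 := by
    intro g hg
    rw [Finset.card_eq_zero, Finset.filter_eq_empty_iff]
    intro ω _
    exact (Finset.mem_filter.mp hg).2 ω
  have hΔ1 : ∀ g : G, g ∉ Δ → 1 ≤ (Fix g).card := by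
    intro g hg
    rw [hΔ] at hg
    simp only [Finset.mem_filter, Finset.mem_univ, true_and, not_forall, not_not] at hg
    obtain ⟨ω, hω⟩ := hg
    exact Finset.card_pos.mpr ⟨ω, Finset.mem_filter.mpr ⟨Finset.mem_univ _, hω⟩⟩
  have hsum : ∑ g : G, (((Fix g).card : ℤ) - 1) * (((Fix g).card : ℤ) - n) =
      ∑ g : G, ((Fix g).offDiag.card : ℤ) := by
    have T1' : ∑ g : G, ((Fix g).card : ℤ) = Fintype.card G := by exact_mod_cast T1
    simp_rw [hoff]
    have e : ∀ g : G, (((Fix g).card : ℤ) - 1) * (((Fix g).card : ℤ) - n) =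
        (((Fix g).card : ℤ) * ((Fix g).card : ℤ) - (Fix g).card) - n * (Fix g).card + n := by
      intro g; ring
    simp_rw [e]
    rw [Finset.sum_add_distrib, Finset.sum_sub_distrib (f := fun g => ((Fix g).card : ℤ) * ((Fix g).card : ℤ) - (Fix g).card), ← Finset.mul_sum, T1']
    simp
    ring
  have hsplit := Finset.sum_filter_add_sum_filter_not (Finset.univ : Finset G)
    (fun g => ∀ ω : Ω, g • ω ≠ ω) (fun g => (((Fix g).card : ℤ) - 1) * (((Fix g).card : ℤ) - n))
  have hpartΔ : ∑ g ∈ Δ, (((Fix g).card : ℤ) - 1) * (((Fix g).card : ℤ) - n) = (Δ.card : ℤ) * n := by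
    rw [Finset.sum_congr rfl (fun g hg => by rw [hΔ0 g hg])]
    simp
  have hU' : (Δ.card : ℤ) * n ≤ ∑ g : G, ((Fix g).offDiag.card : ℤ) := by exact_mod_cast hU
  have hrest : 0 ≤ ∑ g ∈ Finset.univ.filter (fun g : G => ¬ ∀ ω : Ω, g • ω ≠ ω),
      (((Fix g).card : ℤ) - 1) * (((Fix g).card : ℤ) - n) := by
    rw [← hΔ] at hsplit
    linarith
  have hnonpos : ∀ g ∈ Finset.univ.filter (fun g : G => ¬ ∀ ω : Ω, g • ω ≠ ω),
      (((Fix g).card : ℤ) - 1) * (((Fix g).card : ℤ) - n) ≤ 0 := by
    intro g hg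
    have h1 : 1 ≤ (Fix g).card := hΔ1 g (by
      intro h
      exact (Finset.mem_filter.mp hg).2 (Finset.mem_filter.mp h).2)
    have h2 := hle g
    have h1' : (1 : ℤ) ≤ (Fix g).card := by exact_mod_cast h1
    have h2' : ((Fix g).card : ℤ) ≤ n := by exact_mod_cast h2
    nlinarith
  have hzero := (Finset.sum_eq_zero_iff_of_nonpos hnonpos).mp
    (le_antisymm (Finset.sum_nonpos hnonpos) hrest)
  have hgz := hzero g (Finset.mem_filter.mpr ⟨Finset.mem_univ _, fun h => h a ha⟩)
  rcases mul_eq_zero.mp hgz with h | h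
  · have h1 : (Fix g).card = 1 := by
      have : ((Fix g).card : ℤ) = 1 := by linarith
      exact_mod_cast this
    rw [Finset.card_eq_one] at h1
    obtain ⟨c, hc⟩ := h1
    have ha' : a ∈ Fix g := Finset.mem_filter.mpr ⟨Finset.mem_univ _, ha⟩
    have hb' : b ∈ Fix g := Finset.mem_filter.mpr ⟨Finset.mem_univ _, hb⟩
    rw [hc, Finset.mem_singleton] at ha' hb'
    rw [ha', hb']
  · exfalso
    apply hg
    have h1 : (Fix g).card = n := by
      have : ((Fix g).card : ℤ) = n := by linarith
      exact_mod_cast this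
    have h2 : Fix g = Finset.univ := (Finset.card_eq_iff_eq_univ _).mp h1
    apply FaithfulSMul.eq_of_smul_eq_smul (α := Ω)
    intro ω
    have : ω ∈ Fix g := h2 ▸ Finset.mem_univ ω
    rw [one_smul]
    exact (Finset.mem_filter.mp this).2

theorem mem_conj_stabilizer {G Ω : Type*} [Group G] [MulAction G Ω] (x g : G) (α : Ω) :
    x ∈ MulAut.conj g • stabilizer G α ↔ x • (g • α) = g • α := by
  rw [Subgroup.mem_pointwise_smul_iff_inv_smul_mem, MulAut.smul_def, MulAut.conj_inv_apply,
    mem_stabilizer_iff, mul_smul, mul_smul, inv_smul_eq_iff]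

theorem comm_of_sq {G : Type*} [Group G] {a b : G} (ha : a * a = 1) (hb : b * b = 1)
    (hab : (a * b) * (a * b) = 1) : a * b = b * a := by
  have h1 : a⁻¹ = a := inv_eq_of_mul_eq_one_left ha
  have h2 : b⁻¹ = b := inv_eq_of_mul_eq_one_left hb
  have h3 : (a * b)⁻¹ = a * b := inv_eq_of_mul_eq_one_left hab
  rw [← h3, mul_inv_rev, h1, h2]

theorem result {G Ω : Type*} [Group G] [Finite G] [MulAction G Ω] [FaithfulSMul G Ω] [Finite Ω]
    (htrans : MulAction.IsPretransitive G Ω) (hinv : ∀ g : G, (∀ ω : Ω, g • ω ≠ ω) → orderOf g = 2) :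
    (IsMulCommutative G ∧ ∀ g : G, g ^ 2 = 1) ∨
    (∃ H : Subgroup G, Cfsg.IsFrobeniusComplement H ∧
      (∀ x ∈ Cfsg.frobeniusKernel H, x ^ 2 = 1) ∧
      ∀ x ∈ Cfsg.frobeniusKernel H, ∀ y ∈ Cfsg.frobeniusKernel H, x * y = y * x) := by
  classical
  rcases isEmpty_or_nonempty Ω with hΩ | hΩ
  · have := hinv 1 (fun ω => (hΩ.false ω).elim)
    rw [orderOf_one] at this
    omega
  have := Fintype.ofFinite G
  have := Fintype.ofFinite Ω
  have hinv' : ∀ g : G, (∀ ω : Ω, g • ω ≠ ω) → g * g = 1 := by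
    intro g hg
    have := pow_orderOf_eq_one g
    rwa [hinv g hg, pow_two] at this
  have hfrob := fun g hg a b ha hb =>
    frobenius_of_derangements_involutions htrans hinv' g hg a b ha hb
  obtain ⟨α⟩ := hΩ
  by_cases hH : stabilizer G α = ⊥
  · left
    have hsq : ∀ g : G, g * g = 1 := by
      intro g
      by_cases hg : g = 1
      · rw [hg, one_mul]
      · apply hinv'
        intro ω hω
        apply hg
        obtain ⟨k, rfl⟩ := exists_smul_eq G α ω
        have h1 : g ∈ MulAut.conj k • stabilizer G α := (mem_conj_stabilizer g k α).mpr hω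
        rw [hH] at h1
        simpa using h1
    refine ⟨⟨⟨fun a b => comm_of_sq (hsq a) (hsq b) (hsq _)⟩⟩, fun g => ?_⟩
    rw [pow_two]; exact hsq g
  · right
    refine ⟨stabilizer G α, ⟨hH, ?_, ?_⟩, ?_, ?_⟩
    · intro htop
      apply hH
      rw [Subgroup.eq_bot_iff_forall]
      intro x _
      apply FaithfulSMul.eq_of_smul_eq_smul (α := Ω)
      intro ω
      obtain ⟨k, rfl⟩ := exists_smul_eq G α ω
      have h1 : k ∈ stabilizer G α := htop ▸ Subgroup.mem_top k
      have h2 : x ∈ stabilizer G α := htop ▸ Subgroup.mem_top x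
      rw [mem_stabilizer_iff] at h1 h2
      rw [h1, h2, one_smul]
    · intro g hg
      rw [Subgroup.eq_bot_iff_forall]
      intro x hx
      obtain ⟨hx1, hx2⟩ := Subgroup.mem_inf.mp hx
      rw [mem_conj_stabilizer] at hx2
      by_contra hx0
      have := hfrob x hx0 α (g • α) hx1 hx2
      exact hg this.symm
    · have hker : ∀ x ∈ Cfsg.frobeniusKernel (stabilizer G α), x * x = 1 := by
        intro x hx
        rcases hx with rfl | hx
        · rw [one_mul]
        · apply hinv'
          intro ω hω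
          obtain ⟨k, rfl⟩ := exists_smul_eq G α ω
          exact hx k ((mem_conj_stabilizer x k α).mpr hω)
      intro x hx
      rw [pow_two]; exact hker x hx
    · have hder : ∀ x ∈ Cfsg.frobeniusKernel (stabilizer G α), x = 1 ∨ ∀ ω : Ω, x • ω ≠ ω := by
        intro x hx
        rcases hx with rfl | hx
        · left; rfl
        · right
          intro ω hω
          obtain ⟨k, rfl⟩ := exists_smul_eq G α ω
          exact hx k ((mem_conj_stabilizer x k α).mpr hω)
      intro x hx y hy
      rcases hder x hx with rfl | hx'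
      · rw [one_mul, mul_one]
      rcases hder y hy with rfl | hy'
      · rw [one_mul, mul_one]
      by_cases hxy : x = y
      · rw [hxy]
      have hxx := hinv' x hx'
      have hyy := hinv' y hy'
      apply comm_of_sq hxx hyy
      apply hinv'
      intro ω hω
      -- x y ω = ω so y ω = x ω
      apply hxy
      have hxinv : x⁻¹ = x := inv_eq_of_mul_eq_one_left hxx
      have hyinv : y⁻¹ = y := inv_eq_of_mul_eq_one_left hyy
      have h1 : y • ω = x • ω := by
        rw [mul_smul, smul_eq_iff_eq_inv_smul, hxinv] at hω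
        exact hω
      -- y⁻¹ x fixes ω and x ω
      have h2 : (y⁻¹ * x) • ω = ω := by
        rw [mul_smul, ← h1, inv_smul_smul]
      have h3 : (y⁻¹ * x) • (x • ω) = x • ω := by
        rw [mul_smul, ← mul_smul x x, hxx, one_smul, hyinv, h1]
      by_contra hne
      have h4 : y⁻¹ * x ≠ 1 := by
        intro h
        apply hne
        have := congrArg (fun z => y * z) h
        simpa using this
      exact hx' ω (hfrob _ h4 ω (x • ω) h2 h3).symm

end Cfsg.Agent.S3555
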