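import Cfsg.Statements.S3556
import Cfsg.Agent.Lib.Helper59.PrimNormal

set_option autoImplicit false
open Cfsg

namespace Cfsg.Agent.S3556

open MulAction Cfsg.Agent.Lib.Helper59

/-- Lemma C: the centralizer of a derangement consists of `p`-elements. -/
theorem centralizer_derangement {G Ω : Type*} [Group G] [Finite G] [MulAction G Ω]
    (p : ℕ) (hp : p.Prime)
    (hder : ∀ g : G, (∀ ω : Ω, g • ω ≠ ω) → ∃ k : ℕ, orderOf g = p ^ k)
    (x : G) (hx : ∀ ω : Ω, x • ω ≠ ω) (y : G) (hxy : Commute x y) : ∃ k : ℕ, orderOf y = p ^ k := by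
  refine ⟨_, Nat.eq_prime_pow_of_unique_prime_dvd (orderOf_pos y).ne' ?_⟩
  intro q hq hqy
  by_contra hqp
  set y' := y ^ (orderOf y / q) with hy'
  have hoy' : orderOf y' = q := orderOf_pow_orderOf_div (orderOf_pos y).ne' hqy
  have hc : Commute x y' := hxy.pow_right _
  obtain ⟨a, ha⟩ := hder x hx
  have hcop : Nat.Coprime (orderOf x) (orderOf y') := by
    rw [ha, hoy']
    exact Nat.Coprime.pow_left _ ((Nat.coprime_primes hp hq).mpr (Ne.symm hqp))
  have hord : orderOf (x * y') = orderOf x * orderOf y' := hc.orderOf_mul_eq_mul_orderOf_of_coprime hcop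
  have hd : ∀ ω : Ω, (x * y') • ω ≠ ω := by
    intro ω hω
    have h1 : (x * y') ^ q • ω = ω := by
      have : (x * y') ∈ stabilizer G ω := hω
      exact (stabilizer G ω).pow_mem this q
    have h2 : (x * y') ^ q = x ^ q := by
      rw [hc.mul_pow, ← hoy', pow_orderOf_eq_one, mul_one]
    rw [h2] at h1
    have hcop' : Nat.Coprime q (orderOf x) := by rw [← hoy']; exact hcop.symm
    obtain ⟨m, hm⟩ := exists_pow_eq_self_of_coprime hcop'
    have h3 : (x ^ q) ^ m • ω = ω := by
      have : x ^ q ∈ stabilizer G ω := h1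
      exact (stabilizer G ω).pow_mem this m
    rw [hm] at h3
    exact hx ω h3
  obtain ⟨k, hk⟩ := hder _ hd
  rw [hord, hoy'] at hk
  have : q ∣ p ^ k := hk ▸ Dvd.intro_left _ rfl
  exact hqp ((Nat.prime_dvd_prime_iff_eq hq hp).mp (hq.dvd_of_dvd_pow this))

theorem result {G Ω : Type*} [Group G] [Finite G] [MulAction G Ω] [FaithfulSMul G Ω] [Finite Ω]
    (hprim : MulAction.IsPreprimitive G Ω) (hΩ : 2 ≤ Nat.card Ω) (p : ℕ) (hp : p.Prime)
    (hder : ∀ g : G, (∀ ω : Ω, g • ω ≠ ω) → ∃ k : ℕ, orderOf g = p ^ k) :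
    (∃ (N : Subgroup G) (r : ℕ), r.Prime ∧ N.Normal ∧ Cfsg.IsElementaryAbelian r N ∧
      MulAction.IsPretransitive N Ω ∧ ∀ a : Ω, MulAction.stabilizer N a = ⊥) ∨
    (∃ T : Subgroup G, T.Normal ∧ IsSimpleGroup ↥T ∧ ¬ IsMulCommutative ↥T ∧
      Subgroup.centralizer (T : Set G) = ⊥) := by
  classical
  have hpf : Fact p.Prime := ⟨hp⟩
  have hne : Nonempty Ω := by
    rcases isEmpty_or_nonempty Ω with h | h
    · rw [Nat.card_of_isEmpty] at hΩ; omega
    · exact h
  obtain ⟨α⟩ := hne
  -- G is non-trivial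
  have hGtop : (⊤ : Subgroup G) ≠ ⊥ := by
    intro h
    obtain ⟨x, hx⟩ := exists_derangement (K := G) (X := Ω) hprim.toIsPretransitive hΩ
    have : x ∈ (⊥ : Subgroup G) := h ▸ Subgroup.mem_top x
    rw [Subgroup.mem_bot] at this
    exact hx α (by rw [this, one_smul])
  obtain ⟨N, hN⟩ := exists_isMinInv (⊤ : Subgroup G) hGtop
  have hNn : N.Normal := (invUnder_top_iff N).mp hN.2.2.1
  have hN0 : N ≠ ⊥ := hN.2.1
  have hNtr : IsPretransitive N Ω := isPretransitive_of_normal_of_ne_bot hprim N hNn hN0
  by_cases hab : ∀ x ∈ N, ∀ y ∈ N, x * y = y * x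
  · -- affine case
    left
    have hNnt : Nontrivial N := (Subgroup.nontrivial_iff_ne_bot N).mpr hN0
    have hcard : Nat.card N ≠ 1 := by
      have := Finite.one_lt_card (α := N)
      omega
    obtain ⟨r, hr, hrN⟩ := Nat.exists_prime_and_dvd hcard
    have hrf : Fact r.Prime := ⟨hr⟩
    obtain ⟨z, hz⟩ := exists_prime_orderOf_dvd_card' (G := N) r hrN
    let K : Subgroup G :=
      { carrier := {x | x ∈ N ∧ x ^ r = 1}
        one_mem' := ⟨N.one_mem, one_pow r⟩
        mul_mem' := by
          rintro a b ⟨ha, har⟩ ⟨hb, hbr⟩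
          refine ⟨N.mul_mem ha hb, ?_⟩
          have : Commute a b := hab a ha b hb
          rw [this.mul_pow, har, hbr, one_mul]
        inv_mem' := by
          rintro a ⟨ha, har⟩
          exact ⟨N.inv_mem ha, by rw [inv_pow, har, inv_one]⟩ }
    have hKN : K = N := by
      apply hN.2.2.2 K (fun x hx => hx.1)
      · intro h
        have hzK : (z : G) ∈ K := by
          refine ⟨z.2, ?_⟩
          have := pow_orderOf_eq_one z
          rw [hz] at this
          exact_mod_cast congrArg Subtype.val this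
        rw [h, Subgroup.mem_bot] at hzK
        have : z = 1 := Subtype.ext hzK
        rw [this, orderOf_one] at hz
        exact hr.one_lt.ne hz
      · intro g _ x hx
        refine ⟨hNn.conj_mem x hx.1 g, ?_⟩
        rw [conj_pow, hx.2]; group
    refine ⟨N, r, hr, hNn, ⟨⟨⟨fun a b => Subtype.ext (hab a a.2 b b.2)⟩⟩, fun a ha => ?_⟩, hNtr, ?_⟩
    · have : a ∈ K := hKN ▸ ha
      exact this.2
    · intro a
      rw [Subgroup.eq_bot_iff_forall]
      intro x hx
      apply Subtype.ext
      apply FaithfulSMul.eq_of_smul_eq_smul (α := Ω)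
      intro ω
      obtain ⟨n, rfl⟩ := hNtr.exists_smul_eq a ω
      have hx' : (x : G) • a = a := hx
      show (x : G) • (n : G) • a = (1 : G) • (n : G) • a
      rw [one_smul, ← mul_smul, hab x x.2 n n.2, mul_smul, hx']
  · -- non-abelian case
    right
    obtain ⟨T, hT⟩ := exists_isMinInv N hN0
    -- T is not a p-group
    have hTnp : ¬ ∀ t ∈ T, ∃ k : ℕ, orderOf t = p ^ k := by
      intro h
      exact hab (commute_of_isMinInv_of_commute hN hT (commute_of_isMinInv_of_pGroup hT p h))
    -- T moves α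
    have hTmove : ∃ t ∈ T, t • α ≠ α := by
      by_contra hcon
      push Not at hcon
      apply hT.2.1
      rw [Subgroup.eq_bot_iff_forall]
      intro x hx
      apply FaithfulSMul.eq_of_smul_eq_smul (α := Ω)
      intro ω
      obtain ⟨n, rfl⟩ := hNtr.exists_smul_eq α ω
      have h1 : (n : G)⁻¹ * x * (n : G) ∈ T := by
        have := hT.2.2.1 (n : G)⁻¹ (N.inv_mem n.2) x hx
        simpa using this
      have h2 := hcon _ h1
      show x • (n : G) • α = (1 : G) • (n : G) • α
      rw [one_smul]
      rw [mul_smul, mul_smul, inv_smul_eq_iff] at h2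
      exact h2
    have hcov : ∀ ω : Ω, ∃ c t : G, t ∈ T ∧ (∀ s ∈ T, c * s = s * c) ∧ ω = c • t • α := by
      intro ω
      obtain ⟨n, rfl⟩ := hNtr.exists_smul_eq α ω
      obtain ⟨c, t, ht, -, hc, hn⟩ := exists_centralizing_factor hN hT n n.2
      refine ⟨c, t, ht, hc, ?_⟩
      show (n : G) • α = _
      rw [hn, mul_smul]
    obtain ⟨x, hxT, hxd⟩ := exists_derangement_of_cover T α hTmove hcov
    -- all conjugates of T equal T
    have hconj : ∀ g : G, cj g T = T := by
      intro g
      rcases cj_eq_or_commute hNn hT g with h | h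
      · exact h
      · exfalso
        apply hTnp
        intro t ht
        have h1 : g * t * g⁻¹ ∈ cj g T := conj_mem_cj ht
        obtain ⟨k, hk⟩ := centralizer_derangement p hp hder x hxd _ (h x hxT _ h1)
        refine ⟨k, ?_⟩
        rw [← hk]
        have hsc : SemiconjBy g t (g * t * g⁻¹) := by
          unfold SemiconjBy; group
        exact hsc.orderOf_eq
    have hTN : T = N := by
      apply hN.2.2.2 T hT.1 hT.2.1
      intro g _ t ht
      have := conj_mem_cj (g := g) ht
      rwa [hconj g] at this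
    subst hTN
    refine ⟨T, hNn, ?_, ?_, ?_⟩
    · -- simple
      have hnt : Nontrivial T := (Subgroup.nontrivial_iff_ne_bot T).mpr hN0
      refine { exists_pair_ne := hnt.exists_pair_ne, eq_bot_or_eq_top_of_normal := ?_ }
      intro K hK
      by_cases hK0 : K = ⊥
      · left; exact hK0
      · right
        have h1 : K.map T.subtype = T := by
          apply hT.2.2.2
          · exact Subgroup.map_subtype_le K
          · intro h
            apply hK0
            exact (Subgroup.map_eq_bot_iff_of_injective K T.subtype_injective).mp h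
          · rintro n hn _ ⟨k, hk, rfl⟩
            exact ⟨⟨n, hn⟩ * k * ⟨n, hn⟩⁻¹, hK.conj_mem k hk ⟨n, hn⟩, rfl⟩
        rw [eq_top_iff]
        intro t _
        have : (t : G) ∈ K.map T.subtype := by rw [h1]; exact t.2
        obtain ⟨k, hk, hkt⟩ := this
        have : k = t := Subtype.ext hkt
        rwa [← this]
    · intro hc
      apply hab
      intro a ha b hb
      have := hc.is_comm.comm ⟨a, ha⟩ ⟨b, hb⟩
      exact congrArg Subtype.val this
    · by_contra hC0
      have hCn : (Subgroup.centralizer (T : Set G)).Normal := Subgroup.normal_centralizer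
      have hCtr := isPretransitive_of_normal_of_ne_bot hprim _ hCn hC0
      obtain ⟨y, hy⟩ := exists_derangement (K := Subgroup.centralizer (T : Set G)) (X := Ω) hCtr hΩ
      apply hTnp
      intro t ht
      apply centralizer_derangement p hp hder (y : G) hy t
      exact ((Subgroup.mem_centralizer_iff.mp y.2) t ht).symm

end Cfsg.Agent.S3556
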