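import Cfsg.Statements.S3589
import Mathlib
import Cfsg.Agent.Lib.Helper42.Sp8.UP
import Cfsg.Agent.Lib.Helper42.Sp8.COMB
import Cfsg.Agent.Lib.Helper42.Sp8.GRP
import Cfsg.Agent.Lib.Helper42.Sp8.SUB

set_option autoImplicit false
open Cfsg

namespace Cfsg.Agent.S3589

open Cfsg.Agent.Lib.Helper42.Sp8 Cfsg.Agent.Lib.Helper42.SpecPSp

/-- Let F be a finite field of characteristic 2 and let a, b ∈ F make the binary form z₁² + a z₁z₂ + b z₂² anisotropic. Then the symplectic group PSp(8,F) (= Sp(8,F)) and the full isometry group of the non-singular quadratic form x₁y₁ + x₂y₂ + x₃y₃ + (z₁² + a z₁z₂ + b z₂²) of minus type in dimension 8 have the same set of element orders. -/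
theorem result {F : Type*} [Field F] [Fintype F]
    [CharP F 2] (a b : F) (han : ∀ z₁ z₂ : F, z₁ ^ 2 + a * z₁ * z₂ + b * z₂ ^ 2 = 0 → z₁ = 0 ∧ z₂ = 0) :
    Set.range (orderOf : Cfsg.PSp 4 F → ℕ) = Set.range (orderOf : ↥(Cfsg.isometryGroup F (Cfsg.quadFormMinus 3 F a b)) → ℕ) := by
  classical
  apply Set.Subset.antisymm
  · rintro _ ⟨x, rfl⟩
    obtain ⟨x0, rfl⟩ := QuotientGroup.mk_surjective x
    have hX : adj (x0 : Matrix (Fin 4 ⊕ Fin 4) (Fin 4 ⊕ Fin 4) F) *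
        (x0 : Matrix (Fin 4 ⊕ Fin 4) (Fin 4 ⊕ Fin 4) F) = 1 := (mem_sp_iff _).mp x0.2
    obtain ⟨M, hS, hM⟩ := exists_shape 4 (by norm_num) _ hX
    obtain ⟨M', hd, hR⟩ := realQ_of_shape M hS
    obtain ⟨g, hg⟩ := exists_isom_of_realQ a b han M' hR
    have hpos : 0 < M' := by
      obtain ⟨_, _, _, _, _, _, h, _⟩ := hR
      exact h
    have ho : orderOf (QuotientGroup.mk x0 : Cfsg.PSp 4 F) ∣ orderOf g := by
      rw [hg, orderOf_dvd_iff_pow_eq_one, psp_pow_eq_one_iff (by norm_num)]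
      left
      obtain ⟨c, rfl⟩ := hd
      rw [pow_mul, hM, one_pow]
    exact ⟨g ^ (orderOf g / orderOf (QuotientGroup.mk x0 : Cfsg.PSp 4 F)),
      orderOf_pow_orderOf_div (by rw [hg]; exact hpos.ne') ho⟩
  · rintro _ ⟨g, rfl⟩
    obtain ⟨x, hx⟩ := exists_psp_of_isom a b han g
    exact ⟨x, hx⟩

end Cfsg.Agent.S3589
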