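import Cfsg.Statements.S3626
import Cfsg.Agent.Lib.Helper37.Ree.SpecF
import Cfsg.Agent.S1159

set_option autoImplicit false
open Cfsg

namespace Cfsg.Agent.S3626

/-- Let R be the small Ree group over the field with q = 3^(2m+1) ≥ 27 elements. Then there are finite groups of arbitrarily large order with exactly the same set of element orders as R × R × R. -/
theorem result {K : Type*} [Field K] [Fintype K] {m : ℕ} (hm : 1 ≤ m) (hK : Fintype.card K = 3 ^ (2 * m + 1)) (N : ℕ) :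
    ∃ (H : Type) (_ : Group H) (_ : Fintype H), N < Fintype.card H ∧
      Set.range (orderOf : H → ℕ) = Set.range (orderOf : ↥(Cfsg.Lie.twistedG2 K (3 ^ m)) × ↥(Cfsg.Lie.twistedG2 K (3 ^ m)) × ↥(Cfsg.Lie.twistedG2 K (3 ^ m)) → ℕ) := by
  have : CharP K 3 := Cfsg.Agent.Lib.Helper37.ReeM.charP_three hK
  have hfin : Finite ↥(Cfsg.Lie.twistedG2 K (3 ^ m)) := Subtype.finite
  obtain ⟨H, iG, iF, hcard, hrange⟩ := Cfsg.Agent.Lib.Helper37.ReeSpec.exists_type_model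
    (↥(Cfsg.Lie.twistedG2 K (3 ^ m)) × ↥(Cfsg.Lie.twistedG2 K (3 ^ m)) ×
      Cfsg.Agent.Lib.Helper37.ReeSpec.YY K (Fin (N + 1)))
  refine ⟨H, iG, iF, ?_, ?_⟩
  · rw [hcard, Nat.card_prod, Nat.card_prod]
    have h1 := Cfsg.Agent.Lib.Helper37.ReeSpec.card_lt_card_YY (K := K) (Fin (N + 1))
    rw [Fintype.card_fin] at h1
    have h2 : 0 < Nat.card ↥(Cfsg.Lie.twistedG2 K (3 ^ m)) := Nat.card_pos
    calc N < Nat.card (Cfsg.Agent.Lib.Helper37.ReeSpec.YY K (Fin (N + 1))) := by omega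
      _ ≤ Nat.card ↥(Cfsg.Lie.twistedG2 K (3 ^ m)) * Nat.card (Cfsg.Agent.Lib.Helper37.ReeSpec.YY K (Fin (N + 1))) :=
        Nat.le_mul_of_pos_left _ h2
      _ ≤ _ := Nat.le_mul_of_pos_left _ h2
  · rw [hrange]
    exact Cfsg.Agent.Lib.Helper37.ReeSpec.range_eq _ _ (Cfsg.Agent.S1159.result hm hK)
      (Cfsg.Agent.Lib.Helper37.ReeSpec.spec_Y (Fin (N + 1)) hm hK)
      (3 ^ (2 * m + 1) - 3 ^ (m + 1) + 1) (3 ^ (2 * m + 1) + 3 ^ (m + 1) + 1) (fun d => by tauto)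

end Cfsg.Agent.S3626
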