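import Mathlib
import Cfsg.Statements.S3634

set_option autoImplicit false
open Cfsg

namespace Cfsg.Agent.S3634

/-- The "partition" argument for a Frobenius group `Q ⋊ ⟨y⟩` acting fixed point freely on an
abelian group. -/
theorem pow_card_eq_one_of_frobenius {T A : Type*} [Group T] [CommGroup A] (φ : T →* MulAut A)
    (Q : Subgroup T) [Finite Q] (y : T) (r : ℕ) (hr : 0 < r) (hyr : y ^ r = 1)
    (hn : ∀ u ∈ Q, y * u * y⁻¹ ∈ Q)
    (hc : ∀ j, 0 < j → j < r → ∀ u ∈ Q, u * y ^ j = y ^ j * u → u = 1)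
    (hfy : ∀ v : A, φ y v = v → v = 1)
    (hfQ : ∀ v : A, (∀ u ∈ Q, φ u v = v) → v = 1) (v : A) :
    v ^ Nat.card Q = 1 := by
  classical
  have : Fintype Q := Fintype.ofFinite Q
  have hnj : ∀ j : ℕ, ∀ u ∈ Q, y ^ j * u * (y ^ j)⁻¹ ∈ Q := by
    intro j
    induction j with
    | zero => intro u hu; simpa using hu
    | succ j ih =>
      intro u hu
      have := hn _ (ih u hu)
      have h2 : y ^ (j + 1) * u * (y ^ (j + 1))⁻¹ = y * (y ^ j * u * (y ^ j)⁻¹) * y⁻¹ := by
        rw [pow_succ']; group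
      rw [h2]; exact this
  -- the double product
  have h1 : ∏ g : Q, ∏ j ∈ Finset.range r, φ ((g : T) * y ^ j * (g : T)⁻¹) v = 1 := by
    apply Finset.prod_eq_one
    intro g _
    set f : ℕ → A := fun j => φ ((g : T) * y ^ j * (g : T)⁻¹) v with hf
    set w := ∏ j ∈ Finset.range r, f j with hw
    have hfix : φ ((g : T) * y * (g : T)⁻¹) w = w := by
      rw [hw, map_prod]
      have hstep : ∀ j, φ ((g : T) * y * (g : T)⁻¹) (f j) = f (j + 1) := by
        intro j
        simp only [hf]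
        rw [← MulAut.mul_apply, ← map_mul]
        congr 2
        rw [pow_succ']; group
      simp only [hstep]
      have e1 := Finset.prod_range_succ' f r
      have e2 := Finset.prod_range_succ f r
      have e3 : f r = f 0 := by simp only [hf, hyr, pow_zero]
      rw [e2, e3] at e1
      exact (mul_right_cancel e1).symm
    have h3 : φ y (φ (g : T)⁻¹ w) = φ (g : T)⁻¹ w := by
      have : φ (g : T)⁻¹ (φ ((g : T) * y * (g : T)⁻¹) w) = φ (g : T)⁻¹ w := by rw [hfix]
      rw [← MulAut.mul_apply, ← map_mul] at this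
      rw [← MulAut.mul_apply, ← map_mul]
      have e : (g : T)⁻¹ * ((g : T) * y * (g : T)⁻¹) = y * (g : T)⁻¹ := by group
      rw [e] at this
      exact this
    have h4 := hfy _ h3
    have h5 : φ (g : T) (φ (g : T)⁻¹ w) = w := by
      rw [← MulAut.mul_apply, ← map_mul]; simp
    rw [h4] at h5
    rw [← h5]; simp
  rw [Finset.prod_comm] at h1
  rw [Finset.prod_eq_single 0] at h1
  · simpa [Nat.card_eq_fintype_card] using h1
  · intro j hj hj0
    have hjr : j < r := Finset.mem_range.mp hj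
    have hj0' : 0 < j := Nat.pos_of_ne_zero hj0
    let e : Q → Q := fun g => ⟨(g : T) * y ^ j * (g : T)⁻¹ * (y ^ j)⁻¹, by
      have := Q.mul_mem g.2 (hnj j _ (Q.inv_mem g.2))
      have h2 : (g : T) * y ^ j * (g : T)⁻¹ * (y ^ j)⁻¹ = (g : T) * (y ^ j * (g : T)⁻¹ * (y ^ j)⁻¹) := by
        group
      rw [h2]; exact this⟩
    have he : Function.Injective e := by
      intro g h hgh
      have h1 : (g : T) * y ^ j * (g : T)⁻¹ * (y ^ j)⁻¹ = (h : T) * y ^ j * (h : T)⁻¹ * (y ^ j)⁻¹ :=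
        congrArg Subtype.val hgh
      have h2 : (g : T) * y ^ j * (g : T)⁻¹ = (h : T) * y ^ j * (h : T)⁻¹ := mul_right_cancel h1
      have h3 : ((h : T)⁻¹ * (g : T)) * y ^ j = y ^ j * ((h : T)⁻¹ * (g : T)) := by
        calc ((h : T)⁻¹ * (g : T)) * y ^ j = (h : T)⁻¹ * ((g : T) * y ^ j * (g : T)⁻¹) * (g : T) := by group
          _ = (h : T)⁻¹ * ((h : T) * y ^ j * (h : T)⁻¹) * (g : T) := by rw [h2]
          _ = y ^ j * ((h : T)⁻¹ * (g : T)) := by group
      have h4 := hc j hj0' hjr _ (Q.mul_mem (Q.inv_mem h.2) g.2) h3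
      apply Subtype.ext
      exact (inv_mul_eq_one.mp h4).symm
    have hbij : Function.Bijective e := Finite.injective_iff_bijective.mp he
    have h2 : ∏ g : Q, φ ((g : T) * y ^ j * (g : T)⁻¹) v = ∏ g : Q, φ ((e g : Q) : T) (φ (y ^ j) v) := by
      apply Finset.prod_congr rfl
      intro g _
      rw [← MulAut.mul_apply, ← map_mul]
      congr 2
      simp only [e]
      group
    rw [h2, hbij.prod_comp (fun w : Q => φ (w : T) (φ (y ^ j) v))]
    apply hfQ
    intro u hu
    rw [map_prod]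
    have h3 : ∀ w : Q, φ u (φ (w : T) (φ (y ^ j) v)) = φ (((⟨u, hu⟩ : Q) * w : Q) : T) (φ (y ^ j) v) := by
      intro w
      rw [← MulAut.mul_apply, ← map_mul]
      rfl
    simp only [h3]
    exact Equiv.prod_comp (Equiv.mulLeft (⟨u, hu⟩ : Q)) (fun w : Q => φ (w : T) (φ (y ^ j) v))
  · intro h0
    exact absurd (Finset.mem_range.mpr hr) h0

theorem exists_orderOf_eq_mul {G : Type*} [Group G] [Finite G] {a b : G} (hab : Commute a b) {p q : ℕ}
    (hp : p.Prime) (hq : q.Prime) (hpq : p ≠ q) (ha : p ∣ orderOf a) (hb : q ∣ orderOf b) :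
    ∃ x : G, orderOf x = p * q := by
  refine ⟨a ^ (orderOf a / p) * b ^ (orderOf b / q), ?_⟩
  have h1 : orderOf (a ^ (orderOf a / p)) = p := orderOf_pow_orderOf_div (orderOf_pos a).ne' ha
  have h2 : orderOf (b ^ (orderOf b / q)) = q := orderOf_pow_orderOf_div (orderOf_pos b).ne' hb
  have hc : Commute (a ^ (orderOf a / p)) (b ^ (orderOf b / q)) := hab.pow_pow _ _
  rw [hc.orderOf_mul_eq_mul_orderOf_of_coprime
    (by rw [h1, h2]; exact (Nat.coprime_primes hp hq).mpr hpq), h1, h2]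

theorem dvd_orderOf_of_isPGroup {G : Type*} [Group G] {p : ℕ} (hp : p.Prime) {H : Subgroup G}
    (hH : IsPGroup p H) {a : G} (ha : a ∈ H) (ha1 : a ≠ 1) : p ∣ orderOf a := by
  obtain ⟨k, hk⟩ := hH ⟨a, ha⟩
  have hk' : a ^ (p ^ k) = 1 := congrArg Subtype.val hk
  obtain ⟨j, _, hj⟩ := (Nat.dvd_prime_pow hp).mp (orderOf_dvd_of_pow_eq_one hk')
  rcases Nat.eq_zero_or_pos j with rfl | hj0
  · rw [pow_zero, orderOf_eq_one_iff] at hj
    exact absurd hj ha1
  · rw [hj]
    exact dvd_pow_self p hj0.ne'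

theorem claimB {G : Type*} [Group G] [Finite G] {p q r : ℕ} (hp : p.Prime) (hq : q.Prime)
    (hr : r.Prime) (hpq : p ≠ q) (hpr : p ≠ r) (hqr : q ≠ r)
    (V Q : Subgroup G) [V.Normal] (hVc : ∀ a ∈ V, ∀ b ∈ V, a * b = b * a) (hVp : IsPGroup p V)
    (hV : V ≠ ⊥) (hQq : IsPGroup q Q) (hQ : Q ≠ ⊥) (y : G) (hy : orderOf y = r)
    (hyQ : ∀ u ∈ Q, y * u * y⁻¹ ∈ Q)
    (h1 : ¬ ∃ x : G, orderOf x = p * q) (h2 : ¬ ∃ x : G, orderOf x = p * r)
    (h3 : ¬ ∃ x : G, orderOf x = q * r) : False := by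
  let _ : CommGroup V := { (inferInstance : Group V) with
    mul_comm := fun a b => Subtype.ext (hVc a a.2 b b.2) }
  have key : ∀ v : V, v ^ Nat.card Q = 1 := by
    apply pow_card_eq_one_of_frobenius (MulAut.conjNormal : G →* MulAut V) Q y r hr.pos
      (by rw [← hy]; exact pow_orderOf_eq_one y) hyQ
    · intro j hj0 hjr u hu hcomm
      by_contra hu1
      apply h3
      have hco : (orderOf y).Coprime j := by
        rw [hy]
        exact (Nat.Prime.coprime_iff_not_dvd hr).mpr (Nat.not_dvd_of_pos_of_lt hj0 hjr)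
      exact exists_orderOf_eq_mul (a := u) (b := y ^ j) hcomm hq hr hqr
        (dvd_orderOf_of_isPGroup hq hQq hu hu1) (by rw [hco.orderOf_pow, hy])
    · intro v hv
      by_contra hv1
      apply h2
      have hv' : y * (v : G) * y⁻¹ = v := by
        rw [← MulAut.conjNormal_apply, hv]
      have hcomm : Commute (v : G) y := by
        have : y * (v : G) = v * y := by
          calc y * (v : G) = y * (v : G) * y⁻¹ * y := by group
            _ = v * y := by rw [hv']
        exact this.symm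
      exact exists_orderOf_eq_mul hcomm hp hr hpr
        (dvd_orderOf_of_isPGroup hp hVp v.2 (fun h => hv1 (Subtype.ext h))) (by rw [hy])
    · intro v hv
      by_contra hv1
      apply h1
      obtain ⟨u, hu, hu1⟩ : ∃ u : G, u ∈ Q ∧ u ≠ 1 := by
        obtain ⟨u, hu⟩ := Subgroup.ne_bot_iff_exists_ne_one.mp hQ
        exact ⟨u, u.2, fun h => hu (Subtype.ext h)⟩
      have hv' : u * (v : G) * u⁻¹ = v := by
        rw [← MulAut.conjNormal_apply, hv u hu]
      have hcomm : Commute (v : G) u := by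
        have : u * (v : G) = v * u := by
          calc u * (v : G) = u * (v : G) * u⁻¹ * u := by group
            _ = v * u := by rw [hv']
        exact this.symm
      exact exists_orderOf_eq_mul hcomm hp hq hpq
        (dvd_orderOf_of_isPGroup hp hVp v.2 (fun h => hv1 (Subtype.ext h)))
        (dvd_orderOf_of_isPGroup hq hQq hu hu1)
  apply hV
  rw [eq_bot_iff]
  intro v hv
  by_contra hv1
  have hv1' : v ≠ 1 := hv1
  have hd := dvd_orderOf_of_isPGroup hp hVp hv hv1'
  have hk : v ^ Nat.card Q = 1 := congrArg Subtype.val (key ⟨v, hv⟩)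
  have hd2 : p ∣ Nat.card Q := hd.trans (orderOf_dvd_of_pow_eq_one hk)
  have : Fact q.Prime := ⟨hq⟩
  obtain ⟨n, hn⟩ := IsPGroup.iff_card.mp hQq
  rw [hn] at hd2
  exact hpq ((Nat.prime_dvd_prime_iff_eq hp hq).mp (hp.dvd_of_dvd_pow hd2))

/-- multiplying by an element of a normal subgroup does not change which powers lie in it -/
theorem pow_mem_of_mul {G : Type*} [Group G] (M : Subgroup G) [M.Normal] {n m : G} (hm : m ∈ M)
    (j : ℕ) (h : n ^ j ∈ M) : (n * m) ^ j ∈ M := by
  rw [← QuotientGroup.eq_one_iff] at h ⊢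
  have hm' : (QuotientGroup.mk m : G ⧸ M) = 1 := (QuotientGroup.eq_one_iff m).mpr hm
  rw [QuotientGroup.mk_pow] at h ⊢
  rw [QuotientGroup.mk_mul, hm', mul_one, h]

theorem claimA {G : Type*} [Group G] [Finite G] {p q r : ℕ} (hp : p.Prime) (hq : q.Prime)
    (hr : r.Prime) (hpq : p ≠ q) (hpr : p ≠ r) (hqr : q ≠ r)
    (V M : Subgroup G) [V.Normal] [M.Normal] (hVc : ∀ a ∈ V, ∀ b ∈ V, a * b = b * a)
    (hVp : IsPGroup p V) (hV : V ≠ ⊥) (hqM : q ∣ Nat.card M) (y : G)
    (hy : ∀ j : ℕ, y ^ j ∈ M → r ∣ j)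
    (h1 : ¬ ∃ x : G, orderOf x = p * q) (h2 : ¬ ∃ x : G, orderOf x = p * r)
    (h3 : ¬ ∃ x : G, orderOf x = q * r) : False := by
  have : Fact q.Prime := ⟨hq⟩
  let Q0 : Sylow q M := default
  have hfr := Sylow.normalizer_sup_eq_top Q0
  have hymem : y ∈ Subgroup.normalizer ((Q0 : Subgroup M).map M.subtype : Set G) ⊔ M := by
    rw [hfr]; trivial
  obtain ⟨n, hn, m, hm, hnm⟩ := Subgroup.mem_sup_of_normal_right.mp hymem
  have hrn : r ∣ orderOf n := by
    apply hy
    rw [← hnm]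
    apply pow_mem_of_mul M hm
    rw [pow_orderOf_eq_one]
    exact M.one_mem
  have hy' : orderOf (n ^ (orderOf n / r)) = r := orderOf_pow_orderOf_div (orderOf_pos n).ne' hrn
  have hn' : n ^ (orderOf n / r) ∈ Subgroup.normalizer ((Q0 : Subgroup M).map M.subtype : Set G) :=
    Subgroup.pow_mem _ hn _
  refine claimB hp hq hr hpq hpr hqr V ((Q0 : Subgroup M).map M.subtype) hVc hVp hV
    (Q0.2.map M.subtype) ?_ _ hy' ?_ h1 h2 h3
  · intro hbot
    have h4 : (Q0 : Subgroup M) = ⊥ := by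
      rw [Subgroup.map_eq_bot_iff_of_injective _ M.subtype_injective] at hbot
      exact hbot
    exact Q0.ne_bot_of_dvd_card hqM h4
  · intro u hu
    exact (Subgroup.mem_normalizer_iff.mp hn' u).mp hu

/-- Let G be a finite group with normal subgroups K ≤ M, and let p, q, r be distinct primes with p dividing the order of K, q dividing the order of M/K and r dividing the order of G/M. Then p, q, r are not pairwise non-adjacent in the prime graph of G: G has an element of order pq, pr or qr. -/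
theorem result {G : Type*} [Group G] [Finite G] (K M : Subgroup G) [K.Normal] [M.Normal] (hKM : K ≤ M)
    (p q r : ℕ) (hp : p.Prime) (hq : q.Prime) (hr : r.Prime) (hpq : p ≠ q) (hpr : p ≠ r) (hqr : q ≠ r)
    (hpK : p ∣ Nat.card ↥K) (hqM : q ∣ Nat.card ↥M / Nat.card ↥K) (hrG : r ∣ Nat.card G / Nat.card ↥M) :
    (∃ x : G, orderOf x = p * q) ∨ (∃ x : G, orderOf x = p * r) ∨ (∃ x : G, orderOf x = q * r) := by
  by_contra hcon
  rw [not_or, not_or] at hcon
  obtain ⟨h1, h2, h3⟩ := hcon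
  -- an element of relative order `r` modulo `M`
  have hy : ∃ y : G, ∀ j : ℕ, y ^ j ∈ M → r ∣ j := by
    have : Fact r.Prime := ⟨hr⟩
    have hcard : Nat.card (G ⧸ M) = Nat.card G / Nat.card M := by
      rw [Subgroup.card_eq_card_quotient_mul_card_subgroup M, Nat.mul_div_cancel _ Nat.card_pos]
    obtain ⟨ybar, hybar⟩ := exists_prime_orderOf_dvd_card' r (hcard ▸ hrG)
    obtain ⟨y, rfl⟩ := QuotientGroup.mk_surjective ybar
    refine ⟨y, fun j hj => ?_⟩
    rw [← hybar]
    apply orderOf_dvd_of_pow_eq_one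
    rw [← QuotientGroup.mk_pow]
    exact (QuotientGroup.eq_one_iff _).mpr hj
  -- an element of `M` of relative order `q` modulo `K`
  have hx : ∃ x ∈ M, ∀ j : ℕ, x ^ j ∈ K → q ∣ j := by
    have : Fact q.Prime := ⟨hq⟩
    have hcK : Nat.card (K.subgroupOf M) = Nat.card K :=
      Nat.card_congr (Subgroup.subgroupOfEquivOfLe hKM).toEquiv
    have hcard : Nat.card (M ⧸ K.subgroupOf M) = Nat.card M / Nat.card K := by
      rw [Subgroup.card_eq_card_quotient_mul_card_subgroup (K.subgroupOf M), hcK,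
        Nat.mul_div_cancel _ Nat.card_pos]
    obtain ⟨xbar, hxbar⟩ := exists_prime_orderOf_dvd_card' q (hcard ▸ hqM)
    obtain ⟨x, rfl⟩ := QuotientGroup.mk_surjective xbar
    refine ⟨x, x.2, fun j hj => ?_⟩
    rw [← hxbar]
    apply orderOf_dvd_of_pow_eq_one
    rw [← QuotientGroup.mk_pow]
    apply (QuotientGroup.eq_one_iff _).mpr
    rw [Subgroup.mem_subgroupOf]
    exact hj
  obtain ⟨y, hy⟩ := hy
  obtain ⟨x, hxM, hx⟩ := hx
  have : Fact p.Prime := ⟨hp⟩
  let P : Sylow p K := default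
  set P' : Subgroup G := (P : Subgroup K).map K.subtype with hP'
  have hfr : Subgroup.normalizer (P' : Set G) ⊔ K = ⊤ := Sylow.normalizer_sup_eq_top P
  set G1 : Subgroup G := Subgroup.normalizer (P' : Set G) with hG1
  have hP'p : IsPGroup p P' := P.2.map K.subtype
  have hP'ne : P' ≠ ⊥ := by
    intro hbot
    have h4 : (P : Subgroup K) = ⊥ := by
      rw [hP', Subgroup.map_eq_bot_iff_of_injective _ K.subtype_injective] at hbot
      exact hbot
    exact P.ne_bot_of_dvd_card hpK h4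
  obtain ⟨nx, hnx, kx, hkx, hnkx⟩ :=
    Subgroup.mem_sup_of_normal_right.mp (show x ∈ G1 ⊔ K by rw [hfr]; trivial)
  obtain ⟨ny, hny, ky, hky, hnky⟩ :=
    Subgroup.mem_sup_of_normal_right.mp (show y ∈ G1 ⊔ K by rw [hfr]; trivial)
  let V : Subgroup G := P' ⊓ Subgroup.centralizer (P' : Set G)
  have hVn : (V.subgroupOf G1).Normal := by
    constructor
    intro n hn g
    rw [Subgroup.mem_subgroupOf] at hn ⊢
    obtain ⟨hn1, hn2⟩ := Subgroup.mem_inf.mp hn
    have hg : (g : G) ∈ Subgroup.normalizer (P' : Set G) := g.2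
    refine Subgroup.mem_inf.mpr ⟨(Subgroup.mem_normalizer_iff.mp hg _).mp hn1, ?_⟩
    rw [Subgroup.mem_centralizer_iff] at hn2 ⊢
    intro h hh
    have hh' : (g : G)⁻¹ * h * g ∈ P' := (Subgroup.mem_normalizer_iff''.mp hg h).mp hh
    have h5 := hn2 _ hh'
    change h * ((g : G) * n * (g : G)⁻¹) = ((g : G) * n * (g : G)⁻¹) * h
    calc h * ((g : G) * n * (g : G)⁻¹) = (g : G) * (((g : G)⁻¹ * h * g) * n) * (g : G)⁻¹ := by group
      _ = (g : G) * (n * ((g : G)⁻¹ * h * g)) * (g : G)⁻¹ := by rw [h5]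
      _ = ((g : G) * n * (g : G)⁻¹) * h := by group
  have hVc : ∀ a ∈ V.subgroupOf G1, ∀ b ∈ V.subgroupOf G1, a * b = b * a := by
    intro a ha b hb
    rw [Subgroup.mem_subgroupOf] at ha hb
    apply Subtype.ext
    exact (Subgroup.mem_centralizer_iff.mp (Subgroup.mem_inf.mp hb).2 _ (Subgroup.mem_inf.mp ha).1)
  have hVp : IsPGroup p (V.subgroupOf G1) := (hP'p.to_le inf_le_left).comap_subtype
  have hVne : V.subgroupOf G1 ≠ ⊥ := by
    have : Nontrivial P' := (Subgroup.nontrivial_iff_ne_bot P').mpr hP'ne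
    have hcn : Nontrivial (Subgroup.center P') := hP'p.center_nontrivial
    obtain ⟨z, hz⟩ := exists_ne (1 : Subgroup.center P')
    intro hbot
    have hzV : ((z : P') : G) ∈ V := by
      refine Subgroup.mem_inf.mpr ⟨(z : P').2, ?_⟩
      rw [Subgroup.mem_centralizer_iff]
      intro h hh
      exact congrArg Subtype.val (Subgroup.mem_center_iff.mp z.2 ⟨h, hh⟩)
    have hzG1 : ((z : P') : G) ∈ G1 := Subgroup.le_normalizer (z : P').2
    have h6 : (⟨((z : P') : G), hzG1⟩ : G1) ∈ V.subgroupOf G1 := by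
      rw [Subgroup.mem_subgroupOf]; exact hzV
    rw [hbot, Subgroup.mem_bot] at h6
    apply hz
    apply Subtype.ext
    apply Subtype.ext
    have h8 : ((z : P') : G) = 1 := congrArg Subtype.val h6
    exact h8
  have hnxM : nx ∈ M := by
    have : nx = x * kx⁻¹ := by rw [← hnkx]; group
    rw [this]
    exact M.mul_mem hxM (M.inv_mem (hKM hkx))
  have hqnx : q ∣ orderOf nx := by
    apply hx
    rw [← hnkx]
    apply pow_mem_of_mul K hkx
    rw [pow_orderOf_eq_one]
    exact K.one_mem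
  have hqM1 : q ∣ Nat.card (M.subgroupOf G1) := by
    have h7 : orderOf (⟨⟨nx, hnx⟩, by rw [Subgroup.mem_subgroupOf]; exact hnxM⟩ : M.subgroupOf G1)
        = orderOf nx := by
      rw [← Subgroup.orderOf_coe, ← Subgroup.orderOf_coe]
    rw [← h7] at hqnx
    exact hqnx.trans (orderOf_dvd_natCard _)
  have hy1 : ∀ j : ℕ, (⟨ny, hny⟩ : G1) ^ j ∈ M.subgroupOf G1 → r ∣ j := by
    intro j hj
    rw [Subgroup.mem_subgroupOf] at hj
    apply hy
    rw [← hnky]
    exact pow_mem_of_mul M (hKM hky) j hj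
  refine claimA (G := G1) hp hq hr hpq hpr hqr (V.subgroupOf G1) (M.subgroupOf G1) hVc hVp hVne hqM1
    ⟨ny, hny⟩ hy1 ?_ ?_ ?_
  · rintro ⟨z, hz⟩
    exact h1 ⟨z, by rw [Subgroup.orderOf_coe]; exact hz⟩
  · rintro ⟨z, hz⟩
    exact h2 ⟨z, by rw [Subgroup.orderOf_coe]; exact hz⟩
  · rintro ⟨z, hz⟩
    exact h3 ⟨z, by rw [Subgroup.orderOf_coe]; exact hz⟩

end Cfsg.Agent.S3634
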