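import Mathlib
import Cfsg.Statements.S3633
import Cfsg.Agent.S3634

set_option autoImplicit false
open Cfsg

namespace Cfsg.Agent.S3633

theorem card_comm {G : Type*} [Group G] (K : Subgroup G) :
    Nat.card ↥⁅K, K⁆ = Nat.card (commutator ↥K) := by
  rw [← Subgroup.map_subtype_commutator, Subgroup.card_subtype]

theorem abelian_case {G : Type*} [Group G] [Finite G] (K : Subgroup G) {a b : ℕ} (ha : a.Prime)
    (hb : b.Prime) (hab : a ≠ b) (haK : a ∣ Nat.card K / Nat.card ↥⁅K, K⁆)
    (hbK : b ∣ Nat.card K / Nat.card ↥⁅K, K⁆) : ∃ x : G, orderOf x = a * b := by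
  have hcard : Nat.card (Abelianization ↥K) = Nat.card K / Nat.card ↥⁅K, K⁆ := by
    rw [card_comm, Subgroup.card_eq_card_quotient_mul_card_subgroup (commutator ↥K),
      Nat.mul_div_cancel _ Nat.card_pos]
    rfl
  have : Fact a.Prime := ⟨ha⟩
  have : Fact b.Prime := ⟨hb⟩
  obtain ⟨u, hu⟩ := exists_prime_orderOf_dvd_card' a (hcard ▸ haK)
  obtain ⟨v, hv⟩ := exists_prime_orderOf_dvd_card' b (hcard ▸ hbK)
  have huv : orderOf (u * v) = a * b := by
    rw [(Commute.all u v).orderOf_mul_eq_mul_orderOf_of_coprime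
      (by rw [hu, hv]; exact (Nat.coprime_primes ha hb).mpr hab), hu, hv]
  obtain ⟨x, hx⟩ := QuotientGroup.mk_surjective (u * v)
  have hdvd : a * b ∣ orderOf (x : G) := by
    rw [Subgroup.orderOf_coe, ← huv, ← hx]
    exact orderOf_map_dvd (QuotientGroup.mk' (commutator ↥K)) x
  exact ⟨(x : G) ^ (orderOf (x : G) / (a * b)),
    orderOf_pow_orderOf_div (orderOf_pos (x : G)).ne' hdvd⟩

theorem dvd_quot {G : Type*} [Group G] [Finite G] {H K : Subgroup G} (hHK : H ≤ K) {a : ℕ}
    (ha : a.Prime) (haK : a ∣ Nat.card K) (haH : ¬ a ∣ Nat.card H) :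
    a ∣ Nat.card K / Nat.card H := by
  obtain ⟨c, hc⟩ := Subgroup.card_dvd_of_le hHK
  rw [hc, Nat.mul_div_cancel_left _ Nat.card_pos]
  rw [hc] at haK
  exact (ha.dvd_mul.mp haK).resolve_left haH

theorem key {G : Type*} [Group G] [Finite G] (n : ℕ) :
    ∀ (K : Subgroup G) [K.Normal], Group.IsSolvable ↥K → Nat.card K = n →
    ∀ r s t : ℕ, r.Prime → s.Prime → t.Prime → r ≠ s → r ≠ t → s ≠ t →
    r ∣ Nat.card K → s ∣ Nat.card K → t ∣ Nat.card G →
    (∃ x : G, orderOf x = r * s) ∨ (∃ x : G, orderOf x = r * t) ∨ (∃ x : G, orderOf x = s * t) := by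
  induction n using Nat.strong_induction_on with
  | _ n ih =>
  intro K hKn hKs hKcard r s t hr hs ht hrs hrt hst hrK hsK htG
  have hKne : K ≠ ⊥ := by
    rintro rfl
    rw [Subgroup.card_bot] at hrK
    exact hr.one_lt.ne' (Nat.dvd_one.mp hrK)
  have hle : ⁅K, K⁆ ≤ K := Subgroup.commutator_le_self K
  have hlt : Nat.card ↥⁅K, K⁆ < n := by
    rw [← hKcard, card_comm]
    have : Nontrivial ↥K := (Subgroup.nontrivial_iff_ne_bot K).mpr hKne
    have h1 := Group.IsSolvable.commutator_lt_top_of_nontrivial ↥K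
    by_contra h2
    exact h1.ne (Subgroup.eq_top_of_le_card _ (not_lt.mp h2))
  have hsol : Group.IsSolvable ↥⁅K, K⁆ :=
    Group.isSolvable_of_isSolvable_injective (Subgroup.inclusion_injective hle)
  have hKG : K ≤ (⊤ : Subgroup G) := le_top
  have IH := ih _ hlt ⁅K, K⁆ hsol rfl
  by_cases hr' : r ∣ Nat.card ↥⁅K, K⁆ <;> by_cases hs' : s ∣ Nat.card ↥⁅K, K⁆
  · exact IH r s t hr hs ht hrs hrt hst hr' hs' htG
  · have hsq := dvd_quot hle hs hsK hs'
    by_cases ht' : t ∣ Nat.card ↥⁅K, K⁆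
    · rcases IH r t s hr ht hs hrt hrs hst.symm hr' ht' ((hsK).trans (Subgroup.card_subgroup_dvd_card K))
        with h | h | h
      · exact Or.inr (Or.inl h)
      · exact Or.inl h
      · right; right
        rw [mul_comm]; exact h
    · by_cases htK : t ∣ Nat.card K
      · exact Or.inr (Or.inr (abelian_case K hs ht hst hsq (dvd_quot hle ht htK ht')))
      · have htq : t ∣ Nat.card G / Nat.card K := by
          have := dvd_quot hKG ht (by rw [Subgroup.card_top]; exact htG) htK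
          rwa [Subgroup.card_top] at this
        exact Cfsg.Agent.S3634.result ⁅K, K⁆ K hle r s t hr hs ht hrs hrt hst hr' hsq htq
  · have hrq := dvd_quot hle hr hrK hr'
    by_cases ht' : t ∣ Nat.card ↥⁅K, K⁆
    · rcases IH s t r hs ht hr hst hrs.symm hrt.symm hs' ht' ((hrK).trans (Subgroup.card_subgroup_dvd_card K))
        with h | h | h
      · exact Or.inr (Or.inr h)
      · left
        rw [mul_comm]; exact h
      · right; left
        rw [mul_comm]; exact h
    · by_cases htK : t ∣ Nat.card K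
      · exact Or.inr (Or.inl (abelian_case K hr ht hrt hrq (dvd_quot hle ht htK ht')))
      · have htq : t ∣ Nat.card G / Nat.card K := by
          have := dvd_quot hKG ht (by rw [Subgroup.card_top]; exact htG) htK
          rwa [Subgroup.card_top] at this
        rcases Cfsg.Agent.S3634.result ⁅K, K⁆ K hle s r t hs hr ht hrs.symm hst hrt hs' hrq htq
          with h | h | h
        · left
          rw [mul_comm]; exact h
        · exact Or.inr (Or.inr h)
        · exact Or.inr (Or.inl h)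
  · exact Or.inl (abelian_case K hr hs hrs (dvd_quot hle hr hrK hr') (dvd_quot hle hs hsK hs'))

theorem part1 {G : Type*} [Group G] [Finite G] (ρ : Finset ℕ) (hρ : 3 ≤ ρ.card) (hc : ((∀ r ∈ ρ, r.Prime ∧ r ∣ Nat.card G) ∧ (∀ r ∈ ρ, ∀ s ∈ ρ, r ≠ s → ¬ ∃ x : G, orderOf x = r * s)))
    (K : Subgroup G) [K.Normal] (hK : Group.IsSolvable ↥K) :
    (∀ r ∈ ρ, ∀ s ∈ ρ, r ∣ Nat.card ↥K → s ∣ Nat.card ↥K → r = s) := by
  intro r hr s hs hrK hsK
  by_contra hrs
  obtain ⟨t, ht, htr, hts⟩ : ∃ t ∈ ρ, t ≠ r ∧ t ≠ s := by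
    by_contra hcon
    push Not at hcon
    have hsub : ρ ⊆ {r, s} := by
      intro t ht
      by_cases htr : t = r
      · simp [htr]
      · simp [hcon t ht htr]
    have := Finset.card_le_card hsub
    have h2 : ({r, s} : Finset ℕ).card ≤ 2 := Finset.card_le_two
    omega
  rcases key _ K hK rfl r s t (hc.1 r hr).1 (hc.1 s hs).1 (hc.1 t ht).1 hrs htr.symm hts.symm hrK hsK
    (hc.1 t ht).2 with h | h | h
  · exact hc.2 r hr s hs hrs h
  · exact hc.2 r hr t ht htr.symm h
  · exact hc.2 s hs t ht hts.symm h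

/-- Let G be a finite group and ρ a set of at least three prime divisors of the order of G that are pairwise non-adjacent in the prime graph (no element of order rs for distinct r, s ∈ ρ). Then at most one prime of ρ divides the order of any given solvable normal subgroup of G; in particular G is not solvable. -/
theorem result {G : Type*} [Group G] [Finite G] (ρ : Finset ℕ) (hρ : 3 ≤ ρ.card) (hc : ((∀ r ∈ ρ, r.Prime ∧ r ∣ Nat.card G) ∧ (∀ r ∈ ρ, ∀ s ∈ ρ, r ≠ s → ¬ ∃ x : G, orderOf x = r * s)))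
    (K : Subgroup G) [K.Normal] (hK : Group.IsSolvable ↥K) :
    (∀ r ∈ ρ, ∀ s ∈ ρ, r ∣ Nat.card ↥K → s ∣ Nat.card ↥K → r = s) ∧ ¬ Group.IsSolvable G := by
  refine ⟨part1 ρ hρ hc K hK, ?_⟩
  intro hG
  have h1 := part1 ρ hρ hc ⊤ inferInstance
  have h2 : ρ.card ≤ 1 := by
    rw [Finset.card_le_one]
    intro a ha b hb
    exact h1 a ha b hb (by rw [Subgroup.card_top]; exact (hc.1 a ha).2)
      (by rw [Subgroup.card_top]; exact (hc.1 b hb).2)
  omega

end Cfsg.Agent.S3633
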