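import Mathlib
import Cfsg.Statements.S3641
import Cfsg.Agent.S0732
import Cfsg.Agent.Lib.Helper21.Syl17b

set_option autoImplicit false
set_option linter.style.haveILetI false
set_option linter.unusedSectionVars false
open Cfsg

namespace Cfsg.Agent.S3641

open Subgroup MulAction
open Cfsg.Agent.Lib.Helper21.Syl17

section Num
variable {G : Type*} [Group G] [Finite G]

theorem num_mem
    (hNS : {c : ℕ | ∃ r : ℕ, r.Prime ∧ r ∣ Nat.card G ∧ c = Nat.card (Sylow r G)}
      = ({18, 136, 153} : Set ℕ)) {r : ℕ} (hr : r.Prime) (hd : r ∣ Nat.card G) :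
    Nat.card (Sylow r G) = 18 ∨ Nat.card (Sylow r G) = 136 ∨ Nat.card (Sylow r G) = 153 := by
  have : Nat.card (Sylow r G) ∈
      {c : ℕ | ∃ r : ℕ, r.Prime ∧ r ∣ Nat.card G ∧ c = Nat.card (Sylow r G)} := ⟨r, hr, hd, rfl⟩
  rw [hNS] at this
  simpa using this

theorem card_sylow_dvd (p : ℕ) [Fact p.Prime] : Nat.card (Sylow p G) ∣ Nat.card G := by
  obtain ⟨P⟩ : Nonempty (Sylow p G) := inferInstance
  rw [P.card_eq_index_normalizer]
  exact Subgroup.index_dvd_card _

theorem dvd_of_mem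
    (hNS : {c : ℕ | ∃ r : ℕ, r.Prime ∧ r ∣ Nat.card G ∧ c = Nat.card (Sylow r G)}
      = ({18, 136, 153} : Set ℕ)) {c : ℕ} (hc : c ∈ ({18, 136, 153} : Set ℕ)) :
    c ∣ Nat.card G := by
  rw [← hNS] at hc
  obtain ⟨r, hr, -, h⟩ := hc
  haveI : Fact r.Prime := ⟨hr⟩
  rw [h]
  exact card_sylow_dvd r

theorem n17
    (hNS : {c : ℕ | ∃ r : ℕ, r.Prime ∧ r ∣ Nat.card G ∧ c = Nat.card (Sylow r G)}
      = ({18, 136, 153} : Set ℕ)) : Nat.card (Sylow 17 G) = 18 := by
  have : (18 : ℕ) ∈ ({18, 136, 153} : Set ℕ) := by simp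
  rw [← hNS] at this
  obtain ⟨r, hr, hd, h⟩ := this
  haveI : Fact r.Prime := ⟨hr⟩
  have hm := card_sylow_modEq_one r G
  rw [← h] at hm
  have h1 : r ∣ 18 - 1 := (Nat.modEq_iff_dvd' (by norm_num)).mp hm.symm
  have h2 : r = 17 := (Nat.prime_dvd_prime_iff_eq hr (by norm_num)).mp h1
  subst h2
  exact h.symm

theorem n2
    (hNS : {c : ℕ | ∃ r : ℕ, r.Prime ∧ r ∣ Nat.card G ∧ c = Nat.card (Sylow r G)}
      = ({18, 136, 153} : Set ℕ)) : Nat.card (Sylow 2 G) = 153 := by
  haveI : Fact (Nat.Prime 2) := ⟨by norm_num⟩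
  have hd : 2 ∣ Nat.card G := (by norm_num : 2 ∣ 136).trans (dvd_of_mem hNS (by simp))
  have hm := card_sylow_modEq_one 2 G
  unfold Nat.ModEq at hm
  rcases num_mem hNS (by norm_num) hd with h | h | h
  · rw [h] at hm; norm_num at hm
  · rw [h] at hm; norm_num at hm
  · exact h

theorem n3
    (hNS : {c : ℕ | ∃ r : ℕ, r.Prime ∧ r ∣ Nat.card G ∧ c = Nat.card (Sylow r G)}
      = ({18, 136, 153} : Set ℕ)) : Nat.card (Sylow 3 G) = 136 := by
  haveI : Fact (Nat.Prime 3) := ⟨by norm_num⟩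
  have hd : 3 ∣ Nat.card G := (by norm_num : 3 ∣ 153).trans (dvd_of_mem hNS (by simp))
  have hm := card_sylow_modEq_one 3 G
  unfold Nat.ModEq at hm
  rcases num_mem hNS (by norm_num) hd with h | h | h
  · rw [h] at hm; norm_num at hm
  · exact h
  · rw [h] at hm; norm_num at hm

theorem prime_dvd_4896 {p : ℕ} (hp : p.Prime) (h : p ∣ 4896) : p = 2 ∨ p = 3 ∨ p = 17 := by
  have h1 : (4896 : ℕ) = 2 ^ 5 * 3 ^ 2 * 17 := by norm_num
  rw [h1] at h
  rcases (Nat.Prime.dvd_mul hp).mp h with h | h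
  · rcases (Nat.Prime.dvd_mul hp).mp h with h | h
    · left; exact (Nat.prime_dvd_prime_iff_eq hp (by norm_num)).mp (hp.dvd_of_dvd_pow h)
    · right; left; exact (Nat.prime_dvd_prime_iff_eq hp (by norm_num)).mp (hp.dvd_of_dvd_pow h)
  · right; right; exact (Nat.prime_dvd_prime_iff_eq hp (by norm_num)).mp h

theorem injective_of (hZ : center G = ⊥)
    (hNS : {c : ℕ | ∃ r : ℕ, r.Prime ∧ r ∣ Nat.card G ∧ c = Nat.card (Sylow r G)}
      = ({18, 136, 153} : Set ℕ)) {G' : Type*} [Group G'] (ψ : G →* G')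
    (hψ : Function.Surjective ψ)
    (h17 : ∀ P : Sylow 17 G, ψ.ker ≤ normalizer ((P : Subgroup G) : Set G))
    (hcard : Nat.card G' ∣ 4896) (h3 : 136 ≤ Nat.card (Sylow 3 G'))
    (h2 : 153 ≤ Nat.card (Sylow 2 G')) : Function.Injective ψ := by
  haveI : Fact (Nat.Prime 17) := ⟨by norm_num⟩
  haveI : Fact (Nat.Prime 3) := ⟨by norm_num⟩
  haveI : Fact (Nat.Prime 2) := ⟨by norm_num⟩
  haveI : Finite G' := Finite.of_surjective ψ hψ
  rw [← MonoidHom.ker_eq_bot_iff]
  apply eq_bot_of_le_normalizers hZ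
  intro p _ P
  have hp : p.Prime := Fact.out
  by_cases hp17 : p = 17
  · subst hp17; exact h17 P
  by_cases hp3 : p = 3
  · subst hp3
    exact ker_le_normalizer_of_card_le 3 ψ hψ (by rw [n3 hNS]; exact h3) P
  by_cases hp2 : p = 2
  · subst hp2
    exact ker_le_normalizer_of_card_le 2 ψ hψ (by rw [n2 hNS]; exact h2) P
  by_cases hd : p ∣ Nat.card G
  · exfalso
    have hcop : ¬ p ∣ Nat.card G' := by
      intro h
      rcases prime_dvd_4896 hp (h.trans hcard) with h | h | h
      · exact hp2 h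
      · exact hp3 h
      · exact hp17 h
    have hPK : (P : Subgroup G) ≤ ψ.ker := by
      intro x hx
      obtain ⟨k, hk⟩ := P.2 ⟨x, hx⟩
      have hk' : x ^ p ^ k = 1 := by
        have := congrArg (fun y : (P : Subgroup G) => (y : G)) hk
        simpa using this
      have h1 : orderOf (ψ x) ∣ p ^ k := by
        apply orderOf_dvd_of_pow_eq_one
        rw [← map_pow, hk', map_one]
      have h2 : orderOf (ψ x) ∣ Nat.card G' := orderOf_dvd_natCard _
      have h3 : Nat.Coprime (p ^ k) (Nat.card G') :=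
        Nat.Coprime.pow_left _ ((Nat.Prime.coprime_iff_not_dvd hp).mpr hcop)
      have h4 : orderOf (ψ x) = 1 := Nat.eq_one_of_dvd_coprimes h3 h1 h2
      exact orderOf_eq_one_iff.mp h4
    have hnorm : ∀ Q : Sylow 17 G, (P : Subgroup G) ≤ normalizer ((Q : Subgroup G) : Set G) :=
      fun Q => hPK.trans (h17 Q)
    have h16 : p ∣ 16 → False := by
      intro h
      have : p ∣ 2 ^ 4 := by norm_num; exact h
      exact hp2 ((Nat.prime_dvd_prime_iff_eq hp (by norm_num)).mp (hp.dvd_of_dvd_pow this))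
    rcases num_mem hNS hp hd with h | h | h
    · have hm := card_sylow_modEq_one p G
      rw [h] at hm
      have h1 : p ∣ 18 - 1 := (Nat.modEq_iff_dvd' (by norm_num)).mp hm.symm
      exact hp17 ((Nat.prime_dvd_prime_iff_eq hp (by norm_num)).mp h1)
    · exact h16 (dvd_pred_of_normalizes (p := 17) (r := p) P hnorm (c := 8) (by rw [h])
        (by norm_num))
    · exact h16 (dvd_pred_of_normalizes (p := 17) (r := p) P hnorm (c := 9) (by rw [h])
        (by norm_num))
  · have hP1 : Nat.card P = 1 := by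
      rw [Sylow.card_eq_multiplicity, Nat.factorization_eq_zero_of_not_dvd hd, pow_zero]
    have hPb : (P : Subgroup G) = ⊥ := Subgroup.card_eq_one.mp hP1
    rw [hPb, normalizer_eq_top_iff.mpr inferInstance]
    exact le_top

end Num

/-- Let G be a finite group with trivial centre whose set of Sylow numbers (numbers of Sylow r-subgroups, r over the prime divisors of its order) is exactly {18, 136, 153}. Then G is isomorphic to PSL(2, 17) or to PGL(2, 17). -/
theorem result {G : Type*} [Group G] [Finite G] (hZ : Subgroup.center G = ⊥) (hNS : {c : ℕ | ∃ r : ℕ, r.Prime ∧ r ∣ Nat.card G ∧ c = Nat.card (Sylow r G)} = ({18, 136, 153} : Set ℕ))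
    {F : Type*} [Field F] [Fintype F] (hF : Fintype.card F = 17) :
    Nonempty (G ≃* Matrix.ProjectiveSpecialLinearGroup (Fin 2) F) ∨ Nonempty (G ≃* (GL (Fin 2) F ⧸ Subgroup.center (GL (Fin 2) F))) := by
  classical
  haveI : Fact (Nat.Prime 17) := ⟨by norm_num⟩
  haveI : Fact (Nat.Prime 3) := ⟨by norm_num⟩
  haveI : Fact (Nat.Prime 2) := ⟨by norm_num⟩
  haveI : Fintype (Sylow 17 G) := Fintype.ofFinite _
  have hX : Fintype.card (Sylow 17 G) = 17 + 1 := by
    rw [← Nat.card_eq_fintype_card, n17 hNS]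
  set φ : G →* Equiv.Perm (Sylow 17 G) := toPermHom G (Sylow 17 G) with hφ
  have hker : ∀ P : Sylow 17 G, φ.ker ≤ normalizer ((P : Subgroup G) : Set G) := by
    intro P k hk
    apply Sylow.smul_eq_iff_mem_normalizer.mp
    exact congrArg (fun σ : Equiv.Perm (Sylow 17 G) => σ P) (MonoidHom.mem_ker.mp hk)
  obtain ⟨P⟩ : Nonempty (Sylow 17 G) := inferInstance
  have h1 : Nat.card φ.range
      = Nat.card ((normalizer ((P : Subgroup G) : Set G)).map φ) * 18 := by
    rw [← index_ker, ← relIndex_mul_index (hker P), relIndex_ker, ← n17 hNS,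
      P.card_eq_index_normalizer]
    rfl
  have h2 : Nat.card ((P : Subgroup G).map φ) = 17 := by
    obtain ⟨k, hk⟩ := IsPGroup.iff_card.mp (P.2.map φ)
    have hdvd : Nat.card ((P : Subgroup G).map φ) ∣ Nat.factorial 18 := by
      have := Subgroup.card_subgroup_dvd_card ((P : Subgroup G).map φ)
      rwa [Nat.card_eq_fintype_card (α := Equiv.Perm (Sylow 17 G)), Fintype.card_perm, hX] at this
    rcases k with _ | _ | k
    · exfalso
      rw [pow_zero] at hk
      have hb : (P : Subgroup G).map φ = ⊥ := Subgroup.card_eq_one.mp hk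
      have hle : (P : Subgroup G) ≤ φ.ker := (Subgroup.map_eq_bot_iff _).mp hb
      have hall : ∀ Q : Sylow 17 G, Q = P := by
        intro Q
        apply sylow_eq_of_fix'
        intro g hg
        exact Sylow.smul_eq_iff_mem_normalizer.mpr (hker Q (hle hg))
      have hsub : Subsingleton (Sylow 17 G) := ⟨fun a b => by rw [hall a, hall b]⟩
      have := Finite.card_le_one_iff_subsingleton.mpr hsub
      rw [n17 hNS] at this
      omega
    · simpa using hk
    · exfalso
      rw [hk] at hdvd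
      have : 17 ^ 2 ∣ Nat.factorial 18 := (pow_dvd_pow 17 (by omega)).trans hdvd
      revert this
      decide
  have h3 : Nat.card ((normalizer ((P : Subgroup G) : Set G)).map φ) ∣ 272 :=
    (card_dvd_of_le (le_normalizer_map φ)).trans (card_normalizer_dvd hX _ h2)
  have h4 : 17 ∣ Nat.card ((normalizer ((P : Subgroup G) : Set G)).map φ) := by
    have h5 : Nat.card ((P : Subgroup G).map φ) ∣
        Nat.card ((normalizer ((P : Subgroup G) : Set G)).map φ) :=
      card_dvd_of_le (map_mono le_normalizer)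
    rwa [h2] at h5
  obtain ⟨d, hd⟩ := h4
  have hd16 : d ∣ 16 := by
    rw [hd] at h3
    exact Nat.dvd_of_mul_dvd_mul_left (by norm_num : 0 < 17) h3
  have hdlt : d < 17 := lt_of_le_of_lt (Nat.le_of_dvd (by norm_num) hd16) (by norm_num)
  haveI : IsPretransitive φ.range (Sylow 17 G) := ⟨fun x y => by
    obtain ⟨g, hg⟩ := exists_smul_eq G x y
    exact ⟨⟨φ g, ⟨g, rfl⟩⟩, hg⟩⟩
  have hcard : Nat.card φ.range = (17 + 1) * 17 * d := by rw [h1, hd]; ring
  have hZc : Fintype.card (ZMod 17) = 17 := ZMod.card 17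
  have eF : ZMod 17 ≃+* F := ZMod.ringEquivOfPrime F (by norm_num) hF
  rcases Cfsg.Agent.S0732.result (by norm_num : Nat.Prime 17) hX φ.range hcard hdlt with
    ⟨-, ⟨e⟩⟩ | ⟨-, ⟨e⟩⟩ | ⟨q, -, h18, -⟩
  · right
    set ψ : G →* Matrix.ProjGenLinGroup (Fin 2) (ZMod 17) :=
      e.toMonoidHom.comp φ.rangeRestrict with hψdef
    have hψ : Function.Surjective ψ := e.surjective.comp φ.rangeRestrict_surjective
    have hkerψ : ψ.ker = φ.ker := by
      ext x
      simp [hψdef, MonoidHom.mem_ker]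
    have hinj : Function.Injective ψ := by
      apply injective_of hZ hNS ψ hψ
      · intro Q; rw [hkerψ]; exact hker Q
      · rw [card_PGL hZc]
      · exact (card_sylow3_S hZc).trans (card_sylow_S_le_PGL 3)
      · exact (card_sylow2_S hZc).trans (card_sylow_S_le_PGL 2)
    obtain ⟨e2⟩ := pglCongr eF
    exact ⟨(MulEquiv.ofBijective ψ ⟨hinj, hψ⟩).trans e2⟩
  · left
    set ψ : G →* Matrix.ProjectiveSpecialLinearGroup (Fin 2) (ZMod 17) :=
      e.toMonoidHom.comp φ.rangeRestrict with hψdef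
    have hψ : Function.Surjective ψ := e.surjective.comp φ.rangeRestrict_surjective
    have hkerψ : ψ.ker = φ.ker := by
      ext x
      simp [hψdef, MonoidHom.mem_ker]
    have hinj : Function.Injective ψ := by
      apply injective_of hZ hNS ψ hψ
      · intro Q; rw [hkerψ]; exact hker Q
      · rw [card_S hZc]; norm_num
      · exact card_sylow3_S hZc
      · exact card_sylow2_S hZc
    obtain ⟨e2⟩ := Cfsg.Agent.Lib.Helper41.Dickson.pslCongr eF
    exact ⟨(MulEquiv.ofBijective ψ ⟨hinj, hψ⟩).trans e2⟩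
  · exfalso
    have hq5 : q < 5 := by
      by_contra hcon
      push Not at hcon
      have : 2 ^ 5 ≤ 2 ^ q := Nat.pow_le_pow_right (by norm_num) hcon
      omega
    interval_cases q <;> omega

end Cfsg.Agent.S3641
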