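-- Statement S3669 (row 3669).
import Cfsg.Statements.S3669
import Cfsg.Agent.S0253
import Cfsg.Agent.S0169
import Cfsg.Agent.S0493
import Cfsg.Agent.S0494
import Cfsg.Agent.Lib.Helper1.Hall
import Cfsg.Agent.Lib.Helper41.PSL2Deg

set_option autoImplicit false
open Cfsg

namespace Cfsg.Agent.S3669

universe u

theorem exists_normal_of_not_simple {G : Type u} [Group G] [Nontrivial G]
    (h : ¬ IsSimpleGroup G) : ∃ N : Subgroup G, N.Normal ∧ N ≠ ⊥ ∧ N ≠ ⊤ := by
  by_contra hcon
  push Not at hcon
  refine h ⟨fun N hN => ?_⟩
  by_cases hb : N = ⊥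
  · exact Or.inl hb
  · exact Or.inr (hcon N hN hb)

theorem solvable_of_card_lt (n : ℕ) : ∀ (G : Type u) [Group G] [Finite G],
    Nat.card G = n → n < 60 → Group.IsSolvable G := by
  induction n using Nat.strong_induction_on with
  | _ n ih =>
    intro G _ _ hcard hn
    by_cases hnt : Nontrivial G
    swap
    · rw [not_nontrivial_iff_subsingleton] at hnt
      infer_instance
    by_cases hs : IsSimpleGroup G
    · by_cases hc : IsCyclic G
      · let _ : CommGroup G := hc.commGroup
        infer_instance
      · have := Cfsg.Agent.S0493.result hc (by omega)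
        omega
    · obtain ⟨N, hN, hb, ht⟩ := exists_normal_of_not_simple hs
      have hmul := N.card_mul_index
      have hpos : 0 < Nat.card G := Nat.card_pos
      have h1 : Nat.card N ≠ 1 := by
        intro h; exact hb (Subgroup.card_eq_one.mp h)
      have h2 : N.index ≠ 1 := by
        intro h; exact ht (Subgroup.index_eq_one.mp h)
      have h3 : 0 < Nat.card N := Nat.card_pos
      have h4 : 0 < N.index := Nat.pos_of_ne_zero (Subgroup.index_ne_zero_of_finite)
      have h1' : 2 ≤ Nat.card N := by omega
      have h2' : 2 ≤ N.index := by omega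
      have h5 : Nat.card N < n := by
        rw [← hcard, ← hmul]
        nlinarith
      have h6 : Nat.card (G ⧸ N) < n := by
        rw [← hcard, ← hmul]
        change N.index < _
        nlinarith
      have s1 : Group.IsSolvable N := ih _ h5 N rfl (by omega)
      have s2 : Group.IsSolvable (G ⧸ N) := ih _ h6 (G ⧸ N) rfl (by omega)
      refine solvable_of_ker_le_range N.subtype (QuotientGroup.mk' N) ?_
      rw [QuotientGroup.ker_mk', Subgroup.range_subtype]

theorem not_dvd_degree {G : Type u} [Group G] [Finite G] (hcard : Nat.card G = 60)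
    (hs : ¬ IsSimpleGroup G) (χ : IrrCharacter G) : ¬ 5 ∣ charDegree (χ : G → ℂ) := by
  intro h5
  have hnt : Nontrivial G := by
    rw [← Finite.one_lt_card_iff_nontrivial]; omega
  -- G is solvable
  have hsolv : Group.IsSolvable G := by
    obtain ⟨N, hN, hb, ht⟩ := exists_normal_of_not_simple hs
    have hmul := N.card_mul_index
    have h1 : Nat.card N ≠ 1 := by
      intro h; exact hb (Subgroup.card_eq_one.mp h)
    have h2 : N.index ≠ 1 := by
      intro h; exact ht (Subgroup.index_eq_one.mp h)
    have h3 : 0 < Nat.card N := Nat.card_pos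
    have h4 : 0 < N.index := Nat.pos_of_ne_zero (Subgroup.index_ne_zero_of_finite)
    have h1' : 2 ≤ Nat.card N := by omega
    have h2' : 2 ≤ N.index := by omega
    have h5 : Nat.card N < 60 := by
      rw [← hcard, ← hmul]
      nlinarith
    have h6 : Nat.card (G ⧸ N) < 60 := by
      rw [← hcard, ← hmul]
      change N.index < _
      nlinarith
    have s1 : Group.IsSolvable N := solvable_of_card_lt _ N rfl h5
    have s2 : Group.IsSolvable (G ⧸ N) := solvable_of_card_lt _ (G ⧸ N) rfl h6
    refine solvable_of_ker_le_range N.subtype (QuotientGroup.mk' N) ?_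
    rw [QuotientGroup.ker_mk', Subgroup.range_subtype]
  obtain ⟨K, hK⟩ := Cfsg.Agent.Lib.Helper1.hall_exists (G := G) 15 4 (by omega) (by norm_num)
  have hKi : K.index = 4 := by
    have := K.card_mul_index
    rw [hK, hcard] at this
    omega
  set C := K.normalCore with hC
  have hCn : C.Normal := inferInstance
  have hCK : C ≤ K := Subgroup.normalCore_le K
  have hCd : Nat.card C ∣ 15 := hK ▸ Subgroup.card_dvd_of_le hCK
  have hCi : C.index ∣ 24 := by
    have h1 : C = (MulAction.toPermHom G (G ⧸ K)).ker := Subgroup.normalCore_eq_ker K
    rw [h1, Subgroup.index_ker]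
    have h2 : Nat.card (Equiv.Perm (G ⧸ K)) = 24 := by
      rw [Nat.card_perm]
      change (K.index).factorial = 24
      rw [hKi]; rfl
    rw [← h2]
    exact Subgroup.card_subgroup_dvd_card _
  have hCmul := C.card_mul_index
  rw [hcard] at hCmul
  have hc : Nat.card C = 5 ∨ Nat.card C = 15 := by
    generalize Nat.card C = c at *
    generalize C.index = i at *
    have hc15 : c ≤ 15 := Nat.le_of_dvd (by norm_num) hCd
    have hi24 : i ≤ 24 := Nat.le_of_dvd (by norm_num) hCi
    interval_cases c <;> first | omega | (exfalso; revert hCd; decide) | (exfalso; have : i = 60 := by omega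
                                                                          omega) | (exfalso; have : i = 20 := by omega
                                                                                    subst this; revert hCi; decide)
  haveI : Fact (Nat.Prime 5) := ⟨by norm_num⟩
  let Q : Sylow 5 C := default
  have hQcard : Nat.card Q = 5 := by
    rw [Sylow.card_eq_multiplicity]
    rcases hc with h | h <;> rw [h]
    · have : (5 : ℕ).factorization 5 = 1 := by
        rw [Nat.Prime.factorization_self (by norm_num)]
      rw [this, pow_one]
    · have : (15 : ℕ).factorization 5 = 1 := by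
        have h15 : (15 : ℕ) = 3 * 5 := by norm_num
        rw [h15, Nat.factorization_mul (by norm_num) (by norm_num)]
        simp [Nat.Prime.factorization_self (show Nat.Prime 5 by norm_num),
          Nat.factorization_eq_zero_of_not_dvd (show ¬ 5 ∣ 3 by norm_num)]
      rw [this, pow_one]
  have hQi : (Q : Subgroup C).index = 1 ∨ (Q : Subgroup C).index = 3 := by
    have := (Q : Subgroup C).card_mul_index
    rw [hQcard] at this
    rcases hc with h | h <;> rw [h] at this <;> omega
  have hone : Nat.card (Sylow 5 C) = 1 := by
    have h1 : Nat.card (Sylow 5 C) ≡ 1 [MOD 5] := card_sylow_modEq_one 5 C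
    have h2 : Nat.card (Sylow 5 C) ∣ (Q : Subgroup C).index := Q.card_dvd_index
    have h3 : Nat.card (Sylow 5 C) ≤ 3 := by
      rcases hQi with h | h <;> rw [h] at h2
      · exact (Nat.le_of_dvd (by norm_num) h2).trans (by norm_num)
      · exact Nat.le_of_dvd (by norm_num) h2
    unfold Nat.ModEq at h1
    omega
  haveI : Subsingleton (Sylow 5 C) := (Nat.card_eq_one_iff_unique.mp hone).1
  haveI hchar : (Q : Subgroup C).Characteristic := Sylow.characteristic_of_subsingleton Q
  set A : Subgroup G := (Q : Subgroup C).map C.subtype with hA
  haveI hAn : A.Normal := ConjAct.normal_of_characteristic_of_normal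
  have hAcard : Nat.card A = 5 := by
    rw [hA, Subgroup.card_map_of_injective C.subtype_injective]
    exact hQcard
  have hAi : A.index = 12 := by
    have := A.card_mul_index
    rw [hAcard, hcard] at this
    omega
  have hAcomm : ∀ a ∈ A, ∀ b ∈ A, a * b = b * a := by
    haveI : IsCyclic A := isCyclic_of_prime_card hAcard
    intro a ha b hb
    have := (IsCyclic.commGroup (α := A)).mul_comm ⟨a, ha⟩ ⟨b, hb⟩
    exact congrArg Subtype.val this
  obtain ⟨n, ρ, hirr, hχ⟩ := χ.2
  have hdvd := Cfsg.Agent.S0169.result ρ A hAcomm
  rw [Module.finrank_fin_fun, hAi] at hdvd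
  have hdeg : charDegree (χ : G → ℂ) = n := by
    apply Cfsg.Agent.Lib.Helper41.charDegree_eq_of_one
    rw [← hχ, Representation.char_one, Module.finrank_fin_fun]
  rw [hdeg] at h5
  have : 5 ∣ 12 := h5.trans hdvd
  omega

/-- The character degree graph of a finite group has as vertices the primes dividing some irreducible complex character degree, two distinct primes being joined when their product divides some irreducible character degree; two groups have the same character degree graph when they have the same vertices and the same joined pairs. A finite group of order 60 with the same character degree graph as the alternating group A₅ (whose character degrees are 1, 3, 4, 5, so the graph has vertices 2, 3, 5 and no edges) is isomorphic to A₅. -/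
theorem result {G : Type*} [Group G] [Finite G] (hcard : Nat.card G = 60)
    (hΓ : Cfsg.degreePrimes G = Cfsg.degreePrimes (alternatingGroup (Fin 5)) ∧ Cfsg.degreeGraph G = Cfsg.degreeGraph (alternatingGroup (Fin 5))) : Nonempty (G ≃* alternatingGroup (Fin 5)) := by
  haveI : Fact (Nat.Prime 5) := ⟨by norm_num⟩
  have h5A : 5 ∈ Cfsg.degreePrimes (alternatingGroup (Fin 5)) := by
    obtain ⟨e⟩ := Cfsg.Agent.S0253.result (F := ZMod 5) (ZMod.card 5)
    refine ⟨by norm_num, 5, ?_, dvd_rfl⟩
    rw [← Cfsg.Agent.Lib.Helper41.charDegrees_congr e]
    have := Cfsg.Agent.Lib.Helper41.card_mem_charDegrees_PSL2 (F := ZMod 5)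
    rwa [ZMod.card 5] at this
  rw [← hΓ.1] at h5A
  obtain ⟨-, d, ⟨χ, hχ⟩, hd⟩ := h5A
  by_cases hs : IsSimpleGroup G
  · exact Cfsg.Agent.S0494.result hcard
  · exact absurd (hχ ▸ hd) (not_dvd_degree hcard hs χ)

end Cfsg.Agent.S3669
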