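import Cfsg.Statements.S3670
import Cfsg.Agent.Lib.Helper39.U33.Main
import Cfsg.Agent.Lib.Helper39.U33.Graph
import Cfsg.Agent.Lib.Helper39.U33.D1
import Cfsg.Agent.Lib.Helper39.U33.D2
import Cfsg.Agent.Lib.Helper54.PSUCongr

set_option autoImplicit false
open Cfsg

namespace Cfsg.Agent.S3670

/-- The character degree graph of a finite group has as vertices the primes dividing some irreducible complex character degree, two distinct primes being joined when their product divides some irreducible character degree; two groups have the same character degree graph when they have the same vertices and the same joined pairs. Let F be the field with 9 elements and L = PSU(3,3) realised over F (order 6048). There is a finite solvable group of order 6048 with the same character degree graph as L; so L is not determined by its order together with its character degree graph. -/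
theorem result {F : Type*} [Field F] [Fintype F] (hF : Fintype.card F = 9) :
    ∃ (H : Type) (_ : Group H) (_ : Fintype H), Group.IsSolvable H ∧ Nat.card H = 6048 ∧ Cfsg.degreePrimes H = Cfsg.degreePrimes (Cfsg.PSU 3 F 3) ∧ Cfsg.degreeGraph H = Cfsg.degreeGraph (Cfsg.PSU 3 F 3) := by
  classical
  obtain ⟨e⟩ := Cfsg.Agent.Lib.Helper54.psu_congr_of_card (F := F) (K := Cfsg.Agent.Lib.Helper54.K9)
    (by rw [hF]; exact Cfsg.Agent.Lib.Helper54.K9.card_eq.symm) 3 3
  have hGcard : Nat.card (Cfsg.PSU 3 F 3) = 6048 := by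
    rw [Nat.card_congr e.toEquiv, Cfsg.Agent.Lib.Helper39.U33.card_PSU]
  have hGfin : Finite (Cfsg.PSU 3 F 3) := Nat.finite_of_card_ne_zero (by rw [hGcard]; norm_num)
  obtain ⟨g6, g14, g21⟩ := Cfsg.Agent.Lib.Helper39.U33.degrees_PSU
  rw [← Cfsg.Agent.Lib.Helper41.charDegrees_congr e] at g6 g14 g21
  obtain ⟨gP, gA⟩ := Cfsg.Agent.Lib.Helper39.U33.graph_of_degrees hGcard g6 g14 g21
  obtain ⟨ψ, hψ⟩ := Cfsg.Agent.Lib.Helper39.U33.exists_primitive_R0
  have h42 : 42 ∈ Cfsg.charDegrees (Cfsg.Agent.Lib.Helper39.U33.Aff Cfsg.Agent.Lib.Helper39.U33.R0) := by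
    have := Cfsg.Agent.Lib.Helper39.U33.aff_degree Cfsg.Agent.Lib.Helper39.U33.R0 ψ hψ
    rwa [Cfsg.Agent.Lib.Helper39.U33.card_units_R0] at this
  have hHcard : Nat.card (Cfsg.Agent.Lib.Helper39.U33.Aff Cfsg.Agent.Lib.Helper39.U33.R0) = 6048 := by
    rw [Cfsg.Agent.Lib.Helper39.U33.aff_card, Cfsg.Agent.Lib.Helper39.U33.card_R0,
      Cfsg.Agent.Lib.Helper39.U33.card_units_R0]
  have hHfin : Finite (Cfsg.Agent.Lib.Helper39.U33.Aff Cfsg.Agent.Lib.Helper39.U33.R0) :=
    Nat.finite_of_card_ne_zero (by rw [hHcard]; norm_num)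
  obtain ⟨hP, hA⟩ := Cfsg.Agent.Lib.Helper39.U33.graph_of_degrees hHcard ⟨42, h42, by norm_num⟩
    ⟨42, h42, by norm_num⟩ ⟨42, h42, by norm_num⟩
  refine ⟨Cfsg.Agent.Lib.Helper39.U33.Aff Cfsg.Agent.Lib.Helper39.U33.R0, inferInstance,
    Fintype.ofFinite _, Cfsg.Agent.Lib.Helper39.U33.aff_solvable _, hHcard, by rw [hP, gP], ?_⟩
  ext p q
  rw [hA, gA]

end Cfsg.Agent.S3670
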