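import Cfsg.Statements.S3681

set_option autoImplicit false
open Cfsg

namespace Cfsg.Agent.S3681

open Equiv Equiv.Perm

variable {Ω : Type*} [Fintype Ω] [DecidableEq Ω]

omit [Fintype Ω] [DecidableEq Ω] in
theorem ais (f : Perm Ω) (x : Ω) : f (f⁻¹ x) = x := f.apply_symm_apply x

omit [Fintype Ω] [DecidableEq Ω] in
theorem ias (f : Perm Ω) (x : Ω) : f⁻¹ (f x) = x := f.symm_apply_apply x

/-- two permutations whose supports meet in exactly one point have a 3-cycle as commutator -/
theorem comm_isThreeCycle (x y : Perm Ω) (α : Ω) (hx : x α ≠ α) (hy : y α ≠ α)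
    (h : ∀ z, x z ≠ z → y z ≠ z → z = α) : (x * y * x⁻¹ * y⁻¹).IsThreeCycle := by
  have F1 : ∀ z, z ≠ α → x z ≠ z → y z = z := fun z hz hxz => by
    by_contra hyz
    exact hz (h z hxz hyz)
  have F2 : ∀ z, z ≠ α → y z ≠ z → x z = z := fun z hz hyz => by
    by_contra hxz
    exact hz (h z hxz hyz)
  have hβy : y (x α) = x α := F1 _ hx (fun e => hx (x.injective e))
  have hγx : x (y α) = y α := F2 _ hy (fun e => hy (y.injective e))
  have hβγ : x α ≠ y α := by
    intro e
    rw [e] at hβy
    exact hy (y.injective hβy)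
  -- x⁻¹ α
  have ha' : x⁻¹ α ≠ α := fun e => hx (by rw [Perm.inv_eq_iff_eq] at e; exact e.symm)
  have ha'y : y (x⁻¹ α) = x⁻¹ α := F1 _ ha' (by rw [ais]; exact ha'.symm)
  have ha'' : y⁻¹ α ≠ α := fun e => hy (by rw [Perm.inv_eq_iff_eq] at e; exact e.symm)
  have ha''x : x (y⁻¹ α) = y⁻¹ α := F2 _ ha'' (by rw [ais]; exact ha''.symm)
  have cα : (x * y * x⁻¹ * y⁻¹) α = x α := by
    simp only [Perm.mul_apply]
    have : x⁻¹ (y⁻¹ α) = y⁻¹ α := by rw [Perm.inv_eq_iff_eq, ha''x]
    rw [this, ais]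
  have cβ : (x * y * x⁻¹ * y⁻¹) (x α) = y α := by
    simp only [Perm.mul_apply]
    have : y⁻¹ (x α) = x α := by rw [Perm.inv_eq_iff_eq, hβy]
    rw [this, ias, hγx]
  have cγ : (x * y * x⁻¹ * y⁻¹) (y α) = α := by
    simp only [Perm.mul_apply]
    rw [ias, ha'y, ais]
  have cz : ∀ z, z ≠ α → z ≠ x α → z ≠ y α → (x * y * x⁻¹ * y⁻¹) z = z := by
    intro z hzα hzβ hzγ
    simp only [Perm.mul_apply]
    by_cases hyz : y z = z
    · have e1 : y⁻¹ z = z := by rw [Perm.inv_eq_iff_eq, hyz]
      rw [e1]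
      by_cases hxz : x z = z
      · have e2 : x⁻¹ z = z := by rw [Perm.inv_eq_iff_eq, hxz]
        rw [e2, hyz, hxz]
      · have hw : x⁻¹ z ≠ α := fun e => hzβ (by rw [← e, ais])
        have hw2 : x (x⁻¹ z) ≠ x⁻¹ z := by
          rw [ais]
          intro e
          apply hxz
          conv_lhs => rw [e]
          rw [ais]
        rw [F1 _ hw hw2, ais]
    · have hw : y⁻¹ z ≠ α := fun e => hzγ (by rw [← e, ais])
      have hw2 : y (y⁻¹ z) ≠ y⁻¹ z := by
        rw [ais]
        intro e
        apply hyz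
        conv_lhs => rw [e]
        rw [ais]
      have e3 : x⁻¹ (y⁻¹ z) = y⁻¹ z := by rw [Perm.inv_eq_iff_eq, F2 _ hw hw2]
      rw [e3, ais, F2 _ hzα hyz]
  rw [← card_support_eq_three_iff]
  have hs : (x * y * x⁻¹ * y⁻¹).support = {α, x α, y α} := by
    ext z
    simp only [Perm.mem_support, Finset.mem_insert, Finset.mem_singleton]
    constructor
    · intro hz
      by_contra hcon
      push Not at hcon
      exact hz (cz z hcon.1 hcon.2.1 hcon.2.2)
    · rintro (rfl | rfl | rfl)
      · rw [cα]; exact hx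
      · rw [cβ]; exact hβγ.symm
      · rw [cγ]; exact hy.symm
  rw [hs, Finset.card_insert_of_notMem, Finset.card_insert_of_notMem, Finset.card_singleton]
  · simpa using hβγ
  · simp only [Finset.mem_insert, Finset.mem_singleton, not_or]
    exact ⟨hx.symm, hy.symm⟩

/-- `Γ` is a base for `P` -/
def IsBase (P : Subgroup (Perm Ω)) (Γ : Finset Ω) : Prop :=
  ∀ g ∈ P, (∀ a ∈ Γ, g a = a) → g = 1

theorem card_le_of_isBase (P : Subgroup (Perm Ω)) (Γ : Finset Ω) (hΓ : IsBase P Γ) :
    Nat.card P ≤ (Fintype.card Ω).descFactorial Γ.card := by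
  classical
  let f : P → (Γ ↪ Ω) := fun g => ⟨fun a => g.1 a.1, fun a b hab => Subtype.ext (g.1.injective hab)⟩
  have hf : Function.Injective f := by
    intro g h hgh
    have h1 : h.1⁻¹ * g.1 = 1 := by
      apply hΓ _ (P.mul_mem (P.inv_mem h.2) g.2)
      intro a ha
      have : g.1 a = h.1 a := congrArg (fun e : Γ ↪ Ω => e ⟨a, ha⟩) hgh
      rw [Perm.mul_apply, this, ias]
    apply Subtype.ext
    rw [inv_mul_eq_one] at h1
    exact h1.symm
  have := Nat.card_le_card_of_injective f hf
  rwa [Nat.card_eq_fintype_card (α := (Γ ↪ Ω)), Fintype.card_embedding_eq, Fintype.card_coe] at this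

theorem bochert_subgroup (P : Subgroup (Perm Ω)) (hprim : MulAction.IsPreprimitive P Ω)
    (hA : ¬ alternatingGroup Ω ≤ P) :
    Nat.card P * Nat.factorial ((Fintype.card Ω + 1) / 2) ≤ Nat.factorial (Fintype.card Ω) := by
  classical
  -- a base of minimal size
  have hex : ∃ k, ∃ Γ : Finset Ω, IsBase P Γ ∧ Γ.card = k :=
    ⟨_, Finset.univ, fun g _ hg => Equiv.ext fun a => hg a (Finset.mem_univ a), rfl⟩
  obtain ⟨Γ, hΓ, hk⟩ := Nat.find_spec hex
  have hmin : ∀ Γ' : Finset Ω, IsBase P Γ' → Γ.card ≤ Γ'.card := by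
    intro Γ' h'
    rw [hk]
    exact Nat.find_min' hex ⟨Γ', h', rfl⟩
  -- the complement is a base
  have hΔ : IsBase P Γᶜ := by
    intro y hyP hy
    by_contra hy1
    obtain ⟨α, hα⟩ : ∃ α, y α ≠ α := by
      by_contra hcon
      push Not at hcon
      exact hy1 (Equiv.ext hcon)
    have hαΓ : α ∈ Γ := by
      by_contra hn
      exact hα (hy α (Finset.mem_compl.mpr hn))
    have hnb : ¬ IsBase P (Γ.erase α) := by
      intro hb
      have := hmin _ hb
      rw [Finset.card_erase_of_mem hαΓ] at this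
      have : 0 < Γ.card := Finset.card_pos.mpr ⟨α, hαΓ⟩
      omega
    unfold IsBase at hnb
    push Not at hnb
    obtain ⟨x, hxP, hx, hx1⟩ := hnb
    have hxα : x α ≠ α := by
      intro e
      apply hx1
      apply hΓ x hxP
      intro a ha
      by_cases hae : a = α
      · rw [hae, e]
      · exact hx a (Finset.mem_erase.mpr ⟨hae, ha⟩)
    have h3 : (x * y * x⁻¹ * y⁻¹).IsThreeCycle := by
      apply comm_isThreeCycle x y α hxα hα
      intro z hxz hyz
      by_contra hzα
      have hzΓ : z ∈ Γ := by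
        by_contra hn
        exact hyz (hy z (Finset.mem_compl.mpr hn))
      exact hxz (hx z (Finset.mem_erase.mpr ⟨hzα, hzΓ⟩))
    exact hA (alternatingGroup_le_of_isPreprimitive_of_isThreeCycle_mem hprim h3
      (P.mul_mem (P.mul_mem (P.mul_mem hxP hyP) (P.inv_mem hxP)) (P.inv_mem hyP)))
  have h1 := hmin _ hΔ
  rw [Finset.card_compl] at h1
  have hle : Γ.card ≤ Fintype.card Ω := Finset.card_le_univ Γ
  have h2 := card_le_of_isBase P Γ hΓ
  calc Nat.card P * Nat.factorial ((Fintype.card Ω + 1) / 2)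
      ≤ (Fintype.card Ω).descFactorial Γ.card * Nat.factorial (Fintype.card Ω - Γ.card) :=
        Nat.mul_le_mul h2 (Nat.factorial_le (by omega))
    _ = Nat.factorial (Fintype.card Ω) := by
        rw [mul_comm, Nat.factorial_mul_descFactorial hle]

/-- Bochert's bound for primitive groups. Let a finite group G act faithfully and primitively on a finite set Ω with n elements, and suppose the image of G in the symmetric group of Ω does not contain the alternating group of Ω. Then |G| · ⌊(n + 1)/2⌋! ≤ n!, that is, the index of G in the symmetric group is at least ⌊(n + 1)/2⌋!. -/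
theorem result {G Ω : Type*} [Group G] [Finite G] [MulAction G Ω] [FaithfulSMul G Ω] [Fintype Ω] [DecidableEq Ω]
    (hprim : MulAction.IsPreprimitive G Ω) (hA : ¬ alternatingGroup Ω ≤ (MulAction.toPermHom G Ω).range) :
    Nat.card G * Nat.factorial ((Fintype.card Ω + 1) / 2) ≤ Nat.factorial (Fintype.card Ω) := by
  have hcard : Nat.card G = Nat.card (MulAction.toPermHom G Ω).range :=
    Nat.card_congr (MonoidHom.ofInjective MulAction.toPerm_injective).toEquiv
  rw [hcard]
  apply bochert_subgroup _ _ hA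
  let f : Ω →ₑ[(MulAction.toPermHom G Ω).rangeRestrict] Ω :=
    { toFun := id
      map_smul' := fun g a => rfl }
  exact MulAction.IsPreprimitive.of_surjective (f := f) Function.surjective_id

end Cfsg.Agent.S3681
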