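import Cfsg.Statements.S3738
import Cfsg.Agent.Lib.Helper73.QuadCW
import Cfsg.Agent.Lib.Helper73.FreeOrbit
import Cfsg.Agent.Lib.Helper32.FStarQuot
import Cfsg.Agent.Lib.Helper32.Subnormal
import Cfsg.Agent.Lib.Helper2.PGroupFrattini
import Cfsg.Agent.S3736
import Cfsg.Agent.S4400
import Cfsg.Agent.S1337

set_option autoImplicit false
open Cfsg

namespace Cfsg.Agent.S3738

open scoped commutatorElement
open Cfsg.Agent.Lib.Helper73

/-- the centre of a special 2-group has exponent two -/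
theorem sq_eq_one_of_special {Q : Type*} [Group Q] [Finite Q] (hQ : Cfsg.IsSpecial 2 Q) :
    ∀ z ∈ Subgroup.center Q, z ^ 2 = 1 := by
  have : Fact (Nat.Prime 2) := ⟨Nat.prime_two⟩
  obtain ⟨hP, hF, hC⟩ := hQ
  let N : Subgroup Q :=
    { carrier := {w | w ∈ Subgroup.center Q ∧ w ^ 2 = 1}
      one_mem' := ⟨Subgroup.one_mem _, one_pow 2⟩
      mul_mem' := by
        rintro a b ⟨ha, ha2⟩ ⟨hb, hb2⟩
        refine ⟨Subgroup.mul_mem _ ha hb, ?_⟩
        have hc : Commute a b := (Subgroup.mem_center_iff.1 ha b).symm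
        rw [hc.mul_pow, ha2, hb2, one_mul]
      inv_mem' := by
        rintro a ⟨ha, ha2⟩
        exact ⟨Subgroup.inv_mem _ ha, by rw [inv_pow, ha2, inv_one]⟩ }
  have h1 : commutator Q ≤ N := by
    rw [commutator_def, Subgroup.commutator_le]
    intro x _ y _
    have hc : ⁅x, y⁆ ∈ Subgroup.center Q := by
      rw [← hC]
      exact Subgroup.commutator_mem_commutator (Subgroup.mem_top x) (Subgroup.mem_top y)
    refine ⟨hc, ?_⟩
    have hx2 : x ^ 2 ∈ Subgroup.center Q := by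
      rw [← hF]; exact Cfsg.Agent.Lib.Helper2.pow_p_mem_frattini hP x
    have e1 : x * y * x⁻¹ = ⁅x, y⁆ * y := by rw [commutatorElement_def]; group
    have e2 : x ^ 2 * y * (x ^ 2)⁻¹ = ⁅x, y⁆ ^ 2 * y := by
      calc x ^ 2 * y * (x ^ 2)⁻¹ = x * (x * y * x⁻¹) * x⁻¹ := by rw [pow_two]; group
        _ = (x * ⁅x, y⁆) * y * x⁻¹ := by rw [e1]; group
        _ = ⁅x, y⁆ * (x * y * x⁻¹) := by rw [Subgroup.mem_center_iff.1 hc x]; group
        _ = ⁅x, y⁆ ^ 2 * y := by rw [e1, pow_two]; group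
    have e3 : x ^ 2 * y * (x ^ 2)⁻¹ = y := by
      rw [← Subgroup.mem_center_iff.1 hx2 y]; group
    rw [e3] at e2
    exact (right_eq_mul.mp e2.symm.symm) |> fun h => h
  intro z hz
  rw [← hC] at hz
  exact (h1 hz).2

theorem result {X : Type*} [Group X] [Finite X] (d : X) (n : ℕ) (hn : 1 ≤ n) (hd : orderOf d = 3 ^ n) (P : Subgroup X) (hP : IsPGroup 2 P) (hdP : d ∈ Subgroup.normalizer (P : Set X)) (hfaith : Subgroup.zpowers d ⊓ Subgroup.centralizer (P : Set X) = ⊥) (hfpf : P ⊓ Subgroup.centralizer {d} = ⊥) (hrank : ∀ V : Subgroup X, V ≤ P → IsMulCommutative V → Cfsg.PRankLE 2 2 V) : orderOf d = 3 := by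
  have hp2 : Fact (Nat.Prime 2) := ⟨Nat.prime_two⟩
  have hp3 : Fact (Nat.Prime 3) := ⟨Nat.prime_three⟩
  by_contra hne
  have hn2 : 2 ≤ n := by
    by_contra hlt
    have : n = 1 := by omega
    rw [this, pow_one] at hd
    exact hne hd
  obtain ⟨d₀, hd₀⟩ : ∃ d₀, d₀ = d ^ (3 ^ (n - 1)) := ⟨_, rfl⟩
  have hod₀ : orderOf d₀ = 3 := by
    rw [hd₀, orderOf_pow_of_dvd (pow_ne_zero _ (by norm_num))
      (by rw [hd]; exact pow_dvd_pow 3 (by omega)), hd, Nat.pow_div (by omega) (by norm_num)]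
    have : n - (n - 1) = 1 := by omega
    rw [this, pow_one]
  have hd₀1 : d₀ ≠ 1 := by
    intro h; rw [h, orderOf_one] at hod₀; omega
  obtain ⟨B, hB⟩ : ∃ B, B = Subgroup.zpowers d := ⟨_, rfl⟩
  obtain ⟨A, hA⟩ : ∃ A, A = Subgroup.zpowers d₀ := ⟨_, rfl⟩
  have hdB : d ∈ B := by rw [hB]; exact Subgroup.mem_zpowers d
  have hd₀A : d₀ ∈ A := by rw [hA]; exact Subgroup.mem_zpowers d₀
  have hAB : A ≤ B := by
    rw [hA, Subgroup.zpowers_le, hd₀]; exact pow_mem hdB _
  have hBcomm : ∀ b ∈ B, ∀ a ∈ B, b * a = a * b := by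
    intro b hb a ha
    rw [hB] at hb ha
    obtain ⟨i, rfl⟩ := Subgroup.mem_zpowers_iff.mp hb
    obtain ⟨j, rfl⟩ := Subgroup.mem_zpowers_iff.mp ha
    rw [← zpow_add, ← zpow_add, add_comm]
  have hAn : B ≤ Subgroup.normalizer (A : Set X) :=
    Cfsg.Agent.Lib.Helper32.le_normalizer_of_conj_mem (fun k hk a ha => by
      rw [hBcomm k hk a (hAB ha), mul_inv_cancel_right]; exact ha)
  have hAp : (Nat.card A).Coprime 2 := by rw [hA, Nat.card_zpowers, hod₀]; norm_num
  have hBP : B ≤ Subgroup.normalizer (P : Set X) := by rw [hB, Subgroup.zpowers_le]; exact hdP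
  -- centralising `A` is centralising `d₀`
  have hcentA : ∀ U : Subgroup X, (∀ x ∈ U, d₀ * x = x * d₀) → ⁅U, A⁆ = ⊥ := by
    intro U hU
    rw [Subgroup.commutator_eq_bot_iff_le_centralizer]
    intro x hx
    rw [Subgroup.mem_centralizer_iff]
    intro a ha
    rw [SetLike.mem_coe, hA] at ha
    obtain ⟨i, rfl⟩ := Subgroup.mem_zpowers_iff.mp ha
    exact (Commute.zpow_left (hU x hx) i).eq
  have hntP : ⁅P, A⁆ ≠ ⊥ := by
    intro h
    rw [Subgroup.commutator_eq_bot_iff_le_centralizer] at h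
    have : d₀ ∈ Subgroup.zpowers d ⊓ Subgroup.centralizer (P : Set X) := by
      rw [Subgroup.mem_inf]
      refine ⟨hB ▸ hAB hd₀A, ?_⟩
      rw [Subgroup.mem_centralizer_iff]
      intro x hx
      exact (Subgroup.mem_centralizer_iff.mp (h hx) d₀ hd₀A).symm
    rw [hfaith, Subgroup.mem_bot] at this
    exact hd₀1 this
  obtain ⟨P₀, ⟨hP₀P, hBP₀, hnt⟩, hmin⟩ := (Set.toFinite {U : Subgroup X | U ≤ P ∧
    B ≤ Subgroup.normalizer (U : Set X) ∧ ⁅U, A⁆ ≠ ⊥}).exists_minimal ⟨P, le_refl _, hBP, hntP⟩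
  have hP₀ : IsPGroup 2 P₀ := hP.to_le hP₀P
  obtain ⟨h1, h2, h3, -⟩ := Cfsg.Agent.S3736.result (p := 2) B A P₀ hP₀ hBP₀ hAB hAn hAp hnt (by
    intro U hU hBU
    by_contra hc
    exact absurd (hmin ⟨hU.le.trans hP₀P, hBU, hc⟩ hU.le) (not_le_of_gt hU))
  obtain ⟨F, hF⟩ : ∃ F, F = (frattini ↥P₀).map P₀.subtype := ⟨_, rfl⟩
  rw [← hF] at h3
  have hFP₀ : F ≤ P₀ := by rw [hF]; exact Subgroup.map_subtype_le _
  have hbound : ∀ V : Subgroup X, V ≤ P → IsElementaryAbelian 2 V → Nat.card V ≤ 4 := by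
    intro V hV hE
    have := hrank V hV hE.1 ⊤ ⟨⟨fun a b => Subtype.ext (hE.1.is_comm.comm a.1 b.1)⟩⟩
      (fun a _ => Subtype.ext (hE.2 a.1 a.2))
    rw [Subgroup.card_top] at this
    exact this
  have hfix : B ≤ Subgroup.normalizer (F : Set X) → ∀ x ∈ P₀, d₀ * x = x * d₀ → x ∈ F := by
    intro hBF
    have hBU : B ≤ Subgroup.normalizer ((P₀ ⊓ Subgroup.centralizer {d₀} : Subgroup X) : Set X) :=
      Cfsg.Agent.Lib.Helper32.le_normalizer_of_conj_mem (by
        intro k hk b hb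
        rw [Subgroup.mem_inf] at hb ⊢
        refine ⟨(Subgroup.mem_normalizer_iff.mp (hBP₀ hk) b).mp hb.1, ?_⟩
        rw [Subgroup.mem_centralizer_singleton_iff]
        have e1 := Subgroup.mem_centralizer_singleton_iff.mp hb.2
        have e2 := hBcomm k hk d₀ (hAB hd₀A)
        have e3 := hBcomm k⁻¹ (inv_mem hk) d₀ (hAB hd₀A)
        calc k * b * k⁻¹ * d₀ = k * b * (k⁻¹ * d₀) := by group
          _ = k * (b * d₀) * k⁻¹ := by rw [e3]; group
          _ = (k * d₀) * b * k⁻¹ := by rw [e1]; group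
          _ = d₀ * (k * b * k⁻¹) := by rw [e2]; group)
    rcases h3 ((P₀ ⊓ Subgroup.centralizer {d₀}) ⊔ F) le_sup_right (sup_le inf_le_left hFP₀)
      (Cfsg.Agent.Lib.Helper32.le_normalizer_sup hBU hBF) with h | h
    · intro x hx hxd
      rw [← h]
      apply Subgroup.mem_sup_left
      rw [Subgroup.mem_inf, Subgroup.mem_centralizer_singleton_iff]
      exact ⟨hx, hxd.symm⟩
    · exfalso
      have hU : P₀ ⊓ Subgroup.centralizer {d₀} = P₀ :=
        Cfsg.Agent.Lib.Helper32.eq_of_le_sup_frattini inf_le_left (by rw [← hF, h])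
      apply hnt
      apply hcentA
      intro x hx
      rw [← hU, Subgroup.mem_inf, Subgroup.mem_centralizer_singleton_iff] at hx
      exact hx.2.symm
  have hP₀bot : P₀ ≠ ⊥ := by
    rintro rfl
    exact hnt (Subgroup.commutator_bot_left _)
  have hFne : F ≠ P₀ := by
    intro h
    apply hP₀bot
    exact (Cfsg.Agent.Lib.Helper32.eq_of_le_sup_frattini (H := ⊥) bot_le
      (by rw [← hF, h]; exact le_sup_right)).symm
  have key : B ≤ Subgroup.normalizer (F : Set X) →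
      ∃ r m, Nat.card F = 2 ^ r ∧ Nat.card P₀ = 2 ^ (r + m) ∧ 5 ≤ m := by
    intro hBF
    have hdvd := pow_dvd_card_sub_card (p := 3) d n hn hd P₀ F hFP₀
      (fun x hx => (Subgroup.mem_normalizer_iff.mp (hBP₀ hdB) x).mp hx)
      (fun x hx => (Subgroup.mem_normalizer_iff.mp (hBF hdB) x).mp hx)
      (by rw [← hd₀]; exact hfix hBF)
    obtain ⟨r, hr⟩ := (hP₀.to_le hFP₀).exists_card_eq
    obtain ⟨c, hc⟩ := hP₀.exists_card_eq
    have hrc : r ≤ c := by
      have := Subgroup.card_le_of_le hFP₀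
      rw [hr, hc] at this
      exact (Nat.pow_le_pow_iff_right (by norm_num)).1 this
    obtain ⟨m, rfl⟩ := Nat.exists_eq_add_of_le hrc
    refine ⟨r, m, hr, hc, ?_⟩
    have hm0 : m ≠ 0 := by
      rintro rfl
      exact hFne (Subgroup.eq_of_le_of_card_ge hFP₀ (by rw [hr, hc, add_zero]))
    have h9 : 9 ∣ 2 ^ r * (2 ^ m - 1) := by
      have e : 2 ^ r * (2 ^ m - 1) = Nat.card P₀ - Nat.card F := by
        rw [hr, hc, pow_add, Nat.mul_sub, mul_one]
      rw [e]
      exact (show 9 = 3 ^ 2 by norm_num) ▸ (pow_dvd_pow 3 hn2).trans hdvd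
    have h9' : 9 ∣ 2 ^ m - 1 :=
      Nat.Coprime.dvd_of_dvd_mul_left (Nat.Coprime.pow_right r (by norm_num)) h9
    by_contra hlt
    have : m = 1 ∨ m = 2 ∨ m = 3 ∨ m = 4 := by omega
    rcases this with rfl | rfl | rfl | rfl <;> norm_num at h9'
  rcases h2 with hE | hS
  · -- elementary abelian case
    have hF0 : F = ⊥ := by
      rw [hF, Cfsg.Agent.Lib.Helper2.frattini_eq_bot_of_elementary (p := 2)
        (fun x y => hE.1.is_comm.comm x y) (fun x => Subtype.ext (hE.2 x.1 x.2)), Subgroup.map_bot]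
    obtain ⟨r, m, hr, hc, hm⟩ := key (by
      rw [hF0]
      apply Cfsg.Agent.Lib.Helper32.le_normalizer_of_conj_mem
      intro k _ b hb
      rw [Subgroup.mem_bot] at hb ⊢
      rw [hb]; group)
    have h4 := hbound P₀ hP₀P hE
    rw [hc] at h4
    have : 2 ^ 5 ≤ 2 ^ (r + m) := Nat.pow_le_pow_right (by norm_num) (by omega)
    omega
  · -- special case
    have hFmem : ∀ x, x ∈ F ↔ x ∈ P₀ ∧ ∀ y ∈ P₀, y * x = x * y := by
      intro x; rw [hF, hS.2.1]; exact Cfsg.Agent.S4400.mem_map_center_iff P₀ x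
    have hBF : B ≤ Subgroup.normalizer (F : Set X) := by
      apply Cfsg.Agent.Lib.Helper32.le_normalizer_of_conj_mem
      intro k hk b hb
      rw [hFmem] at hb ⊢
      refine ⟨(Subgroup.mem_normalizer_iff.mp (hBP₀ hk) b).mp hb.1, ?_⟩
      intro y hy
      have hy' := (Subgroup.mem_normalizer_iff.mp (hBP₀ (inv_mem hk)) y).mp hy
      have e := hb.2 _ hy'
      calc y * (k * b * k⁻¹) = k * ((k⁻¹ * y * k⁻¹⁻¹) * b) * k⁻¹ := by group
        _ = k * b * k⁻¹ * y := by rw [e]; group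
    have hFe : IsElementaryAbelian 2 F := by
      refine ⟨⟨⟨fun a b => Subtype.ext ?_⟩⟩, ?_⟩
      · exact ((hFmem b.1).mp b.2).2 a.1 (hFP₀ a.2)
      · intro z hz
        rw [hF, hS.2.1] at hz
        obtain ⟨u, hu, rfl⟩ := hz
        exact congrArg Subtype.val (sq_eq_one_of_special hS u hu)
    obtain ⟨r, m, hr, hc, hm⟩ := key hBF
    have hr2 : r ≤ 2 := by
      have := hbound F (hFP₀.trans hP₀P) hFe
      rw [hr] at this
      by_contra hlt
      have : 2 ^ 3 ≤ 2 ^ r := Nat.pow_le_pow_right (by norm_num) (by omega)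
      omega
    obtain ⟨x, hxP, hxF, hx2⟩ := exists_sq_eq_one_not_mem' P₀ F F hFP₀
      (fun e he c hc => ((hFmem e).mp he).2 c hc) hFe.2 le_rfl
      (fun x hx => by
        rw [hF]
        exact ⟨⟨x, hx⟩ ^ 2, Cfsg.Agent.Lib.Helper2.pow_p_mem_frattini hP₀ ⟨x, hx⟩, rfl⟩)
      (fun x hx y hy => by
        rw [hF]
        exact ⟨⁅⟨x, hx⟩, ⟨y, hy⟩⁆, Cfsg.Agent.Lib.Helper2.commutator_le_frattini hP₀
          (Subgroup.commutator_mem_commutator (Subgroup.mem_top _) (Subgroup.mem_top _)), rfl⟩)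
      r m hr (by rw [hc, hr, pow_add, mul_comm]) (by omega)
    have hx1 : x ≠ 1 := by rintro rfl; exact hxF (one_mem _)
    have hox : orderOf x = 2 := orderOf_eq_prime hx2 hx1
    have hcomm : ∀ e ∈ F, x * e = e * x := fun e he => ((hFmem e).mp he).2 x hxP
    have hEe : IsElementaryAbelian 2 (Subgroup.zpowers x ⊔ F) := by
      apply Cfsg.Agent.S1337.elemAb_sup 2 _ _ _ hFe
      · intro a ha b hb
        obtain ⟨j, rfl⟩ := Subgroup.mem_zpowers_iff.mp ha
        exact ((Commute.zpow_left (hcomm b hb) j)).eq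
      · refine ⟨inferInstance, ?_⟩
        intro a ha
        obtain ⟨j, rfl⟩ := Subgroup.mem_zpowers_iff.mp ha
        rw [← zpow_natCast, ← zpow_mul, mul_comm, zpow_mul, zpow_natCast, hx2, one_zpow]
    have hEc : Nat.card ↥(Subgroup.zpowers x ⊔ F) = 2 * 2 ^ r := by
      rw [Cfsg.Agent.S4023.card_sup_zpowers 2 hox F hxF (fun e he => by
        rw [hcomm e he, mul_inv_cancel_right]; exact he), hr]
    have h4 := hbound _ (sup_le (by rw [Subgroup.zpowers_le]; exact hP₀P hxP)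
      (hFP₀.trans hP₀P)) hEe
    rw [hEc] at h4
    have hr01 : r = 0 ∨ r = 1 := by
      by_contra hcon
      have : r = 2 := by omega
      rw [this] at h4
      omega
    rcases hr01 with rfl | rfl
    · -- trivial centre
      have : Nontrivial ↥P₀ := (Subgroup.nontrivial_iff_ne_bot P₀).mpr hP₀bot
      have hnt' := hP₀.center_nontrivial
      have h5 : 1 < Nat.card (Subgroup.center ↥P₀) := Finite.one_lt_card
      rw [hF, hS.2.1, Subgroup.card_map_of_injective P₀.subtype_injective] at hr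
      omega
    · rw [pow_one, Nat.card_eq_two_iff' (1 : F)] at hr
      obtain ⟨z, hz1, huniq⟩ := hr
      have hzc := (Subgroup.mem_normalizer_iff.mp (hBF hdB) z.1).mp z.2
      have e1 := huniq ⟨d * z.1 * d⁻¹, hzc⟩ (by
        intro h
        have h' : d * z.1 * d⁻¹ = 1 := congrArg Subtype.val h
        apply hz1
        apply Subtype.ext
        have : (z : X) = d⁻¹ * (d * z.1 * d⁻¹) * d := by group
        rw [this, h']; simp)
      have e2 : d * z.1 * d⁻¹ = z.1 := congrArg Subtype.val e1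
      have hmem : z.1 ∈ P ⊓ Subgroup.centralizer {d} := by
        rw [Subgroup.mem_inf, Subgroup.mem_centralizer_singleton_iff]
        refine ⟨hP₀P (hFP₀ z.2), ?_⟩
        calc z.1 * d = (d * z.1 * d⁻¹) * d := by rw [e2]
          _ = d * z.1 := by group
      rw [hfpf, Subgroup.mem_bot] at hmem
      exact hz1 (Subtype.ext hmem)

end Cfsg.Agent.S3738
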