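import Cfsg.Statements.S3739
import Cfsg.Agent.Lib.Helper48.PG
import Cfsg.Agent.Lib.Lead.Cores
import Cfsg.Agent.S3738

set_option autoImplicit false
open Cfsg

namespace Cfsg.Agent.S3739

open scoped commutatorElement
open Cfsg.Agent.Lib.Helper73

/-- an element of prime order `p` acting by conjugation without fixed points on a set -/
theorem dvd_ncard_of_free {X : Type*} [Group X] [Finite X] {p : ℕ} [hp : Fact p.Prime]
    (a : X) (ha : orderOf a = p) (S : Set X) (hS : ∀ x ∈ S, a * x * a⁻¹ ∈ S)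
    (hfix : ∀ x ∈ S, a * x ≠ x * a) : p ∣ S.ncard := by
  classical
  have := Fintype.ofFinite X
  have hpow : ∀ g ∈ Subgroup.zpowers a, ∀ x, x ∈ S ↔ g * x * g⁻¹ ∈ S := by
    have h1 : ∀ g ∈ Subgroup.zpowers a, ∀ x ∈ S, g * x * g⁻¹ ∈ S := by
      intro g hg
      obtain ⟨j, rfl⟩ := exists_pow_of_mem_zpowers a g hg
      induction j with
      | zero => intro x hx; simpa using hx
      | succ j ih =>
        intro x hx
        have := hS _ (ih (pow_mem (Subgroup.mem_zpowers a) j) x hx)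
        have e : a ^ (j + 1) * x * (a ^ (j + 1))⁻¹ = a * (a ^ j * x * (a ^ j)⁻¹) * a⁻¹ := by
          rw [pow_succ']; group
        rw [e]; exact this
    intro g hg x
    refine ⟨h1 g hg x, fun h => ?_⟩
    have := h1 g⁻¹ (inv_mem hg) _ h
    have e : g⁻¹ * (g * x * g⁻¹) * g⁻¹⁻¹ = x := by group
    rwa [e] at this
  let Γ : Subgroup (ConjAct X) := (Subgroup.zpowers a).map ConjAct.toConjAct.toMonoidHom
  have hΓ : ∀ γ : Γ, ∃ g ∈ Subgroup.zpowers a, ∀ w : X, γ • w = g * w * g⁻¹ := by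
    rintro ⟨γ, g, hg, rfl⟩
    exact ⟨g, hg, fun w => rfl⟩
  let f : X → ℤ := fun w => if w ∈ S then 1 else 0
  have h := Cfsg.Agent.Lib.Helper75.orbit_sum_dvd (Γ := Γ) f (by
    intro γ w
    obtain ⟨g, hg, hgw⟩ := hΓ γ
    simp only [f]
    rw [hgw, ← hpow g hg w]) p (by
    intro w
    by_cases hw : w ∈ S
    · right
      have h1 : (MulAction.orbit Γ w).ncard = Nat.card Γ := by
        apply Set.ncard_range_of_injective
        rintro ⟨_, u, hu, rfl⟩ ⟨_, b, hb, rfl⟩ hab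
        apply Subtype.ext
        change u * w * u⁻¹ = b * w * b⁻¹ at hab
        change ConjAct.toConjAct u = ConjAct.toConjAct b
        congr 1
        by_contra hne
        have hg1 : b⁻¹ * u ≠ 1 := by
          intro h1
          exact hne (by rw [← mul_one b, ← h1]; group)
        have hmem := pow_mem_zpowers_of_ne_one a 1 le_rfl (by rw [ha, pow_one]) (b⁻¹ * u)
          (mul_mem (inv_mem hb) hu) hg1
        have hcomm : (b⁻¹ * u) * w = w * (b⁻¹ * u) := by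
          calc (b⁻¹ * u) * w = b⁻¹ * (u * w * u⁻¹) * u := by group
            _ = w * (b⁻¹ * u) := by rw [hab]; group
        obtain ⟨i, hi⟩ := Subgroup.mem_zpowers_iff.mp hmem
        apply hfix w hw
        have e : a = (b⁻¹ * u) ^ i := by rw [hi]; simp
        rw [e]
        exact (Commute.zpow_left hcomm i).eq
      rw [h1]
      have : Nat.card Γ = p := by
        rw [Subgroup.card_map_of_injective ConjAct.toConjAct.injective, Nat.card_zpowers, ha]
      rw [this]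
    · left
      simp only [f]
      rw [if_neg hw])
  have hsum : ∑ w, f w = (S.ncard : ℤ) := by
    simp only [f]
    rw [Finset.sum_boole]
    congr 1
    rw [Set.ncard_eq_toFinset_card']
    congr 1
    ext w; simp
  rw [hsum] at h
  exact_mod_cast h

theorem nine_dvd {G : Type*} [Group G] [Finite G] (P₀ W : Subgroup G) (d a : G)
    (hW4 : Nat.card W = 4) (hWP : W ≤ P₀)
    (hdW : ∀ w, w ∈ W ↔ d * w * d⁻¹ ∈ W) (hdP : ∀ x, x ∈ P₀ ↔ d * x * d⁻¹ ∈ P₀)
    (haP : ∀ x ∈ P₀, a * x * a⁻¹ ∈ P₀)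
    (hfpf : ∀ w ∈ W, d * w = w * d → w = 1) (haW : ∀ w ∈ W, a * w = w * a) (ha : orderOf a = 3)
    (hsq : ∀ x ∈ P₀, x ^ 2 ∈ W) (hinv : ∀ x ∈ P₀, x ^ 2 = 1 → x ∈ W) (hW2 : ∀ w ∈ W, w ^ 2 = 1)
    (hWc : ∀ u ∈ W, ∀ v ∈ W, u * v = v * u)
    (hafix : ∀ x ∈ P₀, a * x = x * a → x ∈ W) : 9 ∣ Nat.card P₀ - 4 := by
  classical
  have hp3 : Fact (Nat.Prime 3) := ⟨Nat.prime_three⟩
  let S : G → Set G := fun w => {x | x ∈ P₀ ∧ x ^ 2 = w}
  have h3 : ∀ w ∈ W, w ≠ 1 → 3 ∣ (S w).ncard := by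
    intro w hw hw1
    apply dvd_ncard_of_free a ha
    · rintro x ⟨hx, hx2⟩
      refine ⟨haP x hx, ?_⟩
      rw [conj_pow, hx2, haW w hw, mul_inv_cancel_right]
    · rintro x ⟨hx, hx2⟩ hc
      apply hw1
      rw [← hx2]; exact hW2 x (hafix x hx hc)
  have hconj : ∀ w, (S (d * w * d⁻¹)).ncard = (S w).ncard := by
    intro w
    have : S (d * w * d⁻¹) = (fun x => d * x * d⁻¹) '' S w := by
      ext x
      constructor
      · rintro ⟨hx, hx2⟩
        refine ⟨d⁻¹ * x * d, ⟨?_, ?_⟩, by group⟩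
        · rw [hdP]
          have : d * (d⁻¹ * x * d) * d⁻¹ = x := by group
          rw [this]; exact hx
        · have : (d⁻¹ * x * d) ^ 2 = d⁻¹ * x ^ 2 * d := by rw [pow_two, pow_two]; group
          rw [this, hx2]; group
      · rintro ⟨y, ⟨hy, hy2⟩, rfl⟩
        exact ⟨(hdP y).mp hy, by rw [conj_pow, hy2]⟩
    rw [this]
    exact Set.ncard_image_of_injective _ (fun x y h => by simpa using h)
  obtain ⟨w₀, hw₀, hw₀1⟩ : ∃ w ∈ W, w ≠ 1 := by
    by_contra hcon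
    push Not at hcon
    have : W = ⊥ := (Subgroup.eq_bot_iff_forall _).mpr hcon
    rw [this, Subgroup.card_bot] at hW4; omega
  obtain ⟨w₁, hw₁⟩ : ∃ w₁, w₁ = d * w₀ * d⁻¹ := ⟨_, rfl⟩
  obtain ⟨w₂, hw₂⟩ : ∃ w₂, w₂ = d * w₁ * d⁻¹ := ⟨_, rfl⟩
  have hw₁W : w₁ ∈ W := hw₁ ▸ (hdW w₀).mp hw₀
  have hw₂W : w₂ ∈ W := hw₂ ▸ (hdW w₁).mp hw₁W
  have hw₁1 : w₁ ≠ 1 := by
    intro h; rw [hw₁, conj_eq_one_iff] at h; exact hw₀1 h
  have hw₂1 : w₂ ≠ 1 := by
    intro h; rw [hw₂, conj_eq_one_iff] at h; exact hw₁1 h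
  have hnofix : ∀ w ∈ W, w ≠ 1 → d * w * d⁻¹ ≠ w := by
    intro w hw hw1 h
    exact hw1 (hfpf w hw (by
      calc d * w = (d * w * d⁻¹) * d := by group
        _ = w * d := by rw [h]))
  have h10 : w₁ ≠ w₀ := hw₁ ▸ hnofix w₀ hw₀ hw₀1
  have h21 : w₂ ≠ w₁ := hw₂ ▸ hnofix w₁ hw₁W hw₁1
  have h20 : w₂ ≠ w₀ := by
    intro h
    have hu : w₀ * w₁ ∈ W := mul_mem hw₀ hw₁W
    have e : d * (w₀ * w₁) * d⁻¹ = w₀ * w₁ := by
      calc d * (w₀ * w₁) * d⁻¹ = (d * w₀ * d⁻¹) * (d * w₁ * d⁻¹) := by group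
        _ = w₁ * w₀ := by rw [← hw₁, ← hw₂, h]
        _ = w₀ * w₁ := hWc _ hw₁W _ hw₀
    by_cases hu1 : w₀ * w₁ = 1
    · apply h10
      have h2 := hW2 w₀ hw₀
      rw [pow_two] at h2
      exact mul_left_cancel (hu1.trans h2.symm)
    · exact hnofix _ hu hu1 e
  have hWall : ∀ w ∈ W, w = 1 ∨ w = w₀ ∨ w = w₁ ∨ w = w₂ := by
    have hcard : ({1, w₀, w₁, w₂} : Finset G).card = 4 := by
      rw [Finset.card_insert_of_notMem, Finset.card_insert_of_notMem,
        Finset.card_insert_of_notMem, Finset.card_singleton]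
      · simp [h21.symm]
      · simp [h10.symm, h20.symm]
      · simp [hw₀1.symm, hw₁1.symm, hw₂1.symm]
    have hsub : (({1, w₀, w₁, w₂} : Finset G) : Set G) ⊆ (W : Set G) := by
      intro x hx
      simp only [Finset.coe_insert, Finset.coe_singleton, Set.mem_insert_iff,
        Set.mem_singleton_iff] at hx
      rcases hx with rfl | rfl | rfl | rfl
      · exact one_mem W
      · exact hw₀
      · exact hw₁W
      · exact hw₂W
    have heq := Set.eq_of_subset_of_ncard_le hsub (by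
      rw [Set.ncard_coe_finset, hcard, ← hW4]
      exact le_of_eq (Nat.card_coe_set_eq (W : Set G)).symm) (Set.toFinite _)
    intro w hw
    have : w ∈ (({1, w₀, w₁, w₂} : Finset G) : Set G) := by rw [heq]; exact hw
    simpa using this
  have hpart : (P₀ : Set G) \ (W : Set G) = S w₀ ∪ S w₁ ∪ S w₂ := by
    ext x
    constructor
    · rintro ⟨hx, hxW⟩
      rcases hWall _ (hsq x hx) with h | h | h | h
      · exact absurd (hinv x hx h) hxW
      · exact Or.inl (Or.inl ⟨hx, h⟩)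
      · exact Or.inl (Or.inr ⟨hx, h⟩)
      · exact Or.inr ⟨hx, h⟩
    · have key : ∀ w, w ≠ 1 → ∀ x ∈ S w, x ∈ (P₀ : Set G) \ (W : Set G) := by
        rintro w hw1 x ⟨hx, hx2⟩
        exact ⟨hx, fun hxW => hw1 (by rw [← hx2]; exact hW2 x hxW)⟩
      rintro ((h | h) | h)
      · exact key _ hw₀1 x h
      · exact key _ hw₁1 x h
      · exact key _ hw₂1 x h
  have hdisj : ∀ u v, u ≠ v → Disjoint (S u) (S v) := by
    intro u v huv
    rw [Set.disjoint_left]
    rintro x ⟨_, h1⟩ ⟨_, h2⟩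
    exact huv (h1.symm.trans h2)
  have hcount : Nat.card P₀ - 4 = (S w₀).ncard + (S w₁).ncard + (S w₂).ncard := by
    have e1 : ((P₀ : Set G) \ (W : Set G)).ncard = Nat.card P₀ - 4 := by
      rw [Set.ncard_sdiff (show (W : Set G) ⊆ P₀ from hWP) (Set.toFinite _), ← hW4]
      rfl
    rw [← e1, hpart, Set.ncard_union_eq _ (Set.toFinite _) (Set.toFinite _),
      Set.ncard_union_eq (hdisj _ _ h10.symm) (Set.toFinite _) (Set.toFinite _)]
    rw [Set.disjoint_union_left]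
    exact ⟨hdisj _ _ h20.symm, hdisj _ _ h21.symm⟩
  have e1 : (S w₁).ncard = (S w₀).ncard := hw₁ ▸ hconj w₀
  have e2 : (S w₂).ncard = (S w₁).ncard := hw₂ ▸ hconj w₁
  obtain ⟨k, hk⟩ := h3 w₀ hw₀ hw₀1
  rw [hcount, e2, e1, hk]
  exact ⟨k, by ring⟩

/-- a subgroup of order two normalised by `d` is centralised by `d` -/
theorem exists_fixed_of_card_two {G : Type*} [Group G] (F : Subgroup G) (d : G)
    (hF : Nat.card F = 2) (hd : ∀ x ∈ F, d * x * d⁻¹ ∈ F) : ∃ z ∈ F, z ≠ 1 ∧ d * z = z * d := by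
  rw [Nat.card_eq_two_iff' (1 : F)] at hF
  obtain ⟨z, hz1, huniq⟩ := hF
  have e1 := huniq ⟨d * z.1 * d⁻¹, hd z.1 z.2⟩ (by
    intro h
    have h' : d * z.1 * d⁻¹ = 1 := congrArg Subtype.val h
    rw [conj_eq_one_iff] at h'
    exact hz1 (Subtype.ext h'))
  have e2 : d * z.1 * d⁻¹ = z.1 := congrArg Subtype.val e1
  refine ⟨z.1, z.2, fun h => hz1 (Subtype.ext h), ?_⟩
  calc d * z.1 = (d * z.1 * d⁻¹) * d := by group
    _ = z.1 * d := by rw [e2]

/-- a nontrivial `d`-invariant subgroup of the four-group `W` is `W` -/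
theorem eq_of_invariant {G : Type*} [Group G] [Finite G] (W F : Subgroup G) (d : G)
    (hW4 : Nat.card W = 4) (hfpf : ∀ w ∈ W, d * w = w * d → w = 1) (hFW : F ≤ W) (hF : F ≠ ⊥)
    (hd : ∀ x ∈ F, d * x * d⁻¹ ∈ F) : F = W := by
  have hdvd := Subgroup.card_dvd_of_le hFW
  rw [hW4, show 4 = 2 ^ 2 by norm_num] at hdvd
  obtain ⟨k, hk, hFk⟩ := (Nat.dvd_prime_pow Nat.prime_two).mp hdvd
  have : k = 0 ∨ k = 1 ∨ k = 2 := by omega
  rcases this with rfl | rfl | rfl
  · exact absurd (Subgroup.card_eq_one.mp (by rw [hFk, pow_zero])) hF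
  · obtain ⟨z, hz, hz1, hzd⟩ := exists_fixed_of_card_two F d (by rw [hFk, pow_one]) hd
    exact absurd (hfpf z (hFW hz) hzd) hz1
  · exact Subgroup.eq_of_le_of_card_ge hFW (by rw [hFk, hW4]; norm_num)

theorem core {G : Type*} [Group G] [Finite G] (Q W B : Subgroup G) (d a : G)
    (hQ : IsPGroup 2 Q) (hW4 : Nat.card W = 4) (hWQ : W ≤ Q)
    (hdB : d ∈ B) (haB : a ∈ B) (hac : ∀ s ∈ B, s * a = a * s) (ha : orderOf a = 3)
    (hfpf : ∀ w ∈ W, d * w = w * d → w = 1) (haW : ∀ w ∈ W, a * w = w * a)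
    (hW2 : ∀ w ∈ W, w ^ 2 = 1) (hWc : ∀ w ∈ W, ∀ y ∈ Q, y * w = w * y)
    (hinv : ∀ x ∈ Q, x ^ 2 = 1 → x ∈ W)
    (hBQ : B ≤ Subgroup.normalizer (Q : Set G)) (hBW : B ≤ Subgroup.normalizer (W : Set G)) :
    ∀ x ∈ Q, a * x = x * a := by
  have hp2 : Fact (Nat.Prime 2) := ⟨Nat.prime_two⟩
  have hp3 : Fact (Nat.Prime 3) := ⟨Nat.prime_three⟩
  by_contra hcon
  obtain ⟨A, hA⟩ : ∃ A, A = Subgroup.zpowers a := ⟨_, rfl⟩
  have haA : a ∈ A := by rw [hA]; exact Subgroup.mem_zpowers a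
  have hAB : A ≤ B := by rw [hA, Subgroup.zpowers_le]; exact haB
  have hAn : B ≤ Subgroup.normalizer (A : Set G) :=
    Cfsg.Agent.Lib.Helper32.le_normalizer_of_conj_mem (fun k hk u hu => by
      rw [hA] at hu ⊢
      obtain ⟨i, rfl⟩ := Subgroup.mem_zpowers_iff.mp hu
      have : k * a ^ i * k⁻¹ = a ^ i := by
        rw [(Commute.zpow_right (hac k hk) i).eq, mul_inv_cancel_right]
      rw [this]; exact zpow_mem (Subgroup.mem_zpowers a) i)
  have hAp : (Nat.card A).Coprime 2 := by rw [hA, Nat.card_zpowers, ha]; norm_num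
  have hcentA : ∀ U : Subgroup G, (∀ x ∈ U, a * x = x * a) → ⁅U, A⁆ = ⊥ := by
    intro U hU
    rw [Subgroup.commutator_eq_bot_iff_le_centralizer]
    intro x hx
    rw [Subgroup.mem_centralizer_iff]
    intro u hu
    rw [SetLike.mem_coe, hA] at hu
    obtain ⟨i, rfl⟩ := Subgroup.mem_zpowers_iff.mp hu
    exact (Commute.zpow_left (hU x hx) i).eq
  have hntQ : ⁅Q, A⁆ ≠ ⊥ := by
    intro h
    rw [Subgroup.commutator_eq_bot_iff_le_centralizer] at h
    apply hcon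
    intro x hx
    exact Subgroup.mem_centralizer_iff.mp (h hx) a haA
  obtain ⟨P₀, ⟨hP₀Q, hBP₀, hnt⟩, hmin⟩ := (Set.toFinite {U : Subgroup G | U ≤ Q ∧
    B ≤ Subgroup.normalizer (U : Set G) ∧ ⁅U, A⁆ ≠ ⊥}).exists_minimal ⟨Q, le_refl _, hBQ, hntQ⟩
  have hP₀ : IsPGroup 2 P₀ := hQ.to_le hP₀Q
  obtain ⟨h1, h2, h3, -⟩ := Cfsg.Agent.S3736.result (p := 2) B A P₀ hP₀ hBP₀ hAB hAn hAp hnt (by
    intro U hU hBU
    by_contra hc
    exact absurd (hmin ⟨hU.le.trans hP₀Q, hBU, hc⟩ hU.le) (not_le_of_gt hU))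
  obtain ⟨F, hF⟩ : ∃ F, F = (frattini ↥P₀).map P₀.subtype := ⟨_, rfl⟩
  rw [← hF] at h3
  have hFP₀ : F ≤ P₀ := by rw [hF]; exact Subgroup.map_subtype_le _
  have hfix : B ≤ Subgroup.normalizer (F : Set G) → ∀ x ∈ P₀, a * x = x * a → x ∈ F := by
    intro hBF
    have hBU : B ≤ Subgroup.normalizer ((P₀ ⊓ Subgroup.centralizer {a} : Subgroup G) : Set G) :=
      Cfsg.Agent.Lib.Helper32.le_normalizer_of_conj_mem (by
        intro k hk b hb
        rw [Subgroup.mem_inf] at hb ⊢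
        refine ⟨(Subgroup.mem_normalizer_iff.mp (hBP₀ hk) b).mp hb.1, ?_⟩
        rw [Subgroup.mem_centralizer_singleton_iff]
        have e1 := Subgroup.mem_centralizer_singleton_iff.mp hb.2
        have e2 := hac k hk
        have e3 := hac k⁻¹ (inv_mem hk)
        calc k * b * k⁻¹ * a = k * b * (k⁻¹ * a) := by group
          _ = k * (b * a) * k⁻¹ := by rw [e3]; group
          _ = (k * a) * b * k⁻¹ := by rw [e1]; group
          _ = a * (k * b * k⁻¹) := by rw [e2]; group)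
    rcases h3 ((P₀ ⊓ Subgroup.centralizer {a}) ⊔ F) le_sup_right (sup_le inf_le_left hFP₀)
      (Cfsg.Agent.Lib.Helper32.le_normalizer_sup hBU hBF) with h | h
    · intro x hx hxd
      rw [← h]
      apply Subgroup.mem_sup_left
      rw [Subgroup.mem_inf, Subgroup.mem_centralizer_singleton_iff]
      exact ⟨hx, hxd.symm⟩
    · exfalso
      have hU : P₀ ⊓ Subgroup.centralizer {a} = P₀ :=
        Cfsg.Agent.Lib.Helper32.eq_of_le_sup_frattini inf_le_left (by rw [← hF, h])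
      apply hnt
      apply hcentA
      intro x hx
      rw [← hU, Subgroup.mem_inf, Subgroup.mem_centralizer_singleton_iff] at hx
      exact hx.2.symm
  have hP₀bot : P₀ ≠ ⊥ := by
    rintro rfl
    exact hnt (Subgroup.commutator_bot_left _)
  have hFne : F ≠ P₀ := by
    intro h
    apply hP₀bot
    exact (Cfsg.Agent.Lib.Helper32.eq_of_le_sup_frattini (H := ⊥) bot_le
      (by rw [← hF, h]; exact le_sup_right)).symm
  rcases h2 with hE | hS
  · -- elementary abelian case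
    apply hnt
    apply hcentA
    intro x hx
    exact haW x (hinv x (hP₀Q hx) (hE.2 x hx))
  · -- special case
    have hFmem : ∀ x, x ∈ F ↔ x ∈ P₀ ∧ ∀ y ∈ P₀, y * x = x * y := by
      intro x; rw [hF, hS.2.1]; exact Cfsg.Agent.S4400.mem_map_center_iff P₀ x
    have hBF : B ≤ Subgroup.normalizer (F : Set G) := by
      apply Cfsg.Agent.Lib.Helper32.le_normalizer_of_conj_mem
      intro k hk b hb
      rw [hFmem] at hb ⊢
      refine ⟨(Subgroup.mem_normalizer_iff.mp (hBP₀ hk) b).mp hb.1, ?_⟩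
      intro y hy
      have hy' := (Subgroup.mem_normalizer_iff.mp (hBP₀ (inv_mem hk)) y).mp hy
      have e := hb.2 _ hy'
      calc y * (k * b * k⁻¹) = k * ((k⁻¹ * y * k⁻¹⁻¹) * b) * k⁻¹ := by group
        _ = k * b * k⁻¹ * y := by rw [e]; group
    have hF2 : ∀ z ∈ F, z ^ 2 = 1 := by
      intro z hz
      rw [hF, hS.2.1] at hz
      obtain ⟨u, hu, rfl⟩ := hz
      exact congrArg Subtype.val (Cfsg.Agent.S3738.sq_eq_one_of_special hS u hu)
    have hFW : F ≤ W := fun z hz => hinv z (hP₀Q (hFP₀ hz)) (hF2 z hz)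
    have hFbot : F ≠ ⊥ := by
      intro h
      have : Nontrivial ↥P₀ := (Subgroup.nontrivial_iff_ne_bot P₀).mpr hP₀bot
      have hnt' := hP₀.center_nontrivial
      have h5 : 1 < Nat.card (Subgroup.center ↥P₀) := Finite.one_lt_card
      have h6 : Nat.card F = 1 := by rw [h, Subgroup.card_bot]
      rw [hF, hS.2.1, Subgroup.card_map_of_injective P₀.subtype_injective] at h6
      omega
    have hFeq : F = W := eq_of_invariant W F d hW4 hfpf hFW hFbot
      (fun x hx => (Subgroup.mem_normalizer_iff.mp (hBF hdB) x).mp hx)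
    have hsq : ∀ x ∈ P₀, x ^ 2 ∈ W := fun x hx => by
      rw [← hFeq, hF]
      exact ⟨⟨x, hx⟩ ^ 2, Cfsg.Agent.Lib.Helper2.pow_p_mem_frattini hP₀ ⟨x, hx⟩, rfl⟩
    have hWP₀ : W ≤ P₀ := hFeq ▸ hFP₀
    obtain ⟨c, hc⟩ := hP₀.exists_card_eq
    have hc2 : 2 ≤ c := by
      have := Subgroup.card_le_of_le hWP₀
      rw [hW4, hc, show 4 = 2 ^ 2 by norm_num] at this
      exact (Nat.pow_le_pow_iff_right (by norm_num)).1 this
    have hc3 : c ≠ 2 := by
      rintro rfl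
      apply hFne
      rw [hFeq]
      exact Subgroup.eq_of_le_of_card_ge hWP₀ (by rw [hc, hW4]; norm_num)
    have hc6 : c ≤ 6 := by
      by_contra hlt
      obtain ⟨x, hxP, hxW, hx2⟩ := exists_sq_eq_one_not_mem' P₀ W W hWP₀
        (fun e he c hc => hWc e he c (hP₀Q hc)) hW2 le_rfl hsq
        (fun x hx y hy => by
          rw [← hFeq, hF]
          exact ⟨⁅⟨x, hx⟩, ⟨y, hy⟩⁆, Cfsg.Agent.Lib.Helper2.commutator_le_frattini hP₀
            (Subgroup.commutator_mem_commutator (Subgroup.mem_top _) (Subgroup.mem_top _)), rfl⟩)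
        2 (c - 2) (by rw [hW4]; norm_num)
        (by rw [hc, hW4, show 4 = 2 ^ 2 by norm_num, ← pow_add]; congr 1; omega) (by omega)
      exact hxW (hinv x (hP₀Q hxP) hx2)
    have h9 := nine_dvd P₀ W d a hW4 hWP₀
      (fun w => Subgroup.mem_normalizer_iff.mp (hBW hdB) w)
      (fun x => Subgroup.mem_normalizer_iff.mp (hBP₀ hdB) x)
      (fun x hx => (Subgroup.mem_normalizer_iff.mp (hBP₀ haB) x).mp hx)
      hfpf haW ha hsq (fun x hx => hinv x (hP₀Q hx)) hW2
      (fun u hu v hv => (hWc v hv u (hWQ hu)))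
      (fun x hx hxa => hFeq ▸ hfix hBF x hx hxa)
    rw [hc] at h9
    have : c = 3 ∨ c = 4 ∨ c = 5 ∨ c = 6 := by omega
    rcases this with rfl | rfl | rfl | rfl <;> norm_num at h9

/-- `Ω₁(Z(Q))` as a subgroup of the ambient group -/
def omegaZ {G : Type*} [Group G] (Q : Subgroup G) : Subgroup G where
  carrier := {x | x ∈ Q ∧ (∀ y ∈ Q, y * x = x * y) ∧ x ^ 2 = 1}
  one_mem' := ⟨one_mem Q, by simp, one_pow 2⟩
  mul_mem' := by
    rintro u v ⟨hu, huc, hu2⟩ ⟨hv, hvc, hv2⟩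
    refine ⟨mul_mem hu hv, ?_, ?_⟩
    · intro y hy
      rw [← mul_assoc, huc y hy, mul_assoc, hvc y hy, mul_assoc]
    · have : Commute u v := hvc u hu
      rw [this.mul_pow, hu2, hv2, one_mul]
  inv_mem' := by
    rintro u ⟨hu, huc, hu2⟩
    refine ⟨inv_mem hu, ?_, by rw [inv_pow, hu2, inv_one]⟩
    intro y hy
    have := huc y hy
    calc y * u⁻¹ = u⁻¹ * (u * y) * u⁻¹ := by group
      _ = u⁻¹ * y := by rw [← this]; group

theorem mem_omegaZ {G : Type*} [Group G] (Q : Subgroup G) (x : G) :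
    x ∈ omegaZ Q ↔ x ∈ Q ∧ (∀ y ∈ Q, y * x = x * y) ∧ x ^ 2 = 1 := Iff.rfl

theorem omegaZ_normal {G : Type*} [Group G] (Q : Subgroup G) (hQ : Q.Normal) :
    (omegaZ Q).Normal := by
  refine ⟨fun x hx g => ?_⟩
  rw [mem_omegaZ] at hx ⊢
  refine ⟨hQ.conj_mem x hx.1 g, ?_, by rw [conj_pow, hx.2.2]; group⟩
  intro y hy
  have hy' := hQ.conj_mem y hy g⁻¹
  have e := hx.2.1 _ hy'
  calc y * (g * x * g⁻¹) = g * ((g⁻¹ * y * g⁻¹⁻¹) * x) * g⁻¹ := by group
    _ = g * x * g⁻¹ * y := by rw [e]; group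

theorem omegaZ_elemAb {G : Type*} [Group G] (Q : Subgroup G) :
    IsElementaryAbelian 2 (omegaZ Q) :=
  ⟨⟨⟨fun a b => Subtype.ext (b.2.2.1 a.1 a.2.1)⟩⟩, fun a ha => ha.2.2⟩

theorem omegaZ_ne_bot {G : Type*} [Group G] [Finite G] (Q : Subgroup G) (hQ : IsPGroup 2 Q)
    (hQ1 : Q ≠ ⊥) : omegaZ Q ≠ ⊥ := by
  have hp2 : Fact (Nat.Prime 2) := ⟨Nat.prime_two⟩
  obtain ⟨t, htQ, hot, htc⟩ := Cfsg.Agent.Lib.Helper48.exists_central_orderOf_eq_of_normal hQ
    le_rfl Subgroup.le_normalizer hQ1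
  intro h
  have : t ∈ omegaZ Q := ⟨htQ, htc, by rw [← hot]; exact pow_orderOf_eq_one t⟩
  rw [h, Subgroup.mem_bot] at this
  rw [this, orderOf_one] at hot
  omega

theorem card_cases {G : Type*} [Group G] [Finite G] (W F : Subgroup G) (hW4 : Nat.card W = 4)
    (hFW : F ≤ W) : Nat.card F = 1 ∨ Nat.card F = 2 ∨ Nat.card F = 4 := by
  have hdvd := Subgroup.card_dvd_of_le hFW
  rw [hW4, show 4 = 2 ^ 2 by norm_num] at hdvd
  obtain ⟨k, hk, hFk⟩ := (Nat.dvd_prime_pow Nat.prime_two).mp hdvd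
  have : k = 0 ∨ k = 1 ∨ k = 2 := by omega
  rcases this with rfl | rfl | rfl
  · left; rw [hFk]; norm_num
  · right; left; rw [hFk]; norm_num
  · right; right; rw [hFk]; norm_num

/-- an element of order six: its cube lies in no normal four-group moved by its square -/
theorem centralizes_of_six {G : Type*} [Group G] [Finite G] (W : Subgroup G) (hWn : W.Normal)
    (hW4 : Nat.card W = 4)
    (hext : ∀ x : G, x ^ 2 = 1 → (∀ e ∈ W, x * e = e * x) → x ∈ W)
    (c t : G) (hoc : orderOf c = 3) (hot : orderOf t = 2) (hct : c * t = t * c) :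
    ∀ w ∈ W, c * w = w * c := by
  have hp2 : Fact (Nat.Prime 2) := ⟨Nat.prime_two⟩
  have hp3 : Fact (Nat.Prime 3) := ⟨Nat.prime_three⟩
  by_contra hcon
  have hinvF : ∀ y y' : G, y' * y = y * y' → ∀ x ∈ W ⊓ Subgroup.centralizer {y},
      y' * x * y'⁻¹ ∈ W ⊓ Subgroup.centralizer {y} := by
    intro y y' hyy x hx
    rw [Subgroup.mem_inf, Subgroup.mem_centralizer_singleton_iff] at hx ⊢
    refine ⟨hWn.conj_mem x hx.1 y', ?_⟩
    have e3 : y'⁻¹ * y = y * y'⁻¹ := by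
      calc y'⁻¹ * y = y'⁻¹ * (y * y') * y'⁻¹ := by group
        _ = y * y'⁻¹ := by rw [← hyy]; group
    calc y' * x * y'⁻¹ * y = y' * x * (y'⁻¹ * y) := by group
      _ = y' * (x * y) * y'⁻¹ := by rw [e3]; group
      _ = (y' * y) * x * y'⁻¹ := by rw [hx.2]; group
      _ = y * (y' * x * y'⁻¹) := by rw [hyy]; group
  have hFc := pow_dvd_card_sub_card (p := 3) c 1 le_rfl (by rw [hoc, pow_one]) W
    (W ⊓ Subgroup.centralizer {c}) inf_le_left (fun x hx => hWn.conj_mem x hx c)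
    (hinvF c c rfl) (by
      intro x hx h
      rw [Nat.sub_self, pow_zero, pow_one] at h
      rw [Subgroup.mem_inf, Subgroup.mem_centralizer_singleton_iff]
      exact ⟨hx, h.symm⟩)
  rw [hW4, pow_one] at hFc
  have hFc1 : W ⊓ Subgroup.centralizer {c} = ⊥ := by
    rcases card_cases W _ hW4 (inf_le_left : W ⊓ Subgroup.centralizer {c} ≤ W) with h | h | h
    · exact Subgroup.card_eq_one.mp h
    · rw [h] at hFc; norm_num at hFc
    · exfalso
      apply hcon
      have : W ⊓ Subgroup.centralizer {c} = W :=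
        Subgroup.eq_of_le_of_card_ge inf_le_left (by rw [h, hW4])
      intro w hw
      rw [← this, Subgroup.mem_inf, Subgroup.mem_centralizer_singleton_iff] at hw
      exact hw.2.symm
  have hFt := pow_dvd_card_sub_card (p := 2) t 1 le_rfl (by rw [hot, pow_one]) W
    (W ⊓ Subgroup.centralizer {t}) inf_le_left (fun x hx => hWn.conj_mem x hx t)
    (hinvF t t rfl) (by
      intro x hx h
      rw [Nat.sub_self, pow_zero, pow_one] at h
      rw [Subgroup.mem_inf, Subgroup.mem_centralizer_singleton_iff]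
      exact ⟨hx, h.symm⟩)
  rw [hW4, pow_one] at hFt
  have hFt3 := pow_dvd_card_sub_card (p := 3) c 1 le_rfl (by rw [hoc, pow_one])
    (W ⊓ Subgroup.centralizer {t}) ⊥ bot_le (hinvF t c hct)
    (by
      intro x hx
      rw [Subgroup.mem_bot] at hx ⊢
      rw [hx]; group)
    (by
      intro x hx h
      rw [Nat.sub_self, pow_zero, pow_one] at h
      rw [← hFc1, Subgroup.mem_inf, Subgroup.mem_centralizer_singleton_iff]
      exact ⟨(Subgroup.mem_inf.mp hx).1, h.symm⟩)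
  rw [Subgroup.card_bot, pow_one] at hFt3
  have hFtW : W ⊓ Subgroup.centralizer {t} = W := by
    rcases card_cases W _ hW4 (inf_le_left : W ⊓ Subgroup.centralizer {t} ≤ W) with h | h | h
    · rw [h] at hFt; norm_num at hFt
    · rw [h] at hFt3; norm_num at hFt3
    · exact Subgroup.eq_of_le_of_card_ge inf_le_left (by rw [h, hW4])
  have htW : t ∈ W := by
    apply hext t (by rw [← hot]; exact pow_orderOf_eq_one t)
    intro e he
    rw [← hFtW, Subgroup.mem_inf, Subgroup.mem_centralizer_singleton_iff] at he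
    exact he.2.symm
  have : t ∈ W ⊓ Subgroup.centralizer {c} := by
    rw [Subgroup.mem_inf, Subgroup.mem_centralizer_singleton_iff]
    exact ⟨htW, hct.symm⟩
  rw [hFc1, Subgroup.mem_bot] at this
  rw [this, orderOf_one] at hot
  omega

theorem result {G : Type*} [Group G] [Finite G] (hchar : Subgroup.centralizer (Cfsg.pCore 2 G : Set G) ≤ Cfsg.pCore 2 G) (hsix : ∃ g : G, orderOf g = 6) (d : G) (hd1 : d ≠ 1) (hd : IsPGroup 3 ↥(Subgroup.zpowers d)) (W : Subgroup G) (hW : Cfsg.IsElementaryAbelian 2 W) (hW1 : W ≠ ⊥) (hdW : d ∈ Subgroup.normalizer (W : Set G)) (hfpf : W ⊓ Subgroup.centralizer {d} = ⊥) : ∃ E : Subgroup G, Cfsg.IsElementaryAbelian 2 E ∧ Nat.card E = 8 := by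
  have hp2 : Fact (Nat.Prime 2) := ⟨Nat.prime_two⟩
  have hp3 : Fact (Nat.Prime 3) := ⟨Nat.prime_three⟩
  by_contra hno
  have hpg : ∀ E : Subgroup G, IsElementaryAbelian 2 E → IsPGroup 2 E := fun E hE x =>
    ⟨1, by rw [pow_one]; exact Subtype.ext (hE.2 x.1 x.2)⟩
  have hle4 : ∀ E : Subgroup G, IsElementaryAbelian 2 E → Nat.card E ≤ 4 := by
    intro E hE
    obtain ⟨k, hk⟩ := (hpg E hE).exists_card_eq
    by_contra hlt
    have hk3 : 3 ≤ k := by
      by_contra h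
      have h2 : k ≤ 2 := by omega
      have : 2 ^ k ≤ 2 ^ 2 := Nat.pow_le_pow_right (by norm_num) h2
      omega
    obtain ⟨K, hK⟩ := Sylow.exists_subgroup_card_pow_prime (G := ↥E) 2 (n := 3)
      (by rw [hk]; exact pow_dvd_pow 2 hk3)
    apply hno
    refine ⟨K.map E.subtype, Cfsg.Agent.S1337.elemAb_of_le 2 hE (Subgroup.map_subtype_le K), ?_⟩
    rw [Subgroup.card_map_of_injective E.subtype_injective, hK]; norm_num
  have hext : ∀ V : Subgroup G, IsElementaryAbelian 2 V → Nat.card V = 4 → ∀ x : G, x ^ 2 = 1 →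
      (∀ e ∈ V, x * e = e * x) → x ∈ V := by
    intro V hV hV4 x hx2 hcomm
    by_contra hxV
    have hx1 : x ≠ 1 := by rintro rfl; exact hxV (one_mem _)
    have hox : orderOf x = 2 := orderOf_eq_prime hx2 hx1
    have hEe : IsElementaryAbelian 2 (Subgroup.zpowers x ⊔ V) := by
      apply Cfsg.Agent.S1337.elemAb_sup 2 _ _ _ hV
      · intro a ha b hb
        obtain ⟨j, rfl⟩ := Subgroup.mem_zpowers_iff.mp ha
        exact ((Commute.zpow_left (hcomm b hb) j)).eq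
      · refine ⟨inferInstance, ?_⟩
        intro a ha
        obtain ⟨j, rfl⟩ := Subgroup.mem_zpowers_iff.mp ha
        rw [← zpow_natCast, ← zpow_mul, mul_comm, zpow_mul, zpow_natCast, hx2, one_zpow]
    have hEc : Nat.card ↥(Subgroup.zpowers x ⊔ V) = 2 * 4 := by
      rw [Cfsg.Agent.S4023.card_sup_zpowers 2 hox V hxV (fun e he => by
        rw [hcomm e he, mul_inv_cancel_right]; exact he), hV4]
    have := hle4 _ hEe
    omega
  have hfpf' : ∀ w ∈ W, d * w = w * d → w = 1 := by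
    intro w hw h
    have : w ∈ W ⊓ Subgroup.centralizer {d} := by
      rw [Subgroup.mem_inf, Subgroup.mem_centralizer_singleton_iff]; exact ⟨hw, h.symm⟩
    rwa [hfpf, Subgroup.mem_bot] at this
  have hdW' : ∀ w, w ∈ W ↔ d * w * d⁻¹ ∈ W := Subgroup.mem_normalizer_iff.mp hdW
  have hW4 : Nat.card W = 4 := by
    obtain ⟨k, hk⟩ := (hpg W hW).exists_card_eq
    have h4 := hle4 W hW
    have hk2 : k ≤ 2 := by
      by_contra h
      have : 2 ^ 3 ≤ 2 ^ k := Nat.pow_le_pow_right (by norm_num) (by omega)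
      omega
    have : k = 0 ∨ k = 1 ∨ k = 2 := by omega
    rcases this with rfl | rfl | rfl
    · exact absurd (Subgroup.card_eq_one.mp (by rw [hk, pow_zero])) hW1
    · obtain ⟨z, hz, hz1, hzd⟩ := exists_fixed_of_card_two W d (by rw [hk, pow_one])
        (fun x hx => (hdW' x).mp hx)
      exact absurd (hfpf' z hz hzd) hz1
    · rw [hk]; norm_num
  obtain ⟨Q, hQdef⟩ : ∃ Q, Q = Cfsg.pCore 2 G := ⟨_, rfl⟩
  rw [← hQdef] at hchar
  have hQn : Q.Normal := hQdef ▸ Cfsg.Agent.Lib.Lead.pCore_normal' 2 G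
  have hQp : IsPGroup 2 Q := hQdef ▸ Cfsg.Agent.Lib.Lead.pCore_isPGroup 2 G
  have hQbot : Q ≠ ⊥ := by
    intro h
    rw [h] at hchar
    have : d ∈ (⊥ : Subgroup G) := hchar (by
      rw [Subgroup.mem_centralizer_iff]
      intro x hx
      rw [SetLike.mem_coe, Subgroup.mem_bot] at hx
      rw [hx]; simp)
    exact hd1 (Subgroup.mem_bot.mp this)
  have hZn : (omegaZ Q).Normal := omegaZ_normal Q hQn
  have hZe := omegaZ_elemAb Q
  have hZbot := omegaZ_ne_bot Q hQp hQbot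
  have hTp : IsPGroup 2 ↥(W ⊔ omegaZ Q) :=
    IsPGroup.to_sup_of_normal_right (hpg W hW) (hpg _ hZe)
  obtain ⟨z, hzZ, hoz, hzc⟩ := Cfsg.Agent.Lib.Helper48.exists_central_orderOf_eq_of_normal hTp
    (le_sup_right : omegaZ Q ≤ W ⊔ omegaZ Q)
    (Cfsg.Agent.Lib.Helper32.le_normalizer_of_conj_mem (fun k _ b hb => hZn.conj_mem b hb k)) hZbot
  have hzW : z ∈ W := hext W hW hW4 z (by rw [← hoz]; exact pow_orderOf_eq_one z)
    (fun e he => (hzc e (Subgroup.mem_sup_left he)).symm)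
  have hz1 : z ≠ 1 := by
    rintro rfl
    rw [orderOf_one] at hoz; omega
  have hU : W ⊓ omegaZ Q = W := eq_of_invariant W _ d hW4 hfpf' inf_le_left
    (by
      intro h
      have : z ∈ W ⊓ omegaZ Q := Subgroup.mem_inf.mpr ⟨hzW, hzZ⟩
      rw [h, Subgroup.mem_bot] at this
      exact hz1 this)
    (by
      intro x hx
      rw [Subgroup.mem_inf] at hx ⊢
      exact ⟨(hdW' x).mp hx.1, hZn.conj_mem x hx.2 d⟩)
  have hWZ : W = omegaZ Q :=
    Subgroup.eq_of_le_of_card_ge (inf_eq_left.mp hU) (by rw [hW4]; exact hle4 _ hZe)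
  have hWn : W.Normal := hWZ ▸ hZn
  have hWQ : W ≤ Q := fun w hw => by rw [hWZ] at hw; exact hw.1
  have hWc : ∀ w ∈ W, ∀ y ∈ Q, y * w = w * y := fun w hw => by rw [hWZ] at hw; exact hw.2.1
  have hinv : ∀ x ∈ Q, x ^ 2 = 1 → x ∈ W := fun x hx hx2 =>
    hext W hW hW4 x hx2 (fun e he => hWc e he x hx)
  -- the element of order six
  obtain ⟨g, hg⟩ := hsix
  have hoc : orderOf (g ^ 2) = 3 := by
    rw [orderOf_pow_of_dvd (by norm_num) (by rw [hg]; norm_num), hg]
  have hot : orderOf (g ^ 3) = 2 := by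
    rw [orderOf_pow_of_dvd (by norm_num) (by rw [hg]; norm_num), hg]
  have hcW := centralizes_of_six W hWn hW4 (hext W hW hW4) (g ^ 2) (g ^ 3) hoc hot
    (by rw [← pow_add, ← pow_add])
  obtain ⟨c, hc⟩ : ∃ c, c = g ^ 2 := ⟨_, rfl⟩
  rw [← hc] at hoc hcW
  -- a Sylow 3-subgroup containing `d`
  obtain ⟨D, hdD⟩ := hd.exists_le_sylow
  have hcp : IsPGroup 3 (Subgroup.zpowers c) :=
    IsPGroup.of_card (n := 1) (by rw [Nat.card_zpowers, hoc, pow_one])
  obtain ⟨D', hcD'⟩ := hcp.exists_le_sylow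
  obtain ⟨u, hu⟩ := MulAction.exists_smul_eq G D' D
  have hc'D : u * c * u⁻¹ ∈ (D : Subgroup G) := by
    rw [← hu, Sylow.coe_subgroup_smul]
    exact Subgroup.smul_mem_pointwise_smul c (MulAut.conj u) D' (hcD' (Subgroup.mem_zpowers c))
  have hcentn : ∀ (k b : G), (∀ w ∈ W, b * w = w * b) → ∀ w ∈ W, (k * b * k⁻¹) * w = w * (k * b * k⁻¹) := by
    intro k b hb w hw
    have hw' := hWn.conj_mem w hw k⁻¹
    have e := hb _ hw'
    calc (k * b * k⁻¹) * w = k * (b * (k⁻¹ * w * k⁻¹⁻¹)) * k⁻¹ := by group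
      _ = w * (k * b * k⁻¹) := by rw [e]; group
  have hmemC : ∀ b : G, b ∈ Subgroup.centralizer (W : Set G) ↔ ∀ w ∈ W, b * w = w * b := by
    intro b
    rw [Subgroup.mem_centralizer_iff]
    exact ⟨fun h w hw => (h w hw).symm, fun h w hw => (h w hw).symm⟩
  obtain ⟨a, haN, hoa, hac⟩ := Cfsg.Agent.Lib.Helper48.exists_central_orderOf_eq_of_normal
    (p := 3) (S := (D : Subgroup G)) (W := (D : Subgroup G) ⊓ Subgroup.centralizer (W : Set G))
    D.isPGroup' inf_le_left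
    (Cfsg.Agent.Lib.Helper32.le_normalizer_of_conj_mem (fun k hk b hb => by
      rw [Subgroup.mem_inf, hmemC] at hb ⊢
      exact ⟨mul_mem (mul_mem hk hb.1) (inv_mem hk), hcentn k b hb.2⟩))
    (by
      intro h
      have : u * c * u⁻¹ ∈ (D : Subgroup G) ⊓ Subgroup.centralizer (W : Set G) := by
        rw [Subgroup.mem_inf, hmemC]
        exact ⟨hc'D, hcentn u c hcW⟩
      rw [h, Subgroup.mem_bot, conj_eq_one_iff] at this
      rw [this, orderOf_one] at hoc
      omega)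
  rw [Subgroup.mem_inf, hmemC] at haN
  have hda : d * a = a * d := hac d (hdD (Subgroup.mem_zpowers d))
  have hfin := core Q W (Subgroup.centralizer {a}) d a hQp hW4 hWQ
    (Subgroup.mem_centralizer_singleton_iff.mpr hda)
    (Subgroup.mem_centralizer_singleton_iff.mpr rfl)
    (fun s hs => Subgroup.mem_centralizer_singleton_iff.mp hs) hoa hfpf' haN.2 hW.2 hWc hinv
    (Cfsg.Agent.Lib.Helper32.le_normalizer_of_conj_mem (fun k _ b hb => hQn.conj_mem b hb k))
    (Cfsg.Agent.Lib.Helper32.le_normalizer_of_conj_mem (fun k _ b hb => hWn.conj_mem b hb k))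
  have haQ : a ∈ Q := hchar (by
    rw [Subgroup.mem_centralizer_iff]
    intro x hx
    exact (hfin x hx).symm)
  obtain ⟨k, hk⟩ := hQp ⟨a, haQ⟩
  have hk' : a ^ 2 ^ k = 1 := congrArg Subtype.val hk
  have h3 : 3 ∣ 2 ^ k := hoa ▸ orderOf_dvd_of_pow_eq_one hk'
  have := Nat.Prime.dvd_of_dvd_pow Nat.prime_three h3
  omega

end Cfsg.Agent.S3739
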