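import Cfsg.Statements.S3763
import Cfsg.Agent.Lib.Helper90.ESClass6

set_option autoImplicit false
open Cfsg

namespace Cfsg.Agent.S3763

open Cfsg.Agent.Lib.Helper90

theorem not_pRankLE_of {E : Type*} [Group E] {k l : ℕ} (hkl : k < l)
    (h : ∃ A : Subgroup E, Cfsg.IsElementaryAbelian 2 A ∧ Nat.card A = 2 ^ l) :
    ¬ Cfsg.PRankLE 2 k E := by
  obtain ⟨A, hA, hc⟩ := h
  intro hk
  have h1 := hk A hA.1 hA.2
  rw [hc] at h1
  have := Nat.pow_lt_pow_right (a := 2) (by norm_num) hkl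
  omega

/-- Let E be an extraspecial 2-group of order 2^(2n+1). Then the largest elementary abelian subgroups of E have order 2^n or 2^(n+1); and two extraspecial 2-groups of the same order whose largest elementary abelian subgroups have the same order are isomorphic. -/
theorem result {E : Type*} [Group E] [Finite E] (hE : Cfsg.IsExtraspecial 2 E) (n : ℕ) (hn : Nat.card E = 2 ^ (2 * n + 1)) : ((Cfsg.PRankLE 2 n E ∧ ¬ Cfsg.PRankLE 2 (n - 1) E) ∨ (Cfsg.PRankLE 2 (n + 1) E ∧ ¬ Cfsg.PRankLE 2 n E)) ∧ ∀ (E' : Type*) [Group E'] [Finite E'], Cfsg.IsExtraspecial 2 E' → Nat.card E' = Nat.card E → (∀ k : ℕ, Cfsg.PRankLE 2 k E ↔ Cfsg.PRankLE 2 k E') → Nonempty (E ≃* E') := by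
  refine ⟨?_, ?_⟩
  · rcases rank_of_isExtraspecial hE n hn with ⟨-, h2, h3⟩ | ⟨h0, -, h2, h3⟩
    · right
      exact ⟨h2, not_pRankLE_of (Nat.lt_succ_self n) h3⟩
    · left
      exact ⟨h2, not_pRankLE_of (by omega) h3⟩
  · intro E' _ _ hE' hcard hk
    apply nonempty_mulEquiv_of_isExtraspecial hE hE' hcard.symm
    rcases rank_of_isExtraspecial hE n hn with ⟨h1, h2, h3⟩ | ⟨h0, h1, h2, h3⟩ <;>
    rcases rank_of_isExtraspecial hE' n (hcard.trans hn) with ⟨h1', h2', h3'⟩ | ⟨h0', h1', h2', h3'⟩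
    · rw [h1, h1']
    · exact absurd ((hk n).2 h2') (not_pRankLE_of (Nat.lt_succ_self n) h3)
    · exact absurd ((hk n).1 h2) (not_pRankLE_of (Nat.lt_succ_self n) h3')
    · omega

end Cfsg.Agent.S3763
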