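import Cfsg.Statements.S3807
import Cfsg.Agent.Lib.Helper63.AbIndexP

set_option autoImplicit false
open Cfsg

namespace Cfsg.Agent.S3807

open Cfsg.Agent.Lib.Helper63

theorem normal_of_index_eq_prime {S : Type*} [Group S] [Finite S] (p : ℕ) [Fact p.Prime] (hS : IsPGroup p S)
    (Q : Subgroup S) (hQi : Q.index = p) : Q.Normal := by
  have hp : p.Prime := Fact.out
  obtain ⟨n, hn⟩ := (IsPGroup.iff_card (p := p)).mp hS
  apply Subgroup.normal_of_index_eq_minFac_card
  have hn0 : n ≠ 0 := by
    rintro rfl
    have h1 : Q.index ∣ Nat.card S := Q.index_dvd_card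
    rw [hn, hQi, pow_zero] at h1
    exact hp.one_lt.ne' (Nat.dvd_one.mp h1)
  rw [hQi, hn, hp.pow_minFac hn0]

theorem result {S : Type*} [Group S] [Finite S] (p : ℕ) [Fact p.Prime] (hS : IsPGroup p S) (hna : ¬ IsMulCommutative S)
    (A : Subgroup S) (hA : IsMulCommutative ↥A) (hAi : A.index = p) :
    (Subgroup.center S).index = p * Nat.card (commutator S) ∧
      ((Nat.card (commutator S) = p ∧ Cfsg.IsElementaryAbelian p (⊤ : Subgroup (S ⧸ Subgroup.center S)) ∧
          Nat.card (S ⧸ Subgroup.center S) = p ^ 2 ∧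
          Nat.card {B : Subgroup S // IsMulCommutative ↥B ∧ B.index = p} = p + 1) ∨
        (p ^ 2 ≤ Nat.card (commutator S) ∧ ∀ B : Subgroup S, IsMulCommutative ↥B → B.index = p → B = A)) := by
  have hp : p.Prime := Fact.out
  have hna' : ¬ ∀ a b : S, a * b = b * a := fun h => hna (isMulCommutative_top_iff.mpr h)
  have hAc := (isMulComm_subgroup_iff A).mp hA
  have hAn : A.Normal := normal_of_index_eq_prime p hS A hAi
  have h1 := index_center_eq hp hna' hAc hAi
  refine ⟨h1, ?_⟩
  obtain ⟨k, hk⟩ := (hS.to_subgroup (commutator S)).exists_card_eq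
  have hk0 : k ≠ 0 := by
    rintro rfl
    rw [pow_zero, Subgroup.card_eq_one, commutator_eq_bot_iff_center_eq_top] at hk
    apply hna'
    intro a b
    have : b ∈ Subgroup.center S := by rw [hk]; trivial
    exact Subgroup.mem_center_iff.mp this a
  by_cases hk1 : k = 1
  · left
    rw [hk1, pow_one] at hk
    rw [hk, ← pow_two] at h1
    have hcard : Nat.card (S ⧸ Subgroup.center S) = p ^ 2 := by
      rw [← Subgroup.index_eq_card, h1]
    refine ⟨hk, ⟨?_, ?_⟩, hcard, card_abelian_index hp h1⟩
    · rw [isMulComm_subgroup_iff]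
      intro a _ b _
      exact IsPGroup.commutative_of_card_eq_prime_sq hcard a b
    · intro a _
      have hnc : ¬ IsCyclic (S ⧸ Subgroup.center S) := by
        intro hc
        exact hna (isMulCommutative_of_isCyclic_quotient_center_self S)
      rw [not_isCyclic_iff_exponent_eq_prime hp hcard] at hnc
      rw [← hnc]
      exact Monoid.pow_exponent_eq_one a
  · right
    have hk2 : 2 ≤ k := by omega
    refine ⟨by rw [hk]; exact Nat.pow_le_pow_right hp.pos hk2, ?_⟩
    intro B hB hBi
    by_contra hne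
    have h2 := (index_center_le_of_two hp hAc hAi ((isMulComm_subgroup_iff B).mp hB) hBi hne).2
    rw [h1, hk] at h2
    have h3 : p * p ^ 2 ≤ p * p ^ k := Nat.mul_le_mul_left _ (Nat.pow_le_pow_right hp.pos hk2)
    have h4 : p ^ 2 < p * p ^ 2 := by
      have := hp.one_lt
      have h5 : 0 < p ^ 2 := by positivity
      nlinarith
    omega

end Cfsg.Agent.S3807
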