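import Cfsg.Statements.S3808

set_option autoImplicit false
open Cfsg

namespace Cfsg.Agent.S3808

theorem normal_of_index_eq_prime {S : Type*} [Group S] [Finite S] (p : ℕ) [Fact p.Prime] (hS : IsPGroup p S)
    (Q : Subgroup S) (hQi : Q.index = p) : Q.Normal := by
  have hp : p.Prime := Fact.out
  obtain ⟨n, hn⟩ := (IsPGroup.iff_card (p := p)).mp hS
  apply Subgroup.normal_of_index_eq_minFac_card
  have hn0 : n ≠ 0 := by
    rintro rfl
    have h1 : Q.index ∣ Nat.card S := Q.index_dvd_card
    rw [hn, hQi, pow_zero] at h1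
    exact hp.one_lt.ne' (Nat.dvd_one.mp h1)
  rw [hQi, hn, hp.pow_minFac hn0]

/-- Let S be a finite p-group with an extraspecial subgroup Q of index p. Then either Z(S) = Z(Q), or S = Q·Z(S) and Z(S) has order p². -/
theorem result {S : Type*} [Group S] [Finite S] (p : ℕ) [Fact p.Prime] (hS : IsPGroup p S) (Q : Subgroup S) (hQ : Cfsg.IsExtraspecial p ↥Q) (hQi : Q.index = p) :
    Subgroup.center S = (Subgroup.center ↥Q).map Q.subtype ∨
      (Q ⊔ Subgroup.center S = ⊤ ∧ Nat.card (Subgroup.center S) = p ^ 2) := by
  have hp : p.Prime := Fact.out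
  have hQn : Q.Normal := normal_of_index_eq_prime p hS Q hQi
  have hZQcard : Nat.card ((Subgroup.center ↥Q).map Q.subtype) = p := by
    rw [Subgroup.card_map_of_injective Q.subtype_injective]; exact hQ.2
  -- `Z(S) ∩ Q ≤ Z(Q)`
  have hinf : Subgroup.center S ⊓ Q ≤ (Subgroup.center ↥Q).map Q.subtype := by
    intro z hz
    obtain ⟨hz1, hz2⟩ := Subgroup.mem_inf.mp hz
    refine ⟨⟨z, hz2⟩, ?_, rfl⟩
    rw [SetLike.mem_coe, Subgroup.mem_center_iff]
    intro g
    apply Subtype.ext
    exact Subgroup.mem_center_iff.mp hz1 g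
  by_cases hcase : Subgroup.center S ≤ Q
  · left
    have hle : Subgroup.center S ≤ (Subgroup.center ↥Q).map Q.subtype := by
      have : Subgroup.center S ⊓ Q = Subgroup.center S := inf_eq_left.mpr hcase
      rw [← this]; exact hinf
    have hnt : Nontrivial S := by
      by_contra h
      rw [not_nontrivial_iff_subsingleton] at h
      have : Nat.card (Subgroup.center ↥Q) = 1 := Nat.card_unique
      rw [hQ.2] at this
      exact hp.one_lt.ne' this
    have hne : Subgroup.center S ≠ ⊥ := (hS.bot_lt_center).ne'
    have hdvd : Nat.card (Subgroup.center S) ∣ p := by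
      rw [← hZQcard]; exact Subgroup.card_dvd_of_le hle
    rcases (Nat.dvd_prime hp).mp hdvd with h1 | h1
    · exact absurd (Subgroup.card_eq_one.mp h1) hne
    · exact Subgroup.eq_of_le_of_card_ge hle (by rw [hZQcard, h1])
  · right
    have htop : Q ⊔ Subgroup.center S = ⊤ := by
      by_contra hne
      have h1 : (Q ⊔ Subgroup.center S).index ∣ p := by
        rw [← hQi]; exact Subgroup.index_dvd_of_le le_sup_left
      rcases (Nat.dvd_prime hp).mp h1 with h2 | h2
      · exact hne (Subgroup.index_eq_one.mp h2)
      · have h3 := Subgroup.relIndex_mul_index (le_sup_left : Q ≤ Q ⊔ Subgroup.center S)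
        rw [h2, hQi] at h3
        have h4 : Q.relIndex (Q ⊔ Subgroup.center S) = 1 := by
          have hp0 : 0 < p := hp.pos
          exact Nat.eq_of_mul_eq_mul_right hp0 (by rw [h3, one_mul])
        rw [Subgroup.relIndex_eq_one] at h4
        exact hcase (le_sup_right.trans h4)
    refine ⟨htop, ?_⟩
    have heq : Subgroup.center S ⊓ Q = (Subgroup.center ↥Q).map Q.subtype := by
      apply le_antisymm hinf
      rintro _ ⟨z, hz, rfl⟩
      refine Subgroup.mem_inf.mpr ⟨?_, z.2⟩
      have hcent : Q ⊔ Subgroup.center S ≤ Subgroup.centralizer {(z : S)} := by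
        apply sup_le
        · intro g hg
          rw [Subgroup.mem_centralizer_singleton_iff]
          have := Subgroup.mem_center_iff.mp hz ⟨g, hg⟩
          exact congrArg Subtype.val this
        · intro g hg
          rw [Subgroup.mem_centralizer_singleton_iff]
          exact (Subgroup.mem_center_iff.mp hg _).symm
      rw [htop] at hcent
      rw [Subgroup.mem_center_iff]
      intro g
      have := hcent (Subgroup.mem_top g)
      rw [Subgroup.mem_centralizer_singleton_iff] at this
      exact this
    have h1 : Q.relIndex (Subgroup.center S) = p := by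
      rw [← Subgroup.relIndex_sup_left, htop, Subgroup.relIndex_top_right, hQi]
    have h2 := Subgroup.relIndex_mul_relIndex ⊥ (Subgroup.center S ⊓ Q) (Subgroup.center S) bot_le inf_le_left
    rw [Subgroup.relIndex_bot_left, Subgroup.relIndex_bot_left, Subgroup.inf_relIndex_left, h1, heq, hZQcard] at h2
    rw [← h2, sq]

end Cfsg.Agent.S3808
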