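import Cfsg.Statements.S3809
import Cfsg.Agent.Lib.Helper63.ClassTwo

set_option autoImplicit false
open Cfsg
open Cfsg.Agent.Lib.Helper63

namespace Cfsg.Agent.S3809

theorem normal_of_index_eq_prime {S : Type*} [Group S] [Finite S] (p : ℕ) [Fact p.Prime] (hS : IsPGroup p S)
    (Q : Subgroup S) (hQi : Q.index = p) : Q.Normal := by
  have hp : p.Prime := Fact.out
  obtain ⟨n, hn⟩ := (IsPGroup.iff_card (p := p)).mp hS
  apply Subgroup.normal_of_index_eq_minFac_card
  have hn0 : n ≠ 0 := by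
    rintro rfl
    have h1 : Q.index ∣ Nat.card S := Q.index_dvd_card
    rw [hn, hQi, pow_zero] at h1
    exact hp.one_lt.ne' (Nat.dvd_one.mp h1)
  rw [hQi, hn, hp.pow_minFac hn0]

/-- in an extraspecial group `p`-th powers are central -/
theorem pow_mem_center {Q : Type*} [Group Q] {p : ℕ} (hQ : Cfsg.IsExtraspecial p Q) (y : Q) :
    y ^ p ∈ Subgroup.center Q := by
  have hZ := centralComm_of_isExtraspecial hQ
  rw [Subgroup.mem_center_iff]
  intro g
  have h1 : commHom hZ g (y ^ p) = 1 := by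
    rw [map_pow, ← hQ.2]
    exact pow_card_eq_one'
  exact ((commHom_eq_one_iff hZ g (y ^ p)).mp h1).symm

/-- Let S be a finite p-group with an extraspecial subgroup of index p. Then S has order p^(2+2n) for some n ≥ 1, derived length at most 3, and exponent dividing p³. -/
theorem result {S : Type*} [Group S] [Finite S] (p : ℕ) [Fact p.Prime] (hS : IsPGroup p S) (Q : Subgroup S) (hQ : Cfsg.IsExtraspecial p ↥Q) (hQi : Q.index = p) :
    (∃ n : ℕ, 1 ≤ n ∧ Nat.card S = p ^ (2 + 2 * n)) ∧ derivedSeries S 3 = ⊥ ∧ ∀ x : S, x ^ (p ^ 3) = 1 := by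
  have hQn : Q.Normal := normal_of_index_eq_prime p hS Q hQi
  refine ⟨?_, ?_, ?_⟩
  · obtain ⟨n, hn1, hn⟩ := card_of_isExtraspecial hQ
    refine ⟨n, hn1, ?_⟩
    rw [← Q.card_mul_index, hn, hQi]
    ring
  · -- derived series
    have hquot : Nat.card (S ⧸ Q) = p := by rw [← Subgroup.index_eq_card, hQi]
    have h1 : derivedSeries S 1 ≤ Q := by
      rw [derivedSeries_succ, derivedSeries_zero, ← commutator_def]
      have hc : IsCyclic (S ⧸ Q) := isCyclic_of_prime_card hquot
      have hcomm : IsMulCommutative (S ⧸ Q) := hc.isMulCommutative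
      exact Subgroup.Normal.quotient_commutative_iff_commutator_le.mp hcomm
    have h2 : derivedSeries S 2 ≤ (Subgroup.center ↥Q).map Q.subtype := by
      rw [derivedSeries_succ]
      refine (Subgroup.commutator_mono h1 h1).trans ?_
      rw [Subgroup.commutator_le]
      intro a ha b hb
      have hZ := centralComm_of_isExtraspecial hQ
      refine ⟨⟨a, ha⟩ * ⟨b, hb⟩ * ⟨a, ha⟩⁻¹ * ⟨b, hb⟩⁻¹, hZ.comm _ _, ?_⟩
      simp [commutatorElement_def]
    rw [derivedSeries_succ, eq_bot_iff]
    refine (Subgroup.commutator_mono h2 h2).trans ?_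
    rw [Subgroup.commutator_le]
    rintro _ ⟨a, ha, rfl⟩ _ ⟨b, _, rfl⟩
    rw [Subgroup.mem_bot, commutatorElement_eq_one_iff_mul_comm]
    have := Subgroup.mem_center_iff.mp ha b
    exact (congrArg Subtype.val this).symm
  · intro x
    have h1 : x ^ p ∈ Q := by
      have hquot : Nat.card (S ⧸ Q) = p := by rw [← Subgroup.index_eq_card, hQi]
      rw [← QuotientGroup.eq_one_iff, QuotientGroup.mk_pow, ← hquot]
      exact pow_card_eq_one'
    have h2 := pow_mem_center hQ ⟨x ^ p, h1⟩
    have h3 : (⟨(⟨x ^ p, h1⟩ : Q) ^ p, h2⟩ : Subgroup.center ↥Q) ^ p = 1 := by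
      have := pow_card_eq_one' (x := (⟨(⟨x ^ p, h1⟩ : Q) ^ p, h2⟩ : Subgroup.center ↥Q))
      rwa [hQ.2] at this
    have h4 := congrArg (fun z : Subgroup.center ↥Q => ((z : Q) : S)) h3
    simp only [Subgroup.coe_pow, Subgroup.coe_one] at h4
    rw [show p ^ 3 = p * p * p by ring, pow_mul, pow_mul]
    exact h4

end Cfsg.Agent.S3809
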