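import Cfsg.Statements.S3810
import Cfsg.Agent.Lib.Helper63.ClassTwo
import Cfsg.Agent.Lib.Helper53.PGroup

set_option autoImplicit false
open Cfsg
open Cfsg.Agent.Lib.Helper63

namespace Cfsg.Agent.S3810

theorem normal_of_index_eq_prime {S : Type*} [Group S] [Finite S] (p : ℕ) [Fact p.Prime] (hS : IsPGroup p S)
    (Q : Subgroup S) (hQi : Q.index = p) : Q.Normal := by
  have hp : p.Prime := Fact.out
  obtain ⟨n, hn⟩ := (IsPGroup.iff_card (p := p)).mp hS
  apply Subgroup.normal_of_index_eq_minFac_card
  have hn0 : n ≠ 0 := by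
    rintro rfl
    have h1 : Q.index ∣ Nat.card S := Q.index_dvd_card
    rw [hn, hQi, pow_zero] at h1
    exact hp.one_lt.ne' (Nat.dvd_one.mp h1)
  rw [hQi, hn, hp.pow_minFac hn0]

/-- an extraspecial group with an abelian subgroup of index `p` has order at most `p ^ 3`. -/
theorem card_le_of_abelian_index {Q : Type*} [Group Q] [Finite Q] {p : ℕ} [Fact p.Prime]
    (hQ : Cfsg.IsExtraspecial p Q) (B : Subgroup Q) (hB : ∀ a ∈ B, ∀ b ∈ B, a * b = b * a)
    (hcard : Nat.card Q = p * Nat.card B) : Nat.card Q ≤ p ^ 3 := by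
  have hp : p.Prime := Fact.out
  have hZ := centralComm_of_isExtraspecial hQ
  obtain ⟨n, hn1, hn⟩ := card_of_isExtraspecial hQ
  have hBpos : 0 < Nat.card B := Nat.card_pos
  have hBtop : B ≠ ⊤ := by
    intro h
    rw [h, Subgroup.card_top] at hcard
    have : 2 ≤ p := hp.two_le
    have hpos : 0 < Nat.card Q := Nat.card_pos
    nlinarith
  obtain ⟨x, hx⟩ : ∃ x : Q, x ∉ B := by
    by_contra h
    push Not at h
    exact hBtop (eq_top_iff.mpr fun y _ => h y)
  -- noncentral elements of `B` have centralizer `B`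
  have hM : ∀ c ∈ B, c ∉ Subgroup.center Q → Subgroup.centralizer {c} = B := by
    intro c hc hcc
    have h1 : ∃ g ∈ (⊤ : Subgroup Q), g * c ≠ c * g := by
      by_contra h
      push Not at h
      apply hcc
      rw [Subgroup.mem_center_iff]
      intro g
      exact h g (Subgroup.mem_top g)
    have h2 := card_eq_prime_mul_card_centralizer hZ hQ.2 ⊤ c h1
    rw [top_inf_eq, Subgroup.card_top, hcard] at h2
    have h3 : Nat.card B = Nat.card (Subgroup.centralizer {c}) := Nat.eq_of_mul_eq_mul_left hp.pos h2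
    symm
    apply Subgroup.eq_of_le_of_card_ge
    · intro b hb
      rw [Subgroup.mem_centralizer_singleton_iff]
      exact hB b hb c hc
    · exact h3.ge
  have hle : B ⊓ Subgroup.centralizer {x} ≤ Subgroup.center Q := by
    intro c hc
    obtain ⟨hcB, hcx⟩ := Subgroup.mem_inf.mp hc
    by_contra hcc
    have h1 := hM c hcB hcc
    apply hx
    rw [← h1, Subgroup.mem_centralizer_singleton_iff]
    exact (Subgroup.mem_centralizer_singleton_iff.mp hcx).symm
  have hle' : Nat.card ↥(B ⊓ Subgroup.centralizer {x}) ≤ p := by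
    rw [← hQ.2]; exact Subgroup.card_le_of_le hle
  by_cases hall : ∃ g ∈ B, g * x ≠ x * g
  · have h2 := card_eq_prime_mul_card_centralizer hZ hQ.2 B x hall
    rw [hcard, h2]
    calc p * (p * Nat.card ↥(B ⊓ Subgroup.centralizer {x})) ≤ p * (p * p) := by gcongr
      _ = p ^ 3 := by ring
  · push Not at hall
    have h1 : B ⊓ Subgroup.centralizer {x} = B := by
      apply inf_eq_left.mpr
      intro b hb
      rw [Subgroup.mem_centralizer_singleton_iff]
      exact hall b hb
    rw [h1] at hle'
    rw [hcard]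
    calc p * Nat.card B ≤ p * p := by gcongr
      _ ≤ p ^ 3 := by
        have : 1 ≤ p := hp.one_le
        calc p * p = p * p * 1 := by ring
          _ ≤ p * p * p := by gcongr
          _ = p ^ 3 := by ring

theorem mul_card_le_of_lt {S : Type*} [Group S] [Finite S] {p : ℕ} [Fact p.Prime] (hS : IsPGroup p S)
    {H K : Subgroup S} (h : H < K) : p * Nat.card H ≤ Nat.card K := by
  have hp : p.Prime := Fact.out
  obtain ⟨k, hk⟩ := (hS.to_subgroup K).index (H.subgroupOf K)
  have h1 : H.relIndex K = p ^ k := hk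
  have h2 := Subgroup.relIndex_mul_relIndex ⊥ H K bot_le h.le
  rw [Subgroup.relIndex_bot_left, Subgroup.relIndex_bot_left, h1] at h2
  have hk0 : k ≠ 0 := by
    rintro rfl
    rw [pow_zero] at h1
    exact (not_le_of_gt h) (Subgroup.relIndex_eq_one.mp h1)
  rw [← h2, mul_comm]
  have : p ≤ p ^ k := Nat.le_self_pow hk0 p
  gcongr

/-- `g ↦ [g, y]` as a homomorphism when all these commutators lie in a central subgroup. -/
def commHom' {P : Type*} [Group P] {Z : Subgroup P} (hZ : Z ≤ Subgroup.center P) (y : P)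
    (hy : ∀ g : P, g * y * g⁻¹ * y⁻¹ ∈ Z) : P →* Z where
  toFun g := ⟨g * y * g⁻¹ * y⁻¹, hy g⟩
  map_one' := by
    apply Subtype.ext
    simp
  map_mul' := by
    intro g h
    apply Subtype.ext
    have hc : h * y * h⁻¹ * y⁻¹ ∈ Subgroup.center P := hZ (hy h)
    have h1 := Subgroup.mem_center_iff.mp hc g
    show g * h * y * (g * h)⁻¹ * y⁻¹ = (g * y * g⁻¹ * y⁻¹) * (h * y * h⁻¹ * y⁻¹)
    have h2 := Subgroup.mem_center_iff.mp hc (g * y * g⁻¹ * y⁻¹)
    rw [h2]
    calc g * h * y * (g * h)⁻¹ * y⁻¹ = (g * (h * y * h⁻¹ * y⁻¹)) * y * g⁻¹ * y⁻¹ := by group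
      _ = ((h * y * h⁻¹ * y⁻¹) * g) * y * g⁻¹ * y⁻¹ := by rw [h1]
      _ = (h * y * h⁻¹ * y⁻¹) * (g * y * g⁻¹ * y⁻¹) := by group

theorem commHom'_ker {P : Type*} [Group P] {Z : Subgroup P} (hZ : Z ≤ Subgroup.center P) (y : P)
    (hy : ∀ g : P, g * y * g⁻¹ * y⁻¹ ∈ Z) : (commHom' hZ y hy).ker = Subgroup.centralizer {y} := by
  ext g
  rw [MonoidHom.mem_ker, Subgroup.mem_centralizer_singleton_iff, Subtype.ext_iff]
  show g * y * g⁻¹ * y⁻¹ = 1 ↔ _
  constructor
  · intro h
    have h1 : g * y * g⁻¹ = y := mul_inv_eq_one.mp h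
    exact mul_inv_eq_iff_eq_mul.mp h1
  · intro h
    rw [h]; simp

/-- Let S be a finite p-group with an extraspecial subgroup of index p. Then S has an abelian subgroup of index p if and only if S has order p⁴. -/
theorem result {S : Type*} [Group S] [Finite S] (p : ℕ) [Fact p.Prime] (hS : IsPGroup p S) (Q : Subgroup S) (hQ : Cfsg.IsExtraspecial p ↥Q) (hQi : Q.index = p) :
    (∃ A : Subgroup S, IsMulCommutative ↥A ∧ A.index = p) ↔ Nat.card S = p ^ 4 := by
  have hp : p.Prime := Fact.out
  have hQn : Q.Normal := normal_of_index_eq_prime p hS Q hQi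
  obtain ⟨n, hn1, hn⟩ := card_of_isExtraspecial hQ
  have hScard : Nat.card S = Nat.card Q * p := by rw [← Q.card_mul_index, hQi]
  have hZ := centralComm_of_isExtraspecial hQ
  -- `Q` is not abelian
  have hQna : ∃ a b : Q, a * b ≠ b * a := by
    by_contra h
    push Not at h
    have htop : Subgroup.center ↥Q = ⊤ := by
      rw [eq_top_iff]
      intro a _
      rw [Subgroup.mem_center_iff]
      intro g
      exact h g a
    have := hQ.2
    rw [htop, Subgroup.card_top, hn] at this
    have h2 : p ^ (2 * n + 1) = p ^ 1 := by rw [this, pow_one]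
    have := Nat.pow_right_injective hp.two_le h2
    omega
  constructor
  · rintro ⟨A, hA, hAi⟩
    have hAn : A.Normal := normal_of_index_eq_prime p hS A hAi
    have h1 : A.relIndex Q ∣ p := hAi ▸ Subgroup.relIndex_dvd_index_of_normal A Q
    have h2 : A.relIndex Q = p := by
      rcases (Nat.dvd_prime hp).mp h1 with h | h
      · exfalso
        have hQA : Q ≤ A := Subgroup.relIndex_eq_one.mp h
        obtain ⟨a, b, hab⟩ := hQna
        apply hab
        have := mul_comm' (⟨a, hQA a.2⟩ : A) ⟨b, hQA b.2⟩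
        apply Subtype.ext
        exact congrArg (fun t : A => (t : S)) this
      · exact h
    have h3 : Nat.card Q = p * Nat.card (A.subgroupOf Q) := by
      rw [← (A.subgroupOf Q).index_mul_card]
      congr 1
    have h4 : Nat.card Q ≤ p ^ 3 := by
      apply card_le_of_abelian_index hQ (A.subgroupOf Q) _ h3
      intro a ha b hb
      have := mul_comm' (⟨a, Subgroup.mem_subgroupOf.mp ha⟩ : A) ⟨b, Subgroup.mem_subgroupOf.mp hb⟩
      apply Subtype.ext
      exact congrArg (fun t : A => (t : S)) this
    rw [hn] at h4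
    have h5 : 2 * n + 1 ≤ 3 := (Nat.pow_le_pow_iff_right hp.one_lt).mp h4
    have h6 : n = 1 := by omega
    rw [hScard, hn, h6]
    ring
  · intro hS4
    have hQ3 : Nat.card Q = p ^ 3 := by
      rw [hScard] at hS4
      have : Nat.card Q * p = p ^ 3 * p := by rw [hS4]; ring
      exact Nat.eq_of_mul_eq_mul_right hp.pos this
    set Z : Subgroup S := (Subgroup.center ↥Q).map Q.subtype with hZdef
    have hZcard : Nat.card Z = p := by
      rw [hZdef, Subgroup.card_map_of_injective Q.subtype_injective]; exact hQ.2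
    have hZn : Z.Normal := ConjAct.normal_of_characteristic_of_normal
    have hZQ : Z ≤ Q := Subgroup.map_subtype_le _
    have hZne : Z ≠ ⊥ := by
      intro h
      rw [h, Subgroup.card_bot] at hZcard
      exact hp.one_lt.ne hZcard
    have hZc : Z ≤ Subgroup.center S := by
      obtain ⟨z, hz, hzc, hz1⟩ := Cfsg.Agent.Lib.Helper53.exists_mem_center_of_normal hS Z hZne
      have h1 : Subgroup.zpowers (⟨z, hz⟩ : Z) = ⊤ :=
        zpowers_eq_top_of_prime_card hZcard (fun h => hz1 (congrArg Subtype.val h))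
      intro w hw
      obtain ⟨k, hk⟩ : (⟨w, hw⟩ : Z) ∈ Subgroup.zpowers (⟨z, hz⟩ : Z) := h1 ▸ Subgroup.mem_top _
      have hk' : z ^ k = w := congrArg Subtype.val hk
      rw [← hk']
      exact Subgroup.zpow_mem _ hzc k
    -- a noncentral element of `Q` which is central modulo `Z`
    have hQbar : Q.map (QuotientGroup.mk' Z) ≠ ⊥ := by
      intro h
      rw [Subgroup.map_eq_bot_iff, QuotientGroup.ker_mk'] at h
      have := Subgroup.card_le_of_le h
      rw [hQ3, hZcard] at this
      have h2 : p ^ 3 ≤ p ^ 1 := by rwa [pow_one]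
      have := (Nat.pow_le_pow_iff_right hp.one_lt).mp h2
      omega
    have hQbarn : (Q.map (QuotientGroup.mk' Z)).Normal :=
      Subgroup.Normal.map hQn _ (QuotientGroup.mk'_surjective Z)
    obtain ⟨nbar, hnQ, hnc, hn1'⟩ := Cfsg.Agent.Lib.Helper53.exists_mem_center_of_normal
      (hS.to_quotient Z) (Q.map (QuotientGroup.mk' Z)) hQbar
    obtain ⟨y, hyQ, rfl⟩ := hnQ
    have hyZ : y ∉ Z := fun h => hn1' ((QuotientGroup.eq_one_iff y).mpr h)
    have hy : ∀ g : S, g * y * g⁻¹ * y⁻¹ ∈ Z := by
      intro g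
      rw [← QuotientGroup.eq_one_iff, ← QuotientGroup.mk'_apply]
      simp only [map_mul, map_inv]
      rw [Subgroup.mem_center_iff.mp hnc (QuotientGroup.mk' Z g)]
      simp
    set A : Subgroup S := Subgroup.centralizer {y} with hA
    have hAi : A.index = p := by
      rw [hA, ← commHom'_ker hZc y hy, Subgroup.index_ker]
      have : Fact (Nat.card Z).Prime := ⟨by rw [hZcard]; exact hp⟩
      rcases Subgroup.eq_bot_or_eq_top_of_prime_card (commHom' hZc y hy).range with h | h
      · exfalso
        apply hyZ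
        refine ⟨⟨y, hyQ⟩, ?_, rfl⟩
        rw [SetLike.mem_coe, Subgroup.mem_center_iff]
        intro g
        have h1 : (g : S) ∈ (commHom' hZc y hy).ker := by
          rw [MonoidHom.mem_ker]
          have : commHom' hZc y hy g ∈ (commHom' hZc y hy).range := ⟨g, rfl⟩
          rwa [h, Subgroup.mem_bot] at this
        rw [commHom'_ker, Subgroup.mem_centralizer_singleton_iff] at h1
        exact Subtype.ext h1
      · rw [h, Subgroup.card_top, hZcard]
    have hAcard : Nat.card A = p ^ 3 := by
      have := A.card_mul_index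
      rw [hAi, hS4] at this
      have h2 : Nat.card A * p = p ^ 3 * p := by rw [this]; ring
      exact Nat.eq_of_mul_eq_mul_right hp.pos h2
    refine ⟨A, ?_, hAi⟩
    set W : Subgroup S := Z ⊔ Subgroup.zpowers y with hW
    have hyA : y ∈ A := Subgroup.mem_centralizer_singleton_iff.mpr rfl
    have hZA : Z ≤ A := by
      intro z hz
      rw [hA, Subgroup.mem_centralizer_singleton_iff]
      exact (Subgroup.mem_center_iff.mp (hZc hz) y).symm
    have hWA : W ≤ A := sup_le hZA (by rw [Subgroup.zpowers_le]; exact hyA)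
    have hWcard : p * p ≤ Nat.card W := by
      have h1 : Z < W := by
        refine lt_of_le_of_ne le_sup_left ?_
        intro h
        apply hyZ
        rw [h]
        exact (le_sup_right : Subgroup.zpowers y ≤ W) (Subgroup.mem_zpowers y)
      have := mul_card_le_of_lt hS h1
      rwa [hZcard] at this
    -- `W` centralizes `A`
    have hWc : ∀ a ∈ A, W ≤ Subgroup.centralizer {a} := by
      intro a ha
      apply sup_le
      · intro z hz
        rw [Subgroup.mem_centralizer_singleton_iff]
        exact (Subgroup.mem_center_iff.mp (hZc hz) a).symm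
      · rw [Subgroup.zpowers_le, Subgroup.mem_centralizer_singleton_iff]
        exact (Subgroup.mem_centralizer_singleton_iff.mp ha).symm
    have hcomm : ∀ a ∈ A, ∀ b ∈ A, a * b = b * a := by
      intro a ha b hb
      by_cases haW : a ∈ W
      · have := hWc b hb haW
        exact Subgroup.mem_centralizer_singleton_iff.mp this
      · have h1 : W < W ⊔ Subgroup.zpowers a := by
          refine lt_of_le_of_ne le_sup_left ?_
          intro h
          apply haW
          rw [h]
          exact (le_sup_right : Subgroup.zpowers a ≤ W ⊔ Subgroup.zpowers a) (Subgroup.mem_zpowers a)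
        have h2 := mul_card_le_of_lt hS h1
        have h3 : W ⊔ Subgroup.zpowers a ≤ A := sup_le hWA (by rw [Subgroup.zpowers_le]; exact ha)
        have h4 : W ⊔ Subgroup.zpowers a = A := by
          apply Subgroup.eq_of_le_of_card_ge h3
          rw [hAcard]
          calc p ^ 3 = p * (p * p) := by ring
            _ ≤ p * Nat.card W := by gcongr
            _ ≤ _ := h2
        have h5 : W ⊔ Subgroup.zpowers a ≤ Subgroup.centralizer {a} := by
          apply sup_le (hWc a ha)
          rw [Subgroup.zpowers_le, Subgroup.mem_centralizer_singleton_iff]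
        have h6 : b ∈ Subgroup.centralizer {a} := h5 (h4 ▸ hb)
        exact (Subgroup.mem_centralizer_singleton_iff.mp h6).symm
    exact ⟨⟨fun a b => Subtype.ext (hcomm a a.2 b b.2)⟩⟩

end Cfsg.Agent.S3810
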