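import Cfsg.Statements.S3811
import Cfsg.Agent.Lib.Helper32.Soft

set_option autoImplicit false
open Cfsg

namespace Cfsg.Agent.S3811

/-- Let P be a finite p-group and E an abelian subgroup of P that contains its centralizer, has index p in its normalizer, and has index at least p² in P. Then the subgroups of P containing E are totally ordered by inclusion, each proper one has index p in its normalizer (so they form the normalizer tower of E, with all steps of index p), and the i-th member of the tower above E has nilpotency class i + 1 whenever it is a proper subgroup of P. -/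
theorem result {P : Type*} [Group P] [Finite P] (p : ℕ) [Fact p.Prime] (hP : IsPGroup p P)
    (E : Subgroup P) (hEab : IsMulCommutative ↥E) (hC : Subgroup.centralizer (E : Set P) ≤ E)
    (hN : (E.subgroupOf (Subgroup.normalizer (E : Set P))).index = p) (hidx : p ^ 2 ≤ E.index) :
    (∀ K L : Subgroup P, E ≤ K → E ≤ L → K ≤ L ∨ L ≤ K) ∧
      (∀ K : Subgroup P, E ≤ K → K ≠ ⊤ → (K.subgroupOf (Subgroup.normalizer (K : Set P))).index = p) ∧
      ∀ (i : ℕ) (K : Subgroup P) [Group.IsNilpotent ↥K], E ≤ K → K ≠ ⊤ → K.index * p ^ i = E.index →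
        Group.nilpotencyClass ↥K = i + 1 := by
  have hE : Cfsg.Agent.Lib.Helper32.Soft.IsSoft p E := by
    refine ⟨?_, hC, hN⟩
    intro a ha b hb
    have := hEab.is_comm.comm ⟨a, ha⟩ ⟨b, hb⟩
    exact congrArg Subtype.val this
  have hgood := Cfsg.Agent.Lib.Helper32.Soft.good_of_soft p hP E hE
  refine ⟨hgood.1, hgood.2, ?_⟩
  intro i K _ hEK hKt hi
  rcases Nat.eq_zero_or_pos i with h0 | h0
  · subst h0
    rw [pow_zero, mul_one] at hi
    exact Cfsg.Agent.Lib.Helper32.Soft.class_of_soft_zero p E hE K hEK hKt hi
  · exact Cfsg.Agent.Lib.Helper32.Soft.class_of_soft p hP E hE i K hEK hKt hi h0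

end Cfsg.Agent.S3811
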