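import Mathlib
import Cfsg.Statements.S3824
import Cfsg.Agent.S0143
import Cfsg.Agent.S0144
import Cfsg.Agent.Lib.Helper1.Tools
import Cfsg.Agent.Lib.Helper91.Fitting
-- import your own Cfsg.Agent.* helpers here

set_option autoImplicit false
open Cfsg

namespace Cfsg.Agent.S3824


universe u

/-- A finite group with an abelian subgroup of prime power index is solvable. -/
theorem main (p : ℕ) (hp : p.Prime) (n : ℕ) : ∀ (G : Type u) [Group G] [Finite G], Nat.card G = n →
    ∀ A : Subgroup G, (∀ a ∈ A, ∀ b ∈ A, a * b = b * a) → (∃ k : ℕ, A.index = p ^ k) →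
    Group.IsSolvable G := by
  induction n using Nat.strong_induction_on with
  | _ n ih =>
  intro G _ _ hn A hA hidx
  obtain ⟨k, hk⟩ := hidx
  by_cases hAb : A = ⊥
  · apply Cfsg.Agent.S0144.result p p k 0 hp hp
    rw [pow_zero, mul_one, ← hk, hAb, Subgroup.index_bot]
  obtain ⟨a, haA, ha1⟩ : ∃ a ∈ A, a ≠ 1 := by
    by_contra hcon
    push Not at hcon
    exact hAb ((Subgroup.eq_bot_iff_forall A).2 hcon)
  have hnt : Nontrivial G := ⟨⟨a, 1, ha1⟩⟩
  by_cases hs : ∀ H : Subgroup G, H.Normal → H = ⊥ ∨ H = ⊤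
  · have hsimple : IsSimpleGroup G := ⟨hs⟩
    have hle : A ≤ Subgroup.centralizer ({a} : Set G) := by
      intro b hb
      rw [Subgroup.mem_centralizer_singleton_iff]
      exact hA b hb a haA
    have hd : (Subgroup.centralizer ({a} : Set G)).index ∣ p ^ k := hk ▸ Subgroup.index_dvd_of_le hle
    obtain ⟨j, -, hj⟩ := (Nat.dvd_prime_pow hp).1 hd
    have hq := Cfsg.Agent.S0143.result p j hp a ha1 hj
    apply Cfsg.Agent.S0144.result _ _ 1 0 hq hq
    rw [pow_one, pow_zero, mul_one]
  · push Not at hs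
    obtain ⟨N, hN, hNb, hNt⟩ := hs
    have h1 : Group.IsSolvable N := by
      apply ih (Nat.card N) (hn ▸ Cfsg.Agent.Lib.Helper1.card_subgroup_lt_of_ne_top hNt) N rfl
        (A.subgroupOf N)
      · intro x hx y hy
        apply Subtype.ext
        exact hA x (Subgroup.mem_subgroupOf.1 hx) y (Subgroup.mem_subgroupOf.1 hy)
      · have hd : A.relIndex N ∣ A.index :=
          Cfsg.Agent.Lib.Helper91.relIndex_dvd_index_of_normal_right A N
        rw [hk] at hd
        obtain ⟨j, -, hj⟩ := (Nat.dvd_prime_pow hp).1 hd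
        exact ⟨j, hj⟩
    have h2 : Group.IsSolvable (G ⧸ N) := by
      apply ih (Nat.card (G ⧸ N)) (hn ▸ Cfsg.Agent.Lib.Helper1.card_quotient_lt_of_ne_bot hNb) (G ⧸ N) rfl
        (A.map (QuotientGroup.mk' N))
      · rintro _ ⟨x, hx, rfl⟩ _ ⟨y, hy, rfl⟩
        rw [← map_mul, ← map_mul, hA x hx y hy]
      · have hd : (A.map (QuotientGroup.mk' N)).index ∣ A.index :=
          Subgroup.index_map_dvd A (QuotientGroup.mk'_surjective N)
        rw [hk] at hd
        obtain ⟨j, -, hj⟩ := (Nat.dvd_prime_pow hp).1 hd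
        exact ⟨j, hj⟩
    exact Group.isSolvable_of_ker_le_range N.subtype (QuotientGroup.mk' N) (by simp)

/-- Every finite group having an abelian subgroup whose index is a power of 2 is solvable. -/
theorem result {G : Type*} [Group G] [Finite G]
    (A : Subgroup G) (hA : IsMulCommutative A) (hidx : ∃ k : ℕ, A.index = 2 ^ k) : Group.IsSolvable G := by
  apply main 2 Nat.prime_two (Nat.card G) G rfl A _ hidx
  intro a ha b hb
  exact setLike_mul_comm ha hb

end Cfsg.Agent.S3824
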