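import Mathlib
import Cfsg.Statements.S3857
import Cfsg.Agent.S0033
import Cfsg.Agent.Lib.Helper1.MinimalNormal
import Cfsg.Agent.Lib.Helper68.Frobenius
import Cfsg.Agent.Lib.Helper66.TwoFrob

set_option autoImplicit false
open Cfsg

namespace Cfsg.Agent.S3857

/-- no element of order `a * b` with `a ∈ A`, `b ∉ A` primes. -/
def PP (A : Set ℕ) (Y : Type*) [Group Y] : Prop :=
  ∀ a ∈ A, ∀ b ∉ A, a.Prime → b.Prime → ¬ ∃ g : Y, orderOf g = a * b

/-- all elements of prime order of `H` have order in `A`. -/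
def IsA (A : Set ℕ) {Y : Type*} [Group Y] (H : Subgroup Y) : Prop :=
  ∀ x ∈ H, (orderOf x).Prime → orderOf x ∈ A

theorem PP.compl {A : Set ℕ} {Y : Type*} [Group Y] (h : PP A Y) : PP Aᶜ Y := by
  intro a ha b hb hap hbp ⟨g, hg⟩
  exact h b (by simpa using hb) a ha hbp hap ⟨g, by rw [hg, mul_comm]⟩

theorem PP.of_injective {A : Set ℕ} {Y Z : Type*} [Group Y] [Group Z] (h : PP A Y) (f : Z →* Y)
    (hf : Function.Injective f) : PP A Z := by
  intro a ha b hb hap hbp ⟨g, hg⟩
  exact h a ha b hb hap hbp ⟨f g, by rw [orderOf_injective f hf, hg]⟩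

theorem PP.of_surjective {A : Set ℕ} {Y Z : Type*} [Group Y] [Finite Y] [Group Z] (h : PP A Y)
    (f : Y →* Z) (hf : Function.Surjective f) : PP A Z := by
  intro a ha b hb hap hbp ⟨g, hg⟩
  obtain ⟨y, rfl⟩ := hf g
  have h1 : a * b ∣ orderOf y := by rw [← hg]; exact orderOf_map_dvd f y
  exact h a ha b hb hap hbp ⟨_, orderOf_pow_orderOf_div (orderOf_pos y).ne' h1⟩

theorem PP.eq_one_of_commute {A : Set ℕ} {Y : Type*} [Group Y] [Finite Y] (h : PP A Y) {x y : Y}
    (hc : Commute x y) (hx : ∀ p : ℕ, p.Prime → p ∣ orderOf x → p ∈ A)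
    (hy : ∀ p : ℕ, p.Prime → p ∣ orderOf y → p ∉ A) (hy1 : y ≠ 1) : x = 1 := by
  by_contra hx1
  obtain ⟨a, hap, had⟩ := Nat.exists_prime_and_dvd (n := orderOf x) (by rwa [Ne, orderOf_eq_one_iff])
  obtain ⟨b, hbp, hbd⟩ := Nat.exists_prime_and_dvd (n := orderOf y) (by rwa [Ne, orderOf_eq_one_iff])
  have hxa : orderOf (x ^ (orderOf x / a)) = a := orderOf_pow_orderOf_div (orderOf_pos x).ne' had
  have hyb : orderOf (y ^ (orderOf y / b)) = b := orderOf_pow_orderOf_div (orderOf_pos y).ne' hbd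
  have hc' : Commute (x ^ (orderOf x / a)) (y ^ (orderOf y / b)) := hc.pow_pow _ _
  have h3 := hc'.orderOf_mul_eq_mul_orderOf_of_coprime (by
    rw [hxa, hyb]
    exact (Nat.coprime_primes hap hbp).mpr (by rintro rfl; exact hy a hap hbd (hx a hap had)))
  exact h a (hx a hap had) b (hy b hbp hbd) hap hbp ⟨_, by rw [h3, hxa, hyb]⟩

theorem IsA.prime_dvd_orderOf {A : Set ℕ} {Y : Type*} [Group Y] [Finite Y] {H : Subgroup Y}
    (h : IsA A H) {x : Y} (hx : x ∈ H) {p : ℕ} (hp : p.Prime) (hd : p ∣ orderOf x) : p ∈ A := by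
  have h1 : orderOf (x ^ (orderOf x / p)) = p := orderOf_pow_orderOf_div (orderOf_pos x).ne' hd
  have := h _ (H.pow_mem hx _) (by rw [h1]; exact hp)
  rwa [h1] at this

theorem IsA.prime_dvd_card {A : Set ℕ} {Y : Type*} [Group Y] [Finite Y] {H : Subgroup Y}
    (h : IsA A H) {p : ℕ} (hp : p.Prime) (hd : p ∣ Nat.card H) : p ∈ A := by
  have := Fact.mk hp
  obtain ⟨x, hx⟩ := exists_prime_orderOf_dvd_card' (G := H) p hd
  have := h x x.2 (by rw [Subgroup.orderOf_coe, hx]; exact hp)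
  rwa [Subgroup.orderOf_coe, hx] at this

theorem orderOf_mk_eq {Y : Type*} [Group Y] {N : Subgroup Y} [N.Normal] {x : Y}
    (hp : (orderOf x).Prime) (hxN : x ∉ N) : orderOf (QuotientGroup.mk' N x) = orderOf x := by
  have hd := orderOf_map_dvd (QuotientGroup.mk' N) x
  rcases (Nat.dvd_prime hp).mp hd with h | h
  · exfalso
    rw [orderOf_eq_one_iff] at h
    exact hxN ((QuotientGroup.eq_one_iff x).mp h)
  · exact h

theorem IsA.comap {A : Set ℕ} {Y : Type*} [Group Y] {N : Subgroup Y} [N.Normal]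
    (hN : IsA A N) {V : Subgroup (Y ⧸ N)} (hV : IsA A V) :
    IsA A (V.comap (QuotientGroup.mk' N)) := by
  intro x hx hp
  by_cases hxN : x ∈ N
  · exact hN x hxN hp
  · have h1 := orderOf_mk_eq hp hxN
    have := hV _ hx (by rw [h1]; exact hp)
    rwa [h1] at this

theorem IsA.sup {A : Set ℕ} {Y : Type*} [Group Y] [Finite Y] {N C : Subgroup Y} [N.Normal]
    (hN : IsA A N) (hC : IsA A C) : IsA A (N ⊔ C) := by
  intro x hx hp
  by_cases hxN : x ∈ N
  · exact hN x hxN hp
  · have h1 := orderOf_mk_eq hp hxN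
    have hx' : x ∈ ((N ⊔ C : Subgroup Y) : Set Y) := hx
    rw [Subgroup.normal_mul] at hx'
    obtain ⟨n, hn, c, hc, rfl⟩ := Set.mem_mul.mp hx'
    have h2 : QuotientGroup.mk' N (n * c) = QuotientGroup.mk' N c := by
      have h3 : QuotientGroup.mk' N n = 1 := (QuotientGroup.eq_one_iff n).mpr hn
      rw [map_mul, h3, one_mul]
    apply hC.prime_dvd_orderOf hc hp
    rw [← h1, h2]
    exact orderOf_map_dvd _ c

theorem isA_of_isPGroup {A : Set ℕ} {Y : Type*} [Group Y] {V : Subgroup Y} {r : ℕ} (hr : r.Prime)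
    (hV : IsPGroup r V) (hrA : r ∈ A) : IsA A V := by
  intro x hx hp
  have := Fact.mk hr
  obtain ⟨k, hk⟩ := (IsPGroup.iff_orderOf.mp hV) ⟨x, hx⟩
  rw [Subgroup.orderOf_mk] at hk
  have h1 : orderOf x ∣ r := hp.dvd_of_dvd_pow (hk.dvd)
  rw [(Nat.prime_dvd_prime_iff_eq hp hr).mp h1]
  exact hrA

theorem frob_of_hall {A : Set ℕ} {Y : Type*} [Group Y] [Finite Y] (hP : PP A Y) (N : Subgroup Y)
    [N.Normal] (hN0 : N ≠ ⊥) (hN1 : N ≠ ⊤) (hN : IsA A N)
    (hI : ∀ y : Y, ∀ p : ℕ, p.Prime → y ∉ N → y ^ p ∈ N → p ∉ A) :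
    ∃ C : Subgroup Y, IsFrobeniusComplement C ∧ frobeniusKernel C = (N : Set Y) ∧
      N ⊔ C = ⊤ ∧ N ⊓ C = ⊥ := by
  have hcop : Nat.Coprime (Nat.card N) N.index := by
    apply Nat.coprime_of_dvd
    intro p hp h1 h2
    have hpA := hN.prime_dvd_card hp h1
    have := Fact.mk hp
    rw [Subgroup.index_eq_card] at h2
    obtain ⟨y, hy⟩ := exists_prime_orderOf_dvd_card' (G := Y ⧸ N) p h2
    obtain ⟨y, rfl⟩ := QuotientGroup.mk'_surjective N y
    refine hI y p hp ?_ ?_ hpA
    · intro hyN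
      have h3 : QuotientGroup.mk' N y = 1 := (QuotientGroup.eq_one_iff y).mpr hyN
      rw [h3, orderOf_one] at hy
      exact hp.one_lt.ne hy
    · rw [← QuotientGroup.eq_one_iff]
      have h3 := pow_orderOf_eq_one (QuotientGroup.mk' N y)
      rw [hy] at h3
      simpa using h3
  obtain ⟨C, hC⟩ := Subgroup.exists_right_complement'_of_coprime hcop
  have hsup : N ⊔ C = ⊤ := hC.sup_eq_top
  have hinf : N ⊓ C = ⊥ := hC.disjoint.eq_bot
  have hC0 : C ≠ ⊥ := by
    rintro rfl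
    rw [sup_bot_eq] at hsup
    exact hN1 hsup
  have hCA : ∀ h ∈ C, ∀ p : ℕ, p.Prime → p ∣ orderOf h → p ∉ A := by
    intro h hh p hp hd hpA
    have ho : orderOf (h ^ (orderOf h / p)) = p := orderOf_pow_orderOf_div (orderOf_pos h).ne' hd
    refine hI (h ^ (orderOf h / p)) p hp ?_ ?_ hpA
    · intro hN'
      have h3 : h ^ (orderOf h / p) ∈ N ⊓ C := ⟨hN', C.pow_mem hh _⟩
      rw [hinf, Subgroup.mem_bot] at h3
      rw [h3, orderOf_one] at ho
      exact hp.one_lt.ne ho
    · have h3 := pow_orderOf_eq_one (h ^ (orderOf h / p))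
      rw [ho] at h3
      rw [h3]
      exact N.one_mem
  obtain ⟨h1, h2⟩ := Cfsg.Agent.Lib.Helper68.isFrobeniusComplement_of_fpf N C hN0 hC0 hsup hinf (by
    intro h hh hh1 n hn hcomm
    exact hP.eq_one_of_commute (x := n) (y := h) (mul_inv_eq_iff_eq_mul.mp hcomm)
      (fun p hp hd => hN.prime_dvd_orderOf hn hp hd) (hCA h hh) hh1)
  exact ⟨C, h1, h2, hsup, hinf⟩

theorem FC_of_injective {Y Z : Type*} [Group Y] [Group Z] (h : Cfsg.Agent.Lib.Helper66.FC Y)
    (f : Z →* Y) (hf : Function.Injective f) : Cfsg.Agent.Lib.Helper66.FC Z := by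
  intro B p q hp hq hB
  have h1 := h (B.map f) p q hp hq (by rw [Subgroup.card_map_of_injective hf, hB])
  exact isCyclic_of_surjective (B.equivMapOfInjective f hf).symm (MulEquiv.surjective _)

theorem key {A : Set ℕ} {X : Type*} [Group X] [Finite X] [Group.IsSolvable X] (hP : PP A X)
    (K : Subgroup X) [hKn : K.Normal] (hK0 : K ≠ ⊥) (hK1 : K ≠ ⊤) (hK : IsA Aᶜ K)
    (hmax : ∀ T : Subgroup X, T.Normal → IsA Aᶜ T → K ≤ T → T ≤ K)
    (hFC : Cfsg.Agent.Lib.Helper66.FC K) :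
    ∀ y : X, ∀ p : ℕ, p.Prime → y ∉ K → y ^ p ∈ K → p ∈ A := by
  -- an element of prime order `r ∈ A`
  have hx : ∃ x : X, ∃ r : ℕ, r.Prime ∧ r ∈ A ∧ orderOf x = r := by
    have : Nontrivial (X ⧸ K) := QuotientGroup.nontrivial_iff.mpr hK1
    obtain ⟨r, W, hr, hWn, hW0, hWp, -, -⟩ :=
      Cfsg.Agent.Lib.Helper1.exists_normal_pSubgroup_of_solvable (G := X ⧸ K)
    have hrA : r ∈ A := by
      by_contra hrA
      have h1 := hmax (W.comap (QuotientGroup.mk' K)) (hWn.comap _)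
        (hK.comap (isA_of_isPGroup hr hWp hrA)) (by
          intro k hk
          have h3 : QuotientGroup.mk' K k = 1 := (QuotientGroup.eq_one_iff k).mpr hk
          rw [Subgroup.mem_comap, h3]
          exact W.one_mem)
      apply hW0
      rw [eq_bot_iff]
      intro w hw
      obtain ⟨x, rfl⟩ := QuotientGroup.mk'_surjective K w
      rw [Subgroup.mem_bot]
      exact (QuotientGroup.eq_one_iff x).mpr (h1 hw)
    obtain ⟨w, hw1⟩ := Subgroup.ne_bot_iff_exists_ne_one.mp hW0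
    have := Fact.mk hr
    obtain ⟨k, hk⟩ := (IsPGroup.iff_orderOf.mp hWp) w
    have hk0 : k ≠ 0 := by
      rintro rfl
      rw [pow_zero, orderOf_eq_one_iff] at hk
      exact hw1 hk
    obtain ⟨x₀, hx₀⟩ := QuotientGroup.mk'_surjective K (w : X ⧸ K)
    have h2 : r ∣ orderOf x₀ := by
      have h3 : orderOf (QuotientGroup.mk' K x₀) ∣ orderOf x₀ := orderOf_map_dvd _ x₀
      rw [hx₀, Subgroup.orderOf_coe, hk] at h3
      exact (dvd_pow_self r hk0).trans h3
    exact ⟨_, r, hr, hrA, orderOf_pow_orderOf_div (orderOf_pos x₀).ne' h2⟩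
  obtain ⟨x, r, hr, hrA, hxr⟩ := hx
  -- `K` is nilpotent by Thompson
  have hfix : ∀ k ∈ K, Commute x k → k = 1 := by
    intro k hk hc
    by_contra hk1
    have h1 := hP.eq_one_of_commute (x := x) (y := k) hc (by
      intro p hp hd
      rw [hxr] at hd
      rw [(Nat.prime_dvd_prime_iff_eq hp hr).mp hd]
      exact hrA) (fun p hp hd => hK.prime_dvd_orderOf hk hp hd) hk1
    rw [h1, orderOf_one] at hxr
    exact hr.one_lt.ne hxr
  have hnil : Group.IsNilpotent K := by
    have hfpf : MonoidHom.FixedPointFree ((MulAut.conjNormal x : MulAut K) : K →* K) := by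
      intro k hk
      have h1 : x * (k : X) * x⁻¹ = k := by
        have := congrArg Subtype.val hk
        simpa using this
      exact Subtype.ext (hfix k k.2 (mul_inv_eq_iff_eq_mul.mp h1))
    apply Cfsg.Agent.S0033.result (MulAut.conjNormal x : MulAut K) hfpf r hr
    have h1 : orderOf (MulAut.conjNormal x : MulAut K) ∣ r := by
      rw [← hxr]
      exact orderOf_map_dvd _ x
    rcases (Nat.dvd_prime hr).mp h1 with h | h
    · exfalso
      rw [orderOf_eq_one_iff] at h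
      apply hK0
      rw [eq_bot_iff]
      intro k hk
      have h2 := hfpf ⟨k, hk⟩ (by rw [h]; rfl)
      exact congrArg Subtype.val h2
    · exact h
  -- a normal subgroup of prime order
  have hK1' : Nat.card K ≠ 1 := fun h => hK0 (Subgroup.card_eq_one.mp h)
  obtain ⟨p₀, hp₀, hp₀d⟩ := Nat.exists_prime_and_dvd hK1'
  have := Fact.mk hp₀
  obtain ⟨z, hz⟩ := exists_prime_orderOf_dvd_card' (G := K) p₀ hp₀d
  have hz' : orderOf (z : X) = p₀ := by rw [Subgroup.orderOf_coe, hz]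
  have hz1 : (z : X) ≠ 1 := by
    intro h
    rw [h, orderOf_one] at hz'
    exact hp₀.one_lt.ne hz'
  have hp₀A : p₀ ∉ A := by
    have := hK z z.2 (by rw [hz']; exact hp₀)
    rwa [hz'] at this
  have hconj : ∀ g : X, ∃ k : ℕ, g * z * g⁻¹ = (z : X) ^ k := by
    intro g
    have h1 := hFC.unique_of_nilpotent hp₀ (x := z) (y := MulAut.conjNormal g z) hz (by
      rw [MulEquiv.orderOf_eq, hz])
    obtain ⟨k, hk⟩ := mem_powers_iff_mem_zpowers.mpr h1
    refine ⟨k, ?_⟩
    have h2 := congrArg Subtype.val hk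
    simpa using h2.symm
  have hcomm : ∀ a b : X, Commute ((b * a)⁻¹ * (a * b)) (z : X) := by
    intro a b
    obtain ⟨k₁, h1⟩ := hconj a
    obtain ⟨k₂, h2⟩ := hconj b
    have e1 : (a * b) * z * (a * b)⁻¹ = (z : X) ^ (k₁ * k₂) := by
      calc (a * b) * z * (a * b)⁻¹ = a * (b * z * b⁻¹) * a⁻¹ := by group
        _ = a * (z : X) ^ k₂ * a⁻¹ := by rw [h2]
        _ = (a * z * a⁻¹) ^ k₂ := by rw [conj_pow]
        _ = (z : X) ^ (k₁ * k₂) := by rw [h1, ← pow_mul]
    have e2 : (b * a) * z * (b * a)⁻¹ = (z : X) ^ (k₁ * k₂) := by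
      calc (b * a) * z * (b * a)⁻¹ = b * (a * z * a⁻¹) * b⁻¹ := by group
        _ = b * (z : X) ^ k₁ * b⁻¹ := by rw [h1]
        _ = (b * z * b⁻¹) ^ k₁ := by rw [conj_pow]
        _ = (z : X) ^ (k₁ * k₂) := by rw [h2, ← pow_mul, mul_comm]
    have e3 : (a * b) * z * (a * b)⁻¹ = (b * a) * z * (b * a)⁻¹ := e1.trans e2.symm
    change (b * a)⁻¹ * (a * b) * z = z * ((b * a)⁻¹ * (a * b))
    have e4 : (a * b) * z = (b * a) * z * (b * a)⁻¹ * (a * b) := by
      rw [← e3]; group
    calc (b * a)⁻¹ * (a * b) * z = (b * a)⁻¹ * ((a * b) * z) := by group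
      _ = (b * a)⁻¹ * ((b * a) * z * (b * a)⁻¹ * (a * b)) := by rw [e4]
      _ = z * ((b * a)⁻¹ * (a * b)) := by group
  have hZn : (Subgroup.zpowers (z : X)).Normal := by
    constructor
    intro n hn g
    obtain ⟨i, rfl⟩ := Subgroup.mem_zpowers_iff.mp hn
    obtain ⟨k, hk⟩ := hconj g
    rw [← conj_zpow, hk]
    exact zpow_mem (pow_mem (Subgroup.mem_zpowers _) _) _
  have hCK : Subgroup.centralizer (Subgroup.zpowers (z : X) : Set X) ≤ K := by
    have hCA : IsA Aᶜ (Subgroup.centralizer (Subgroup.zpowers (z : X) : Set X)) := by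
      intro c hc hcp hcA
      have hcz : Commute c (z : X) :=
        (Subgroup.mem_centralizer_iff.mp hc z (Subgroup.mem_zpowers _)).symm
      have h1 := hP.eq_one_of_commute (x := c) (y := z) hcz (by
        intro p hp hd
        rw [(Nat.prime_dvd_prime_iff_eq hp hcp).mp hd]
        exact hcA) (by
        intro p hp hd
        rw [hz'] at hd
        rw [(Nat.prime_dvd_prime_iff_eq hp hp₀).mp hd]
        exact hp₀A) hz1
      rw [h1, orderOf_one] at hcp
      exact Nat.not_prime_one hcp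
    have h1 := hmax (K ⊔ Subgroup.centralizer (Subgroup.zpowers (z : X) : Set X))
      inferInstance (hK.sup hCA) le_sup_left
    exact le_sup_right.trans h1
  have hab : ∀ u v : X ⧸ K, u * v = v * u := by
    intro u v
    obtain ⟨a, rfl⟩ := QuotientGroup.mk'_surjective K u
    obtain ⟨b, rfl⟩ := QuotientGroup.mk'_surjective K v
    rw [← map_mul, ← map_mul]
    symm
    apply QuotientGroup.eq.mpr
    apply hCK
    rw [Subgroup.mem_centralizer_iff]
    intro h hh
    obtain ⟨i, rfl⟩ := Subgroup.mem_zpowers_iff.mp hh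
    exact ((hcomm a b).zpow_right i).eq.symm
  intro y p hp hyK hypK
  by_contra hpA
  have := Fact.mk hp
  have hoy : orderOf (QuotientGroup.mk' K y) = p := by
    apply orderOf_eq_prime
    · rw [← map_pow]
      exact (QuotientGroup.eq_one_iff _).mpr hypK
    · intro h
      exact hyK ((QuotientGroup.eq_one_iff _).mp h)
  have hTn : (Subgroup.zpowers (QuotientGroup.mk' K y)).Normal := by
    constructor
    intro n hn g
    rw [hab g n, mul_assoc, mul_inv_cancel, mul_one]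
    exact hn
  have hTA : IsA Aᶜ (Subgroup.zpowers (QuotientGroup.mk' K y)) := by
    intro w hw hwp
    have h1 := orderOf_dvd_of_mem_zpowers hw
    rw [hoy] at h1
    rw [(Nat.prime_dvd_prime_iff_eq hwp hp).mp h1]
    exact hpA
  have h1 := hmax ((Subgroup.zpowers (QuotientGroup.mk' K y)).comap (QuotientGroup.mk' K))
    (hTn.comap _) (hK.comap hTA) (by
      intro k hk
      have h3 : QuotientGroup.mk' K k = 1 := (QuotientGroup.eq_one_iff k).mpr hk
      rw [Subgroup.mem_comap, h3]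
      exact Subgroup.one_mem _)
  exact hyK (h1 (Subgroup.mem_zpowers _))

theorem main {A : Set ℕ} {G : Type*} [Group G] [Finite G] [Group.IsSolvable G] (hP : PP A G)
    (hb : ∃ b ∉ A, b.Prime ∧ b ∣ Nat.card G) (N₀ : Subgroup G) (hN₀n : N₀.Normal) (hN₀ : N₀ ≠ ⊥)
    (hN₀A : IsA A N₀) :
    (∃ C : Subgroup G, Cfsg.IsFrobeniusComplement C) ∨
    (∃ (H K : Subgroup G) (_ : H.Normal), K.Normal ∧ H < K ∧
      (∃ C : Subgroup ↥K, Cfsg.IsFrobeniusComplement C ∧ Cfsg.frobeniusKernel C = (H.subgroupOf K : Set ↥K)) ∧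
      (∃ C : Subgroup (G ⧸ H), Cfsg.IsFrobeniusComplement C ∧ Cfsg.frobeniusKernel C = (K.map (QuotientGroup.mk' H) : Set (G ⧸ H)))) := by
  obtain ⟨N, hN₀N, hNmax⟩ := Set.Finite.exists_le_maximal
    (s := {N : Subgroup G | N.Normal ∧ IsA A N}) (Set.toFinite _) (a := N₀) ⟨hN₀n, hN₀A⟩
  obtain ⟨hNn, hNA⟩ := hNmax.prop
  have hN0 : N ≠ ⊥ := by
    rintro rfl
    exact hN₀ (le_bot_iff.mp hN₀N)
  have hN1 : N ≠ ⊤ := by
    rintro rfl
    obtain ⟨b, hbA, hbp, hbd⟩ := hb
    apply hbA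
    apply hNA.prime_dvd_card hbp
    rwa [Subgroup.card_top]
  have hPX : PP A (G ⧸ N) := hP.of_surjective (QuotientGroup.mk' N) (QuotientGroup.mk'_surjective N)
  have : Nontrivial (G ⧸ N) := QuotientGroup.nontrivial_iff.mpr hN1
  obtain ⟨r, V, hr, hVn, hV0, hVp, -, -⟩ :=
    Cfsg.Agent.Lib.Helper1.exists_normal_pSubgroup_of_solvable (G := G ⧸ N)
  have hle : ∀ T : Subgroup (G ⧸ N), N ≤ T.comap (QuotientGroup.mk' N) := by
    intro T k hk
    have h3 : QuotientGroup.mk' N k = 1 := (QuotientGroup.eq_one_iff k).mpr hk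
    rw [Subgroup.mem_comap, h3]
    exact T.one_mem
  have hrA : r ∉ A := by
    intro hrA
    have h1 := hNmax.le_of_ge (y := V.comap (QuotientGroup.mk' N))
      ⟨hVn.comap _, hNA.comap (isA_of_isPGroup hr hVp hrA)⟩ (hle V)
    apply hV0
    rw [eq_bot_iff]
    intro w hw
    obtain ⟨x, rfl⟩ := QuotientGroup.mk'_surjective N w
    rw [Subgroup.mem_bot]
    exact (QuotientGroup.eq_one_iff x).mpr (h1 hw)
  obtain ⟨K, hVK, hKmax⟩ := Set.Finite.exists_le_maximal
    (s := {T : Subgroup (G ⧸ N) | T.Normal ∧ IsA Aᶜ T}) (Set.toFinite _) (a := V)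
    ⟨hVn, isA_of_isPGroup hr hVp hrA⟩
  obtain ⟨hKn, hKA⟩ := hKmax.prop
  have hK0 : K ≠ ⊥ := by
    rintro rfl
    exact hV0 (le_bot_iff.mp hVK)
  have hIM : ∀ y : G, y ∈ K.comap (QuotientGroup.mk' N) → ∀ p : ℕ, p.Prime → y ∉ N → y ^ p ∈ N →
      p ∉ A := by
    intro y hy p hp hyN hypN
    have := Fact.mk hp
    have hoy : orderOf (QuotientGroup.mk' N y) = p := by
      apply orderOf_eq_prime
      · rw [← map_pow]
        exact (QuotientGroup.eq_one_iff _).mpr hypN
      · intro h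
        exact hyN ((QuotientGroup.eq_one_iff _).mp h)
    have := hKA _ hy (by rw [hoy]; exact hp)
    rwa [hoy] at this
  by_cases hK1 : K = ⊤
  · left
    obtain ⟨C, hC, -⟩ := frob_of_hall hP N hN0 hN1 hNA (fun y p hp h1 h2 =>
      hIM y (by rw [hK1]; trivial) p hp h1 h2)
    exact ⟨C, hC⟩
  · right
    set M := K.comap (QuotientGroup.mk' N) with hM
    have hNM : N ≤ M := hle K
    have hMn : M.Normal := hKn.comap _
    have hlt : N < M := by
      refine lt_of_le_of_ne hNM ?_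
      intro h
      apply hK0
      rw [eq_bot_iff]
      intro w hw
      obtain ⟨x, rfl⟩ := QuotientGroup.mk'_surjective N w
      rw [Subgroup.mem_bot]
      have hx : x ∈ M := hw
      rw [← h] at hx
      exact (QuotientGroup.eq_one_iff x).mpr hx
    obtain ⟨C, hC, hCker, hCsup, hCinf⟩ := frob_of_hall (Y := M)
      (hP.of_injective M.subtype M.subtype_injective) (N.subgroupOf M)
      (by
        rw [Ne, Subgroup.subgroupOf_eq_bot, disjoint_iff, inf_eq_left.mpr hNM]
        exact hN0)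
      (by
        rw [Ne, Subgroup.subgroupOf_eq_top]
        exact fun h => hlt.not_ge h)
      (by
        intro x hx hp
        rw [← Subgroup.orderOf_coe] at hp ⊢
        exact hNA x hx hp)
      (by
        intro y p hp h1 h2
        exact hIM y y.2 p hp h1 h2)
    refine ⟨N, M, hNn, hMn, hlt, ⟨C, hC, hCker⟩, ?_⟩
    -- the complement is isomorphic to `K`
    obtain ⟨N', D⟩ := Cfsg.Agent.Lib.Helper66.exists_frobData C hC
    have hFC := D.fc
    let f : C →* K := ((QuotientGroup.mk' N).comp (M.subtype.comp C.subtype)).codRestrict K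
      (fun c => (c : M).2)
    have hfinj : Function.Injective f := by
      rw [injective_iff_map_eq_one]
      intro c hc
      have h1 : QuotientGroup.mk' N ((c : M) : G) = 1 := congrArg Subtype.val hc
      have h2 : ((c : M) : G) ∈ N := (QuotientGroup.eq_one_iff _).mp h1
      have h3 : (c : M) ∈ N.subgroupOf M ⊓ C := ⟨h2, c.2⟩
      rw [hCinf, Subgroup.mem_bot] at h3
      exact Subtype.ext h3
    have hfsurj : Function.Surjective f := by
      intro k
      obtain ⟨g, hg⟩ := QuotientGroup.mk'_surjective N (k : G ⧸ N)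
      have hgM : g ∈ M := by
        rw [hM, Subgroup.mem_comap, hg]
        exact k.2
      obtain ⟨n, hn, c, hc, hnc⟩ :=
        Cfsg.Agent.Lib.Helper68.exists_mul_of_sup_eq_top (N.subgroupOf M) C hCsup ⟨g, hgM⟩
      refine ⟨⟨c, hc⟩, Subtype.ext ?_⟩
      change QuotientGroup.mk' N (c : G) = k
      rw [← hg]
      have h1 : g = (n : G) * (c : G) := congrArg Subtype.val hnc
      have h3 : QuotientGroup.mk' N (n : G) = 1 := (QuotientGroup.eq_one_iff _).mpr hn
      rw [h1, map_mul, h3, one_mul]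
    have hFCK : Cfsg.Agent.Lib.Helper66.FC K :=
      FC_of_injective hFC (MulEquiv.ofBijective f ⟨hfinj, hfsurj⟩).symm.toMonoidHom
        (MulEquiv.injective _)
    have hkey := key hPX K hK0 hK1 hKA (fun T hTn hTA hKT => hKmax.le_of_ge ⟨hTn, hTA⟩ hKT) hFCK
    obtain ⟨C₂, hC₂, hC₂ker, -⟩ := frob_of_hall (A := Aᶜ) hPX.compl K hK0 hK1 hKA
      (fun y p hp h1 h2 => not_not.mpr (hkey y p hp h1 h2))
    refine ⟨C₂, hC₂, ?_⟩
    rw [hC₂ker, hM, Subgroup.map_comap_eq_self_of_surjective (QuotientGroup.mk'_surjective N)]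

/-- A finite solvable group whose prime graph (prime divisors of the order, two distinct primes joined when there is an element of order their product) is disconnected is a Frobenius group or a 2-Frobenius group (it has normal subgroups H < K with K a Frobenius group with kernel H and G/H a Frobenius group with kernel K/H). -/
theorem result {G : Type*} [Group G] [Finite G] (hsol : Group.IsSolvable G)
    (hdisc : (∃ A : Set ℕ, (∃ a ∈ A, a.Prime ∧ a ∣ Nat.card G) ∧ (∃ b ∉ A, b.Prime ∧ b ∣ Nat.card G) ∧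
      ∀ a ∈ A, ∀ b ∉ A, a.Prime → b.Prime → a ∣ Nat.card G → b ∣ Nat.card G → ¬ ∃ g : G, orderOf g = a * b)) :
    (∃ C : Subgroup G, Cfsg.IsFrobeniusComplement C) ∨
    (∃ (H K : Subgroup G) (_ : H.Normal), K.Normal ∧ H < K ∧
      (∃ C : Subgroup ↥K, Cfsg.IsFrobeniusComplement C ∧ Cfsg.frobeniusKernel C = (H.subgroupOf K : Set ↥K)) ∧
      (∃ C : Subgroup (G ⧸ H), Cfsg.IsFrobeniusComplement C ∧ Cfsg.frobeniusKernel C = (K.map (QuotientGroup.mk' H) : Set (G ⧸ H)))) := by
  obtain ⟨A, ⟨a, haA, hap, had⟩, ⟨b, hbA, hbp, hbd⟩, hno⟩ := hdisc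
  have hP : PP A G := by
    intro a ha b hb hap hbp ⟨g, hg⟩
    have h1 : a * b ∣ Nat.card G := hg ▸ orderOf_dvd_natCard g
    exact hno a ha b hb hap hbp ((dvd_mul_right a b).trans h1) ((dvd_mul_left b a).trans h1) ⟨g, hg⟩
  have : Nontrivial G := by
    rw [← Finite.one_lt_card_iff_nontrivial]
    exact lt_of_lt_of_le hap.one_lt (Nat.le_of_dvd Nat.card_pos had)
  obtain ⟨r, V, hr, hVn, hV0, hVp, -, -⟩ :=
    Cfsg.Agent.Lib.Helper1.exists_normal_pSubgroup_of_solvable (G := G)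
  by_cases hrA : r ∈ A
  · exact main hP ⟨b, hbA, hbp, hbd⟩ V hVn hV0 (isA_of_isPGroup hr hVp hrA)
  · exact main hP.compl ⟨a, not_not.mpr haA, hap, had⟩ V hVn hV0 (isA_of_isPGroup hr hVp hrA)

end Cfsg.Agent.S3857
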