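import Cfsg.Statements.S3868
import Cfsg.Agent.Lib.Helper64.MinNonClosed

set_option autoImplicit false
open Cfsg

namespace Cfsg.Agent.S3868

open Subgroup Cfsg.Agent.Lib.Helper64

/-- Structure of the non-simple minimal non-p-closed groups. Call a finite group p-closed when its Sylow p-subgroups are normal, and minimal non-p-closed when it is not p-closed but every proper subgroup and every proper quotient is. If such a group G is not simple, then there is a prime q ≠ p such that G has order p · q^e, where e is the multiplicative order of q modulo p, and G has a normal subgroup A of order q^e that is elementary abelian and is a minimal normal subgroup of G (so G is the semidirect product of A by a group of order p acting irreducibly). -/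
theorem result {G : Type*} [Group G] [Finite G] {p : ℕ} [Fact p.Prime]
    (hnc : ¬ Cfsg.IsPClosed p G) (hsub : ∀ H : Subgroup G, H ≠ ⊤ → Cfsg.IsPClosed p ↥H)
    (hquo : ∀ (N : Subgroup G) [N.Normal], N ≠ ⊥ → Cfsg.IsPClosed p (G ⧸ N)) (hns : ¬ IsSimpleGroup G) :
    ∃ q : ℕ, q.Prime ∧ q ≠ p ∧ Nat.card G = p * q ^ orderOf (q : ZMod p) ∧
      ∃ A : Subgroup G, A.Normal ∧ Nat.card ↥A = q ^ orderOf (q : ZMod p) ∧ Cfsg.IsElementaryAbelian q A ∧
        ∀ B : Subgroup G, B.Normal → B ≤ A → B = ⊥ ∨ B = A := by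
  unfold IsPClosed at hnc
  push Not at hnc
  obtain ⟨P, hPn⟩ := hnc
  have hnt : Nontrivial G := by
    by_contra h
    rw [not_nontrivial_iff_subsingleton] at h
    apply hPn
    have : (P : Subgroup G) = ⊥ := Subsingleton.elim _ _
    rw [this]; infer_instance
  obtain ⟨N, hNn, hNbot, hNtop⟩ : ∃ N : Subgroup G, N.Normal ∧ N ≠ ⊥ ∧ N ≠ ⊤ := by
    by_contra hcon
    push Not at hcon
    apply hns
    refine ⟨fun H hH => ?_⟩
    by_cases h : H = ⊥
    · exact Or.inl h
    · exact Or.inr (hcon H hH h)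
  obtain ⟨A, hAN, hAmin⟩ := Finite.exists_le_minimal
    (p := fun B : Subgroup G => B.Normal ∧ B ≠ ⊥) (a := N) ⟨hNn, hNbot⟩
  obtain ⟨hAn, hAne⟩ := hAmin.prop
  have := hAn
  have hAtop : A ≠ ⊤ := by
    rintro rfl
    exact hNtop (top_le_iff.1 hAN)
  have hmin : ∀ B : Subgroup G, B.Normal → B ≤ A → B = ⊥ ∨ B = A := by
    intro B hB hBA
    by_cases h : B = ⊥
    · exact Or.inl h
    · exact Or.inr (le_antisymm hBA (hAmin.le_of_le ⟨hB, h⟩ hBA))
  -- quotient lemma
  have QL : ∀ K : Subgroup G, K.Normal → K ≠ ⊥ → ((P : Subgroup G) ⊔ K).Normal := by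
    intro K hK hKne
    have := hK
    have h1 := hquo K hKne (P.mapSurjective (QuotientGroup.mk'_surjective K))
    rw [Sylow.coe_mapSurjective] at h1
    have h2 := h1.comap (QuotientGroup.mk' K)
    rwa [comap_map_eq, QuotientGroup.ker_mk'] at h2
  -- subgroup lemma
  have SL : ∀ H : Subgroup G, H.Normal → H ≠ ⊤ → ∀ Q : Sylow p H,
      ((Q : Subgroup H).map H.subtype).Normal := by
    intro H hH hHtop Q
    have := hH
    have := Sylow.characteristic_of_normal Q (hsub H hHtop Q)
    exact Cfsg.Agent.Lib.Lead.normal_map_subtype_of_characteristic H (Q : Subgroup H)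
  have hPA : (P : Subgroup G) ⊔ A = ⊤ := by
    by_contra hne
    apply hPn
    have := SL _ (QL A hAn hAne) hne (P.subtype le_sup_left)
    rwa [Sylow.coe_subtype, subgroupOf_map_subtype, inf_of_le_left le_sup_left] at this
  obtain ⟨Q, hQ⟩ := exists_sylow_subgroupOf_normal P A
  have hPAbot : (P : Subgroup G) ⊓ A = ⊥ := by
    have h1 := SL A hAn hAtop Q
    rw [hQ, subgroupOf_map_subtype] at h1
    rcases hmin _ h1 inf_le_right with h | h
    · exact h
    · exfalso
      apply hPn
      have hAP : A ≤ P := by rw [← h]; exact inf_le_left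
      rw [sup_of_le_left hAP] at hPA
      rw [hPA]; infer_instance
  have hpA : ¬ p ∣ Nat.card A := by
    intro h
    apply Q.ne_bot_of_dvd_card h
    rw [hQ, subgroupOf_eq_bot, disjoint_iff]
    exact hPAbot
  have hPne : (P : Subgroup G) ≠ ⊥ := by
    intro h
    apply hPn
    rw [h]; infer_instance
  have hcent : ∀ P0 K : Subgroup G, P0 ≤ P → K ≤ A → P0 ≤ normalizer (K : Set G) → P0 ⊔ K ≠ ⊤ →
      ∀ s ∈ P0, ∀ a ∈ K, s * a = a * s := by
    intro P0 K hP0 hKA hP0K hne s hs a ha
    have hcl := hsub _ hne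
    set H := P0 ⊔ K with hH
    have hP0p : IsPGroup p (P0.subgroupOf H) :=
      (P.2.to_le hP0).comap_of_injective H.subtype H.subtype_injective
    obtain ⟨S, hS⟩ := hP0p.exists_le_sylow
    have hSn := hcl S
    have hsH : s ∈ H := (le_sup_left : P0 ≤ H) hs
    have haH : a ∈ H := (le_sup_right : K ≤ H) ha
    have hsS : (⟨s, hsH⟩ : H) ∈ (S : Subgroup H) := hS hs
    have h1 : (⟨a, haH⟩ : H) * ⟨s, hsH⟩ * (⟨a, haH⟩ : H)⁻¹ * (⟨s, hsH⟩ : H)⁻¹ ∈ (S : Subgroup H) :=
      mul_mem (hSn.conj_mem _ hsS _) (inv_mem hsS)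
    have h2 : a * s * a⁻¹ * s⁻¹ ∈ (S : Subgroup H).map H.subtype := ⟨_, h1, rfl⟩
    have h3 : a * s * a⁻¹ * s⁻¹ ∈ K := by
      have : a * s * a⁻¹ * s⁻¹ = a * (s * a⁻¹ * s⁻¹) := by group
      rw [this]
      exact K.mul_mem ha ((mem_normalizer_iff.1 (hP0K hs) _).1 (K.inv_mem ha))
    have hpK : ¬ p ∣ Nat.card K := fun h => hpA (h.trans (Subgroup.card_dvd_of_le hKA))
    have h4 := inf_eq_bot_of_isPGroup_of_not_dvd _ K (S.2.map H.subtype) hpK
    have h5 : a * s * a⁻¹ * s⁻¹ ∈ (S : Subgroup H).map H.subtype ⊓ K := ⟨h2, h3⟩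
    rw [h4, mem_bot, mul_inv_eq_one, mul_inv_eq_iff_eq_mul] at h5
    exact h5.symm
  have hfaith : (P : Subgroup G) ⊓ centralizer (A : Set G) = ⊥ := by
    by_contra hne
    have hCn : ((P : Subgroup G) ⊓ centralizer (A : Set G)).Normal := by
      have hcn : (centralizer (A : Set G)).Normal := inferInstance
      rw [← normalizer_eq_top_iff, eq_top_iff, ← hPA]
      apply sup_le
      · intro g hg
        rw [mem_normalizer_iff]
        intro h
        rw [mem_inf, mem_inf]
        have h1 : g * h * g⁻¹ ∈ (P : Subgroup G) ↔ h ∈ (P : Subgroup G) := by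
          rw [Subgroup.mul_mem_cancel_right _ (inv_mem hg), Subgroup.mul_mem_cancel_left _ hg]
        have h2 : g * h * g⁻¹ ∈ centralizer (A : Set G) ↔ h ∈ centralizer (A : Set G) := by
          constructor
          · intro hh
            have := hcn.conj_mem _ hh g⁻¹
            simpa [mul_assoc] using this
          · intro hh
            exact hcn.conj_mem _ hh g
        rw [h1, h2]
      · intro a ha
        rw [mem_normalizer_iff]
        intro h
        constructor
        · intro hh
          have : a * h * a⁻¹ = h := by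
            rw [(mem_centralizer_iff.1 hh.2) a ha]; group
          rw [this]; exact hh
        · intro hh
          have h1 := (mem_centralizer_iff.1 hh.2) a⁻¹ (A.inv_mem ha)
          have : a * h * a⁻¹ = h := by
            have h2 : h = a⁻¹ * (a * h * a⁻¹) * a := by group
            rw [h1] at h2
            have h3 : a * h * a⁻¹ * a⁻¹ * a = a * h * a⁻¹ := by group
            rw [h3] at h2
            exact h2.symm
          rw [this] at hh; exact hh
    apply hPn
    have := QL _ hCn hne
    rwa [sup_of_le_left inf_le_left] at this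
  obtain ⟨q, hq, hqp, hG, hA, hAc, hAe⟩ :=
    structure_of_minimal A hAne hmin (P : Subgroup G) P.2 hPne hPA hpA hcent hfaith
  exact ⟨q, hq, hqp, hG, A, hAn, hA, ⟨hAc, hAe⟩, hmin⟩

end Cfsg.Agent.S3868
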