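import Cfsg.Statements.S3869
import Cfsg.Agent.Lib.Helper64.MinNonClosed

set_option autoImplicit false
open Cfsg

namespace Cfsg.Agent.S3869

open Subgroup Cfsg.Agent.Lib.Helper64

theorem isPClosed_of_isPGroup {X : Type*} [Group X] {p : ℕ} (h : IsPGroup p X) : IsPClosed p X := by
  intro S
  have : (S : Subgroup X) = ⊤ := (S.3 (h.to_subgroup ⊤) le_top).symm ▸ rfl
  rw [this]; infer_instance

theorem isPClosed_of_isPGroup_ne {X : Type*} [Group X] {p q : ℕ} [Fact p.Prime] [Fact q.Prime]
    (hpq : q ≠ p) (h : IsPGroup q X) : IsPClosed p X := by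
  intro S
  have hd := IsPGroup.disjoint_of_ne p q hpq.symm (S : Subgroup X) (S : Subgroup X) S.2 (h.to_subgroup _)
  rw [disjoint_self] at hd
  rw [hd]; infer_instance

/-- Let p and q be distinct primes and G a finite non-abelian group with a normal elementary abelian q-subgroup A that is a minimal normal subgroup of G and has index p. Then A has order q^e with e the multiplicative order of q modulo p, and G is minimal non-p-closed: its Sylow p-subgroups are not normal, while in every proper subgroup and in every proper quotient of G the Sylow p-subgroups are normal. -/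
theorem result {G : Type*} [Group G] [Finite G] {p q : ℕ} [Fact p.Prime] (hq : q.Prime) (hpq : q ≠ p)
    (hna : ¬ IsMulCommutative G) (A : Subgroup G) [A.Normal] (hA : Cfsg.IsElementaryAbelian q A) (hidx : A.index = p)
    (hmin : ∀ B : Subgroup G, B.Normal → B ≤ A → B = ⊥ ∨ B = A) :
    Nat.card ↥A = q ^ orderOf (q : ZMod p) ∧ ¬ Cfsg.IsPClosed p G ∧ (∀ H : Subgroup G, H ≠ ⊤ → Cfsg.IsPClosed p ↥H) ∧
      ∀ (N : Subgroup G) [N.Normal], N ≠ ⊥ → Cfsg.IsPClosed p (G ⧸ N) := by
  have hAn : A.Normal := inferInstance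
  have : Fact q.Prime := ⟨hq⟩
  have hp : p.Prime := Fact.out
  have hcomm : ∀ a ∈ A, ∀ b ∈ A, a * b = b * a := fun a ha b hb =>
    congrArg Subtype.val (hA.1.is_comm.comm (⟨a, ha⟩ : A) ⟨b, hb⟩)
  have hAq : IsPGroup q A := by
    intro a
    exact ⟨1, Subtype.ext (by simpa using hA.2 a a.2)⟩
  have F1 : ∀ H : Subgroup G, ¬ H ≤ A → A ⊔ H = ⊤ := by
    intro H hH
    have h1 : A.relIndex (A ⊔ H) * (A ⊔ H).index = p := by
      rw [← hidx]; exact relIndex_mul_index le_sup_left
    have h2 : (A ⊔ H).index ∣ p := Dvd.intro_left _ h1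
    rcases (Nat.dvd_prime hp).1 h2 with h | h
    · exact index_eq_one.1 h
    · exfalso
      rw [h] at h1
      have h3 : A.relIndex (A ⊔ H) = 1 := by
        have : A.relIndex (A ⊔ H) * p = 1 * p := by rw [h1, one_mul]
        exact Nat.eq_of_mul_eq_mul_right hp.pos this
      rw [relIndex_eq_one] at h3
      exact hH (le_sup_right.trans h3)
  have F2 : ∀ y : G, y ∉ A → ∃ a ∈ A, y * a * y⁻¹ ≠ a := by
    intro y hy
    by_contra hcon
    push Not at hcon
    apply hna
    have htop : closure ((A : Set G) ∪ {y}) = ⊤ := by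
      rw [Subgroup.closure_union, Subgroup.closure_eq, ← zpowers_eq_closure]
      exact F1 _ (fun h => hy (h (mem_zpowers y)))
    have hya : ∀ a ∈ A, y * a = a * y := by
      intro a ha
      have := hcon a ha
      rwa [mul_inv_eq_iff_eq_mul] at this
    have hc := Subgroup.isMulCommutative_closure (k := (A : Set G) ∪ {y}) (by
      rintro u (hu | hu) v (hv | hv)
      · exact hcomm u hu v hv
      · rw [Set.mem_singleton_iff.1 hv]; exact (hya u hu).symm
      · rw [Set.mem_singleton_iff.1 hu]; exact hya v hv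
      · rw [Set.mem_singleton_iff.1 hu, Set.mem_singleton_iff.1 hv])
    rw [htop] at hc
    refine ⟨⟨fun u v => ?_⟩⟩
    exact congrArg Subtype.val (hc.is_comm.comm (⟨u, mem_top u⟩ : (⊤ : Subgroup G)) ⟨v, mem_top v⟩)
  have hpG : p ∣ Nat.card G := by
    rw [← Subgroup.card_mul_index A, hidx]; exact Dvd.intro_left _ rfl
  obtain ⟨x, hx⟩ := exists_prime_orderOf_dvd_card' p hpG
  have hnotA : ∀ y : G, orderOf y = p → y ∉ A := by
    intro y hy hyA
    have h1 := orderOf_dvd_of_pow_eq_one (hA.2 y hyA)
    rw [hy] at h1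
    exact hpq ((Nat.prime_dvd_prime_iff_eq hp hq).1 h1).symm
  have hxA : x ∉ A := hnotA x hx
  have hAne : A ≠ ⊥ := by
    intro h
    obtain ⟨a, ha, hne⟩ := F2 x hxA
    rw [h, mem_bot] at ha
    apply hne
    rw [ha]; group
  have htopx : A ⊔ zpowers x = ⊤ := F1 _ (fun h => hxA (h (mem_zpowers x)))
  have hGA : IsPGroup p (G ⧸ A) := IsPGroup.of_card (n := 1) (by rw [pow_one, ← hidx]; rfl)
  refine ⟨?_, ?_, ?_, ?_⟩
  · apply card_eq_pow_orderOf_of_minimal hpq A hA.1 hA.2 hAne x
    · intro a ha; exact hAn.conj_mem a ha x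
    · intro a _
      have : x ^ p = 1 := by rw [← hx]; exact pow_orderOf_eq_one x
      rw [this]; group
    · exact F2 x hxA
    · intro B hBA hB
      exact hmin B (normal_of_invariant A B hcomm hBA x hB htopx) hBA
  · intro hcl
    have hX : IsPGroup p (zpowers x) := IsPGroup.of_card (n := 1) (by rw [Nat.card_zpowers, hx, pow_one])
    obtain ⟨P, hP⟩ := hX.exists_le_sylow
    have hPn := hcl P
    have hd := IsPGroup.disjoint_of_ne p q hpq.symm (P : Subgroup G) A P.2 hAq
    obtain ⟨a, ha, hne⟩ := F2 x hxA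
    apply hne
    have hxP : x ∈ (P : Subgroup G) := hP (mem_zpowers x)
    have h1 : x * a * x⁻¹ * a⁻¹ ∈ (P : Subgroup G) := by
      have : x * a * x⁻¹ * a⁻¹ = x * (a * x⁻¹ * a⁻¹) := by group
      rw [this]
      exact mul_mem hxP (hPn.conj_mem _ (inv_mem hxP) a)
    have h2 : x * a * x⁻¹ * a⁻¹ ∈ A := A.mul_mem (hAn.conj_mem a ha x) (A.inv_mem ha)
    have h3 := (disjoint_def.1 hd) h1 h2
    rwa [mul_inv_eq_one] at h3
  · intro H hH
    by_cases hHA : H ≤ A
    · exact isPClosed_of_isPGroup_ne hpq (hAq.to_le hHA)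
    · have htop := F1 H hHA
      have hBn : (H ⊓ A).Normal := by
        rw [← normalizer_eq_top_iff, eq_top_iff, ← htop]
        apply sup_le
        · intro a ha
          rw [mem_normalizer_iff]
          intro h
          constructor
          · intro hh
            have : a * h * a⁻¹ = h := by rw [hcomm a ha h hh.2]; group
            rw [this]; exact hh
          · intro hh
            have hhA : h ∈ A := by
              have h1 : a⁻¹ * (a * h * a⁻¹) * a ∈ A := A.mul_mem (A.mul_mem (A.inv_mem ha) hh.2) ha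
              simpa [mul_assoc] using h1
            have : a * h * a⁻¹ = h := by rw [hcomm a ha h hhA]; group
            rw [this] at hh; exact hh
        · intro g hg
          rw [mem_normalizer_iff]
          intro h
          rw [mem_inf, mem_inf]
          have h1 : g * h * g⁻¹ ∈ H ↔ h ∈ H := by
            rw [Subgroup.mul_mem_cancel_right _ (inv_mem hg), Subgroup.mul_mem_cancel_left _ hg]
          have h2 : g * h * g⁻¹ ∈ A ↔ h ∈ A := by
            constructor
            · intro hh
              have := hAn.conj_mem _ hh g⁻¹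
              simpa [mul_assoc] using this
            · intro hh
              exact hAn.conj_mem _ hh g
          rw [h1, h2]
      rcases hmin _ hBn inf_le_right with h | h
      · apply isPClosed_of_isPGroup
        refine hGA.of_injective ((QuotientGroup.mk' A).comp H.subtype) ?_
        rw [injective_iff_map_eq_one]
        intro z hz
        have hzA : (z : G) ∈ A := (QuotientGroup.eq_one_iff _).1 hz
        have : (z : G) ∈ H ⊓ A := ⟨z.2, hzA⟩
        rw [h, mem_bot] at this
        exact Subtype.ext this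
      · exfalso
        apply hH
        have hAH : A ≤ H := by rw [← h]; exact inf_le_left
        rwa [sup_of_le_right hAH] at htop
  · intro N hNn hNne
    have hBn : (N ⊓ A).Normal := inferInstance
    rcases hmin _ hBn inf_le_right with h | h
    · exfalso
      obtain ⟨y, hyN, hy1⟩ := (Subgroup.ne_bot_iff_exists_ne_one).1 hNne |>.elim
        (fun y hy => (⟨y.1, y.2, fun h => hy (Subtype.ext h)⟩ : ∃ y : G, y ∈ N ∧ y ≠ 1))
      have hyA : y ∉ A := by
        intro hyA
        have : y ∈ N ⊓ A := ⟨hyN, hyA⟩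
        rw [h, mem_bot] at this
        exact hy1 this
      obtain ⟨a, ha, hne⟩ := F2 y hyA
      apply hne
      have h1 : y * a * y⁻¹ * a⁻¹ ∈ N := by
        have : y * a * y⁻¹ * a⁻¹ = y * (a * y⁻¹ * a⁻¹) := by group
        rw [this]
        exact mul_mem hyN (hNn.conj_mem _ (inv_mem hyN) a)
      have h2 : y * a * y⁻¹ * a⁻¹ ∈ A := A.mul_mem (hAn.conj_mem a ha y) (A.inv_mem ha)
      have h3 : y * a * y⁻¹ * a⁻¹ ∈ N ⊓ A := ⟨h1, h2⟩
      rw [h, mem_bot, mul_inv_eq_one] at h3
      exact h3
    · apply isPClosed_of_isPGroup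
      have hAN : A ≤ N := by rw [← h]; exact inf_le_left
      have hdvd : N.index ∣ p := by rw [← hidx]; exact index_dvd_of_le hAN
      rcases (Nat.dvd_prime hp).1 hdvd with h1 | h1
      · exact IsPGroup.of_card (n := 0) (by rw [pow_zero, ← h1]; rfl)
      · exact IsPGroup.of_card (n := 1) (by rw [pow_one, ← h1]; rfl)

end Cfsg.Agent.S3869
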