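import Cfsg.Statements.S3870
import Cfsg.Agent.Lib.Helper64.Sylow

set_option autoImplicit false
open Cfsg

namespace Cfsg.Agent.S3870

open Subgroup Cfsg.Agent.Lib.Helper64
open scoped Pointwise

/-- normalizers grow in finite `p`-groups -/
theorem exists_mem_normalizer_notMem {G : Type*} [Group G] [Finite G] {p : ℕ} [Fact p.Prime]
    (P D : Subgroup G) (hP : IsPGroup p P) (hD : D < P) :
    ∃ x ∈ P, x ∈ normalizer (D : Set G) ∧ x ∉ D := by
  have hnil : Group.IsNilpotent P := hP.isNilpotent
  have hnc := Group.normalizerCondition_of_isNilpotent (G := P)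
  have hlt : D.subgroupOf P < ⊤ := by
    rw [lt_top_iff_ne_top, Ne, subgroupOf_eq_top]
    exact hD.not_ge
  have h := hnc _ hlt
  obtain ⟨x, hx1, hx2⟩ := SetLike.exists_of_lt h
  rw [← subgroupOf_normalizer_eq hD.le] at hx1
  exact ⟨x, x.2, hx1, hx2⟩

theorem ti_aux {G : Type*} [Group G] [Finite G] [IsSimpleGroup G] {p : ℕ} [Fact p.Prime]
    (hsub : ∀ H : Subgroup G, H ≠ ⊤ → Cfsg.IsPClosed p ↥H) (D : Subgroup G) :
    ∀ P Q : Sylow p G, P ≠ Q → (P : Subgroup G) ⊓ (Q : Subgroup G) = D → D = ⊥ := by
  induction D using WellFoundedGT.induction with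
  | ind D ih =>
    intro P Q hPQ hD
    by_contra hne
    have hDP : D < P := by
      refine lt_of_le_of_ne (hD ▸ inf_le_left) ?_
      intro h
      apply hPQ
      have hle : (P : Subgroup G) ≤ Q := by rw [← h, ← hD]; exact inf_le_right
      exact Sylow.ext (P.3 Q.2 hle).symm
    have hDQ : D < Q := by
      refine lt_of_le_of_ne (hD ▸ inf_le_right) ?_
      intro h
      apply hPQ
      have hle : (Q : Subgroup G) ≤ P := by rw [← h, ← hD]; exact inf_le_left
      exact Sylow.ext (Q.3 P.2 hle)
    have hN : normalizer (D : Set G) ≠ ⊤ := by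
      intro h
      have hn : D.Normal := normalizer_eq_top_iff.1 h
      rcases hn.eq_bot_or_eq_top with h1 | h1
      · exact hne h1
      · rw [h1] at hDP
        exact not_top_lt hDP
    have hcl := hsub _ hN
    set N := normalizer (D : Set G) with hNdef
    obtain ⟨S0⟩ : Nonempty (Sylow p N) := inferInstance
    have huniq : Subsingleton (Sylow p N) := by
      have := Sylow.unique_of_normal S0 (hcl S0)
      infer_instance
    have hle : ∀ K : Subgroup G, IsPGroup p K → K ≤ N → K ≤ (S0 : Subgroup N).map N.subtype := by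
      intro K hK hKN
      have hK' : IsPGroup p (K.subgroupOf N) := hK.comap_of_injective N.subtype N.subtype_injective
      obtain ⟨S1, hS1⟩ := hK'.exists_le_sylow
      rw [Subsingleton.elim S1 S0] at hS1
      intro x hx
      exact ⟨⟨x, hKN hx⟩, hS1 hx, rfl⟩
    obtain ⟨T, hT⟩ := (S0.2.map N.subtype).exists_le_sylow
    obtain ⟨x, hxP, hxN, hxD⟩ := exists_mem_normalizer_notMem (P : Subgroup G) D P.2 hDP
    obtain ⟨y, hyQ, hyN, hyD⟩ := exists_mem_normalizer_notMem (Q : Subgroup G) D Q.2 hDQ
    have hDN : D ≤ N := le_normalizer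
    have hDT : D ≤ T := (hle D (P.2.to_le hDP.le) hDN).trans hT
    have hxT : x ∈ (T : Subgroup G) := by
      have : (P : Subgroup G) ⊓ N ≤ T := (hle _ (P.2.to_le inf_le_left) inf_le_right).trans hT
      exact this ⟨hxP, hxN⟩
    have hyT : y ∈ (T : Subgroup G) := by
      have : (Q : Subgroup G) ⊓ N ≤ T := (hle _ (Q.2.to_le inf_le_left) inf_le_right).trans hT
      exact this ⟨hyQ, hyN⟩
    have hTP : T = P := by
      by_contra hTP
      have hlt : D < (T : Subgroup G) ⊓ P := by
        refine lt_of_le_of_ne (le_inf hDT hDP.le) ?_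
        intro h
        apply hxD
        rw [h]
        exact ⟨hxT, hxP⟩
      have := ih _ hlt T P hTP rfl
      rw [this] at hlt
      exact not_lt_bot hlt
    have hTQ : T = Q := by
      by_contra hTQ
      have hlt : D < (T : Subgroup G) ⊓ Q := by
        refine lt_of_le_of_ne (le_inf hDT hDQ.le) ?_
        intro h
        apply hyD
        rw [h]
        exact ⟨hyT, hyQ⟩
      have := ih _ hlt T Q hTQ rfl
      rw [this] at hlt
      exact not_lt_bot hlt
    exact hPQ (hTP.symm.trans hTQ)

/-- Let G be a finite simple group whose Sylow p-subgroups are not normal but such that every proper subgroup of G has a normal Sylow p-subgroup. Then any two distinct Sylow p-subgroups of G intersect trivially, and for every Sylow p-subgroup P the normalizer of every non-identity subgroup of P lies in the normalizer of P. -/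
theorem result {G : Type*} [Group G] [Finite G] [IsSimpleGroup G] {p : ℕ} [Fact p.Prime]
    (hnc : ¬ Cfsg.IsPClosed p G) (hsub : ∀ H : Subgroup G, H ≠ ⊤ → Cfsg.IsPClosed p ↥H) :
    (∀ P Q : Sylow p G, P ≠ Q → (P : Subgroup G) ⊓ (Q : Subgroup G) = ⊥) ∧
      ∀ (P : Sylow p G) (R : Subgroup G), R ≤ P → R ≠ ⊥ →
        Subgroup.normalizer (R : Set G) ≤ Subgroup.normalizer ((P : Subgroup G) : Set G) := by
  have TI : ∀ P Q : Sylow p G, P ≠ Q → (P : Subgroup G) ⊓ (Q : Subgroup G) = ⊥ :=
    fun P Q hPQ => ti_aux hsub _ P Q hPQ rfl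
  refine ⟨TI, ?_⟩
  intro P R hRP hR g hg
  refine Sylow.smul_eq_iff_mem_normalizer.1 ?_
  by_contra hne
  have h1 := TI P (g • P) (fun h => hne h.symm)
  apply hR
  rw [eq_bot_iff, ← h1]
  refine le_inf hRP ?_
  intro x hx
  rw [Sylow.coe_subgroup_smul, Subgroup.mem_pointwise_smul_iff_inv_smul_mem]
  apply hRP
  have hg' : g⁻¹ ∈ normalizer (R : Set G) := inv_mem hg
  rw [mem_normalizer_iff] at hg'
  have := (hg' x).1 hx
  simpa using this

end Cfsg.Agent.S3870
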