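import Cfsg.Statements.S3873
import Cfsg.Agent.Lib.Helper64.MinNonClosed

set_option autoImplicit false
open Cfsg

namespace Cfsg.Agent.S3873

open Subgroup Cfsg.Agent.Lib.Helper64

theorem normal_inf_centralizer {G : Type*} [Group G] (P A : Subgroup G) [A.Normal]
    (hPA : P ⊔ A = ⊤) : (P ⊓ centralizer (A : Set G)).Normal := by
  have hcn : (centralizer (A : Set G)).Normal := inferInstance
  rw [← normalizer_eq_top_iff, eq_top_iff, ← hPA]
  apply sup_le
  · intro g hg
    rw [mem_normalizer_iff]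
    intro h
    rw [mem_inf, mem_inf]
    have h1 : g * h * g⁻¹ ∈ P ↔ h ∈ P := by
      rw [Subgroup.mul_mem_cancel_right _ (inv_mem hg), Subgroup.mul_mem_cancel_left _ hg]
    have h2 : g * h * g⁻¹ ∈ centralizer (A : Set G) ↔ h ∈ centralizer (A : Set G) := by
      constructor
      · intro hh
        have := hcn.conj_mem _ hh g⁻¹
        simpa [mul_assoc] using this
      · intro hh
        exact hcn.conj_mem _ hh g
    rw [h1, h2]
  · intro a ha
    rw [mem_normalizer_iff]
    intro h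
    constructor
    · intro hh
      have : a * h * a⁻¹ = h := by
        rw [(mem_centralizer_iff.1 hh.2) a ha]; group
      rw [this]; exact hh
    · intro hh
      have h1 := (mem_centralizer_iff.1 hh.2) a⁻¹ (A.inv_mem ha)
      have : a * h * a⁻¹ = h := by
        have h2 : h = a⁻¹ * (a * h * a⁻¹) * a := by group
        rw [h1] at h2
        have h3 : a * h * a⁻¹ * a⁻¹ * a = a * h * a⁻¹ := by group
        rw [h3] at h2
        exact h2.symm
      rw [this] at hh; exact hh

/-- Say that a finite group is p-exponent closed when its elements of order dividing p form a subgroup. Let G be a finite group that is not p-exponent closed, but all of whose proper subgroups and proper quotients are, and suppose G is neither simple nor a p-group. Then there is a prime q ≠ p such that G has order p · q^e, where e is the multiplicative order of q modulo p, and G has a normal elementary abelian subgroup of order q^e that is a minimal normal subgroup of G. -/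
theorem result {G : Type*} [Group G] [Finite G] {p : ℕ} [Fact p.Prime]
    (hnc : ¬ (∃ H : Subgroup G, (H : Set G) = {g : G | g ^ p = 1})) (hsub : ∀ K : Subgroup G, K ≠ ⊤ → (∃ H : Subgroup ↥K, (H : Set ↥K) = {g : ↥K | g ^ p = 1}))
    (hquo : ∀ (N : Subgroup G) [N.Normal], N ≠ ⊥ → (∃ H : Subgroup (G ⧸ N), (H : Set (G ⧸ N)) = {g : (G ⧸ N) | g ^ p = 1}))
    (hns : ¬ IsSimpleGroup G) (hnp : ¬ IsPGroup p G) :
    ∃ q : ℕ, q.Prime ∧ q ≠ p ∧ Nat.card G = p * q ^ orderOf (q : ZMod p) ∧
      ∃ A : Subgroup G, A.Normal ∧ Nat.card ↥A = q ^ orderOf (q : ZMod p) ∧ Cfsg.IsElementaryAbelian q A ∧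
        ∀ B : Subgroup G, B.Normal → B ≤ A → B = ⊥ ∨ B = A := by
  -- (a)
  obtain ⟨x, y, hx, hy, hxy⟩ : ∃ x y : G, x ^ p = 1 ∧ y ^ p = 1 ∧ (x * y) ^ p ≠ 1 := by
    by_contra hcon
    push Not at hcon
    apply hnc
    exact ⟨{ carrier := {g : G | g ^ p = 1}
             mul_mem' := fun {a b} ha hb => hcon a b ha hb
             one_mem' := one_pow _
             inv_mem' := fun {a} ha => by
              change (a⁻¹) ^ p = 1
              rw [inv_pow, show a ^ p = 1 from ha, inv_one] }, rfl⟩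
  -- SL'
  have SL : ∀ K : Subgroup G, K ≠ ⊤ → ∃ O : Subgroup G, ∀ g, g ∈ O ↔ g ∈ K ∧ g ^ p = 1 := by
    intro K hK
    obtain ⟨H, hH⟩ := hsub K hK
    refine ⟨H.map K.subtype, fun g => ?_⟩
    constructor
    · rintro ⟨k, hk, rfl⟩
      refine ⟨k.2, ?_⟩
      have : k ∈ (H : Set K) := hk
      rw [hH] at this
      exact congrArg Subtype.val this
    · rintro ⟨hgK, hg⟩
      refine ⟨⟨g, hgK⟩, ?_, rfl⟩
      have : (⟨g, hgK⟩ : K) ∈ (H : Set K) := by
        rw [hH]
        exact Subtype.ext hg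
      exact this
  -- (b)
  have hgen : closure ({x, y} : Set G) = ⊤ := by
    by_contra hne
    obtain ⟨O, hO⟩ := SL _ hne
    have hxO : x ∈ O := (hO x).2 ⟨subset_closure (by simp), hx⟩
    have hyO : y ∈ O := (hO y).2 ⟨subset_closure (by simp), hy⟩
    exact hxy ((hO _).1 (O.mul_mem hxO hyO)).2
  -- (c)
  have QL : ∀ N : Subgroup G, N.Normal → N ≠ ⊥ → ∀ g : G, g ^ p ∈ N := by
    intro N hN hNne g
    have := hN
    obtain ⟨H, hH⟩ := hquo N hNne
    have hmem : ∀ z : G ⧸ N, z ∈ H ↔ z ^ p = 1 := by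
      intro z
      have : z ∈ (H : Set (G ⧸ N)) ↔ z ∈ {g : (G ⧸ N) | g ^ p = 1} := by rw [hH]
      exact this
    have htop : H.comap (QuotientGroup.mk' N) = ⊤ := by
      rw [eq_top_iff, ← hgen, closure_le]
      intro z hz
      rw [SetLike.mem_coe, mem_comap, hmem, ← map_pow]
      rcases hz with rfl | hz
      · rw [hx, map_one]
      · rw [Set.mem_singleton_iff.1 hz, hy, map_one]
    have hg : g ∈ H.comap (QuotientGroup.mk' N) := by rw [htop]; exact mem_top g
    rw [mem_comap, hmem, ← map_pow] at hg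
    exact (QuotientGroup.eq_one_iff _).1 hg
  have hnt : Nontrivial G := by
    by_contra h
    rw [not_nontrivial_iff_subsingleton] at h
    exact hxy (Subsingleton.elim _ _)
  obtain ⟨N, hNn, hNbot, hNtop⟩ : ∃ N : Subgroup G, N.Normal ∧ N ≠ ⊥ ∧ N ≠ ⊤ := by
    by_contra hcon
    push Not at hcon
    apply hns
    refine ⟨fun H hH => ?_⟩
    by_cases h : H = ⊥
    · exact Or.inl h
    · exact Or.inr (hcon H hH h)
  obtain ⟨A, hAN, hAmin⟩ := Finite.exists_le_minimal
    (p := fun B : Subgroup G => B.Normal ∧ B ≠ ⊥) (a := N) ⟨hNn, hNbot⟩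
  obtain ⟨hAn, hAne⟩ := hAmin.prop
  have := hAn
  have hAtop : A ≠ ⊤ := by
    rintro rfl
    exact hNtop (top_le_iff.1 hAN)
  have hmin : ∀ B : Subgroup G, B.Normal → B ≤ A → B = ⊥ ∨ B = A := by
    intro B hB hBA
    by_cases h : B = ⊥
    · exact Or.inl h
    · exact Or.inr (le_antisymm hBA (hAmin.le_of_le ⟨hB, h⟩ hBA))
  -- (f)
  have hAfree : ∀ a ∈ A, a ^ p = 1 → a = 1 := by
    obtain ⟨O, hO⟩ := SL A hAtop
    have hOn : O.Normal := by
      constructor
      intro a ha g
      rw [hO] at ha ⊢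
      refine ⟨hAn.conj_mem a ha.1 g, ?_⟩
      rw [conj_pow, ha.2]; group
    rcases hmin O hOn (fun a ha => ((hO a).1 ha).1) with h | h
    · intro a ha hap
      have : a ∈ O := (hO a).2 ⟨ha, hap⟩
      rw [h, mem_bot] at this
      exact this
    · exfalso
      apply hnp
      intro g
      refine ⟨2, ?_⟩
      have h1 : g ^ p ∈ O := by rw [h]; exact QL A hAn hAne g
      rw [pow_two, pow_mul]
      exact ((hO _).1 h1).2
  have hpA : ¬ p ∣ Nat.card A := by
    intro h
    obtain ⟨a, ha⟩ := exists_prime_orderOf_dvd_card' p h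
    have h1 : (a : G) ^ p = 1 := by
      have := pow_orderOf_eq_one a
      rw [ha] at this
      exact congrArg Subtype.val this
    have h2 : a = 1 := Subtype.ext (hAfree a a.2 h1)
    rw [h2, orderOf_one] at ha
    exact (Fact.out : p.Prime).one_lt.ne ha
  obtain ⟨P⟩ : Nonempty (Sylow p G) := inferInstance
  have hPAbot : (P : Subgroup G) ⊓ A = ⊥ := inf_eq_bot_of_isPGroup_of_not_dvd _ A P.2 hpA
  have hPA : (P : Subgroup G) ⊔ A = ⊤ := by
    rw [← index_eq_one]
    have hq : IsPGroup p (G ⧸ A) := by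
      intro z
      refine ⟨1, ?_⟩
      induction z using QuotientGroup.induction_on with
      | H g =>
        rw [pow_one, ← QuotientGroup.mk_pow]
        exact (QuotientGroup.eq_one_iff _).2 (QL A hAn hAne g)
    obtain ⟨n, hn⟩ := hq.exists_card_eq
    have h1 : ((P : Subgroup G) ⊔ A).index ∣ p ^ n := by
      rw [← hn]; exact index_dvd_of_le le_sup_right
    have h2 : ((P : Subgroup G) ⊔ A).index ∣ (P : Subgroup G).index := index_dvd_of_le le_sup_left
    have hc : Nat.Coprime (p ^ n) (P : Subgroup G).index :=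
      Nat.Coprime.pow_left _ ((Nat.Prime.coprime_iff_not_dvd Fact.out).2 P.not_dvd_index)
    exact Nat.eq_one_of_dvd_coprimes hc h1 h2
  have hPexp : ∀ s ∈ (P : Subgroup G), s ^ p = 1 := by
    intro s hs
    have : s ^ p ∈ (P : Subgroup G) ⊓ A := ⟨pow_mem hs p, QL A hAn hAne s⟩
    rw [hPAbot, mem_bot] at this
    exact this
  have hPne : (P : Subgroup G) ≠ ⊥ := by
    intro h
    rw [h, bot_sup_eq] at hPA
    exact hAtop hPA
  have hcent : ∀ P0 K : Subgroup G, P0 ≤ P → K ≤ A → P0 ≤ normalizer (K : Set G) → P0 ⊔ K ≠ ⊤ →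
      ∀ s ∈ P0, ∀ a ∈ K, s * a = a * s := by
    intro P0 K hP0 hKA hP0K hne s hs a ha
    obtain ⟨O, hO⟩ := SL _ hne
    have hsH : s ∈ P0 ⊔ K := (le_sup_left : P0 ≤ P0 ⊔ K) hs
    have haH : a ∈ P0 ⊔ K := (le_sup_right : K ≤ P0 ⊔ K) ha
    have hsO : s ∈ O := (hO s).2 ⟨hsH, hPexp s (hP0 hs)⟩
    have hcO : a * s * a⁻¹ ∈ O := by
      rw [hO]
      refine ⟨mul_mem (mul_mem haH hsH) (inv_mem haH), ?_⟩
      rw [conj_pow, hPexp s (hP0 hs)]; group
    have h2 : a * s * a⁻¹ * s⁻¹ ∈ O := O.mul_mem hcO (O.inv_mem hsO)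
    have h3 : a * s * a⁻¹ * s⁻¹ ∈ K := by
      have : a * s * a⁻¹ * s⁻¹ = a * (s * a⁻¹ * s⁻¹) := by group
      rw [this]
      exact K.mul_mem ha ((mem_normalizer_iff.1 (hP0K hs) _).1 (K.inv_mem ha))
    have h5 := hAfree _ (hKA h3) ((hO _).1 h2).2
    rw [mul_inv_eq_one, mul_inv_eq_iff_eq_mul] at h5
    exact h5.symm
  have hfaith : (P : Subgroup G) ⊓ centralizer (A : Set G) = ⊥ := by
    by_contra hne
    have hCn := normal_inf_centralizer (P : Subgroup G) A hPA
    apply hAne
    rw [eq_bot_iff]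
    intro a ha
    rw [mem_bot]
    apply hAfree a ha
    have h1 := QL _ hCn hne a
    have h2 : a ^ p ∈ (P : Subgroup G) ⊓ A := ⟨h1.1, pow_mem ha p⟩
    rw [hPAbot, mem_bot] at h2
    exact h2
  obtain ⟨q, hq, hqp, hG, hA, hAc, hAe⟩ :=
    structure_of_minimal A hAne hmin (P : Subgroup G) P.2 hPne hPA hpA hcent hfaith
  exact ⟨q, hq, hqp, hG, A, hAn, hA, ⟨hAc, hAe⟩, hmin⟩

end Cfsg.Agent.S3873
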