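import Cfsg.Statements.S3886
import Cfsg.Agent.Lib.Helper64.MetaSub
import Cfsg.Agent.S3879
import Cfsg.Agent.S3880

set_option autoImplicit false
open Cfsg

namespace Cfsg.Agent.S3886

open Cfsg.Agent.Lib.Helper64 Subgroup

theorem isMetacyclic_subgroup {G : Type*} [Group G] (hmc : Cfsg.IsMetacyclic G) (R : Subgroup G) :
    Cfsg.IsMetacyclic ↥R := by
  obtain ⟨N, hN, hNc, hQc⟩ := hmc
  let φ : ↥R →* G ⧸ N := (QuotientGroup.mk' N).comp R.subtype
  refine ⟨φ.ker, inferInstance, ?_, ?_⟩
  · let f : ↥φ.ker →* ↥N := MonoidHom.codRestrict (R.subtype.comp φ.ker.subtype) N (by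
      intro x
      have : φ x.1 = 1 := x.2
      exact (QuotientGroup.eq_one_iff _).1 this)
    apply isCyclic_of_injective f
    intro x y hxy
    have : ((x : ↥R) : G) = ((y : ↥R) : G) := congrArg (fun z : ↥N => (z : G)) hxy
    exact Subtype.ext (Subtype.ext this)
  · exact isCyclic_of_injective (QuotientGroup.kerLift φ) (QuotientGroup.kerLift_injective φ)

theorem isMulCommutative_map_iff {G : Type*} [Group G] (R : Subgroup G) (L : Subgroup ↥R) :
    IsMulCommutative ↥(L.map R.subtype) ↔ IsMulCommutative ↥L := by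
  constructor
  · intro h
    refine ⟨⟨fun x y => ?_⟩⟩
    have := h.is_comm.comm (⟨_, ⟨x.1, x.2, rfl⟩⟩ : ↥(L.map R.subtype)) ⟨_, ⟨y.1, y.2, rfl⟩⟩
    have h2 : ((x : ↥R) : G) * ((y : ↥R) : G) = ((y : ↥R) : G) * ((x : ↥R) : G) :=
      congrArg Subtype.val this
    exact Subtype.ext (Subtype.ext h2)
  · intro h
    refine ⟨⟨?_⟩⟩
    rintro ⟨_, ⟨x, hx, rfl⟩⟩ ⟨_, ⟨y, hy, rfl⟩⟩
    have := h.is_comm.comm (⟨x, hx⟩ : ↥L) ⟨y, hy⟩
    have h2 : x * y = y * x := congrArg Subtype.val this
    exact Subtype.ext (congrArg (fun z : ↥R => (z : G)) h2)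

theorem index_commutator_subgroup {G : Type*} [Group G] [Finite G] {p : ℕ} [Fact p.Prime]
    (hp : p ≠ 2) (hG : IsPGroup p G) (hmc : Cfsg.IsMetacyclic G) (R : Subgroup G)
    (hR : ¬ IsMulCommutative ↥R) : (commutator ↥R).index = (commutator G).index := by
  have hpp : p.Prime := Fact.out
  have hGR : IsPGroup p ↥R := hG.to_subgroup R
  have hmcR := isMetacyclic_subgroup hmc R
  obtain ⟨r, hr⟩ := hGR.exists_card_eq
  obtain ⟨g, hg⟩ := hG.exists_card_eq
  obtain ⟨x, _, hx⟩ := (Nat.dvd_prime_pow hpp).1 (hg ▸ (commutator G).index_dvd_card)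
  obtain ⟨y, _, hy⟩ := (Nat.dvd_prime_pow hpp).1 (hr ▸ (commutator ↥R).index_dvd_card)
  have hxr : x < r := by
    have := (Cfsg.Agent.S3880.result hp hG hmc R).1.not.1 hR
    rw [hr, hx, Nat.pow_le_pow_iff_right hpp.one_lt] at this
    omega
  have hyr : y < r := by
    have hT : ¬ IsMulCommutative ↥(⊤ : Subgroup ↥R) := by
      intro h
      apply hR
      refine ⟨⟨fun u v => ?_⟩⟩
      exact congrArg Subtype.val (h.is_comm.comm (⟨u, mem_top u⟩ : ↥(⊤ : Subgroup ↥R)) ⟨v, mem_top v⟩)
    have := (Cfsg.Agent.S3880.result hp hGR hmcR ⊤).1.not.1 hT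
    rw [Subgroup.card_top, hr, hy, Nat.pow_le_pow_iff_right hpp.one_lt] at this
    omega
  have key : ∀ e ≤ r, (e ≤ y ↔ e ≤ x) := by
    intro e he
    obtain ⟨L, hL⟩ := Sylow.exists_subgroup_card_pow_prime (G := ↥R) p
      (hr ▸ pow_dvd_pow p he : p ^ e ∣ Nat.card ↥R)
    have h1 := (Cfsg.Agent.S3880.result hp hGR hmcR L).1
    have h2 := (Cfsg.Agent.S3880.result hp hG hmc (L.map R.subtype)).1
    rw [isMulCommutative_map_iff, Subgroup.card_map_of_injective R.subtype_injective] at h2
    rw [hL, hy, Nat.pow_le_pow_iff_right hpp.one_lt] at h1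
    rw [hL, hx, Nat.pow_le_pow_iff_right hpp.one_lt] at h2
    exact h1.symm.trans h2
  have h1 := (key y hyr.le).1 le_rfl
  have h2 := (key x hxr.le).2 le_rfl
  rw [hx, hy]; congr 1; omega

theorem central_product_of_not_comm {G : Type*} [Group G] [Finite G] {p : ℕ} [Fact p.Prime]
    (hp : p ≠ 2) (hG : IsPGroup p G) (hmc : Cfsg.IsMetacyclic G) (R : Subgroup G)
    (hR : ¬ IsMulCommutative ↥R) :
    Nat.card ↥R * Nat.card ↥(Subgroup.center ↥R) = (commutator G).index ^ 2 := by
  rw [← index_commutator_subgroup hp hG hmc R hR]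
  have h0 := Cfsg.Agent.S3879.result hp (hG.to_subgroup R) (isMetacyclic_subgroup hmc R)
  have h1 := (center ↥R).card_mul_index
  have h2 := (commutator ↥R).card_mul_index
  rw [h0] at h1
  have hC : 0 < Nat.card ↥(commutator ↥R) := Nat.card_pos
  set Z := Nat.card ↥(center ↥R)
  set C := Nat.card ↥(commutator ↥R)
  set I := (commutator ↥R).index
  have h3 : I = Z * C := by
    apply Nat.eq_of_mul_eq_mul_left hC
    rw [h2, ← h1]; ring
  rw [← h1, h3]; ring

theorem central_product_of_comm {G : Type*} [Group G] (R : Subgroup G)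
    (hR : IsMulCommutative ↥R) :
    Nat.card ↥R * Nat.card ↥(Subgroup.center ↥R) = Nat.card ↥R ^ 2 := by
  have : center ↥R = ⊤ := by
    rw [eq_top_iff]
    intro x _
    rw [mem_center_iff]
    intro y
    exact hR.is_comm.comm y x
  rw [this, Subgroup.card_top, sq]

/-- Let p be an odd prime and G a finite metacyclic p-group (G has a cyclic normal subgroup with cyclic quotient). Then the largest value of |R| · |Z(R)| over subgroups R of G is |G : G'|², and the subgroups attaining it (the centrally large subgroups) are exactly the non-abelian subgroups together with the maximal abelian subgroups of G. -/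
theorem result {G : Type*} [Group G] [Finite G] {p : ℕ} [Fact p.Prime] (hp : p ≠ 2) (hG : IsPGroup p G) (hmc : Cfsg.IsMetacyclic G) : Cfsg.maxCentralProduct G = (commutator G).index ^ 2 ∧
    ∀ R : Subgroup G, Cfsg.IsCentrallyLarge R ↔ (¬ IsMulCommutative ↥R ∨ Maximal (fun K : Subgroup G => IsMulCommutative ↥K) R) := by
  have hpp : p.Prime := Fact.out
  have hmax : Cfsg.maxCentralProduct G = (commutator G).index ^ 2 := by
    unfold Cfsg.maxCentralProduct
    apply IsGreatest.csSup_eq
    constructor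
    · obtain ⟨g, hg⟩ := hG.exists_card_eq
      obtain ⟨x, hxg, hx⟩ := (Nat.dvd_prime_pow hpp).1 (hg ▸ (commutator G).index_dvd_card)
      obtain ⟨L, hL⟩ := Sylow.exists_subgroup_card_pow_prime (G := G) p
        (hg ▸ pow_dvd_pow p hxg : p ^ x ∣ Nat.card G)
      refine ⟨L, ?_⟩
      have hLc : IsMulCommutative ↥L := (Cfsg.Agent.S3880.result hp hG hmc L).1.2 (by rw [hL, hx])
      rw [central_product_of_comm L hLc, hL, hx]
    · rintro _ ⟨R, rfl⟩
      by_cases hR : IsMulCommutative ↥R
      · rw [central_product_of_comm R hR]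
        exact Nat.pow_le_pow_left ((Cfsg.Agent.S3880.result hp hG hmc R).1.1 hR) 2
      · exact (central_product_of_not_comm hp hG hmc R hR).le
  refine ⟨hmax, fun R => ?_⟩
  unfold Cfsg.IsCentrallyLarge
  rw [hmax]
  by_cases hR : IsMulCommutative ↥R
  · rw [central_product_of_comm R hR, (Cfsg.Agent.S3880.result hp hG hmc R).2]
    constructor
    · intro h
      exact Or.inr (Nat.pow_left_injective (by norm_num : 2 ≠ 0) h)
    · rintro (h | h)
      · exact absurd hR h
      · rw [h]
  · exact ⟨fun _ => Or.inl hR, fun _ => central_product_of_not_comm hp hG hmc R hR⟩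

end Cfsg.Agent.S3886
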