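import Cfsg.Statements.S3889
-- import your own Cfsg.Agent.* helpers here

set_option autoImplicit false
open Cfsg

namespace Cfsg.Agent.S3889

/-- A finite abelian group that is the union of a family of proper subgroups any two of which intersect trivially is elementary abelian: its exponent is a prime. -/
theorem result {G : Type*} [CommGroup G] [Finite G] (𝓑 : Set (Subgroup G)) (hprop : ∀ B ∈ 𝓑, B ≠ ⊤)
    (hcov : ∀ g : G, ∃ B ∈ 𝓑, g ∈ B) (hdisj : ∀ B ∈ 𝓑, ∀ C ∈ 𝓑, B ≠ C → B ⊓ C = ⊥) :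
    (Monoid.exponent G).Prime := by
  have key : ∀ A ∈ 𝓑, ∀ a ∈ A, ∀ b : G, b ∉ A → orderOf a ∣ orderOf b := by
    intro A hA a ha b hb
    obtain ⟨C, hC, habC⟩ := hcov (a * b)
    have hne : A ≠ C := by
      rintro rfl
      exact hb ((A.mul_mem_cancel_left ha).1 habC)
    have h1 : (a * b) ^ orderOf b = a ^ orderOf b := by
      rw [mul_pow, pow_orderOf_eq_one, mul_one]
    have h2 : a ^ orderOf b ∈ A ⊓ C := ⟨A.pow_mem ha _, h1 ▸ C.pow_mem habC _⟩
    rw [hdisj A hA C hC hne, Subgroup.mem_bot] at h2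
    exact orderOf_dvd_of_pow_eq_one h2
  have key2 : ∀ A ∈ 𝓑, ∀ a ∈ A, a ≠ 1 → ∀ b : G, b ∉ A → orderOf a = orderOf b := by
    intro A hA a ha ha1 b hb
    obtain ⟨B, hB, hbB⟩ := hcov b
    have hne : A ≠ B := by
      rintro rfl
      exact hb hbB
    have haB : a ∉ B := by
      intro h
      have : a ∈ A ⊓ B := ⟨ha, h⟩
      rw [hdisj A hA B hB hne, Subgroup.mem_bot] at this
      exact ha1 this
    exact Nat.dvd_antisymm (key A hA a ha b hb) (key B hB b hbB a haB)
  have hex : ∀ A ∈ 𝓑, ∃ b : G, b ∉ A := by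
    intro A hA
    by_contra hh
    push Not at hh
    exact hprop A hA (eq_top_iff.2 fun y _ => hh y)
  have key3 : ∀ a a' : G, a ≠ 1 → a' ≠ 1 → orderOf a = orderOf a' := by
    intro a a' ha ha'
    obtain ⟨A, hA, haA⟩ := hcov a
    by_cases h : a' ∈ A
    · obtain ⟨b, hb⟩ := hex A hA
      rw [key2 A hA a haA ha b hb, key2 A hA a' h ha' b hb]
    · exact key2 A hA a haA ha a' h
  obtain ⟨a, ha⟩ : ∃ a : G, a ≠ 1 := by
    obtain ⟨B, hB, -⟩ := hcov 1
    obtain ⟨b, hb⟩ := hex B hB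
    exact ⟨b, fun h => hb (h ▸ B.one_mem)⟩
  have hn1 : orderOf a ≠ 1 := fun h => ha (orderOf_eq_one_iff.1 h)
  have hq : (orderOf a).minFac.Prime := Nat.minFac_prime hn1
  have ho : orderOf (a ^ (orderOf a / (orderOf a).minFac)) = (orderOf a).minFac :=
    orderOf_pow_orderOf_div (orderOf_pos a).ne' (Nat.minFac_dvd _)
  have hne1 : a ^ (orderOf a / (orderOf a).minFac) ≠ 1 := by
    intro h
    rw [h, orderOf_one] at ho
    exact hq.one_lt.ne ho
  have hprime : (orderOf a).Prime := by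
    rw [key3 a _ ha hne1, ho]
    exact hq
  have : Nontrivial G := ⟨⟨a, 1, ha⟩⟩
  rw [(Monoid.exponent_eq_prime_iff hprime).2 (fun g hg => key3 g a hg ha)]
  exact hprime

end Cfsg.Agent.S3889
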