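import Cfsg.Statements.S3909
-- import your own Cfsg.Agent.* helpers here

set_option autoImplicit false
open Cfsg

namespace Cfsg.Agent.S3909


lemma comm_of_le {G : Type*} [Group G] {A M : Subgroup G} (hM : IsMulCommutative ↥M) (hle : A ≤ M) :
    IsMulCommutative ↥A :=
  ⟨⟨fun a b => Subtype.ext
    (congrArg (Subtype.val : ↥M → G) (mul_comm' (⟨a.1, hle a.2⟩ : ↥M) ⟨b.1, hle b.2⟩))⟩⟩

lemma absorb {G : Type*} [Group G] (hB : ∀ A B : Subgroup G, IsMulCommutative ↥A → IsMulCommutative ↥B → Nat.card ↥A = Nat.card ↥B → ∃ g : G, B = A.map (MulAut.conj g).toMonoidHom) (M : Subgroup G) [M.Normal]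
    (A B : Subgroup G) (hA : IsMulCommutative ↥A) (hB' : IsMulCommutative ↥B) (hc : Nat.card ↥A = Nat.card ↥B)
    (hAM : A ≤ M) : B ≤ M := by
  obtain ⟨g, hg⟩ := hB A B hA hB' hc
  rw [hg]
  rintro _ ⟨y, hy, rfl⟩
  exact ‹M.Normal›.conj_mem y (hAM hy) g

/-- Let G be a finite group in which any two abelian subgroups of the same order are conjugate. Let M be a normal subgroup of G. If M contains an element of the same order as a ∈ G, then a ∈ M; and if M is elementary abelian of order p^t with p prime and t ≥ 2, then M is the unique Sylow p-subgroup of G. -/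
theorem result {G : Type*} [Group G] [Finite G] (hB : ∀ A B : Subgroup G, IsMulCommutative ↥A → IsMulCommutative ↥B → Nat.card ↥A = Nat.card ↥B → ∃ g : G, B = A.map (MulAut.conj g).toMonoidHom) (M : Subgroup G) [M.Normal] :
    (∀ a : G, (∃ m ∈ M, orderOf m = orderOf a) → a ∈ M) ∧
    ∀ (p t : ℕ) [Fact p.Prime], 2 ≤ t → Nat.card ↥M = p ^ t → Cfsg.IsElementaryAbelian p M → ∀ P : Sylow p G, (P : Subgroup G) = M := by
  have part1 : ∀ a : G, (∃ m ∈ M, orderOf m = orderOf a) → a ∈ M := by
    rintro a ⟨m, hm, hma⟩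
    have h1 : Subgroup.zpowers a ≤ M :=
      absorb hB M (Subgroup.zpowers m) (Subgroup.zpowers a) inferInstance inferInstance
        (by rw [Nat.card_zpowers, Nat.card_zpowers, hma]) (by simpa using hm)
    exact h1 (Subgroup.mem_zpowers a)
  refine ⟨part1, ?_⟩
  intro p t hp ht hcard hel P
  have hMp : IsPGroup p ↥M := IsPGroup.of_card hcard
  have hle : (P : Subgroup G) ≤ M := by
    intro x hx
    obtain ⟨k, hk⟩ := (IsPGroup.iff_orderOf.1 P.2) ⟨x, hx⟩
    rw [Subgroup.orderOf_mk] at hk
    rcases k with _ | _ | k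
    · rw [pow_zero, orderOf_eq_one_iff] at hk
      rw [hk]; exact M.one_mem
    · have hdvd : p ∣ Nat.card ↥M := by rw [hcard]; exact dvd_pow_self p (by omega)
      obtain ⟨m, hm⟩ := exists_prime_orderOf_dvd_card' p hdvd
      refine part1 x ⟨m.1, m.2, ?_⟩
      rw [Subgroup.orderOf_coe, hm, hk]; simp
    · exfalso
      set y := x ^ (p ^ k) with hy
      have hoy : orderOf y = p ^ 2 := by
        rw [hy, orderOf_pow' _ (pow_ne_zero _ hp.out.ne_zero), hk,
          Nat.gcd_eq_right (pow_dvd_pow p (by omega)), Nat.pow_div (by omega) hp.out.pos]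
        congr 1; omega
      have hdvd : p ^ 2 ∣ Nat.card ↥M := by rw [hcard]; exact pow_dvd_pow p ht
      obtain ⟨A, hA⟩ := Sylow.exists_subgroup_card_pow_prime p hdvd
      have hA' : Nat.card ↥(A.map M.subtype) = p ^ 2 := by
        rw [← hA]
        exact Nat.card_congr (A.equivMapOfInjective M.subtype M.subtype_injective).symm.toEquiv
      have hAM : A.map M.subtype ≤ M := Subgroup.map_subtype_le A
      have h1 : Subgroup.zpowers y ≤ M :=
        absorb hB M (A.map M.subtype) (Subgroup.zpowers y) (comm_of_le hel.1 hAM) inferInstance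
          (by rw [Nat.card_zpowers, hA', hoy]) hAM
      have h2 := hel.2 y (h1 (Subgroup.mem_zpowers y))
      have h3 := orderOf_dvd_of_pow_eq_one h2
      rw [hoy] at h3
      have h4 := Nat.le_of_dvd hp.out.pos h3
      have h5 := hp.out.one_lt
      nlinarith
  exact (P.is_maximal' hMp hle).symm

end Cfsg.Agent.S3909
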