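import Cfsg.Statements.S3910
import Cfsg.Agent.S3909

set_option autoImplicit false
open Cfsg

namespace Cfsg.Agent.S3910


/-- In a finite nilpotent group, elements of coprime orders commute. -/
lemma commute_of_coprime {G : Type*} [Group G] [Finite G] (hnil : Group.IsNilpotent G) (x y : G)
    (hxy : (orderOf x).Coprime (orderOf y)) : Commute x y := by
  obtain ⟨φ⟩ := (Group.isNilpotent_of_finite_tfae (G := G)).out 0 4 |>.1 hnil
  obtain ⟨a, rfl⟩ := φ.surjective x
  obtain ⟨b, rfl⟩ := φ.surjective y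
  rw [MulEquiv.orderOf_eq φ, MulEquiv.orderOf_eq φ] at hxy
  apply Commute.map (f := φ)
  apply Pi.commute_iff.2
  intro i
  apply Pi.commute_iff.2
  intro P
  have hp : Fact (i : ℕ).Prime := ⟨Nat.prime_of_mem_primeFactors i.2⟩
  obtain ⟨k, hk⟩ := (IsPGroup.iff_orderOf.1 P.2) (a i P)
  obtain ⟨l, hl⟩ := (IsPGroup.iff_orderOf.1 P.2) (b i P)
  have h1 : orderOf (a i P) ∣ orderOf a := by
    have e1 : orderOf (a i) ∣ orderOf a := orderOf_map_dvd (Pi.evalMonoidHom _ i) a
    have e2 : orderOf (a i P) ∣ orderOf (a i) := orderOf_map_dvd (Pi.evalMonoidHom _ P) (a i)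
    exact e2.trans e1
  have h2 : orderOf (b i P) ∣ orderOf b := by
    have e1 : orderOf (b i) ∣ orderOf b := orderOf_map_dvd (Pi.evalMonoidHom _ i) b
    have e2 : orderOf (b i P) ∣ orderOf (b i) := orderOf_map_dvd (Pi.evalMonoidHom _ P) (b i)
    exact e2.trans e1
  have h3 : (orderOf (a i P)).Coprime (orderOf (b i P)) := Nat.Coprime.coprime_dvd_left h1 (Nat.Coprime.coprime_dvd_right h2 hxy)
  rw [hk, hl] at h3
  rcases k with _ | k
  · rw [pow_zero, orderOf_eq_one_iff] at hk
    rw [hk]; exact Commute.one_left _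
  · rcases l with _ | l
    · rw [pow_zero, orderOf_eq_one_iff] at hl
      rw [hl]; exact Commute.one_right _
    · exfalso
      have : (i : ℕ) ∣ Nat.gcd ((i : ℕ) ^ (k + 1)) ((i : ℕ) ^ (l + 1)) :=
        Nat.dvd_gcd (dvd_pow_self _ (by omega)) (dvd_pow_self _ (by omega))
      rw [h3] at this
      exact hp.out.one_lt.ne' (Nat.dvd_one.1 this)

/-- A finite nilpotent group in which any two abelian subgroups of the same order are conjugate is cyclic. -/
theorem result {G : Type*} [Group G] [Finite G] (hB : ∀ A B : Subgroup G, IsMulCommutative ↥A → IsMulCommutative ↥B → Nat.card ↥A = Nat.card ↥B → ∃ g : G, B = A.map (MulAut.conj g).toMonoidHom) (hnil : Group.IsNilpotent G) : IsCyclic G := by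
  by_contra hnc
  obtain ⟨x, hx⟩ := Finite.exists_max (fun z : G => orderOf z)
  have hxtop : Subgroup.zpowers x ≠ ⊤ := by
    intro h
    exact hnc ⟨⟨x, fun z => by
      have : z ∈ Subgroup.zpowers x := by rw [h]; trivial
      exact this⟩⟩
  obtain ⟨M, hMco, hxM⟩ := (eq_top_or_exists_le_coatom (Subgroup.zpowers x)).resolve_left hxtop
  have hMn : M.Normal := by
    have h02 := (Group.isNilpotent_of_finite_tfae (G := G)).out 0 2
    exact h02.1 hnil M hMco
  have hxM' : x ∈ M := hxM (Subgroup.mem_zpowers x)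
  have habs := (Cfsg.Agent.S3909.result hB M).1
  -- an element outside `M` of least order
  have hex : ∃ n : ℕ, ∃ y : G, y ∉ M ∧ orderOf y = n := by
    by_contra hh
    push Not at hh
    exact hMco.1 (eq_top_iff.2 fun y _ => by
      by_contra hy
      exact hh _ y hy rfl)
  classical
  obtain ⟨y, hyM, hyn⟩ := Nat.find_spec hex
  have hmin : ∀ z : G, z ∉ M → orderOf y ≤ orderOf z := by
    intro z hz
    rw [hyn]
    exact Nat.find_min' hex ⟨z, hz, rfl⟩
  have hy1 : orderOf y ≠ 1 := by
    intro h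
    rw [orderOf_eq_one_iff] at h
    exact hyM (h ▸ M.one_mem)
  set p := (orderOf y).minFac with hp
  have hpp : p.Prime := Nat.minFac_prime hy1
  have hpow : ∀ q : ℕ, q.Prime → q ∣ orderOf y → y ^ q ∈ M := by
    intro q hq hqy
    by_contra hn
    have h1 := hmin _ hn
    rw [orderOf_pow_of_dvd hq.ne_zero hqy] at h1
    have h2 : orderOf y / q < orderOf y := Nat.div_lt_self (orderOf_pos y) hq.one_lt
    omega
  have huniq : ∀ {q : ℕ}, q.Prime → q ∣ orderOf y → q = p := by
    intro q hq hqy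
    by_contra hne
    have h1 := hpow q hq hqy
    have h2 := hpow p hpp (Nat.minFac_dvd _)
    have hcop : Nat.Coprime q p := (Nat.coprime_primes hq hpp).2 hne
    apply hyM
    have h3 : y ^ (Nat.gcd q p : ℤ) ∈ M := by
      rw [Nat.gcd_eq_gcd_ab, zpow_add, zpow_mul, zpow_mul]
      exact M.mul_mem (M.zpow_mem (by simpa using h1) _) (M.zpow_mem (by simpa using h2) _)
    rw [hcop] at h3
    simpa using h3
  have hyk := Nat.eq_prime_pow_of_unique_prime_dvd (orderOf_pos y).ne' huniq
  set k := (orderOf y).primeFactorsList.length with hk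
  set n := orderOf x with hn
  have hn0 : n ≠ 0 := (orderOf_pos x).ne'
  have hnd : ¬ p ^ k ∣ n := by
    intro hd
    apply hyM
    refine habs y ⟨x ^ (n / p ^ k), M.pow_mem hxM' _, ?_⟩
    rw [hyk]
    exact orderOf_pow_orderOf_div hn0 hd
  set j := n.factorization p with hj
  have hjk : j < k := by
    by_contra hh
    push Not at hh
    exact hnd ((pow_dvd_pow p hh).trans (Nat.ordProj_dvd n p))
  have hx' : orderOf (x ^ (p ^ j)) = n / p ^ j :=
    orderOf_pow_of_dvd (pow_ne_zero _ hpp.ne_zero) (Nat.ordProj_dvd n p)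
  have hcop : (orderOf y).Coprime (orderOf (x ^ (p ^ j))) := by
    rw [hyk, hx']
    exact Nat.Coprime.pow_left _ (Nat.coprime_ordCompl hpp hn0)
  have hcomm := commute_of_coprime hnil y (x ^ (p ^ j)) hcop
  have hord := hcomm.orderOf_mul_eq_mul_orderOf_of_coprime hcop
  have hle := hx (y * x ^ (p ^ j))
  rw [hord, hyk, hx'] at hle
  have h1 : p ^ j * (n / p ^ j) = n := Nat.ordProj_mul_ordCompl_eq_self n p
  have h2 : p ^ j < p ^ k := Nat.pow_lt_pow_right hpp.one_lt hjk
  have h3 : 0 < n / p ^ j := Nat.div_pos (Nat.le_of_dvd (Nat.pos_of_ne_zero hn0) (Nat.ordProj_dvd n p)) (pow_pos hpp.pos _)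
  have h4 : p ^ j * (n / p ^ j) < p ^ k * (n / p ^ j) := Nat.mul_lt_mul_of_pos_right h2 h3
  omega

end Cfsg.Agent.S3910
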