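import Cfsg.Statements.S3890
import Cfsg.Agent.S3889
import Cfsg.Agent.S3910

set_option autoImplicit false
open Cfsg

namespace Cfsg.Agent.S3890

open Subgroup
open scoped Pointwise

section
variable {G : Type*} [Group G] [Finite G]

omit [Finite G] in
lemma mem_conj_smul_iff (g u : G) (P : Subgroup G) : u ∈ MulAut.conj g • P ↔ g⁻¹ * u * g ∈ P := by
  rw [Subgroup.mem_pointwise_smul_iff_inv_smul_mem]
  simp [MulAut.smul_def]

omit [Finite G] in
/-- two members of a minimal cover inside a proper subgroup coincide -/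
lemma two_members (𝓐 : Finset (Subgroup G)) (hprop : ∀ A ∈ 𝓐, A ≠ ⊤) (hcov : ∀ g : G, ∃ A ∈ 𝓐, g ∈ A)
    (hmin : ∀ 𝓑 : Finset (Subgroup G), (∀ A ∈ 𝓑, A ≠ ⊤) ∧ (∀ g : G, ∃ A ∈ 𝓑, g ∈ A) → 𝓐.card ≤ 𝓑.card)
    {A₁ A₂ H : Subgroup G} (h1 : A₁ ∈ 𝓐) (h2 : A₂ ∈ 𝓐) (hH : H ≠ ⊤) (h1H : A₁ ≤ H) (h2H : A₂ ≤ H) :
    A₁ = A₂ := by
  classical
  by_contra hne
  have := hmin (insert H ((𝓐.erase A₁).erase A₂)) ⟨?_, ?_⟩
  · have c1 : ((𝓐.erase A₁).erase A₂).card = 𝓐.card - 1 - 1 := by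
      rw [Finset.card_erase_of_mem (Finset.mem_erase.2 ⟨fun e => hne e.symm, h2⟩),
        Finset.card_erase_of_mem h1]
    have c2 := Finset.card_insert_le H ((𝓐.erase A₁).erase A₂)
    have c3 : 1 < 𝓐.card := Finset.one_lt_card.2 ⟨A₁, h1, A₂, h2, hne⟩
    omega
  · intro A hA
    rcases Finset.mem_insert.1 hA with rfl | hA
    · exact hH
    · exact hprop A (Finset.mem_of_mem_erase (Finset.mem_of_mem_erase hA))
  · intro g
    obtain ⟨A, hA, hgA⟩ := hcov g
    by_cases e1 : A = A₁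
    · subst e1
      exact ⟨H, Finset.mem_insert_self _ _, h1H hgA⟩
    by_cases e2 : A = A₂
    · subst e2
      exact ⟨H, Finset.mem_insert_self _ _, h2H hgA⟩
    exact ⟨A, Finset.mem_insert_of_mem (Finset.mem_erase.2 ⟨e2, Finset.mem_erase.2 ⟨e1, hA⟩⟩), hgA⟩

variable {p : ℕ} [Fact p.Prime]

omit [Finite G] [Fact p.Prime] in
lemma isPGroup_zpowers {x : G} {k : ℕ} (hx : orderOf x = p ^ k) : IsPGroup p (zpowers x) :=
  IsPGroup.of_card (n := k) (by rw [Nat.card_zpowers, hx])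

omit [Finite G] [Fact p.Prime] in
lemma mem_sylow_of_mem_normalizer (P : Sylow p G) {x : G} {k : ℕ} (hx : orderOf x = p ^ k)
    (hn : x ∈ normalizer ((P : Subgroup G) : Set G)) : x ∈ (P : Subgroup G) := by
  have h1 : IsPGroup p (zpowers x ⊔ (P : Subgroup G) : Subgroup G) :=
    (isPGroup_zpowers hx).to_sup_of_normal_right' P.2 (by simpa using hn)
  have h2 := P.is_maximal' h1 le_sup_right
  rw [← h2]
  exact (le_sup_left : zpowers x ≤ _) (mem_zpowers x)

/-- all `p`-subgroups are abelian if one Sylow `p`-subgroup is. -/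
lemma pgroup_comm (P : Sylow p G)
    (hab : ∀ u ∈ (P : Subgroup G), ∀ v ∈ (P : Subgroup G), u * v = v * u) {T : Subgroup G}
    (hT : IsPGroup p T) : ∀ u ∈ T, ∀ v ∈ T, u * v = v * u := by
  obtain ⟨Q, hQ⟩ := hT.exists_le_sylow
  obtain ⟨g, hg⟩ := MulAction.exists_smul_eq G P Q
  intro u hu v hv
  have hu' : g⁻¹ * u * g ∈ (P : Subgroup G) := by
    rw [← mem_conj_smul_iff, ← Sylow.coe_subgroup_smul, hg]; exact hQ hu
  have hv' : g⁻¹ * v * g ∈ (P : Subgroup G) := by
    rw [← mem_conj_smul_iff, ← Sylow.coe_subgroup_smul, hg]; exact hQ hv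
  have h1 := hab _ hu' _ hv'
  have h2 : g * (g⁻¹ * u * g * (g⁻¹ * v * g)) * g⁻¹ = g * (g⁻¹ * v * g * (g⁻¹ * u * g)) * g⁻¹ := by
    rw [h1]
  simpa [mul_assoc] using h2

/-- a nilpotent subgroup centralizes each of its `p`-elements (abelian Sylow `p`-subgroups). -/
lemma nilpotent_le_centralizer (P : Sylow p G)
    (hab : ∀ u ∈ (P : Subgroup G), ∀ v ∈ (P : Subgroup G), u * v = v * u)
    (A : Subgroup G) (hA : Group.IsNilpotent A) {w : G} (hw : w ∈ A) {k : ℕ} (hk : orderOf w = p ^ k) :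
    A ≤ centralizer {w} := by
  have hp : p.Prime := Fact.out
  intro a ha
  rw [mem_centralizer_singleton_iff]
  set n := orderOf a with hn
  have hn0 : n ≠ 0 := (orderOf_pos a).ne'
  set j := n.factorization p with hj
  have ho1 : orderOf (a ^ (p ^ j)) = n / p ^ j :=
    orderOf_pow_of_dvd (pow_ne_zero _ hp.ne_zero) (Nat.ordProj_dvd n p)
  have ho2 : orderOf (a ^ (n / p ^ j)) = p ^ j :=
    orderOf_pow_orderOf_div hn0 (Nat.ordProj_dvd n p)
  have hc1 : Commute (a ^ (p ^ j)) w := by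
    have hcop : (orderOf (⟨a ^ (p ^ j), A.pow_mem ha _⟩ : A)).Coprime (orderOf (⟨w, hw⟩ : A)) := by
      rw [Subgroup.orderOf_mk, Subgroup.orderOf_mk, ho1, hk]
      exact (Nat.Coprime.pow_left _ (Nat.coprime_ordCompl hp hn0)).symm
    have := Cfsg.Agent.S3910.commute_of_coprime hA _ _ hcop
    exact congrArg (Subtype.val : ↥A → G) this
  have hc2 : Commute (a ^ (n / p ^ j)) w := by
    let S : Sylow p A := default
    have hSn : normalizer ((S : Subgroup A) : Set A) = ⊤ := normalizer_eq_top_iff.2 inferInstance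
    have m1 : (⟨a ^ (n / p ^ j), A.pow_mem ha _⟩ : A) ∈ (S : Subgroup A) :=
      mem_sylow_of_mem_normalizer S (k := j) (by rw [Subgroup.orderOf_mk, ho2]) (by rw [hSn]; trivial)
    have m2 : (⟨w, hw⟩ : A) ∈ (S : Subgroup A) :=
      mem_sylow_of_mem_normalizer S (k := k) (by rw [Subgroup.orderOf_mk, hk]) (by rw [hSn]; trivial)
    have hT : IsPGroup p ((S : Subgroup A).map A.subtype) := S.2.map _
    exact pgroup_comm P hab hT _ ⟨_, m1, rfl⟩ _ ⟨_, m2, rfl⟩
  have hcop : Nat.Coprime (p ^ j) (n / p ^ j) := Nat.Coprime.pow_left _ (Nat.coprime_ordCompl hp hn0)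
  have h3 : a = (a ^ (p ^ j)) ^ (Nat.gcdA (p ^ j) (n / p ^ j)) * (a ^ (n / p ^ j)) ^ (Nat.gcdB (p ^ j) (n / p ^ j)) := by
    have e : a ^ (Nat.gcd (p ^ j) (n / p ^ j) : ℤ) = a := by rw [hcop]; simp
    rw [Nat.gcd_eq_gcd_ab, zpow_add, zpow_mul, zpow_mul, zpow_natCast, zpow_natCast] at e
    exact e.symm
  have h4 : Commute a w := by
    rw [h3]
    exact (hc1.zpow_left _).mul_left (hc2.zpow_left _)
  exact h4
end

section cover
variable {G : Type*} [Group G] [Finite G] (hZ : Subgroup.center G = ⊥) (𝓐 : Finset (Subgroup G))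
  (hprop : ∀ A ∈ 𝓐, A ≠ ⊤) (hcov : ∀ g : G, ∃ A ∈ 𝓐, g ∈ A)
  (hmin : ∀ 𝓑 : Finset (Subgroup G), (∀ A ∈ 𝓑, A ≠ ⊤) ∧ (∀ g : G, ∃ A ∈ 𝓑, g ∈ A) → 𝓐.card ≤ 𝓑.card)
  (hnil : ∀ A ∈ 𝓐, Group.IsNilpotent ↥A) {p : ℕ} [Fact p.Prime] (P : Sylow p G)
  (hab : ∀ u ∈ (P : Subgroup G), ∀ v ∈ (P : Subgroup G), u * v = v * u)
include hZ hprop hcov hmin hnil hab

lemma unique_member {w : G} {k : ℕ} (hk : orderOf w = p ^ k) (hw1 : w ≠ 1) {A₁ A₂ : Subgroup G}
    (h1 : A₁ ∈ 𝓐) (h2 : A₂ ∈ 𝓐) (hwA₁ : w ∈ A₁) (hwA₂ : w ∈ A₂) : A₁ = A₂ := by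
  apply two_members 𝓐 hprop hcov hmin h1 h2 (H := centralizer {w})
  · intro htop
    apply hw1
    have : w ∈ center G := by
      rw [mem_center_iff]
      intro g
      have hg : g ∈ centralizer {w} := by rw [htop]; trivial
      rw [mem_centralizer_singleton_iff] at hg
      exact hg
    rw [hZ] at this
    simpa using this
  · exact nilpotent_le_centralizer P hab A₁ (hnil A₁ h1) hwA₁ hk
  · exact nilpotent_le_centralizer P hab A₂ (hnil A₂ h2) hwA₂ hk

lemma sylow_le_member (Q : Sylow p G) :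
    (∃ A ∈ 𝓐, (Q : Subgroup G) ≤ A) ∨
      ((∀ a ∈ (Q : Subgroup G), a ^ p = 1) ∧ p < Nat.card (Q : Subgroup G)) := by
  have hp : p.Prime := Fact.out
  by_contra hcon
  push Not at hcon
  obtain ⟨h1, h2⟩ := hcon
  let _ : CommGroup ↥(Q : Subgroup G) :=
    { (inferInstance : Group ↥(Q : Subgroup G)) with
      mul_comm := fun a b => Subtype.ext (pgroup_comm P hab Q.2 a a.2 b b.2) }
  have hexp : (Monoid.exponent ↥(Q : Subgroup G)).Prime := by
    apply Cfsg.Agent.S3889.result {B | ∃ A ∈ 𝓐, B = A.subgroupOf (Q : Subgroup G)}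
    · rintro B ⟨A, hA, rfl⟩ htop
      exact h1 A hA (subgroupOf_eq_top.1 htop)
    · intro g
      obtain ⟨A, hA, hgA⟩ := hcov g.1
      exact ⟨_, ⟨A, hA, rfl⟩, mem_subgroupOf.2 hgA⟩
    · rintro B ⟨A₁, hA₁, rfl⟩ C ⟨A₂, hA₂, rfl⟩ hne
      rw [eq_bot_iff]
      rintro w ⟨hw1, hw2⟩
      rw [mem_bot]
      by_contra hw
      apply hne
      obtain ⟨k, hk⟩ := (IsPGroup.iff_orderOf.1 Q.2) w
      rw [← Subgroup.orderOf_coe] at hk
      have hw' : (w : G) ≠ 1 := fun e => hw (Subtype.ext e)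
      rw [unique_member hZ 𝓐 hprop hcov hmin hnil P hab hk hw' hA₁ hA₂ (mem_subgroupOf.1 hw1)
        (mem_subgroupOf.1 hw2)]
  obtain ⟨A₀, hA₀, -⟩ := hcov 1
  obtain ⟨x, hxQ, hxA⟩ := SetLike.not_le_iff_exists.1 (h1 A₀ hA₀)
  have hx1 : x ≠ 1 := fun e => hxA (e ▸ A₀.one_mem)
  obtain ⟨k, hk⟩ := (IsPGroup.iff_orderOf.1 Q.2) ⟨x, hxQ⟩
  have hk0 : k ≠ 0 := by
    rintro rfl
    rw [pow_zero, orderOf_eq_one_iff] at hk
    exact hx1 (congrArg Subtype.val hk)
  have hdvd : p ∣ Monoid.exponent ↥(Q : Subgroup G) :=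
    (dvd_pow_self p hk0).trans (hk ▸ Monoid.order_dvd_exponent _)
  have hpe : p = Monoid.exponent ↥(Q : Subgroup G) := (Nat.prime_dvd_prime_iff_eq hp hexp).1 hdvd
  have hel : ∀ a ∈ (Q : Subgroup G), a ^ p = 1 := by
    intro a ha
    have := Monoid.pow_exponent_eq_one (⟨a, ha⟩ : ↥(Q : Subgroup G))
    rw [← hpe] at this
    exact congrArg Subtype.val this
  have hle := h2 hel
  obtain ⟨n, hn⟩ := IsPGroup.iff_card.1 Q.2
  rcases n with _ | _ | n
  · rw [pow_zero] at hn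
    have : Subsingleton ↥(Q : Subgroup G) := (Nat.card_eq_one_iff_unique.1 hn).1
    exact hx1 (congrArg Subtype.val (Subsingleton.elim (⟨x, hxQ⟩ : ↥(Q : Subgroup G)) 1))
  · rw [zero_add, pow_one] at hn
    have htop := zpowers_eq_top_of_prime_card hn (g := (⟨x, hxQ⟩ : ↥(Q : Subgroup G)))
      (fun e => hx1 (congrArg Subtype.val e))
    obtain ⟨A', hA', hxA'⟩ := hcov x
    apply h1 A' hA'
    intro y hy
    have hy' : (⟨y, hy⟩ : ↥(Q : Subgroup G)) ∈ zpowers (⟨x, hxQ⟩ : ↥(Q : Subgroup G)) := by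
      rw [htop]; trivial
    obtain ⟨m, hm⟩ := mem_zpowers_iff.1 hy'
    have : x ^ m = y := congrArg Subtype.val hm
    rw [← this]
    exact A'.zpow_mem hxA' m
  · rw [hn] at hle
    have : p < p ^ (n + 1 + 1) := by
      calc p = p ^ 1 := (pow_one p).symm
        _ < _ := Nat.pow_lt_pow_right hp.one_lt (by omega)
    exact absurd hle (not_le.2 this)

lemma centralizer_eq_member (Q : Sylow p G) (hQ1 : (Q : Subgroup G) ≠ ⊥) {A : Subgroup G} (hA : A ∈ 𝓐)
    (hQA : (Q : Subgroup G) ≤ A) : centralizer ((Q : Subgroup G) : Set G) = A := by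
  have hp : p.Prime := Fact.out
  apply le_antisymm
  · intro y hy
    obtain ⟨⟨x, hxQ⟩, hx1'⟩ := Subgroup.ne_bot_iff_exists_ne_one.1 hQ1
    have hx1 : x ≠ 1 := fun e => hx1' (Subtype.ext e)
    obtain ⟨k, hk⟩ := (IsPGroup.iff_orderOf.1 Q.2) ⟨x, hxQ⟩
    rw [Subgroup.orderOf_mk] at hk
    have hyn : y ∈ normalizer ((Q : Subgroup G) : Set G) := centralizer_le_normalizer _ hy
    by_cases hpy : p ∣ orderOf y
    · have ho : orderOf (y ^ (orderOf y / p)) = p ^ 1 := by
        rw [pow_one]; exact orderOf_pow_orderOf_div (orderOf_pos y).ne' hpy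
      have hm : y ^ (orderOf y / p) ∈ (Q : Subgroup G) :=
        mem_sylow_of_mem_normalizer Q ho (Subgroup.pow_mem _ hyn _)
      have hne : y ^ (orderOf y / p) ≠ 1 := by
        intro e
        rw [e, orderOf_one, pow_one] at ho
        exact hp.one_lt.ne ho
      obtain ⟨B, hB, hyB⟩ := hcov y
      rw [unique_member hZ 𝓐 hprop hcov hmin hnil P hab ho hne hA hB (hQA hm) (B.pow_mem hyB _)]
      exact hyB
    · obtain ⟨B, hB, hxyB⟩ := hcov (x * y)
      have hcomm : Commute x y := by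
        rw [mem_centralizer_iff] at hy
        exact hy x hxQ
      have e1 : (x * y) ^ orderOf y = x ^ orderOf y := by
        rw [hcomm.mul_pow, pow_orderOf_eq_one, mul_one]
      have hcop : (orderOf x).Coprime (orderOf y) := by
        rw [hk]; exact Nat.Coprime.pow_left _ ((Nat.Prime.coprime_iff_not_dvd hp).2 hpy)
      have ho : orderOf (x ^ orderOf y) = p ^ k := by
        rw [hcop.orderOf_pow, hk]
      have hne : x ^ orderOf y ≠ 1 := by
        intro e
        rw [e, orderOf_one] at ho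
        rw [← ho, orderOf_eq_one_iff] at hk
        exact hx1 hk
      have hAB := unique_member hZ 𝓐 hprop hcov hmin hnil P hab ho hne hA hB
        (A.pow_mem (hQA hxQ) _) (e1 ▸ B.pow_mem hxyB _)
      rw [← hAB] at hxyB
      exact (A.mul_mem_cancel_left (hQA hxQ)).1 hxyB
  · intro a ha
    rw [mem_centralizer_iff]
    intro w hw
    obtain ⟨k, hk⟩ := (IsPGroup.iff_orderOf.1 Q.2) ⟨w, hw⟩
    rw [Subgroup.orderOf_mk] at hk
    have := nilpotent_le_centralizer P hab A (hnil A hA) (hQA hw) hk ha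
    rw [mem_centralizer_singleton_iff] at this
    exact this.symm

lemma sylow_eq_of_member (Q Q' : Sylow p G) (hQ1 : (Q : Subgroup G) ≠ ⊥) {A : Subgroup G} (hA : A ∈ 𝓐)
    (hQA : (Q : Subgroup G) ≤ A) (hQ'A : (Q' : Subgroup G) ≤ A) : Q = Q' := by
  have h1 := centralizer_eq_member hZ 𝓐 hprop hcov hmin hnil P hab Q hQ1 hA hQA
  have hle : (Q' : Subgroup G) ≤ Q := by
    intro x hx
    obtain ⟨k, hk⟩ := (IsPGroup.iff_orderOf.1 Q'.2) ⟨x, hx⟩
    rw [Subgroup.orderOf_mk] at hk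
    apply mem_sylow_of_mem_normalizer Q hk
    apply centralizer_le_normalizer
    rw [h1]
    exact hQ'A hx
  exact Sylow.ext (Q'.is_maximal' Q.2 hle)

end cover


/-- A cover of a group is a finite set of proper subgroups whose union is the whole group; it is minimal when no cover has fewer members, and nilpotent when all its members are nilpotent. Let G be a finite group with trivial center admitting a nilpotent minimal cover 𝓐, and let P be an abelian Sylow p-subgroup of G that is not normal. Then either P is elementary abelian of order greater than p, or P is a Sylow p-subgroup of some member A of 𝓐, the normalizer N of P is a maximal subgroup of G, N meets each of its conjugates by elements outside N in a subgroup of order prime to p, and the centralizer of P equals A. -/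
theorem result {G : Type*} [Group G] [Finite G] (hZ : Subgroup.center G = ⊥) (𝓐 : Finset (Subgroup G))
    (h𝓐 : ((∀ A ∈ 𝓐, A ≠ ⊤) ∧ (∀ g : G, ∃ A ∈ 𝓐, g ∈ A)) ∧ (∀ 𝓑 : Finset (Subgroup G), (∀ A ∈ 𝓑, A ≠ ⊤) ∧ (∀ g : G, ∃ A ∈ 𝓑, g ∈ A) → 𝓐.card ≤ 𝓑.card) ∧ (∀ A ∈ 𝓐, Group.IsNilpotent ↥A)) {p : ℕ} [Fact p.Prime] (P : Sylow p G) (hab : IsMulCommutative ↥(P : Subgroup G))
    (hnn : ¬ (P : Subgroup G).Normal) :
    (Cfsg.IsElementaryAbelian p (P : Subgroup G) ∧ p < Nat.card ↥(P : Subgroup G)) ∨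
    (∃ A ∈ 𝓐, (P : Subgroup G) ≤ A ∧ ¬ p ∣ ((P : Subgroup G).subgroupOf A).index ∧
      IsCoatom (Subgroup.normalizer ((P : Subgroup G) : Set G)) ∧
      (∀ g : G, g ∉ Subgroup.normalizer ((P : Subgroup G) : Set G) →
        ¬ p ∣ Nat.card ↥(Subgroup.normalizer ((P : Subgroup G) : Set G) ⊓
          (Subgroup.normalizer ((P : Subgroup G) : Set G)).map (MulAut.conj g).toMonoidHom)) ∧
      Subgroup.centralizer ((P : Subgroup G) : Set G) = A) := by
  obtain ⟨⟨hprop, hcov⟩, hmin, hnil⟩ := h𝓐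
  have hp : p.Prime := Fact.out
  have hab' : ∀ u ∈ (P : Subgroup G), ∀ v ∈ (P : Subgroup G), u * v = v * u := fun u hu v hv =>
    congrArg (Subtype.val : ↥(P : Subgroup G) → G) (mul_comm' (⟨u, hu⟩ : ↥(P : Subgroup G)) ⟨v, hv⟩)
  have hP1 : (P : Subgroup G) ≠ ⊥ := by
    intro e
    apply hnn
    rw [e]
    infer_instance
  have hQ1 : ∀ Q : Sylow p G, (Q : Subgroup G) ≠ ⊥ := by
    intro Q e
    have h1 : Nat.card (Q : Subgroup G) = Nat.card (P : Subgroup G) := by
      rw [Q.card_eq_multiplicity, P.card_eq_multiplicity]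
    rw [e, Subgroup.card_bot] at h1
    exact hP1 ((P : Subgroup G).card_eq_one.1 h1.symm)
  by_cases hcase : (∀ a ∈ (P : Subgroup G), a ^ p = 1) ∧ p < Nat.card (P : Subgroup G)
  · left
    exact ⟨⟨hab, hcase.1⟩, hcase.2⟩
  right
  have hall : ∀ Q : Sylow p G, ∃ A ∈ 𝓐, (Q : Subgroup G) ≤ A := by
    intro Q
    rcases sylow_le_member hZ 𝓐 hprop hcov hmin hnil P hab' Q with h | ⟨hel, hlt⟩
    · exact h
    · exfalso
      apply hcase
      obtain ⟨g, hg⟩ := MulAction.exists_smul_eq G P Q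
      refine ⟨?_, ?_⟩
      · intro a ha
        have h1 : g * a * g⁻¹ ∈ (Q : Subgroup G) := by
          rw [← hg, Sylow.coe_subgroup_smul, mem_conj_smul_iff]
          simpa [mul_assoc] using ha
        have h2 := hel _ h1
        rw [conj_pow] at h2
        simpa using h2
      · rw [P.card_eq_multiplicity, ← Q.card_eq_multiplicity]
        exact hlt
  obtain ⟨A, hA, hPA⟩ := hall P
  set N := normalizer ((P : Subgroup G) : Set G) with hN
  have hcent := centralizer_eq_member hZ 𝓐 hprop hcov hmin hnil P hab' P hP1 hA hPA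
  have hkey : ∀ g : G, ∀ A' ∈ 𝓐, ((g • P : Sylow p G) : Subgroup G) ≤ A' → A' = A → g ∈ N := by
    intro g A' hA' hle e
    subst e
    have := sylow_eq_of_member hZ 𝓐 hprop hcov hmin hnil P hab' P (g • P) hP1 hA' hPA hle
    exact Sylow.smul_eq_iff_mem_normalizer.1 this.symm
  refine ⟨A, hA, hPA, ?_, ?_, ?_, hcent⟩
  · intro hd
    exact P.not_dvd_index (hd.trans (relIndex_dvd_index_of_le hPA))
  · refine ⟨fun htop => hnn (normalizer_eq_top_iff.1 htop), ?_⟩
    intro M hNM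
    by_contra hMtop
    obtain ⟨m, hmM, hmN⟩ := SetLike.exists_of_lt hNM
    obtain ⟨A', hA', hle⟩ := hall (m • P)
    apply hmN
    apply hkey m A' hA' hle
    have hc' := centralizer_eq_member hZ 𝓐 hprop hcov hmin hnil P hab' (m • P) (hQ1 _) hA' hle
    apply two_members 𝓐 hprop hcov hmin hA' hA hMtop
    · rw [← hc']
      intro y hy
      have h1 : m⁻¹ * y * m ∈ centralizer ((P : Subgroup G) : Set G) := by
        rw [mem_centralizer_iff]
        intro u hu0
        have hu : u ∈ (P : Subgroup G) := hu0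
        rw [mem_centralizer_iff] at hy
        have h2 := hy (m * u * m⁻¹) (by
          show _ ∈ ((m • P : Sylow p G) : Subgroup G)
          rw [Sylow.coe_subgroup_smul, mem_conj_smul_iff]
          simpa [mul_assoc] using hu)
        have h3 : m⁻¹ * (m * u * m⁻¹ * y) * m = m⁻¹ * (y * (m * u * m⁻¹)) * m := by rw [h2]
        simpa [mul_assoc] using h3
      have h4 : m⁻¹ * y * m ∈ M := hNM.le (centralizer_le_normalizer _ h1)
      have h5 := M.mul_mem (M.mul_mem hmM h4) (M.inv_mem hmM)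
      simpa [mul_assoc] using h5
    · rw [← hcent]
      exact (centralizer_le_normalizer _).trans hNM.le
  · intro g hg hd
    obtain ⟨w, hw⟩ := exists_prime_orderOf_dvd_card' p hd
    have hwo : orderOf (w : G) = p ^ 1 := by rw [Subgroup.orderOf_coe, hw, pow_one]
    have hw1 : (w : G) ∈ N := w.2.1
    obtain ⟨n, hn, hnw⟩ := w.2.2
    have hwP : (w : G) ∈ (P : Subgroup G) := mem_sylow_of_mem_normalizer P hwo hw1
    have hno : orderOf n = p ^ 1 := by
      rw [← hwo, ← hnw]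
      exact (MulEquiv.orderOf_eq (MulAut.conj g) n).symm
    have hnP : n ∈ (P : Subgroup G) := mem_sylow_of_mem_normalizer P hno hn
    have hwgP : (w : G) ∈ ((g • P : Sylow p G) : Subgroup G) := by
      rw [Sylow.coe_subgroup_smul, mem_conj_smul_iff, ← hnw]
      simpa [mul_assoc] using hnP
    obtain ⟨A', hA', hle⟩ := hall (g • P)
    apply hg
    apply hkey g A' hA' hle
    have hwne : (w : G) ≠ 1 := by
      intro e
      rw [e, orderOf_one, pow_one] at hwo
      exact hp.one_lt.ne hwo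
    exact unique_member hZ 𝓐 hprop hcov hmin hnil P hab' hwo hwne hA' hA (hle hwgP) (hPA hwP)

end Cfsg.Agent.S3890
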