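import Cfsg.Statements.S3891
import Cfsg.Agent.S3890

set_option autoImplicit false
open Cfsg

namespace Cfsg.Agent.S3891

open Subgroup Cfsg.Agent.S3890
open scoped Pointwise

/-- A cover of a group is a finite set of proper subgroups whose union is the whole group; it is minimal when no cover has fewer members, and nilpotent when all its members are nilpotent. Let G be a finite group with trivial center admitting a nilpotent minimal cover, and let P be a non-normal Sylow p-subgroup of G that is cyclic, or abelian but not elementary abelian. Then the centralizer of P is nilpotent and the normalizer of P is the unique maximal subgroup of G containing the centralizer of P. -/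
theorem result {G : Type*} [Group G] [Finite G] (hZ : Subgroup.center G = ⊥) (𝓐 : Finset (Subgroup G))
    (h𝓐 : ((∀ A ∈ 𝓐, A ≠ ⊤) ∧ (∀ g : G, ∃ A ∈ 𝓐, g ∈ A)) ∧ (∀ 𝓑 : Finset (Subgroup G), (∀ A ∈ 𝓑, A ≠ ⊤) ∧ (∀ g : G, ∃ A ∈ 𝓑, g ∈ A) → 𝓐.card ≤ 𝓑.card) ∧ (∀ A ∈ 𝓐, Group.IsNilpotent ↥A)) {p : ℕ} [Fact p.Prime] (P : Sylow p G)
    (hP : IsCyclic ↥(P : Subgroup G) ∨ (IsMulCommutative ↥(P : Subgroup G) ∧ ¬ Cfsg.IsElementaryAbelian p (P : Subgroup G)))
    (hnn : ¬ (P : Subgroup G).Normal) :
    Group.IsNilpotent ↥(Subgroup.centralizer ((P : Subgroup G) : Set G)) ∧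
      IsCoatom (Subgroup.normalizer ((P : Subgroup G) : Set G)) ∧
      ∀ M : Subgroup G, IsCoatom M → Subgroup.centralizer ((P : Subgroup G) : Set G) ≤ M →
        M = Subgroup.normalizer ((P : Subgroup G) : Set G) := by
  have hp : p.Prime := Fact.out
  have hab : IsMulCommutative ↥(P : Subgroup G) := by
    rcases hP with hc | ⟨h, -⟩
    · exact IsCyclic.isMulCommutative
    · exact h
  have hnot : ¬ ((∀ a ∈ (P : Subgroup G), a ^ p = 1) ∧ p < Nat.card (P : Subgroup G)) := by
    rintro ⟨hel, hlt⟩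
    rcases hP with hc | ⟨-, hne⟩
    · have h1 : Monoid.exponent ↥(P : Subgroup G) ∣ p :=
        Monoid.exponent_dvd_of_forall_pow_eq_one (fun a => Subtype.ext (hel a.1 a.2))
      rw [IsCyclic.exponent_eq_card] at h1
      exact absurd (Nat.le_of_dvd hp.pos h1) (not_le.2 hlt)
    · exact hne ⟨hab, hel⟩
  rcases Cfsg.Agent.S3890.result hZ 𝓐 h𝓐 P hab hnn with ⟨hel, hlt⟩ | ⟨A, hA, hPA, -, hco, -, hcent⟩
  · exact absurd ⟨hel.2, hlt⟩ hnot
  obtain ⟨⟨hprop, hcov⟩, hmin, hnil⟩ := h𝓐
  have hab' : ∀ u ∈ (P : Subgroup G), ∀ v ∈ (P : Subgroup G), u * v = v * u := fun u hu v hv =>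
    congrArg (Subtype.val : ↥(P : Subgroup G) → G) (mul_comm' (⟨u, hu⟩ : ↥(P : Subgroup G)) ⟨v, hv⟩)
  have hP1 : (P : Subgroup G) ≠ ⊥ := by
    intro e
    apply hnn
    rw [e]
    infer_instance
  have hQ1 : ∀ Q : Sylow p G, (Q : Subgroup G) ≠ ⊥ := by
    intro Q e
    have h1 : Nat.card (Q : Subgroup G) = Nat.card (P : Subgroup G) := by
      rw [Q.card_eq_multiplicity, P.card_eq_multiplicity]
    rw [e, Subgroup.card_bot] at h1
    exact hP1 ((P : Subgroup G).card_eq_one.1 h1.symm)
  refine ⟨hcent ▸ hnil A hA, hco, ?_⟩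
  intro M hM hle
  have hMN : M ≤ normalizer ((P : Subgroup G) : Set G) := by
    intro m hmM
    obtain ⟨A', hA', hle'⟩ : ∃ A' ∈ 𝓐, ((m • P : Sylow p G) : Subgroup G) ≤ A' := by
      rcases sylow_le_member hZ 𝓐 hprop hcov hmin hnil P hab' (m • P) with h | ⟨hel, hlt⟩
      · exact h
      · exfalso
        apply hnot
        refine ⟨?_, ?_⟩
        · intro a ha
          have h1 : m * a * m⁻¹ ∈ ((m • P : Sylow p G) : Subgroup G) := by
            rw [Sylow.coe_subgroup_smul, mem_conj_smul_iff]
            simpa [mul_assoc] using ha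
          have h2 := hel _ h1
          rw [conj_pow] at h2
          simpa using h2
        · rw [P.card_eq_multiplicity, ← (m • P).card_eq_multiplicity]
          exact hlt
    have hc' := centralizer_eq_member hZ 𝓐 hprop hcov hmin hnil P hab' (m • P) (hQ1 _) hA' hle'
    have hAA : A' = A := by
      apply two_members 𝓐 hprop hcov hmin hA' hA hM.1
      · rw [← hc']
        intro y hy
        have h1 : m⁻¹ * y * m ∈ centralizer ((P : Subgroup G) : Set G) := by
          rw [mem_centralizer_iff]
          intro u hu0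
          have hu : u ∈ (P : Subgroup G) := hu0
          rw [mem_centralizer_iff] at hy
          have h2 := hy (m * u * m⁻¹) (by
            show _ ∈ ((m • P : Sylow p G) : Subgroup G)
            rw [Sylow.coe_subgroup_smul, mem_conj_smul_iff]
            simpa [mul_assoc] using hu)
          have h3 : m⁻¹ * (m * u * m⁻¹ * y) * m = m⁻¹ * (y * (m * u * m⁻¹)) * m := by rw [h2]
          simpa [mul_assoc] using h3
        have h4 : m⁻¹ * y * m ∈ M := hle h1
        have h5 := M.mul_mem (M.mul_mem hmM h4) (M.inv_mem hmM)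
        simpa [mul_assoc] using h5
      · rw [← hcent]
        exact hle
    subst hAA
    have := sylow_eq_of_member hZ 𝓐 hprop hcov hmin hnil P hab' P (m • P) hP1 hA' hPA hle'
    exact Sylow.smul_eq_iff_mem_normalizer.1 this.symm
  rcases hM.le_iff.1 hMN with h | h
  · exact absurd h hco.1
  · exact h.symm

end Cfsg.Agent.S3891
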