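import Cfsg.Statements.S3892
import Cfsg.Agent.S3891
import Mathlib

set_option autoImplicit false
open Cfsg

namespace Cfsg.Agent.S3892

open Subgroup Equiv Equiv.Perm

/-- existence of a nilpotent minimal cover -/
def HasNMC (Γ : Type*) [Group Γ] : Prop :=
  ∃ 𝓐 : Finset (Subgroup Γ), ((∀ A ∈ 𝓐, A ≠ ⊤) ∧ (∀ g : Γ, ∃ A ∈ 𝓐, g ∈ A)) ∧
    (∀ 𝓑 : Finset (Subgroup Γ), (∀ A ∈ 𝓑, A ≠ ⊤) ∧ (∀ g : Γ, ∃ A ∈ 𝓑, g ∈ A) → 𝓐.card ≤ 𝓑.card) ∧
    (∀ A ∈ 𝓐, Group.IsNilpotent ↥A)

theorem master {Γ : Type*} [Group Γ] [Finite Γ] (hZ : center Γ = ⊥) (q : ℕ) [hq : Fact q.Prime]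
    (c : Γ) (hc : orderOf c = q) (hq2 : ¬ q ^ 2 ∣ Nat.card Γ) (H : Subgroup Γ) (hH : H ≠ ⊤)
    (hCH : centralizer ({c} : Set Γ) ≤ H) (h : Γ) (hh : h ∈ H) (hn : h * c * h⁻¹ ∉ zpowers c) :
    ¬ HasNMC Γ := by
  rintro ⟨𝓐, h𝓐⟩
  have hpz : IsPGroup q (zpowers c) := by
    refine IsPGroup.of_card (n := 1) ?_
    rw [Nat.card_zpowers, hc, pow_one]
  obtain ⟨P, hP⟩ := hpz.exists_le_sylow
  obtain ⟨k, hk⟩ := P.isPGroup'.exists_card_eq
  have hk1 : k ≤ 1 := by
    by_contra hlt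
    apply hq2
    have h1 : q ^ 2 ∣ q ^ k := pow_dvd_pow q (by omega)
    exact h1.trans (hk ▸ Subgroup.card_subgroup_dvd_card (P : Subgroup Γ))
  have hPeq : (P : Subgroup Γ) = zpowers c := by
    symm
    refine Subgroup.eq_of_le_of_card_ge hP ?_
    rw [Nat.card_zpowers, hc, hk]
    calc q ^ k ≤ q ^ 1 := Nat.pow_le_pow_right hq.out.pos hk1
      _ = q := pow_one q
  have hcP : c ∈ (P : Subgroup Γ) := hP (mem_zpowers c)
  have hnn : ¬ (P : Subgroup Γ).Normal := by
    intro hnor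
    apply hn
    rw [← hPeq]
    exact hnor.conj_mem c hcP h
  have hcyc : IsCyclic ↥(P : Subgroup Γ) := by rw [hPeq]; infer_instance
  obtain ⟨-, -, huniq⟩ := Cfsg.Agent.S3891.result hZ 𝓐 h𝓐 P (Or.inl hcyc) hnn
  obtain ⟨M, hM, hHM⟩ := (eq_top_or_exists_le_coatom H).resolve_left hH
  have h1 : centralizer ((P : Subgroup Γ) : Set Γ) ≤ M := by
    refine le_trans (centralizer_le ?_) (hCH.trans hHM)
    intro x hx
    rw [Set.mem_singleton_iff.1 hx]
    exact hcP
  have h2 := huniq M hM h1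
  have h3 : h ∈ normalizer ((P : Subgroup Γ) : Set Γ) := h2 ▸ hHM hh
  apply hn
  rw [← hPeq]
  exact (mem_normalizer_iff.1 h3 c).1 hcP

theorem exists_notMem {n : ℕ} (s : Finset (Fin n)) (h : s.card < n) : ∃ x, x ∉ s := by
  by_contra hcon
  push Not at hcon
  have : s = Finset.univ := Finset.eq_univ_iff_forall.2 hcon
  rw [this, Finset.card_univ, Fintype.card_fin] at h
  omega

theorem two_swaps_mem {n : ℕ} {a b c d : Fin n} (hab : a ≠ b) (hcd : c ≠ d) :
    swap a b * swap c d ∈ alternatingGroup (Fin n) := by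
  rw [mem_alternatingGroup, Perm.sign_mul, sign_swap hab, sign_swap hcd]
  rfl

theorem center_bot {n : ℕ} (hn : 4 ≤ n) {Γ : Type*} [Group Γ] (ι : Γ →* Perm (Fin n))
    (hinj : Function.Injective ι) (hA : alternatingGroup (Fin n) ≤ ι.range) : center Γ = ⊥ := by
  rw [eq_bot_iff]
  intro z hz
  rw [mem_bot]
  apply hinj
  rw [map_one]
  by_contra hne
  obtain ⟨a, ha⟩ : ∃ a, ι z a ≠ a := by
    by_contra hcon
    push Not at hcon
    exact hne (Equiv.ext hcon)
  set b := ι z a with hb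
  obtain ⟨c, hc⟩ := exists_notMem ({a, b} : Finset (Fin n))
    (lt_of_le_of_lt (Finset.card_le_two) (by omega))
  obtain ⟨d, hd⟩ := exists_notMem ({a, b, c} : Finset (Fin n))
    (lt_of_le_of_lt (Finset.card_le_three) (by omega))
  simp only [Finset.mem_insert, Finset.mem_singleton, not_or] at hc hd
  obtain ⟨t, ht⟩ := hA (two_swaps_mem (n := n) (a := b) (b := c) (c := c) (d := d)
    (Ne.symm hc.2) (Ne.symm hd.2.2))
  have hcomm : ι z * ι t = ι t * ι z := by
    rw [← map_mul, ← map_mul, (mem_center_iff.1 hz t)]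
  have h1 := congrArg (fun σ : Perm (Fin n) => σ a) hcomm
  simp only [Perm.mul_apply, ht] at h1
  rw [swap_apply_of_ne_of_ne (Ne.symm hc.1) (Ne.symm hd.1),
    swap_apply_of_ne_of_ne (Ne.symm ha) (Ne.symm hc.1), ← hb,
    swap_apply_of_ne_of_ne (Ne.symm hc.2) (Ne.symm hd.2.1), swap_apply_left] at h1
  exact hc.2 h1.symm

theorem core {n : ℕ} (hn : 4 ≤ n) {Γ : Type*} [Group Γ] (ι : Γ →* Perm (Fin n))
    (hinj : Function.Injective ι) (hA : alternatingGroup (Fin n) ≤ ι.range)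
    (q : ℕ) [hq : Fact q.Prime] (c₀ : Perm (Fin n)) (hc₀ : c₀ ∈ alternatingGroup (Fin n))
    (hord : orderOf c₀ = q) (hq2 : ¬ q ^ 2 ∣ n.factorial) (H₀ : Subgroup (Perm (Fin n)))
    (hcent : ∀ g ∈ ι.range, g * c₀ = c₀ * g → g ∈ H₀)
    (g₀ : Perm (Fin n)) (hg₀ : g₀ ∈ ι.range) (hg₀' : g₀ ∉ H₀)
    (h₀ : Perm (Fin n)) (hh₀ : h₀ ∈ alternatingGroup (Fin n)) (hh₀' : h₀ ∈ H₀)
    (hnn : h₀ * c₀ * h₀⁻¹ ∉ zpowers c₀) : ¬ HasNMC Γ := by
  haveI : Finite Γ := Finite.of_injective ι hinj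
  obtain ⟨c, hc⟩ := hA hc₀
  obtain ⟨h, hh⟩ := hA hh₀
  obtain ⟨g, hg⟩ := hg₀
  refine master (center_bot hn ι hinj hA) q c ?_ ?_ (H₀.comap ι) ?_ ?_ h ?_ ?_
  · rw [← orderOf_injective ι hinj, hc, hord]
  · intro hdvd
    apply hq2
    have h1 : Nat.card Γ = Nat.card ι.range := Nat.card_congr (MonoidHom.ofInjective hinj).toEquiv
    have h2 := Subgroup.card_subgroup_dvd_card ι.range
    rw [← h1, Nat.card_perm, Nat.card_fin] at h2
    exact hdvd.trans h2
  · intro htop
    apply hg₀'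
    have : g ∈ H₀.comap ι := htop ▸ mem_top g
    rw [mem_comap, hg] at this
    exact this
  · intro x hx
    rw [mem_centralizer_singleton_iff] at hx
    rw [mem_comap]
    refine hcent _ ⟨x, rfl⟩ ?_
    rw [← hc, ← map_mul, ← map_mul, hx]
  · rw [mem_comap, hh]; exact hh₀'
  · intro hmem
    apply hnn
    obtain ⟨k, hk⟩ := mem_zpowers_iff.1 hmem
    rw [mem_zpowers_iff]
    refine ⟨k, ?_⟩
    rw [← hc, ← hh, ← map_zpow, hk, map_mul, map_mul, map_inv]

/-- set stabilizer -/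
def stab {α : Type*} (S : Set α) : Subgroup (Perm α) where
  carrier := {g | ∀ x, g x ∈ S ↔ x ∈ S}
  one_mem' := fun _ => Iff.rfl
  mul_mem' := fun {a b} ha hb x => (ha (b x)).trans (hb x)
  inv_mem' := fun {a} ha x => by
    have := ha (a⁻¹ x)
    have e : a (a⁻¹ x) = x := by simp
    rw [e] at this
    exact this.symm

theorem swap_mem_stab {α : Type*} [DecidableEq α] {S : Set α} {a b : α} (ha : a ∈ S) (hb : b ∈ S) :
    swap a b ∈ stab S := by
  intro x
  by_cases h1 : x = a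
  · subst h1; rw [swap_apply_left]; exact ⟨fun _ => ha, fun _ => hb⟩
  by_cases h2 : x = b
  · subst h2; rw [swap_apply_right]; exact ⟨fun _ => hb, fun _ => ha⟩
  rw [swap_apply_of_ne_of_ne h1 h2]

theorem general {n : ℕ} (hn : 6 ≤ n) {Γ : Type*} [Group Γ] (ι : Γ →* Perm (Fin n))
    (hinj : Function.Injective ι) (hA : alternatingGroup (Fin n) ≤ ι.range) : ¬ HasNMC Γ := by
  -- Bertrand prime
  obtain ⟨q, hqp, hq1, hq2⟩ := Nat.exists_prime_lt_and_le_two_mul (n / 2) (by omega)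
  haveI : Fact q.Prime := ⟨hqp⟩
  have hqn : q < n := by
    rcases Nat.even_or_odd' n with ⟨m, hm | hm⟩
    · have h1 : q ≠ n := by
        intro h
        have h2 : 2 ∣ q := ⟨m, by omega⟩
        have := (Nat.prime_dvd_prime_iff_eq Nat.prime_two hqp).1 h2
        omega
      omega
    · omega
  have hn2q : n < 2 * q := by omega
  have hq5 : 5 ≤ q := by
    have h4 : q ≠ 4 := by
      intro h; rw [h] at hqp; exact absurd hqp (by norm_num)
    omega
  -- a q-cycle
  have hdvd : q ∣ Fintype.card (Perm (Fin n)) := by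
    rw [Fintype.card_perm, Fintype.card_fin]
    exact (Nat.Prime.dvd_factorial hqp).2 hqn.le
  obtain ⟨c₀, hord⟩ := exists_prime_orderOf_dvd_card q hdvd
  have hcyc : c₀.IsCycle := isCycle_of_prime_order' (hord.symm ▸ hqp)
    (by rw [Fintype.card_fin, hord]; exact hn2q)
  have hsupp : c₀.support.card = q := by rw [← hcyc.orderOf, hord]
  obtain ⟨f, hf⟩ := exists_notMem c₀.support (by rw [hsupp]; exact hqn)
  obtain ⟨b, hb⟩ : ∃ b, b ∈ c₀.support := by
    apply Finset.card_pos.1; rw [hsupp]; omega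
  have hb' : c₀ b ≠ b := mem_support.1 hb
  have hinjpow : ∀ i j : ℕ, i ≤ j → j < q → (c₀ ^ i) b = (c₀ ^ j) b → i = j := by
    intro i j hij hj h
    have e : c₀ ^ j = c₀ ^ i * c₀ ^ (j - i) := by rw [← pow_add]; congr 1; omega
    rw [e, Perm.mul_apply] at h
    have h1 := (c₀ ^ i).injective h
    have h2 := (hcyc.pow_eq_one_iff' hb').2 h1.symm
    have h3 := orderOf_dvd_of_pow_eq_one h2
    rw [hord] at h3
    by_contra hne
    have := Nat.le_of_dvd (by omega) h3
    omega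
  have hmemS : ∀ i : ℕ, (c₀ ^ i) b ∈ c₀.support := fun i => (pow_apply_mem_support).2 hb
  set S : Set (Fin n) := {x | x ∈ c₀.support} with hS
  set b0 := (c₀ ^ 0) b with hb0
  set b1 := (c₀ ^ 1) b with hb1
  set b2 := (c₀ ^ 2) b with hb2
  set b3 := (c₀ ^ 3) b with hb3
  set b4 := (c₀ ^ 4) b with hb4
  have n02 : b0 ≠ b2 := fun h => by have := hinjpow 0 2 (by omega) (by omega) h; omega
  have n03 : b0 ≠ b3 := fun h => by have := hinjpow 0 3 (by omega) (by omega) h; omega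
  have n04 : b0 ≠ b4 := fun h => by have := hinjpow 0 4 (by omega) (by omega) h; omega
  have n01 : b0 ≠ b1 := fun h => by have := hinjpow 0 1 (by omega) (by omega) h; omega
  have n12 : b1 ≠ b2 := fun h => by have := hinjpow 1 2 (by omega) (by omega) h; omega
  have n13 : b1 ≠ b3 := fun h => by have := hinjpow 1 3 (by omega) (by omega) h; omega
  have n14 : b1 ≠ b4 := fun h => by have := hinjpow 1 4 (by omega) (by omega) h; omega
  have n23 : b2 ≠ b3 := fun h => by have := hinjpow 2 3 (by omega) (by omega) h; omega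
  have n24 : b2 ≠ b4 := fun h => by have := hinjpow 2 4 (by omega) (by omega) h; omega
  have n34 : b3 ≠ b4 := fun h => by have := hinjpow 3 4 (by omega) (by omega) h; omega
  have hf0 : b0 ≠ f := fun h => hf (h ▸ hmemS 0)
  have hqodd : Odd q := hqp.odd_of_ne_two (by omega)
  have hc₀A : c₀ ∈ alternatingGroup (Fin n) := by
    rw [mem_alternatingGroup, hcyc.sign, hsupp, hqodd.neg_one_pow, neg_neg]
  refine core (by omega) ι hinj hA q c₀ hc₀A hord ?_ (stab S) ?_
    (swap b0 f * swap b1 b2) (hA (two_swaps_mem hf0 n12)) ?_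
    (swap b2 b3 * swap b3 b4) (two_swaps_mem n23 n34) ?_ ?_
  · rw [hqp.pow_dvd_factorial_iff (b := 2) (Nat.log_lt_of_lt_pow (by omega) (by nlinarith))]
    have : n / q = 1 := by
      rw [Nat.div_eq_iff hqp.pos]; omega
    simp [this]
  · intro g _ hg x
    show g x ∈ c₀.support ↔ x ∈ c₀.support
    rw [mem_support, mem_support]
    have h1 : c₀ (g x) = g (c₀ x) := by
      have := congrArg (fun σ : Perm (Fin n) => σ x) hg
      simpa [Perm.mul_apply] using this.symm
    rw [h1]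
    exact g.injective.ne_iff
  · intro hmem
    have h1 := (hmem b0).2 (hmemS 0)
    rw [Perm.mul_apply, swap_apply_of_ne_of_ne n01 n02, swap_apply_left] at h1
    exact hf h1
  · exact mul_mem (swap_mem_stab (hmemS 2) (hmemS 3)) (swap_mem_stab (hmemS 3) (hmemS 4))
  · set h₀ := swap b2 b3 * swap b3 b4 with hh₀
    have hfix0 : h₀ b0 = b0 := by
      rw [hh₀, Perm.mul_apply, swap_apply_of_ne_of_ne n03 n04, swap_apply_of_ne_of_ne n02 n03]
    have hfix1 : h₀ b1 = b1 := by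
      rw [hh₀, Perm.mul_apply, swap_apply_of_ne_of_ne n13 n14, swap_apply_of_ne_of_ne n12 n13]
    have hmove : h₀ b2 = b3 := by
      rw [hh₀, Perm.mul_apply, swap_apply_of_ne_of_ne n23 n24, swap_apply_left]
    intro hmem
    rw [← mem_powers_iff_mem_zpowers] at hmem
    obtain ⟨k, hk⟩ := hmem
    have hk' : c₀ ^ k = h₀ * c₀ * h₀⁻¹ := hk
    have e0 : b0 = b := rfl
    have e1 : b1 = c₀ b := by rw [hb1, pow_one]
    have h1 : (c₀ ^ k) b = c₀ b := by
      rw [hk', Perm.mul_apply, Perm.mul_apply]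
      have : h₀⁻¹ b = b := by rw [Perm.inv_eq_iff_eq]; exact hfix0.symm
      rw [this, ← e1, hfix1]
    have hcomm : h₀ * c₀ * h₀⁻¹ = c₀ := by
      rw [← hk']
      rcases Nat.eq_zero_or_pos k with rfl | hkpos
      · exfalso
        rw [pow_zero, Perm.one_apply] at h1
        exact hb' h1.symm
      · obtain ⟨k', rfl⟩ : ∃ k', k = k' + 1 := ⟨k - 1, by omega⟩
        rw [pow_succ', Perm.mul_apply] at h1
        have h2 := c₀.injective h1
        have h3 := (hcyc.pow_eq_one_iff' hb').2 h2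
        rw [pow_succ, h3, one_mul]
    have hcomm' : h₀ * c₀ = c₀ * h₀ := by
      calc h₀ * c₀ = (h₀ * c₀ * h₀⁻¹) * h₀ := by group
        _ = c₀ * h₀ := by rw [hcomm]
    have h2 : h₀ b2 = b2 := by
      have e2 : b2 = c₀ b1 := by rw [hb2, hb1, pow_succ', Perm.mul_apply]
      rw [e2, ← Perm.mul_apply, hcomm', Perm.mul_apply, hfix1]
    rw [hmove] at h2
    exact n23 h2.symm

theorem not_mem_zpowers {G : Type*} [Group G] [Finite G] {c x : G} {q : ℕ} (hq : c ^ q = 1)
    (hpos : 0 < q) (h : ∀ k < q, c ^ k ≠ x) : x ∉ zpowers c := by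
  intro hmem
  rw [← mem_powers_iff_mem_zpowers] at hmem
  obtain ⟨m, hm⟩ := hmem
  have hm' : c ^ m = x := hm
  rw [pow_eq_pow_mod m hq] at hm'
  exact h _ (Nat.mod_lt _ hpos) hm'

theorem s4 : ¬ HasNMC (Perm (Fin 4)) := by
  haveI : Fact (Nat.Prime 3) := ⟨Nat.prime_three⟩
  have key : ∀ g : Perm (Fin 4), g * (swap 0 1 * swap 1 2) = (swap 0 1 * swap 1 2) * g →
      sign g = 1 := by decide
  refine core (n := 4) (by norm_num) (MonoidHom.id _) (fun _ _ h => h) (fun x _ => ⟨x, rfl⟩) 3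
    (swap 0 1 * swap 1 2) (two_swaps_mem (by decide) (by decide))
    (orderOf_eq_prime (by decide) (by decide)) (by decide) (alternatingGroup (Fin 4))
    (fun g _ hg => mem_alternatingGroup.2 (key g hg)) (swap 0 1) ⟨_, rfl⟩ ?_
    (swap 0 1 * swap 2 3) (two_swaps_mem (by decide) (by decide))
    (two_swaps_mem (by decide) (by decide)) ?_
  · rw [mem_alternatingGroup]; decide
  · exact not_mem_zpowers (q := 3) (by decide) (by norm_num) (by decide)

set_option maxRecDepth 100000 in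
theorem s5 : ¬ HasNMC (Perm (Fin 5)) := by
  haveI : Fact (Nat.Prime 5) := ⟨Nat.prime_five⟩
  have key : ∀ g : Perm (Fin 5), g * (swap 0 1 * swap 1 2 * swap 2 3 * swap 3 4)
      = (swap 0 1 * swap 1 2 * swap 2 3 * swap 3 4) * g → sign g = 1 := by decide
  refine core (n := 5) (by norm_num) (MonoidHom.id _) (fun _ _ h => h) (fun x _ => ⟨x, rfl⟩) 5
    (swap 0 1 * swap 1 2 * swap 2 3 * swap 3 4) (mem_alternatingGroup.2 (by decide))
    (orderOf_eq_prime (by decide) (by decide)) (by decide) (alternatingGroup (Fin 5))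
    (fun g _ hg => mem_alternatingGroup.2 (key g hg)) (swap 0 1) ⟨_, rfl⟩ ?_
    (swap 0 1 * swap 1 2) (two_swaps_mem (by decide) (by decide))
    (two_swaps_mem (by decide) (by decide)) ?_
  · rw [mem_alternatingGroup]; decide
  · exact not_mem_zpowers (q := 5) (by decide) (by norm_num) (by decide)

set_option maxRecDepth 100000 in
theorem a5 : ¬ HasNMC (alternatingGroup (Fin 5)) := by
  haveI : Fact (Nat.Prime 3) := ⟨Nat.prime_three⟩
  have key : ∀ g : Perm (Fin 5), sign g = 1 → g * (swap 0 1 * swap 1 2)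
      = (swap 0 1 * swap 1 2) * g → g 3 = 3 := by decide
  refine core (n := 5) (by norm_num) (alternatingGroup (Fin 5)).subtype
    (subtype_injective _) (by rw [range_subtype]) 3
    (swap 0 1 * swap 1 2) (two_swaps_mem (by decide) (by decide))
    (orderOf_eq_prime (by decide) (by decide)) (by decide) (stab ({3} : Set (Fin 5)))
    ?_ (swap 0 1 * swap 1 3) ?_ ?_
    (swap 0 1 * swap 2 4) (two_swaps_mem (by decide) (by decide)) ?_ ?_
  · intro g hg hcomm x
    rw [range_subtype, mem_alternatingGroup] at hg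
    have h3 := key g hg hcomm
    simp only [Set.mem_singleton_iff]
    constructor
    · intro h; exact g.injective (h.trans h3.symm)
    · intro h; rw [h, h3]
  · rw [range_subtype]; exact two_swaps_mem (by decide) (by decide)
  · intro hmem
    have := (hmem 3).2 rfl
    simp only [Set.mem_singleton_iff] at this
    revert this
    decide
  · intro x
    simp only [Set.mem_singleton_iff]
    revert x
    decide
  · exact not_mem_zpowers (q := 3) (by decide) (by norm_num) (by decide)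

/-- A cover of a group is a finite set of proper subgroups whose union is the whole group; it is minimal when no cover has fewer members, and nilpotent when all its members are nilpotent. The alternating groups of degree at least 5 and the symmetric groups of degree at least 4 have no nilpotent minimal cover. -/
theorem result (n : ℕ) :
    (5 ≤ n → ¬ ∃ 𝓐 : Finset (Subgroup ↥(alternatingGroup (Fin n))), ((∀ A ∈ 𝓐, A ≠ ⊤) ∧ (∀ g : ↥(alternatingGroup (Fin n)), ∃ A ∈ 𝓐, g ∈ A)) ∧ (∀ 𝓑 : Finset (Subgroup ↥(alternatingGroup (Fin n))), (∀ A ∈ 𝓑, A ≠ ⊤) ∧ (∀ g : ↥(alternatingGroup (Fin n)), ∃ A ∈ 𝓑, g ∈ A) → 𝓐.card ≤ 𝓑.card) ∧ (∀ A ∈ 𝓐, Group.IsNilpotent ↥A)) ∧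
    (4 ≤ n → ¬ ∃ 𝓐 : Finset (Subgroup (Equiv.Perm (Fin n))), ((∀ A ∈ 𝓐, A ≠ ⊤) ∧ (∀ g : (Equiv.Perm (Fin n)), ∃ A ∈ 𝓐, g ∈ A)) ∧ (∀ 𝓑 : Finset (Subgroup (Equiv.Perm (Fin n))), (∀ A ∈ 𝓑, A ≠ ⊤) ∧ (∀ g : (Equiv.Perm (Fin n)), ∃ A ∈ 𝓑, g ∈ A) → 𝓐.card ≤ 𝓑.card) ∧ (∀ A ∈ 𝓐, Group.IsNilpotent ↥A)) := by
  constructor
  · intro hn
    show ¬ HasNMC (alternatingGroup (Fin n))
    rcases Nat.lt_or_ge n 6 with h | h
    · obtain rfl : n = 5 := by omega
      exact a5
    · exact general h (alternatingGroup (Fin n)).subtype (subtype_injective _)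
        (by rw [range_subtype])
  · intro hn
    show ¬ HasNMC (Perm (Fin n))
    rcases Nat.lt_or_ge n 6 with h | h
    · have : n = 4 ∨ n = 5 := by omega
      rcases this with rfl | rfl
      · exact s4
      · exact s5
    · exact general h (MonoidHom.id _) (fun _ _ h => h) (fun x _ => ⟨x, rfl⟩)

end Cfsg.Agent.S3892
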