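import Cfsg.Statements.S3894
import Mathlib
import Cfsg.Agent.Lib.Helper42.NilCov.T3
import Cfsg.Agent.Lib.Helper42.NilCov.T2I
import Cfsg.Agent.Lib.Helper42.NilCov.T2II
import Cfsg.Agent.Lib.Helper42.NilCov.DERA
import Cfsg.Agent.Lib.Helper42.NilCov.NC
import Cfsg.Agent.Lib.Helper42.NilCov.UX
import Cfsg.Agent.Lib.Helper42.NilCov.CARD
import Cfsg.Agent.Lib.Helper42.NilCov.PROP
import Cfsg.Agent.Lib.Helper42.NilCov.TNE
import Cfsg.Agent.Lib.Helper42.NilCov.TPOW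
import Cfsg.Agent.Lib.Helper42.NilCov.TONE
import Cfsg.Agent.Lib.Helper42.NilCov.TFIX
import Cfsg.Agent.Lib.Helper42.NilCov.TE
import Cfsg.Agent.Lib.Helper42.NilCov.P3
import Cfsg.Agent.Lib.Helper42.NilCov.W
import Cfsg.Agent.Lib.Helper42.NilCov.AR
import Cfsg.Agent.Lib.Helper42.NilCov.EA
import Cfsg.Agent.Lib.Helper42.NilCov.EB
import Cfsg.Agent.Lib.Helper42.NilCov.GF

set_option autoImplicit false
open Cfsg

namespace Cfsg.Agent.S3894

open Cfsg.Agent.Lib.Helper42.NilCov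
open scoped LinearAlgebra.Projectivization MatrixGroups

section aux

variable {n : ℕ} {F : Type*} [Field F]

theorem smul_sub (G : Subgroup (PG n F)) (g : PG n F) (hg : g ∈ G) (y : ℙ F (Fin n → F)) :
    (⟨g, hg⟩ : ↥G) • y = g • y := rfl

theorem pow_sub (G : Subgroup (PG n F)) (g : PG n F) (hg : g ∈ G) (k : ℕ) (h : g ^ k = 1) :
    (⟨g, hg⟩ : ↥G) ^ k = 1 := Subtype.ext (by simpa using h)

theorem ufix_sub (G : Subgroup (PG n F)) (p : ℕ) (g : PG n F) (hg : g ∈ G) (x : ℙ F (Fin n → F))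
    (h : UFix p g x) : UFix p (⟨g, hg⟩ : ↥G) x := by
  obtain ⟨⟨k, hk⟩, h2⟩ := h
  exact ⟨⟨k, pow_sub G g hg _ hk⟩, fun y => h2 y⟩

theorem stab_ne_top (hn : 2 ≤ n) (G : Subgroup (PG n F))
    (hG : ∀ u : Matrix.SpecialLinearGroup (Fin n) F, im u ∈ G) (x : ℙ F (Fin n → F)) :
    MulAction.stabilizer ↥G x ≠ ⊤ := by
  intro h
  obtain ⟨u, hu⟩ := exists_moves hn x
  have : (⟨im u, hG u⟩ : ↥G) ∈ MulAction.stabilizer ↥G x := by rw [h]; trivial
  exact hu this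

theorem hU_sub (p : ℕ) [Fact p.Prime] [CharP F p] (hn : 1 ≤ n) (G : Subgroup (PG n F))
    (hG : ∀ u : Matrix.SpecialLinearGroup (Fin n) F, im u ∈ G) (x : ℙ F (Fin n → F)) :
    ∃ u : ↥G, UFix p u x := by
  obtain ⟨u, hu⟩ := UX p hn x
  exact ⟨⟨im u, hG u⟩, ufix_sub G p _ _ x hu⟩

end aux

section main

variable {F : Type*} [Field F] [Fintype F]

theorem case3 (n : ℕ) (hn : 3 ≤ n) (G : Subgroup (PG n F))
    (hG : ∀ u : Matrix.SpecialLinearGroup (Fin n) F, im u ∈ G) : ¬ NilMinCover ↥G := by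
  obtain ⟨p, hp⟩ := CharP.exists F
  have : Fact p.Prime := ⟨CharP.char_is_prime F p⟩
  obtain ⟨x₀, u, u', hu, hu', hNC⟩ := NC (F := F) p hn
  refine T3 (Ω := ℙ F (Fin n → F)) p (card_pts p (by omega)) (stab_ne_top (by omega) G hG)
    (hU_sub p (by omega) G hG) x₀ ⟨im u, hG u⟩ ⟨im u', hG u'⟩ (ufix_sub G p _ _ _ hu)
    (ufix_sub G p _ _ _ hu') ?_
  intro N hN h1 h2
  refine hNC (N.map G.subtype) ?_ ⟨_, h1, rfl⟩ ⟨_, h2, rfl⟩
  have := hN
  exact Group.nilpotent_of_mulEquiv (N.equivMapOfInjective G.subtype G.subtype_injective)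

theorem card_line : Nat.card (ℙ F (Fin 2 → F)) = Fintype.card F + 1 := by
  rw [Projectivization.card_of_finrank_two F (Fin 2 → F) (by simp), Nat.card_eq_fintype_card]

theorem case2 (hq : 4 ≤ Fintype.card F) (G : Subgroup (PG 2 F))
    (hG : ∀ u : Matrix.SpecialLinearGroup (Fin 2) F, im u ∈ G) : ¬ NilMinCover ↥G := by
  classical
  obtain ⟨p, hp⟩ := CharP.exists F
  have : Fact p.Prime := ⟨CharP.char_is_prime F p⟩
  obtain ⟨f, hpp, hf⟩ := FiniteField.card F p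
  have hfix : ∀ a : Fˣ, a ^ 2 ≠ 1 → ∀ y : ℙ F (Fin 2 → F),
      (⟨im (tD a), hG _⟩ : ↥G) • y = y ↔ y = pt0 F ∨ y = pt1 F := fun a ha y => tD_fix a ha y
  rcases arith p f hpp f.pos (hf ▸ hq) with ⟨r, hr, hr2, hrq⟩ | ⟨hp2, ⟨k, hk⟩, r, hr, hr2, hrq⟩
  · -- case I
    have : Fact r.Prime := ⟨hr⟩
    rw [← hf] at hrq
    obtain ⟨a, ha⟩ := exists_unit_order (F := F) r hrq
    have hr3 : 3 ≤ r := by
      have := hr.two_le
      omega
    have ha2 : a ^ 2 ≠ 1 := by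
      intro h
      have := orderOf_dvd_of_pow_eq_one h
      rw [ha] at this
      have := Nat.le_of_dvd (by norm_num) this
      omega
    have ha4 : a ^ 4 ≠ 1 := by
      intro h
      have h1 := orderOf_dvd_of_pow_eq_one h
      rw [ha] at h1
      have h2 : r ∣ 2 ^ 2 := by norm_num; exact h1
      have h3 := hr.dvd_of_dvd_pow h2
      have := Nat.le_of_dvd (by norm_num) h3
      omega
    refine T2I (Ω := ℙ F (Fin 2 → F)) p r hr2 (card_pts p (by omega)) ?_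
      (stab_ne_top (by omega) G hG) (hU_sub p (by omega) G hG) ⟨im (tD a), hG _⟩ (pt0 F) (pt1 F)
      pt0_ne_pt1 ?_ (hfix a ha2) ?_
    · rw [card_line]
      obtain ⟨c, hc⟩ := hrq
      have : Fintype.card F + 1 = 2 + r * c := by omega
      rw [this]
      show (2 + r * c) % r = 2 % r
      exact Nat.add_mul_mod_self_left 2 r c
    · apply pow_sub
      rw [im_tD_pow, ← ha, pow_orderOf_eq_one, im_tD_one]
    · intro s hs
      have : Commute (s : PG 2 F) (im (tD a)) := congrArg Subtype.val hs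
      exact tD_comm a ha4 s this
  · -- case II
    have : Fact r.Prime := ⟨hr⟩
    rw [← hf] at hrq hk
    obtain ⟨a, ha2⟩ := exists_unit_sq (F := F) hq
    refine T2II (Ω := ℙ F (Fin 2 → F)) p r hp2 hr2 (card_pts p (by omega))
      (stab_ne_top (by omega) G hG) (hU_sub p (by omega) G hG) ⟨im (tD a), hG _⟩ (pt0 F) (pt1 F)
      pt0_ne_pt1 ⟨k, ?_⟩ (hfix a ha2) ?_ ?_
    · apply pow_sub
      rw [im_tD_pow, ← hk, ← Fintype.card_units, pow_card_eq_one, im_tD_one]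
    · intro w hw x
      refine derA (Γ := ↥G) (Ω := ℙ F (Fin 2 → F)) r hr2 (by rw [card_line]; exact hrq) ?_ w hw x
      intro g x y z hxy hxz hyz hx hy hz
      exact Subtype.ext (three_pts (g : PG 2 F) x y z hxy hxz hyz hx hy hz)
    · intro h hh
      obtain ⟨w, hc, hw⟩ := exists_w r hr2 hrq (h : PG 2 F) hh
      refine gf h ⟨im w, hG w⟩ (Subtype.ext hc) r ?_
      rw [← hw]
      exact (Subgroup.orderOf_mk _ _)

end main

/-- A cover of a group is a finite set of proper subgroups whose union is the whole group; it is minimal when no cover has fewer members, and nilpotent when all its members are nilpotent. Let F be a finite field with q elements and n ≥ 3, or n = 2 and q ≥ 4. Then no subgroup of PGL_n(F) = GL_n(F)/Z(GL_n(F)) containing the image of SL_n(F) has a nilpotent minimal cover. -/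
theorem result {F : Type*} [Field F] [Fintype F] (n : ℕ) (hn : 3 ≤ n ∨ (n = 2 ∧ 4 ≤ Fintype.card F))
    (G : Subgroup (GL (Fin n) F ⧸ Subgroup.center (GL (Fin n) F)))
    (hG : ((Matrix.SpecialLinearGroup.toGL : Matrix.SpecialLinearGroup (Fin n) F →* GL (Fin n) F).range).map
      (QuotientGroup.mk' (Subgroup.center (GL (Fin n) F))) ≤ G) :
    ¬ ∃ 𝓐 : Finset (Subgroup ↥G), ((∀ A ∈ 𝓐, A ≠ ⊤) ∧ (∀ g : ↥G, ∃ A ∈ 𝓐, g ∈ A)) ∧ (∀ 𝓑 : Finset (Subgroup ↥G), (∀ A ∈ 𝓑, A ≠ ⊤) ∧ (∀ g : ↥G, ∃ A ∈ 𝓑, g ∈ A) → 𝓐.card ≤ 𝓑.card) ∧ (∀ A ∈ 𝓐, Group.IsNilpotent ↥A) := by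
  have hG' : ∀ u : Matrix.SpecialLinearGroup (Fin n) F, im u ∈ G := fun u =>
    hG (Subgroup.mem_map_of_mem _ ⟨u, rfl⟩)
  rcases hn with hn | ⟨rfl, hq⟩
  · exact case3 n hn G hG'
  · exact case2 hq G hG'

end Cfsg.Agent.S3894
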