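import Cfsg.Statements.S3904
import Cfsg.Agent.S4262
import Cfsg.Agent.Lib.Helper9.Schmidt

set_option autoImplicit false
open Cfsg

namespace Cfsg.Agent.S3904

open Cfsg.Agent.S4262

variable {G : Type*} [Group G]

theorem exists_decomp (M : Subgroup G) [M.Normal] (hM : IsCoatom M) {y : G} (hy : y ∉ M) (u : G) :
    ∃ m ∈ M, ∃ k : ℤ, u = m * y ^ k := by
  have htop : M ⊔ Subgroup.zpowers y = ⊤ := by
    apply hM.2
    refine lt_of_le_of_ne le_sup_left ?_
    intro he
    apply hy
    rw [he]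
    exact Subgroup.mem_sup_right (Subgroup.mem_zpowers y)
  have ha : u ∈ M ⊔ Subgroup.zpowers y := htop ▸ Subgroup.mem_top u
  rw [← SetLike.mem_coe, Subgroup.normal_mul] at ha
  obtain ⟨m, hm, z, hz, rfl⟩ := ha
  obtain ⟨k, rfl⟩ := Subgroup.mem_zpowers_iff.mp hz
  exact ⟨m, hm, k, rfl⟩

theorem mem_of_coprime_index (M : Subgroup G) [M.Normal] {g : G}
    (h : (M.index).Coprime (orderOf g)) : g ∈ M := by
  obtain ⟨m, hm⟩ := exists_pow_eq_self_of_coprime h
  rw [← hm]
  exact Subgroup.pow_mem _ (Subgroup.pow_index_mem M g) m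

theorem exists_not_mem {M : Subgroup G} (hM : IsCoatom M) : ∃ y, y ∉ M := by
  by_contra hcon
  push Not at hcon
  exact hM.1 (eq_top_iff.mpr fun x _ => hcon x)

theorem comm_mem (M : Subgroup G) [M.Normal] (hM : IsCoatom M) (a b : G) :
    a * b * a⁻¹ * b⁻¹ ∈ M := by
  obtain ⟨y, hy⟩ := exists_not_mem hM
  obtain ⟨m, hm, k, rfl⟩ := exists_decomp M hM hy a
  obtain ⟨m', hm', l, rfl⟩ := exists_decomp M hM hy b
  rw [← QuotientGroup.eq_one_iff]
  have h1 : ((m : G) : G ⧸ M) = 1 := (QuotientGroup.eq_one_iff m).mpr hm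
  have h2 : ((m' : G) : G ⧸ M) = 1 := (QuotientGroup.eq_one_iff m').mpr hm'
  simp only [QuotientGroup.mk_mul, QuotientGroup.mk_inv, h1, h2, one_mul, QuotientGroup.mk_zpow]
  rw [← zpow_add, add_comm, zpow_add]
  group

theorem comm_pow {c x g : G} (hc : c ∈ Subgroup.center G) (h : x * g = c * (g * x)) (n : ℕ) :
    x * g ^ n = c ^ n * (g ^ n * x) := by
  induction n with
  | zero => simp
  | succ n ih =>
    have hcc : ∀ a : G, a * c = c * a := fun a => Subgroup.mem_center_iff.mp hc a
    calc x * g ^ (n + 1) = (x * g ^ n) * g := by rw [pow_succ, mul_assoc]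
      _ = c ^ n * (g ^ n * x) * g := by rw [ih]
      _ = c ^ n * g ^ n * (x * g) := by group
      _ = c ^ n * g ^ n * (c * (g * x)) := by rw [h]
      _ = c ^ n * (g ^ n * c) * (g * x) := by group
      _ = c ^ n * (c * g ^ n) * (g * x) := by rw [hcc]
      _ = c ^ (n + 1) * (g ^ (n + 1) * x) := by rw [pow_succ, pow_succ]; group

variable [Finite G]

theorem caseN
    (hyp : ∀ g : G, g ∉ Subgroup.center G → IsCoatom (Subgroup.centralizer ({g} : Set G)))
    (hnc : ∃ x : G, x ∉ Subgroup.center G)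
    (hN : ∀ x : G, x ∉ Subgroup.center G → (Subgroup.centralizer ({x} : Set G)).Normal) :
    ∃ p : ℕ, p.Prime ∧ Cfsg.IsElementaryAbelian p (⊤ : Subgroup (G ⧸ Subgroup.center G)) := by
  -- commutators are central
  have hcomm : ∀ a b : G, a * b * a⁻¹ * b⁻¹ ∈ Subgroup.center G := by
    intro a b
    rw [Subgroup.mem_center_iff]
    intro x
    by_cases hx : x ∈ Subgroup.center G
    · exact ((Subgroup.mem_center_iff.mp hx) _).symm
    · have := hN x hx
      exact mem_cent.mp (comm_mem _ (hyp x hx) a b)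
  -- prime powers
  have hpow : ∀ x : G, x ∉ Subgroup.center G → ∃ q : ℕ, q.Prime ∧ x ^ q ∈ Subgroup.center G := by
    intro x hx
    have hn := hN x hx
    refine ⟨_, Cfsg.Agent.Lib.Helper9.index_prime_of_normal_isCoatom hn (hyp x hx), ?_⟩
    set q := (Subgroup.centralizer ({x} : Set G)).index with hq
    rw [Subgroup.mem_center_iff]
    intro g
    set c := x * g * x⁻¹ * g⁻¹ with hc
    have hcZ : c ∈ Subgroup.center G := hcomm x g
    have h1 : x * g = c * (g * x) := by rw [hc]; group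
    have h2 := comm_pow hcZ h1 q
    have h3 : x * g ^ q = g ^ q * x := mem_cent.mp (Subgroup.pow_index_mem _ g)
    have h4 : c ^ q = 1 := by
      rw [h3] at h2
      exact (mul_eq_right.mp h2.symm)
    have hcZ' : c⁻¹ ∈ Subgroup.center G := Subgroup.inv_mem _ hcZ
    have h5 : g * x = c⁻¹ * (x * g) := by rw [h1]; group
    have h6 := comm_pow hcZ' h5 q
    rw [inv_pow, h4, inv_one, one_mul] at h6
    exact h6
  have hcq : ∀ a b : G ⧸ Subgroup.center G, a * b = b * a := by
    intro a b
    induction a using QuotientGroup.induction_on with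
    | H a =>
      induction b using QuotientGroup.induction_on with
      | H b =>
        have h1 := (QuotientGroup.eq_one_iff (N := Subgroup.center G) _).mpr (hcomm a b)
        simp only [QuotientGroup.mk_mul, QuotientGroup.mk_inv] at h1
        rw [mul_inv_eq_one, mul_inv_eq_iff_eq_mul] at h1
        exact h1
  have hord : ∀ a : G ⧸ Subgroup.center G, a = 1 ∨ (orderOf a).Prime := by
    intro a
    induction a using QuotientGroup.induction_on with
    | H a =>
      by_cases ha : a ∈ Subgroup.center G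
      · left; exact (QuotientGroup.eq_one_iff _).mpr ha
      · right
        obtain ⟨q, hq, haq⟩ := hpow a ha
        have h1 : ((a : G) : G ⧸ Subgroup.center G) ^ q = 1 := by
          rw [← QuotientGroup.mk_pow]; exact (QuotientGroup.eq_one_iff _).mpr haq
        have h2 : ((a : G) : G ⧸ Subgroup.center G) ≠ 1 := by
          intro h; exact ha ((QuotientGroup.eq_one_iff _).mp h)
        have : Fact q.Prime := ⟨hq⟩
        rw [orderOf_eq_prime h1 h2]; exact hq
  obtain ⟨x, hx⟩ := hnc
  have hx1 : ((x : G) : G ⧸ Subgroup.center G) ≠ 1 := by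
    intro h; exact hx ((QuotientGroup.eq_one_iff _).mp h)
  have hxp : (orderOf ((x : G) : G ⧸ Subgroup.center G)).Prime := (hord _).resolve_left hx1
  refine ⟨_, hxp, ⟨⟨fun a b => Subtype.ext (hcq a b)⟩⟩, ?_⟩
  intro a _
  rcases hord a with rfl | ha
  · simp
  · by_cases he : orderOf a = orderOf ((x : G) : G ⧸ Subgroup.center G)
    · rw [← he]; exact pow_orderOf_eq_one a
    · exfalso
      have hcop : (orderOf a).Coprime (orderOf ((x : G) : G ⧸ Subgroup.center G)) :=
        (Nat.coprime_primes ha hxp).mpr he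
      have h1 := Commute.orderOf_mul_eq_mul_orderOf_of_coprime (hcq a _) hcop
      rcases hord (a * ((x : G) : G ⧸ Subgroup.center G)) with h2 | h2
      · rw [h2, orderOf_one] at h1
        have := ha.one_lt
        have := hxp.one_lt
        nlinarith
      · rw [h1] at h2
        exact Nat.not_prime_mul ha.one_lt.ne' hxp.one_lt.ne' h2

section mixed

variable
    (hyp : ∀ g : G, g ∉ Subgroup.center G → IsCoatom (Subgroup.centralizer ({g} : Set G)))
    {y₀ : G} (hy₀ : y₀ ∉ Subgroup.center G)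
    (hy₀n : ¬ (Subgroup.centralizer ({y₀} : Set G)).Normal)
include hyp hy₀ hy₀n

omit [Finite G] in
theorem not_nilp : ¬ Group.IsNilpotent (G ⧸ Subgroup.center G) := by
  intro h
  have : Group.IsNilpotent G := Group.of_quotient_center_nilpotent h
  exact hy₀n (Subgroup.NormalizerCondition.normal_of_coatom _ Group.normalizerCondition_of_isNilpotent (hyp y₀ hy₀))

theorem abelian_M {p : ℕ} (hpp : p.Prime) {x : G} (hx : x ∉ Subgroup.center G)
    (hk : ∃ k, orderOf x = p ^ k) (hn : (Subgroup.centralizer ({x} : Set G)).Normal) :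
    ∀ a ∈ Subgroup.centralizer ({x} : Set G), ∀ b ∈ Subgroup.centralizer ({x} : Set G),
      a * b = b * a := by
  by_contra hcon
  push Not at hcon
  obtain ⟨m, hm, m', hm', hne⟩ := hcon
  set M := Subgroup.centralizer ({x} : Set G) with hM
  have hq : M.index.Prime := Cfsg.Agent.Lib.Helper9.index_prime_of_normal_isCoatom hn (hyp x hx)
  set q := M.index with hqdef
  have hmZ : m ∉ Subgroup.center G := by
    intro h
    exact hne ((Subgroup.mem_center_iff.mp h) m').symm
  obtain ⟨r, m₁, hr, hm₁, hk₁, hm₁K⟩ := exists_prime_power_elt hyp m hmZ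
  set K := Subgroup.centralizer ({m₁} : Set G) with hK
  have hKM : ¬ K ≤ M := by
    intro hle
    rcases (hyp m₁ hm₁).le_iff.mp hle with h1 | h1
    · exact (hyp x hx).1 h1
    · have : m' ∈ K := by rw [hK, ← h1]; exact hm'
      rw [hm₁K] at this
      exact hne (mem_cent.mp this)
  obtain ⟨y', hy'K, hy'M⟩ := SetLike.not_le_iff_exists.mp hKM
  obtain ⟨i, j, hij, hi, hj⟩ := exists_parts q hq y'
  have hjM : y' ^ j ∈ M := mem_of_coprime_index M hj.symm
  have hyM : y' ^ i ∉ M := by
    intro h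
    apply hy'M
    rw [hij]
    exact Subgroup.mul_mem _ h hjM
  have hyK : y' ^ i ∈ K := Subgroup.zpow_mem _ hy'K i
  set y := y' ^ i with hy
  have hxK : x ∈ K := by
    rw [hm₁K]
    exact mem_cent.mpr (mem_cent.mp hm).symm
  have hrq : r = q := by
    by_contra hne'
    obtain ⟨e, he⟩ := hi
    have hc : (orderOf y).Coprime r := by
      rw [he]; exact Nat.Coprime.pow_left e ((Nat.coprime_primes hq hr).mpr (Ne.symm hne'))
    have := central_of_coprime hyp hm₁ hk₁ hyK hc hxK
    exact hyM (mem_cent.mpr this.symm)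
  obtain ⟨e₀, he₀⟩ := hk
  have he₀0 : e₀ ≠ 0 := by
    rintro rfl
    rw [pow_zero, orderOf_eq_one_iff] at he₀
    exact hx (he₀ ▸ Subgroup.one_mem _)
  have hpr : p = r := by
    by_contra hne'
    have hc : (orderOf x).Coprime r := by
      rw [he₀]; exact Nat.Coprime.pow_left e₀ ((Nat.coprime_primes hpp hr).mpr hne')
    have := central_of_coprime hyp hm₁ hk₁ hxK hc hyK
    exact hyM (mem_cent.mpr this)
  have hcent : ∀ w : G, (orderOf w).Coprime q → w ∈ Subgroup.center G := by
    intro w hw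
    have hwM : w ∈ M := mem_of_coprime_index M hw.symm
    have h1 : ∀ n ∈ M, w * n = n * w := fun n hn' =>
      central_of_coprime hyp hx ⟨e₀, he₀⟩ hwM (by rw [hpr, hrq]; exact hw) hn'
    have hwK : w ∈ K := by
      rw [hm₁K]
      exact mem_cent.mpr (h1 m hm).symm
    have h2 : w * y = y * w := central_of_coprime hyp hm₁ hk₁ hwK (by rw [hrq]; exact hw) hyK
    rw [← cent_eq_top_iff]
    apply (hyp x hx).2
    refine lt_of_le_of_ne (fun n hn' => mem_cent.mpr (h1 n hn')) ?_
    intro he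
    apply hyM
    rw [hM, he]
    exact mem_cent.mpr h2
  have : Fact q.Prime := ⟨hq⟩
  have hP : IsPGroup q (G ⧸ Subgroup.center G) := by
    intro a
    induction a using QuotientGroup.induction_on with
    | H a =>
      obtain ⟨i, j, hij, ⟨e, he⟩, hj⟩ := exists_parts q hq a
      refine ⟨e, ?_⟩
      have h1 : ((a : G) : G ⧸ Subgroup.center G) = ((a ^ i : G) : G ⧸ Subgroup.center G) := by
        conv_lhs => rw [hij]
        rw [QuotientGroup.mk_mul, (QuotientGroup.eq_one_iff _).mpr (hcent _ hj), mul_one]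
      rw [h1, ← QuotientGroup.mk_pow, ← he, pow_orderOf_eq_one]
      rfl
  exact not_nilp hyp hy₀ hy₀n hP.isNilpotent

theorem mixed {x₀ : G} (hx₀ : x₀ ∉ Subgroup.center G)
    (hx₀n : (Subgroup.centralizer ({x₀} : Set G)).Normal) :
    (¬ IsMulCommutative (G ⧸ Subgroup.center G) ∧ (∀ H : Subgroup (G ⧸ Subgroup.center G), H ≠ ⊤ → IsMulCommutative ↥H) ∧
      ∃ p q a : ℕ, p.Prime ∧ q.Prime ∧ p ≠ q ∧ Nat.card (G ⧸ Subgroup.center G) = p ^ a * q ∧
        ∀ P : Subgroup (G ⧸ Subgroup.center G), Nat.card ↥P = p ^ a → P.Normal) := by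
  obtain ⟨p, x, hp, hx, hk, hxM⟩ := exists_prime_power_elt hyp x₀ hx₀
  have hn : (Subgroup.centralizer ({x} : Set G)).Normal := hxM ▸ hx₀n
  have hab := abelian_M hyp hy₀ hy₀n hp hx hk hn
  set M := Subgroup.centralizer ({x} : Set G) with hM
  have hMco : IsCoatom M := hyp x hx
  have hq : M.index.Prime := Cfsg.Agent.Lib.Helper9.index_prime_of_normal_isCoatom hn hMco
  set q := M.index with hqdef
  set Z := Subgroup.center G with hZ
  have hZM : Z ≤ M := Subgroup.center_le_centralizer _
  have hinter : ∀ y, y ∉ M → ∀ m ∈ M, m * y = y * m → m ∈ Z := by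
    intro y hy m hm hmy
    rw [hZ, ← cent_eq_top_iff]
    apply hMco.2
    refine lt_of_le_of_ne (fun n hn' => mem_cent.mpr (hab m hm n hn')) ?_
    intro he
    apply hy
    rw [he]
    exact mem_cent.mpr hmy
  have hcy : ∀ y, y ∉ M → ∀ u ∈ Subgroup.centralizer ({y} : Set G),
      ∃ z ∈ Z, ∃ k : ℤ, u = z * y ^ k := by
    intro y hy u hu
    obtain ⟨m, hm, k, rfl⟩ := exists_decomp M hMco hy u
    refine ⟨m, hinter y hy m hm ?_, k, rfl⟩
    have h1 := mem_cent.mp hu
    have h2 : y * m * y ^ k = m * y * y ^ k := by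
      rw [mul_assoc, h1, mul_assoc, mul_assoc, ← zpow_add_one, ← zpow_one_add, add_comm]
    exact (mul_right_cancel h2).symm
  have hprop : ∀ T : Subgroup G, T ≠ ⊤ → Z ≤ T → ∀ a ∈ T, ∀ b ∈ T, a * b = b * a := by
    intro T hT hZT a ha b hb
    by_cases hTM : T ≤ M
    · exact hab a (hTM ha) b (hTM hb)
    · obtain ⟨y, hyT, hyM⟩ := SetLike.not_le_iff_exists.mp hTM
      have hyZ : y ∉ Subgroup.center G := fun h => hyM (hZM h)
      have hle : Subgroup.centralizer ({y} : Set G) ≤ T := by
        intro u hu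
        obtain ⟨z, hz, k, rfl⟩ := hcy y hyM u hu
        exact Subgroup.mul_mem _ (hZT hz) (Subgroup.zpow_mem _ hyT k)
      rcases (hyp y hyZ).le_iff.mp hle with h1 | h1
      · exact absurd h1 hT
      · rw [h1] at ha hb
        obtain ⟨z, hz, k, rfl⟩ := hcy y hyM a ha
        obtain ⟨z', hz', l, rfl⟩ := hcy y hyM b hb
        have c1 : ∀ g, g * z = z * g := Subgroup.mem_center_iff.mp hz
        have c2 : ∀ g, g * z' = z' * g := Subgroup.mem_center_iff.mp hz'
        calc z * y ^ k * (z' * y ^ l) = z * (y ^ k * z') * y ^ l := by group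
          _ = z * (z' * y ^ k) * y ^ l := by rw [c2]
          _ = (z * z') * (y ^ k * y ^ l) := by group
          _ = (z' * z) * (y ^ l * y ^ k) := by rw [c2 z, ← zpow_add, ← zpow_add, add_comm]
          _ = z' * (z * y ^ l) * y ^ k := by group
          _ = z' * (y ^ l * z) * y ^ k := by rw [c1]
          _ = z' * y ^ l * (z * y ^ k) := by group
  obtain ⟨x₁, hx₁M, hx₁Z, hx₁p⟩ : ∃ x₁ ∈ M, x₁ ∉ Z ∧ x₁ ^ p ∈ Z := by
    obtain ⟨e, he⟩ := hk
    have hex : ∃ j, x ^ (p ^ j) ∈ Z :=
      ⟨e, by rw [← he, pow_orderOf_eq_one]; exact Subgroup.one_mem _⟩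
    classical
    have hj1 : x ^ (p ^ (Nat.find hex)) ∈ Z := Nat.find_spec hex
    have hj0 : Nat.find hex ≠ 0 := by
      intro h0
      rw [h0, pow_zero, pow_one] at hj1
      exact hx hj1
    obtain ⟨j', hj'⟩ := Nat.exists_eq_succ_of_ne_zero hj0
    refine ⟨x ^ (p ^ j'), Subgroup.pow_mem _ (mem_cent.mpr rfl) _,
      Nat.find_min hex (by omega), ?_⟩
    rw [← pow_mul, ← pow_succ, ← Nat.succ_eq_add_one, ← hj']; exact hj1
  let R : Subgroup G :=
    { carrier := {m | m ∈ M ∧ m ^ p ∈ Z}
      mul_mem' := by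
        rintro a b ⟨ha, ha'⟩ ⟨hb, hb'⟩
        refine ⟨Subgroup.mul_mem _ ha hb, ?_⟩
        rw [(show Commute a b from hab a ha b hb).mul_pow]
        exact Subgroup.mul_mem _ ha' hb'
      one_mem' := ⟨Subgroup.one_mem _, by rw [one_pow]; exact Subgroup.one_mem _⟩
      inv_mem' := by
        rintro a ⟨ha, ha'⟩
        exact ⟨Subgroup.inv_mem _ ha, by rw [inv_pow]; exact Subgroup.inv_mem _ ha'⟩ }
  have hRn : R.Normal := by
    constructor
    rintro a ⟨ha, ha'⟩ g
    refine ⟨hn.conj_mem a ha g, ?_⟩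
    rw [conj_pow]
    exact (inferInstance : Z.Normal).conj_mem _ ha' g
  have hexp : ∀ m ∈ M, m ^ p ∈ Z := by
    obtain ⟨y, hy⟩ := exists_not_mem hMco
    have hyZ : y ∉ Subgroup.center G := fun h => hy (hZM h)
    have htop : R ⊔ Subgroup.zpowers y = ⊤ := by
      apply (hyp y hyZ).2
      refine lt_of_le_of_ne ?_ ?_
      · intro u hu
        obtain ⟨z, hz, k, rfl⟩ := hcy y hy u hu
        exact Subgroup.mul_mem _ (Subgroup.mem_sup_left ⟨hZM hz, Subgroup.pow_mem _ hz p⟩)
          (Subgroup.mem_sup_right (Subgroup.zpow_mem _ (Subgroup.mem_zpowers y) k))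
      · intro he
        have h1 : x₁ ∈ Subgroup.centralizer ({y} : Set G) := by
          rw [he]; exact Subgroup.mem_sup_left ⟨hx₁M, hx₁p⟩
        exact hx₁Z (hinter y hy x₁ hx₁M (mem_cent.mp h1).symm)
    intro m hm
    have h1 : m ∈ R ⊔ Subgroup.zpowers y := htop ▸ Subgroup.mem_top m
    rw [← SetLike.mem_coe, Subgroup.normal_mul] at h1
    obtain ⟨r, hr, z, hz, rfl⟩ := h1
    obtain ⟨k, rfl⟩ := Subgroup.mem_zpowers_iff.mp hz
    have h2 : y ^ k ∈ M := by
      have := Subgroup.mul_mem _ (Subgroup.inv_mem _ hr.1) hm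
      simpa using this
    have h3 : y ^ k ∈ Z := hinter y hy _ h2 (by rw [← zpow_add_one, ← zpow_one_add, add_comm])
    show (r * y ^ k) ^ p ∈ Z
    rw [(show Commute r (y ^ k) from hab r hr.1 _ h2).mul_pow]
    exact Subgroup.mul_mem _ hr.2 (Subgroup.pow_mem _ h3 p)
  set π := QuotientGroup.mk' Z with hπ
  have hπs : Function.Surjective π := QuotientGroup.mk'_surjective Z
  set Mb := M.map π with hMb
  have hMbn : Mb.Normal := hn.map π hπs
  have hMbi : Mb.index = q := by
    rw [hMb, Subgroup.index_map_eq _ hπs (by rw [QuotientGroup.ker_mk']; exact hZM)]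
  have : Fact p.Prime := ⟨hp⟩
  have hMbp : IsPGroup p Mb := by
    rintro ⟨_, m, hm, rfl⟩
    refine ⟨1, ?_⟩
    apply Subtype.ext
    simp only [pow_one, Subgroup.coe_pow, Subgroup.coe_one]
    rw [← map_pow]
    exact (QuotientGroup.eq_one_iff _).mpr (hexp m hm)
  obtain ⟨a, ha⟩ := IsPGroup.iff_card.mp hMbp
  have hcard : Nat.card (G ⧸ Z) = p ^ a * q := by
    rw [← ha, ← hMbi]; exact (Subgroup.card_mul_index Mb).symm
  have hpq : p ≠ q := by
    intro he
    apply not_nilp hyp hy₀ hy₀n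
    have : IsPGroup p (G ⧸ Z) := IsPGroup.of_card (n := a + 1) (by rw [hcard, ← he, pow_succ])
    exact this.isNilpotent
  refine ⟨?_, ?_, p, q, a, hp, hq, hpq, hcard, ?_⟩
  · intro hc
    apply hy₀n
    constructor
    intro n hn' g
    have h1 : g * n * g⁻¹ * n⁻¹ ∈ Z := by
      rw [← QuotientGroup.eq_one_iff]
      simp only [QuotientGroup.mk_mul, QuotientGroup.mk_inv]
      have hcm : ((g : G) : G ⧸ Z) * ((n : G) : G ⧸ Z) = ((n : G) : G ⧸ Z) * ((g : G) : G ⧸ Z) :=
        hc.is_comm.comm _ _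
      rw [hcm, mul_inv_cancel_right, mul_inv_cancel]
    have h2 := Subgroup.mul_mem _ (Subgroup.center_le_centralizer _ h1) hn'
    simpa using h2
  · intro H hH
    have hT : H.comap π ≠ ⊤ := by
      intro h
      apply hH
      rw [← Subgroup.map_comap_eq_self_of_surjective hπs H, h, Subgroup.map_top_of_surjective _ hπs]
    have hZT : Z ≤ H.comap π := by
      intro z hz
      rw [Subgroup.mem_comap]
      have : π z = 1 := (QuotientGroup.eq_one_iff _).mpr hz
      rw [this]; exact Subgroup.one_mem _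
    refine ⟨⟨?_⟩⟩
    rintro ⟨a, ha⟩ ⟨b, hb⟩
    obtain ⟨a, rfl⟩ := hπs a
    obtain ⟨b, rfl⟩ := hπs b
    apply Subtype.ext
    show π a * π b = π b * π a
    rw [← map_mul, ← map_mul, hprop _ hT hZT a ha b hb]
  · intro P hP
    have hle : P ≤ Mb := by
      intro t ht
      apply mem_of_coprime_index
      rw [hMbi]
      have h1 : orderOf t ∣ p ^ a := by
        rw [← hP]
        have := orderOf_dvd_natCard (⟨t, ht⟩ : P)
        rwa [Subgroup.orderOf_mk] at this
      exact Nat.Coprime.coprime_dvd_right h1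
        (Nat.Coprime.pow_right a ((Nat.coprime_primes hq hp).mpr (Ne.symm hpq)))
    have : P = Mb := Subgroup.eq_of_le_of_card_ge hle (by rw [hP, ha])
    rw [this]; exact hMbn

end mixed

/-- Let G be a non-abelian finite group in which the centralizer of every non-central element is a maximal subgroup. Then G/Z(G) is either an elementary abelian p-group for some prime p, or a minimal non-abelian group (non-abelian with all proper subgroups abelian) of order p^a · q for distinct primes p, q with a normal Sylow p-subgroup. -/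
theorem result {G : Type*} [Group G] [Finite G] (hna : ¬ IsMulCommutative G)
    (h : ∀ x : G, x ∉ Subgroup.center G → IsCoatom (Subgroup.centralizer ({x} : Set G))) :
    (∃ p : ℕ, p.Prime ∧ Cfsg.IsElementaryAbelian p (⊤ : Subgroup (G ⧸ Subgroup.center G))) ∨
    (¬ IsMulCommutative (G ⧸ Subgroup.center G) ∧ (∀ H : Subgroup (G ⧸ Subgroup.center G), H ≠ ⊤ → IsMulCommutative ↥H) ∧
      ∃ p q a : ℕ, p.Prime ∧ q.Prime ∧ p ≠ q ∧ Nat.card (G ⧸ Subgroup.center G) = p ^ a * q ∧
        ∀ P : Subgroup (G ⧸ Subgroup.center G), Nat.card ↥P = p ^ a → P.Normal) := by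
  have hnc : ∃ x : G, x ∉ Subgroup.center G := by
    by_contra hcon
    push Not at hcon
    exact hna ⟨⟨fun a b => (Subgroup.mem_center_iff.mp (hcon b) a)⟩⟩
  by_cases hN : ∀ x : G, x ∉ Subgroup.center G → (Subgroup.centralizer ({x} : Set G)).Normal
  · exact Or.inl (caseN h hnc hN)
  · right
    push Not at hN
    obtain ⟨y₀, hy₀, hy₀n⟩ := hN
    by_cases hnn : ∀ g : G, g ∉ Subgroup.center G → ¬ (Subgroup.centralizer ({g} : Set G)).Normal
    · exact (counting_contradiction h hnn hnc).elim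
    · push Not at hnn
      obtain ⟨x₀, hx₀, hx₀n⟩ := hnn
      exact mixed h hy₀ hy₀n hx₀ hx₀n

end Cfsg.Agent.S3904
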