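import Cfsg.Statements.S3905
import Cfsg.Agent.Lib.Helper69.MaxCent.Final

set_option autoImplicit false
open Cfsg

namespace Cfsg.Agent.S3905

open Cfsg.Agent.Lib.Helper69.MaxCent

/-- Let N be a normal subgroup of the finite group G such that for every element x of N outside the center of N the centralizer C_G(x) is a maximal subgroup of G. Then N/Z(N) is either an elementary abelian p-group for some prime p, or a Frobenius group whose kernel is an elementary abelian normal subgroup and whose complement has prime order. -/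
theorem result {G : Type*} [Group G] [Finite G] (N : Subgroup G) [N.Normal]
    (h : ∀ x : G, x ∈ N → x ∉ Subgroup.centralizer (N : Set G) → IsCoatom (Subgroup.centralizer ({x} : Set G))) :
    (∃ p : ℕ, p.Prime ∧ Cfsg.IsElementaryAbelian p (⊤ : Subgroup (↥N ⧸ Subgroup.center ↥N))) ∨
    (∃ (Q K : Subgroup (↥N ⧸ Subgroup.center ↥N)) (p : ℕ), p.Prime ∧ Cfsg.IsFrobeniusComplement Q ∧ (Nat.card ↥Q).Prime ∧
      K.Normal ∧ (K : Set (↥N ⧸ Subgroup.center ↥N)) = Cfsg.frobeniusKernel Q ∧ Cfsg.IsElementaryAbelian p K) := by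
  have hH : Hyp N := h
  have hcen : ∀ a : ↥N, a ∈ Subgroup.center ↥N ↔ (a : G) ∈ zN N := by
    intro a
    rw [Subgroup.mem_center_iff, mem_zN]
    constructor
    · intro h1
      exact ⟨a.2, fun n hn => (congrArg Subtype.val (h1 ⟨n, hn⟩)).symm⟩
    · rintro ⟨_, h1⟩ n
      exact Subtype.ext (h1 n n.2).eq.symm
  -- the elementary abelian conclusion from facts in `G`
  have hEA : ∀ p : ℕ, (∀ a ∈ N, ∀ b ∈ N, a * b * a⁻¹ * b⁻¹ ∈ zN N) → (∀ a ∈ N, a ^ p ∈ zN N) →
      Cfsg.IsElementaryAbelian p (⊤ : Subgroup (↥N ⧸ Subgroup.center ↥N)) := by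
    intro p h1 h2
    refine ⟨⟨⟨?_⟩⟩, ?_⟩
    · rintro ⟨a, _⟩ ⟨b, _⟩
      apply Subtype.ext
      induction a using QuotientGroup.induction_on with
      | H a =>
        induction b using QuotientGroup.induction_on with
        | H b =>
          show ((a * b : ↥N) : ↥N ⧸ Subgroup.center ↥N) = ((b * a : ↥N) : ↥N ⧸ Subgroup.center ↥N)
          rw [eq_comm, QuotientGroup.eq, hcen]
          have := h1 a⁻¹ (N.inv_mem a.2) b⁻¹ (N.inv_mem b.2)
          simpa [mul_assoc] using this
    · intro a _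
      induction a using QuotientGroup.induction_on with
      | H a =>
        rw [← QuotientGroup.mk_pow, QuotientGroup.eq_one_iff, hcen]
        simpa using h2 a a.2
  by_cases hex : ∃ x, NZ N x ∧ ∀ g : G, g * x * g⁻¹ * x⁻¹ ∈ zN N
  · obtain ⟨x, hx, hc⟩ := hex
    obtain ⟨p, hp, hpg⟩ := s1 hH hx hc
    obtain ⟨h1, h2⟩ := pg hH hp hpg
    exact Or.inl ⟨p, hp, hEA p h1 h2⟩
  by_cases hnz : ∃ x, NZ N x
  · right
    have h2 : ∀ x, NZ N x → ∀ g : G, g * x * g⁻¹ * x⁻¹ ∈ zN N → g ∈ cz x := fun x hx =>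
      (hH.dichotomy hx).resolve_left (fun hc => hex ⟨x, hx, hc⟩)
    have hCL := red hH h2
    have hnorm : (N.map (QuotientGroup.mk' (zN N))).Normal :=
      Subgroup.Normal.map inferInstance _ (QuotientGroup.mk'_surjective _)
    have hNbot : N.map (QuotientGroup.mk' (zN N)) ≠ ⊥ := by
      obtain ⟨x, hx⟩ := hnz
      intro h'
      have h3 : QuotientGroup.mk' (zN N) x ∈ N.map (QuotientGroup.mk' (zN N)) :=
        Subgroup.mem_map_of_mem _ hx.1
      rw [h', Subgroup.mem_bot] at h3
      exact hx.not_mem_zN ((QuotientGroup.eq_one_iff x).mp h3)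
    obtain ⟨p, V, hp, hVn, hVN, hV, hab, hexp, hidx, hfix⟩ := core hCL hNbot
    let f : ↥N →* G ⧸ zN N := (QuotientGroup.mk' (zN N)).comp N.subtype
    have hf : ∀ a : ↥N, a ∈ Subgroup.center ↥N → f a = 1 := by
      intro a ha
      exact (QuotientGroup.eq_one_iff (a : G)).mpr ((hcen a).mp ha)
    let ψ : ↥N ⧸ Subgroup.center ↥N →* G ⧸ zN N := QuotientGroup.lift (Subgroup.center ↥N) f hf
    have hψ : Function.Injective ψ := by
      rw [injective_iff_map_eq_one]
      intro a ha
      induction a using QuotientGroup.induction_on with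
      | H a =>
        rw [QuotientGroup.eq_one_iff, hcen]
        exact (QuotientGroup.eq_one_iff (a : G)).mp ha
    have hrange : ψ.range = N.map (QuotientGroup.mk' (zN N)) := by
      ext y
      constructor
      · rintro ⟨a, rfl⟩
        induction a using QuotientGroup.induction_on with
        | H a => exact Subgroup.mem_map_of_mem _ a.2
      · rintro ⟨n, hn, rfl⟩
        exact ⟨QuotientGroup.mk (⟨n, hn⟩ : ↥N), rfl⟩
    exact final_of_embedding ψ hψ hp V (hrange ▸ hVN) hV hab hexp (hrange ▸ hidx) (hrange ▸ hfix)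
  · left
    have hall : ∀ a ∈ N, a ∈ zN N := by
      intro a ha
      by_contra h'
      exact hnz ⟨a, nz_iff.mpr ⟨ha, h'⟩⟩
    refine ⟨2, Nat.prime_two, hEA 2 ?_ ?_⟩
    · intro a ha b hb
      exact hall _ (N.mul_mem (N.mul_mem (N.mul_mem ha hb) (N.inv_mem ha)) (N.inv_mem hb))
    · intro a ha
      exact hall _ (N.pow_mem ha 2)

end Cfsg.Agent.S3905
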