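import Cfsg.Statements.S3946
import Cfsg.Agent.Lib.Helper71.Kegel

set_option autoImplicit false
open Cfsg

namespace Cfsg.Agent.S3946

/-- Call an automorphism α of order n of a group G splitting when x · α(x) · α²(x) ⋯ α^(n−1)(x) = 1 for every x ∈ G. A finite group admitting a splitting automorphism of prime order is nilpotent (this contains the case of a fixed-point-free automorphism of prime order). -/
theorem result {G : Type*} [Group G] [Finite G] (α : MulAut G) (hp : (orderOf α).Prime)
    (hsplit : ∀ x : G, (((List.range (orderOf α)).map (fun i : ℕ => (α ^ i) x)).prod = 1)) : Group.IsNilpotent G := by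
  apply Cfsg.Agent.Lib.Helper71.Kegel.isNilpotent_of_spl (φ := (α : G ≃* G)) hp
  refine ⟨?_, fun x => ?_⟩
  · funext x
    have := Cfsg.Agent.Lib.Helper1.FPF.mulAut_pow_apply α (orderOf α) x
    rw [pow_orderOf_eq_one] at this
    exact this.symm
  · rw [← Cfsg.Agent.Lib.Helper71.Kegel.list_prod_eq_nrm, ← hsplit x]
    congr 1
    apply List.map_congr_left
    intro k _
    exact (Cfsg.Agent.Lib.Helper1.FPF.mulAut_pow_apply α k x).symm

end Cfsg.Agent.S3946
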