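import Cfsg.Statements.S3999
import Cfsg.Agent.S3997
import Cfsg.Agent.Lib.Helper66.FrobBasic
import Cfsg.Agent.Lib.Helper66.SylowTower

set_option autoImplicit false
open Cfsg
open Cfsg.Agent.Lib.Helper66

namespace Cfsg.Agent.S3999

theorem sylow_normal_of_equiv {G H : Type*} [Group G] [Finite G] [Group H] [Finite H]
    (e : G ≃ H) (he : ∀ g, orderOf (e g) = orderOf g) (p : ℕ) [Fact p.Prime]
    (P : Sylow p G) (hP : (P : Subgroup G).Normal) (Q : Sylow p H) : (Q : Subgroup H).Normal := by
  have hcard : Nat.card G = Nat.card H := Nat.card_congr e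
  have key : ∀ Q : Sylow p H, ((Q : Subgroup H) : Set H) = {h : H | ∃ k, orderOf h = p ^ k} := by
    intro Q
    apply Set.eq_of_subset_of_ncard_le (Cfsg.Agent.S3997.sylow_subset p Q) _ (Set.toFinite _)
    have h1 := Cfsg.Agent.S3997.sylow_eq_of_normal p P hP
    have h2 : {h : H | ∃ k, orderOf h = p ^ k} = e '' {h : G | ∃ k, orderOf h = p ^ k} := by
      ext x
      constructor
      · rintro ⟨k, hk⟩
        refine ⟨e.symm x, ⟨k, ?_⟩, by simp⟩
        rw [← he, Equiv.apply_symm_apply, hk]
      · rintro ⟨y, ⟨k, hk⟩, rfl⟩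
        exact ⟨k, by rw [he, hk]⟩
    rw [h2, Set.ncard_image_of_injective _ e.injective, ← h1]
    have h3 : ((P : Subgroup G) : Set G).ncard = Nat.card (P : Subgroup G) := rfl
    have h4 : ((Q : Subgroup H) : Set H).ncard = Nat.card (Q : Subgroup H) := rfl
    rw [h3, h4, P.card_eq_multiplicity, Q.card_eq_multiplicity, hcard]
  have : Subsingleton (Sylow p H) := by
    constructor
    intro Q₁ Q₂
    apply Sylow.ext
    apply SetLike.coe_injective
    rw [key Q₁, key Q₂]
  exact Sylow.normal_of_subsingleton Q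

theorem exists_normal_hall {G : Type*} [Group G] [Finite G] (s : Finset ℕ)
    (hs : ∀ p ∈ s, p.Prime ∧ ∃ P : Subgroup G, P.Normal ∧
      Nat.card P = p ^ (Nat.card G).factorization p) :
    ∃ K : Subgroup G, K.Normal ∧ Nat.card K = ∏ p ∈ s, p ^ (Nat.card G).factorization p := by
  classical
  induction s using Finset.induction_on with
  | empty => exact ⟨⊥, inferInstance, by simp⟩
  | insert p s hps ih =>
    obtain ⟨K, hKn, hK⟩ := ih (fun q hq => hs q (Finset.mem_insert_of_mem hq))
    obtain ⟨hp, P, hPn, hP⟩ := hs p (Finset.mem_insert_self _ _)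
    refine ⟨P ⊔ K, inferInstance, ?_⟩
    rw [Finset.prod_insert hps, ← hK, ← hP]
    have hcop : (Nat.card P).Coprime (Nat.card K) := by
      rw [hP, hK]
      apply Nat.Coprime.pow_left
      apply Nat.Coprime.prod_right
      intro q hq
      apply Nat.Coprime.pow_right
      have hq' := (hs q (Finset.mem_insert_of_mem hq)).1
      rw [Nat.coprime_primes hp hq']
      rintro rfl
      exact hps hq
    apply Nat.dvd_antisymm (Cfsg.Agent.Lib.Lead.card_sup_dvd P K)
    apply hcop.mul_dvd_of_dvd_of_dvd
    · exact Subgroup.card_dvd_of_le le_sup_left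
    · exact Subgroup.card_dvd_of_le le_sup_right

/-- Let F be a finite Frobenius group (it has a Frobenius complement) and G a finite group with the same order type as F (for every m the same number of elements of order m). Then G is a Frobenius group; moreover G is solvable if and only if F is. -/
theorem result {F G : Type*} [Group F] [Finite F] [Group G] [Finite G] (hF : (∃ C : Subgroup F, Cfsg.IsFrobeniusComplement C)) (hT : (∀ m : ℕ, Nat.card {g : F // orderOf g = m} = Nat.card {h : G // orderOf h = m})) :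
    (∃ C : Subgroup G, Cfsg.IsFrobeniusComplement C) ∧ (Group.IsSolvable G ↔ Group.IsSolvable F) := by
  classical
  obtain ⟨C, hC⟩ := hF
  obtain ⟨N, D⟩ := exists_frobData C hC
  obtain ⟨e, he⟩ := exists_orderOf_equiv hT
  have hcard : Nat.card F = Nat.card G := Nat.card_congr e
  have hkpos : 0 < Nat.card N := Nat.card_pos
  have hhpos : 0 < Nat.card C := Nat.card_pos
  -- the normal Hall subgroup of G
  obtain ⟨K, hKn, hK⟩ := exists_normal_hall (G := G) (Nat.card N).primeFactors (by
    intro p hp
    have hpp := Nat.prime_of_mem_primeFactors hp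
    have : Fact p.Prime := ⟨hpp⟩
    refine ⟨hpp, ?_⟩
    obtain ⟨P, hPn, -, -⟩ := D.exists_normal_sylow (Nat.dvd_of_mem_primeFactors hp)
    let Q : Sylow p G := default
    exact ⟨Q, sylow_normal_of_equiv e he p P hPn Q, Q.card_eq_multiplicity⟩)
  have hK' : Nat.card K = Nat.card N := by
    rw [hK]
    conv_rhs => rw [← Nat.prod_factorization_pow_eq_self hkpos.ne']
    rw [Finsupp.prod, Nat.support_factorization]
    apply Finset.prod_congr rfl
    intro p hp
    have hpp := Nat.prime_of_mem_primeFactors hp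
    have hpC : ¬ p ∣ Nat.card C := by
      intro h
      have := Nat.dvd_gcd (Nat.dvd_of_mem_primeFactors hp) h
      rw [D.coprime] at this
      exact hpp.one_lt.ne' (Nat.dvd_one.mp this)
    rw [← hcard, ← D.card_mul, Nat.factorization_mul hkpos.ne' hhpos.ne']
    simp [Nat.factorization_eq_zero_of_not_dvd hpC]
  have hidx : K.index = Nat.card C := by
    have h1 := K.card_mul_index
    rw [hK', ← hcard, ← D.card_mul] at h1
    exact Nat.eq_of_mul_eq_mul_left hkpos h1
  obtain ⟨CG, hCG⟩ := Subgroup.exists_right_complement'_of_coprime (N := K)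
    (by rw [hK', hidx]; exact D.coprime)
  have hCGcard : Nat.card CG = Nat.card C := by
    have h1 := hCG.card_mul_card
    rw [hK', ← hcard, ← D.card_mul] at h1
    exact Nat.eq_of_mul_eq_mul_left hkpos h1
  have hord : ∀ g : G, orderOf g ∣ Nat.card N ∨ orderOf g ∣ Nat.card C := by
    intro g
    have := D.orderOf_dvd (e.symm g)
    rwa [← he, Equiv.apply_symm_apply] at this
  have hKbot : K ≠ ⊥ := by
    intro h
    have h1 : Nat.card N = 1 := by rw [← hK', h]; simp
    exact D.ne_bot (Subgroup.card_eq_one.mp h1)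
  have hCbot : CG ≠ ⊥ := by
    intro h
    have h1 : Nat.card C = 1 := by rw [← hCGcard, h]; simp
    exact D.compl.1 (Subgroup.card_eq_one.mp h1)
  have hFrob : Cfsg.IsFrobeniusComplement CG := by
    rw [Cfsg.Agent.S0039.result K CG hCG hKbot hCbot]
    intro c hc hc1
    rw [eq_bot_iff]
    rintro x ⟨hxK, hxc⟩
    rw [Subgroup.mem_bot]
    have hcomm : Commute x c := (Subgroup.mem_centralizer_singleton_iff.mp hxc)
    have hox : orderOf x ∣ Nat.card N := by
      have := orderOf_dvd_natCard (⟨x, hxK⟩ : K)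
      rwa [Subgroup.orderOf_mk, hK'] at this
    have hoc : orderOf c ∣ Nat.card C := by
      have := orderOf_dvd_natCard (⟨c, hc⟩ : CG)
      rwa [Subgroup.orderOf_mk, hCGcard] at this
    have hcop : (orderOf x).Coprime (orderOf c) :=
      Nat.Coprime.coprime_dvd_left hox (Nat.Coprime.coprime_dvd_right hoc D.coprime)
    have hmul := hcomm.orderOf_mul_eq_mul_orderOf_of_coprime hcop
    rcases hord (x * c) with h | h
    · exfalso
      rw [hmul] at h
      have h2 : orderOf c ∣ Nat.card N := (Dvd.intro_left _ rfl).trans h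
      have h3 := Nat.dvd_gcd h2 hoc
      rw [D.coprime] at h3
      exact hc1 (orderOf_eq_one_iff.mp (Nat.dvd_one.mp h3))
    · rw [hmul] at h
      have h2 : orderOf x ∣ Nat.card C := (Dvd.intro _ rfl).trans h
      have h3 := Nat.dvd_gcd hox h2
      rw [D.coprime] at h3
      exact orderOf_eq_one_iff.mp (Nat.dvd_one.mp h3)
  refine ⟨⟨CG, hFrob⟩, ?_⟩
  obtain ⟨NG, DG⟩ := exists_frobData CG hFrob
  have hNG : Nat.card NG = Nat.card N := by
    have h1 := DG.card_mul
    rw [hCGcard, ← hcard, ← D.card_mul] at h1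
    exact Nat.eq_of_mul_eq_mul_right hhpos h1
  rw [DG.isSolvable_iff_nOrd, D.isSolvable_iff_nOrd, hNG, hCGcard]
  have hn : ∀ p, nOrd G p = nOrd F p := fun p => (hT p).symm
  simp only [hn]

end Cfsg.Agent.S3999
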