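import Mathlib
import Cfsg.Statements.S4001
import Cfsg.Agent.Lib.Helper66.TwoFrob

set_option autoImplicit false
open Cfsg
open Cfsg.Agent.Lib.Helper66

namespace Cfsg.Agent.S4001

theorem orderOf_pow_left {G : Type*} [Group G] {g : G} {p q : ℕ} (hp : 0 < p) (hq : 0 < q)
    (hg : orderOf g = p * q) : orderOf (g ^ q) = p := by
  rw [orderOf_pow_of_dvd hq.ne' (by rw [hg]; exact Dvd.intro_left _ rfl), hg]
  exact Nat.mul_div_cancel _ hq

theorem fw {G : Type*} [Group G] [Finite G] {H K C D : Subgroup G} [H.Normal] [K.Normal]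
    (T : TF H K C D) {p q : ℕ} (hp : p.Prime) (hq : q.Prime) (hpb : p ∣ Nat.card C)
    (g : G) (hg : orderOf g = p * q) : q ∣ Nat.card C := by
  by_contra hqb
  have hx : orderOf (g ^ q) = p := orderOf_pow_left hp.pos hq.pos hg
  have hy : orderOf (g ^ p) = q := orderOf_pow_left hq.pos hp.pos (by rw [hg, mul_comm])
  have hcomm : Commute (g ^ q) (g ^ p) := (Commute.refl g).pow_pow _ _
  have hxK : g ^ q ∈ K := by
    apply mem_of_coprime_index
    rw [hx]
    exact Nat.Coprime.coprime_dvd_left hpb T.copCK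
  have hxH : g ^ q ∉ H := by
    intro h
    have h1 := orderOf_dvd_natCard (⟨g ^ q, h⟩ : H)
    rw [Subgroup.orderOf_mk, hx] at h1
    have h2 := Nat.dvd_gcd h1 hpb
    rw [T.copHC] at h2
    exact hp.one_lt.ne' (Nat.dvd_one.mp h2)
  by_cases hyK : g ^ p ∈ K
  · have hyH : g ^ p ∈ H := by
      have h1 : (⟨g ^ p, hyK⟩ : K) ∈ H.subgroupOf K := by
        apply mem_of_coprime_index
        rw [Subgroup.orderOf_mk, hy]
        have h2 : (H.subgroupOf K).index = Nat.card C := T.cardC.symm
        rw [h2]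
        exact (Nat.Prime.coprime_iff_not_dvd hq).mpr hqb
      exact h1
    have h1 := T.fix1 _ hxK hxH _ hyH hcomm.symm
    rw [h1, orderOf_one] at hy
    exact hq.one_lt.ne hy
  · exact hxH (T.fix2 _ hyK _ hxK hcomm)

theorem adj {G : Type*} [Group G] [Finite G] {H K C D : Subgroup G} [H.Normal] [K.Normal]
    (T : TF H K C D) {p q : ℕ} (hp : p.Prime) (hq : q.Prime) (hpq : p ≠ q) (hpa : p ∣ Nat.card H)
    (hqc : q ∣ K.index) : ∃ g : G, orderOf g = p * q := by
  have := Fact.mk hp
  have := Fact.mk hq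
  have := T.nilH
  obtain ⟨V, hVH, hVn, hVc, hV0, hVp⟩ := exists_abelian_normal_p H hpa
  have h1 := T.fixV V hVH hVn hVc hV0
  obtain ⟨v, hv, hv1⟩ : ∃ v : G, v ∈ V ⊓ Subgroup.centralizer (D : Set G) ∧ v ≠ 1 := by
    obtain ⟨r, hr⟩ := Subgroup.ne_bot_iff_exists_ne_one.mp h1
    exact ⟨r.1, r.2, fun h => hr (Subtype.ext h)⟩
  obtain ⟨k, hk⟩ := (IsPGroup.iff_orderOf.mp hVp) ⟨v, hv.1⟩
  rw [Subgroup.orderOf_mk] at hk
  have hk0 : k ≠ 0 := by
    rintro rfl
    rw [pow_zero] at hk
    exact hv1 (orderOf_eq_one_iff.mp hk)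
  obtain ⟨j, rfl⟩ := Nat.exists_eq_succ_of_ne_zero hk0
  have hv' : orderOf (v ^ (p ^ j)) = p :=
    orderOf_pow_left hp.pos (pow_pos hp.pos j) (by rw [hk, pow_succ'])
  obtain ⟨d, hd⟩ := exists_prime_orderOf_dvd_card' (G := D) q (by rw [T.cardD]; exact hqc)
  have hd' : orderOf (d : G) = q := by rw [Subgroup.orderOf_coe, hd]
  have hc : Commute v (d : G) := (Subgroup.mem_centralizer_iff.mp hv.2 d d.2).symm
  have hc' : Commute (v ^ (p ^ j)) (d : G) := hc.pow_left _
  refine ⟨v ^ (p ^ j) * d, ?_⟩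
  rw [hc'.orderOf_mul_eq_mul_orderOf_of_coprime (by rw [hv', hd']; exact (Nat.coprime_primes hp hq).mpr hpq),
    hv', hd']

theorem cyc {G : Type*} [Group G] [Finite G] {H K C D : Subgroup G} [H.Normal] [K.Normal]
    (T : TF H K C D) {p q : ℕ} (hp : p.Prime) (hq : q.Prime) (hpq : p ≠ q) (hpc : p ∣ K.index)
    (hqc : q ∣ K.index) : ∃ g : G, orderOf g = p * q := by
  have := T.D_cyclic
  obtain ⟨d, hd⟩ := IsCyclic.exists_ofOrder_eq_natCard (α := D)
  rw [T.cardD] at hd
  have h1 : p * q ∣ K.index :=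
    Nat.Coprime.mul_dvd_of_dvd_of_dvd ((Nat.coprime_primes hp hq).mpr hpq) hpc hqc
  obtain ⟨m, hm⟩ := h1
  have hm0 : 0 < m := by
    rcases Nat.eq_zero_or_pos m with h | h
    · rw [h, mul_zero] at hm
      exact absurd hm Subgroup.index_ne_zero_of_finite
    · exact h
  refine ⟨((d ^ m : D) : G), ?_⟩
  rw [Subgroup.orderOf_coe]
  exact orderOf_pow_left (Nat.mul_pos hp.pos hq.pos) hm0 (by rw [hd, hm])

/-- Let G be a 2-Frobenius group: it has normal subgroups H < K with K a Frobenius group with kernel H and G/H a Frobenius group with kernel K/H. Then G is solvable; K/H has odd order coprime to the order of H and to the order of G/K (it is the image of an odd-order Hall subgroup); G/K is cyclic; and the prime graph of G has exactly two connected components, both complete: for distinct primes p, q dividing the order of G, G has an element of order pq exactly when p and q either both divide the order of K/H or both do not. -/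
theorem result {G : Type*} [Group G] [Finite G] (H K : Subgroup G) [H.Normal] [K.Normal] (hlt : H < K)
    (hK : ∃ C : Subgroup ↥K, Cfsg.IsFrobeniusComplement C ∧ Cfsg.frobeniusKernel C = (H.subgroupOf K : Set ↥K))
    (hGH : ∃ C : Subgroup (G ⧸ H), Cfsg.IsFrobeniusComplement C ∧ Cfsg.frobeniusKernel C = (K.map (QuotientGroup.mk' H) : Set (G ⧸ H))) :
    Group.IsSolvable G ∧ Odd (Nat.card (↥K ⧸ H.subgroupOf K)) ∧
      Nat.Coprime (Nat.card (↥K ⧸ H.subgroupOf K)) (Nat.card ↥H * Nat.card (G ⧸ K)) ∧ IsCyclic (G ⧸ K) ∧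
      ∀ p q : ℕ, p.Prime → q.Prime → p ≠ q → p ∣ Nat.card G → q ∣ Nat.card G →
        ((∃ g : G, orderOf g = p * q) ↔ (p ∣ Nat.card (↥K ⧸ H.subgroupOf K) ↔ q ∣ Nat.card (↥K ⧸ H.subgroupOf K))) := by
  obtain ⟨C, D, T⟩ := exists_TF H K hlt hK hGH
  rw [← T.cardC]
  have hcyc := T.quot_cyclic
  refine ⟨?_, T.odd, Nat.Coprime.mul_right T.copHC.symm T.copCK, hcyc, ?_⟩
  · -- solvable
    have nilH := T.nilH
    have nilC := T.nilC
    have sK : Group.IsSolvable K := by
      rw [Group.isSolvable_iff_subgroup_quotient (H.subgroupOf K)]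
      constructor
      · exact Group.isSolvable_of_isSolvable_injective
          (f := (Subgroup.subgroupOfEquivOfLe T.hHK).toMonoidHom) (MulEquiv.injective _)
      · apply Group.isSolvable_of_surjective
          (f := (QuotientGroup.mk' (H.subgroupOf K)).comp (Subgroup.inclusion T.hCK))
        intro y
        obtain ⟨k, rfl⟩ := QuotientGroup.mk'_surjective _ y
        obtain ⟨h, hh, c, hc, hk⟩ := T.K_eq k k.2
        refine ⟨⟨c, hc⟩, ?_⟩
        have h1 : k = (⟨h, T.hHK hh⟩ : K) * ⟨c, T.hCK hc⟩ := Subtype.ext hk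
        rw [h1, map_mul]
        have h2 : QuotientGroup.mk' (H.subgroupOf K) (⟨h, T.hHK hh⟩ : K) = 1 :=
          (QuotientGroup.eq_one_iff _).mpr hh
        rw [h2, one_mul]
        rfl
    rw [Group.isSolvable_iff_subgroup_quotient K]
    refine ⟨sK, ?_⟩
    have : IsMulCommutative (G ⧸ K) := inferInstance
    exact Group.isSolvable_of_comm (fun a b => mul_comm' a b)
  · intro p q hp hq hpq hpG hqG
    have hcard : Nat.card G = Nat.card H * Nat.card C * K.index := by
      rw [← K.card_mul_index, ← (H.subgroupOf K).card_mul_index]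
      have h1 : Nat.card (H.subgroupOf K) = Nat.card H :=
        Nat.card_congr (Subgroup.subgroupOfEquivOfLe T.hHK).toEquiv
      have h2 : (H.subgroupOf K).index = Nat.card C := T.cardC.symm
      rw [h1, h2]
    constructor
    · rintro ⟨g, hg⟩
      exact ⟨fun h => fw T hp hq h g hg, fun h => fw T hq hp h g (by rw [hg, mul_comm])⟩
    · intro hiff
      by_cases hpb : p ∣ Nat.card C
      · have := T.nilC
        exact exists_orderOf_mul_of_nilpotent C hp hq hpq hpb (hiff.mp hpb)
      · have hqb : ¬ q ∣ Nat.card C := fun h => hpb (hiff.mpr h)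
        have hp' : p ∣ Nat.card H ∨ p ∣ K.index := by
          rw [hcard] at hpG
          rcases (Nat.Prime.dvd_mul hp).mp hpG with h | h
          · rcases (Nat.Prime.dvd_mul hp).mp h with h | h
            · exact Or.inl h
            · exact absurd h hpb
          · exact Or.inr h
        have hq' : q ∣ Nat.card H ∨ q ∣ K.index := by
          rw [hcard] at hqG
          rcases (Nat.Prime.dvd_mul hq).mp hqG with h | h
          · rcases (Nat.Prime.dvd_mul hq).mp h with h | h
            · exact Or.inl h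
            · exact absurd h hqb
          · exact Or.inr h
        rcases hp' with h1 | h1 <;> rcases hq' with h2 | h2
        · have := T.nilH
          exact exists_orderOf_mul_of_nilpotent H hp hq hpq h1 h2
        · exact adj T hp hq hpq h1 h2
        · obtain ⟨g, hg⟩ := adj T hq hp hpq.symm h2 h1
          exact ⟨g, by rw [hg, mul_comm]⟩
        · exact cyc T hp hq hpq h1 h2

end Cfsg.Agent.S4001
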