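import Mathlib
import Cfsg.Statements.S4002
import Cfsg.Agent.S3633

set_option autoImplicit false
open Cfsg

namespace Cfsg.Agent.S4002

/-- three primes `p < q < r ≤ n` with `n < p * q`. -/
theorem three_primes (n : ℕ) (hn : 7 ≤ n) :
    ∃ p q r : ℕ, p.Prime ∧ q.Prime ∧ r.Prime ∧ p < q ∧ q < r ∧ r ≤ n ∧ n < p * q := by
  rcases Nat.lt_or_ge n 15 with h | h
  · exact ⟨3, 5, 7, by norm_num, by norm_num, by norm_num, by norm_num, by norm_num, hn, by omega⟩
  rcases Nat.lt_or_ge n 35 with h' | h'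
  · exact ⟨5, 7, 11, by norm_num, by norm_num, by norm_num, by norm_num, by norm_num, by omega, by omega⟩
  -- Bertrand three times
  obtain ⟨r, hr, hr1, hr2⟩ := Nat.exists_prime_lt_and_le_two_mul (n / 2) (by omega)
  obtain ⟨q, hq, hq1, hq2⟩ := Nat.exists_prime_lt_and_le_two_mul (n / 4) (by omega)
  obtain ⟨p, hp, hp1, hp2⟩ := Nat.exists_prime_lt_and_le_two_mul (n / 8) (by omega)
  refine ⟨p, q, r, hp, hq, hr, by omega, by omega, by omega, ?_⟩
  have h1 : n / 8 + 1 ≤ p := hp1
  have h2 : n / 4 + 1 ≤ q := hq1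
  have h3 : (n / 8 + 1) * (n / 4 + 1) ≤ p * q := Nat.mul_le_mul h1 h2
  have h4 : n < 8 * (n / 8 + 1) := by omega
  have h5 : 8 ≤ n / 4 + 1 := by omega
  nlinarith

/-- If the set of element orders of a finite group G is {1, 2, …, n} with n ≥ 7, then G is not solvable. -/
theorem result {G : Type*} [Group G] [Finite G] (n : ℕ) (hn : 7 ≤ n) (h : Set.range (orderOf : G → ℕ) = {k : ℕ | 1 ≤ k ∧ k ≤ n}) : ¬ Group.IsSolvable G := by
  obtain ⟨p, q, r, hp, hq, hr, hpq, hqr, hrn, hlt⟩ := three_primes n hn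
  have hdvd : ∀ s : ℕ, 1 ≤ s → s ≤ n → s ∣ Nat.card G := by
    intro s h1 h2
    have : s ∈ Set.range (orderOf : G → ℕ) := by rw [h]; exact ⟨h1, h2⟩
    obtain ⟨g, rfl⟩ := this
    exact orderOf_dvd_natCard g
  have hno : ∀ m : ℕ, n < m → ¬ ∃ x : G, orderOf x = m := by
    rintro m hm ⟨x, hx⟩
    have : m ∈ Set.range (orderOf : G → ℕ) := ⟨x, hx⟩
    rw [h] at this
    exact absurd this.2 (by omega)
  have hcard : 3 ≤ ({p, q, r} : Finset ℕ).card := by
    rw [Finset.card_insert_of_notMem, Finset.card_insert_of_notMem, Finset.card_singleton]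
    · simp; omega
    · simp; omega
  have hp1 := hp.one_lt
  refine (Cfsg.Agent.S3633.result (G := G) {p, q, r} hcard ⟨?_, ?_⟩ ⊥ inferInstance).2
  · intro s hs
    simp only [Finset.mem_insert, Finset.mem_singleton] at hs
    rcases hs with rfl | rfl | rfl
    · exact ⟨hp, hdvd _ (by omega) (by omega)⟩
    · exact ⟨hq, hdvd _ (by omega) (by omega)⟩
    · exact ⟨hr, hdvd _ (by omega) (by omega)⟩
  · intro s hs t ht hst
    simp only [Finset.mem_insert, Finset.mem_singleton] at hs ht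
    apply hno
    rcases hs with rfl | rfl | rfl <;> rcases ht with rfl | rfl | rfl <;>
      first
        | exact absurd rfl hst
        | nlinarith

end Cfsg.Agent.S4002
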