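import Cfsg.Statements.S4018
import Cfsg.Agent.Lib.Helper67.DihTI
import Cfsg.Agent.Lib.Helper67.SylowTools
import Cfsg.Agent.Lib.Helper74.KleinFour

set_option autoImplicit false
open Cfsg

namespace Cfsg.Agent.S4018

open Cfsg.Agent.Lib.Helper67

section abstract
variable {G : Type*} [Group G]

theorem relIndex_two_of_card [Finite G] {H K : Subgroup G} (hHK : H ≤ K)
    (h : Nat.card K = 2 * Nat.card H) : H.relIndex K = 2 := by
  have h1 := card_mul_relIndex hHK
  rw [h, mul_comm 2] at h1
  exact Nat.eq_of_mul_eq_mul_left Nat.card_pos h1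

theorem mul_mem_iff_of_relIndex_two {H K : Subgroup G} (h : H.relIndex K = 2)
    {a b : G} (ha : a ∈ K) (hb : b ∈ K) : a * b ∈ H ↔ (a ∈ H ↔ b ∈ H) := by
  have := Subgroup.mul_mem_iff_of_index_two (H := H.subgroupOf K) h (a := ⟨a, ha⟩) (b := ⟨b, hb⟩)
  simpa [Subgroup.mem_subgroupOf] using this

/-- `C = P ∪ Pt` is commutative -/
theorem comm_of_dich (P C : Subgroup G) (t : G)
    (hPcomm : ∀ a ∈ P, ∀ b ∈ P, a * b = b * a)
    (hcent : ∀ p ∈ P, ∀ c ∈ C, c * p = p * c) (htC : t ∈ C)
    (hdich : ∀ c ∈ C, c ∈ P ∨ c * t ∈ P) : ∀ a ∈ C, ∀ b ∈ C, a * b = b * a := by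
  intro a ha b hb
  rcases hdich a ha with haP | haP
  · exact (hcent a haP b hb).symm
  rcases hdich b hb with hbP | hbP
  · exact hcent b hbP a ha
  -- a t, b t ∈ P
  have h1 := hPcomm _ haP _ hbP
  have h2 : t * (b * t) = (b * t) * t := hcent _ hbP t htC
  have h3 : t * (a * t) = (a * t) * t := hcent _ haP t htC
  have h2' : t * b = b * t := by
    have := congrArg (· * t⁻¹) h2
    simpa [mul_assoc] using this
  have h3' : t * a = a * t := by
    have := congrArg (· * t⁻¹) h3
    simpa [mul_assoc] using this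
  have h4 : a * b * (t * t) = b * a * (t * t) := by
    calc a * b * (t * t) = a * (b * t) * t := by simp only [mul_assoc]
      _ = a * (t * b) * t := by rw [h2']
      _ = (a * t) * (b * t) := by simp only [mul_assoc]
      _ = (b * t) * (a * t) := h1
      _ = b * (t * a) * t := by simp only [mul_assoc]
      _ = b * (a * t) * t := by rw [h3']
      _ = b * a * (t * t) := by simp only [mul_assoc]
  exact mul_right_cancel h4

/-- `t` is the only involution of `C` -/
theorem unique_invol (P C : Subgroup G) (t : G)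
    (comm : ∀ a ∈ C, ∀ b ∈ C, a * b = b * a) (htC : t ∈ C) (ht2 : t * t = 1)
    (hPodd : ∀ p ∈ P, p * p = 1 → p = 1)
    (hdich : ∀ c ∈ C, c ∈ P ∨ c * t ∈ P) (c : G) (hc : c ∈ C) (hc2 : c * c = 1) (hc1 : c ≠ 1) :
    c = t := by
  rcases hdich c hc with h | h
  · exact absurd (hPodd c h hc2) hc1
  · have h1 : (c * t) * (c * t) = 1 := by
      calc (c * t) * (c * t) = c * (t * c) * t := by simp only [mul_assoc]
        _ = c * (c * t) * t := by rw [comm t htC c hc]
        _ = (c * c) * (t * t) := by simp only [mul_assoc]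
        _ = 1 := by rw [hc2, ht2, one_mul]
    have h2 := hPodd _ h h1
    calc c = c * (t * t) := by rw [ht2, mul_one]
      _ = (c * t) * t := by rw [mul_assoc]
      _ = t := by rw [h2, one_mul]

/-- the local data -/
structure Dat (P C N : Subgroup G) (t : G) (m : ℕ) : Prop where
  cardC : Nat.card C = 2 * m
  cardN : Nat.card N = 4 * m
  modd : Odd m
  hPC : P ≤ C
  hCN : C ≤ N
  comm : ∀ a ∈ C, ∀ b ∈ C, a * b = b * a
  htC : t ∈ C
  ht2 : t * t = 1
  ht1 : t ≠ 1
  hPodd : ∀ p ∈ P, Odd (orderOf p)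
  hdich : ∀ c ∈ C, c ∈ P ∨ c * t ∈ P
  uniq : ∀ c ∈ C, c * c = 1 → c ≠ 1 → c = t
  memN : ∀ x, x ∈ N ↔ x * t = t * x
  normP : ∀ x ∈ N, ∀ p ∈ P, x * p * x⁻¹ ∈ P
  ti : ∀ g : G, ∀ c ∈ C, c ≠ 1 → g * c * g⁻¹ ∈ C → g ∈ N
  conj : ∀ x : G, orderOf x = 2 → IsConj t x
  sq : ∀ (x : G) (k : ℕ), orderOf x = 2 ^ k → x * x = 1

namespace Dat

variable {P C N : Subgroup G} {t : G} {m : ℕ}

theorem relIndex [Finite G] (d : Dat P C N t m) : C.relIndex N = 2 :=
  relIndex_two_of_card d.hCN (by rw [d.cardC, d.cardN]; ring)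

theorem mul_mem_iff [Finite G] (d : Dat P C N t m) {a b : G} (ha : a ∈ N) (hb : b ∈ N) :
    a * b ∈ C ↔ (a ∈ C ↔ b ∈ C) :=
  mul_mem_iff_of_relIndex_two d.relIndex ha hb

theorem mem_of_odd [Finite G] (d : Dat P C N t m) {x : G} (hx : x ∈ N) (ho : Odd (orderOf x)) :
    x ∈ C := by
  have h1 : x * x ∈ C := (d.mul_mem_iff hx hx).mpr Iff.rfl
  obtain ⟨j, hj⟩ := ho
  have h2 : (x * x) ^ (j + 1) = x := by
    rw [← pow_two, ← pow_mul]
    have : 2 * (j + 1) = orderOf x + 1 := by omega
    rw [this, pow_succ, pow_orderOf_eq_one, one_mul]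
  rw [← h2]
  exact C.pow_mem h1 _

theorem exists_invol [Finite G] (d : Dat P C N t m) : ∃ u ∈ N, u ∉ C ∧ u * u = 1 := by
  haveI : Fact (Nat.Prime 2) := ⟨Nat.prime_two⟩
  obtain ⟨K, hK⟩ := Sylow.exists_subgroup_card_pow_prime (G := N) 2 (n := 2)
    (by rw [d.cardN]; exact ⟨m, by ring⟩)
  have hK' : Nat.card (K.map N.subtype) = 4 := by
    rw [Subgroup.card_map_of_injective N.subtype_injective, hK]; norm_num
  have hnot : ¬ (K.map N.subtype ≤ C) := by
    intro hle
    have h1 := Subgroup.card_dvd_of_le hle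
    rw [hK', d.cardC] at h1
    obtain ⟨j, hj⟩ := d.modd
    omega
  obtain ⟨u, huK, huC⟩ := SetLike.not_le_iff_exists.mp hnot
  refine ⟨u, Subgroup.map_subtype_le K huK, huC, ?_⟩
  have h2 : orderOf u ∣ 2 ^ 2 := by
    have := orderOf_dvd_natCard (⟨u, huK⟩ : K.map N.subtype)
    rw [hK', Subgroup.orderOf_mk] at this
    simpa using this
  obtain ⟨k, -, hk⟩ := (Nat.dvd_prime_pow Nat.prime_two).mp h2
  exact d.sq u k hk

theorem fix_trivial [Finite G] (d : Dat P C N t m) {u : G} (huC : u ∉ C)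
    (hu2 : u * u = 1) {q : G} (hq : q ∈ P) (huq : u * q = q * u) : q = 1 := by
  by_contra hq1
  have hu1 : u ≠ 1 := fun h => huC (h ▸ C.one_mem)
  have hou : orderOf u = 2 := orderOf_eq_prime (by rw [pow_two]; exact hu2) hu1
  obtain ⟨h, hh⟩ := isConj_iff.mp (d.conj u hou)
  have hcomm : (h⁻¹ * q * h) * t = t * (h⁻¹ * q * h) := by
    have h1 : h⁻¹ * (u * q) * h = h⁻¹ * (q * u) * h := by rw [huq]
    rw [← hh] at h1
    simp only [mul_assoc, inv_mul_cancel_left, inv_mul_cancel, mul_one] at h1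
    simp only [mul_assoc]
    exact h1.symm
  have hN : h⁻¹ * q * h ∈ N := (d.memN _).mpr hcomm
  have hodd : Odd (orderOf (h⁻¹ * q * h)) := by
    have : orderOf (h⁻¹ * q * h) = orderOf q := by
      have := orderOf_injective (MulAut.conj h⁻¹).toMonoidHom (MulAut.conj h⁻¹).injective q
      simpa using this
    rw [this]
    exact d.hPodd q hq
  have hC := d.mem_of_odd hN hodd
  have h2 := d.ti h⁻¹ q (d.hPC hq) hq1 (by simpa using hC)
  have h3 : h ∈ N := by simpa using N.inv_mem h2
  have h4 := (d.memN h).mp h3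
  apply huC
  rw [← hh, h4, mul_inv_cancel_right]
  exact d.htC

theorem inv_u [Finite G] (d : Dat P C N t m) {u : G} (huN : u ∈ N) (huC : u ∉ C)
    (hu2 : u * u = 1) {p : G} (hp : p ∈ P) : u * p * u⁻¹ = p⁻¹ := by
  have hu' : u⁻¹ = u := inv_eq_of_mul_eq_one_left hu2
  have hp' : u * p * u⁻¹ ∈ P := d.normP u huN p hp
  have hc : p * (u * p * u⁻¹) = (u * p * u⁻¹) * p := d.comm _ (d.hPC hp) _ (d.hPC hp')
  have hq : p * (u * p * u⁻¹) = 1 := by
    apply d.fix_trivial huC hu2 (P.mul_mem hp hp')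
    rw [hu'] at hc ⊢
    calc u * (p * (u * p * u)) = u * ((u * p * u) * p) := by rw [hc]
      _ = (u * u) * p * u * p := by simp only [mul_assoc]
      _ = p * u * p * (u * u) := by rw [hu2, one_mul, mul_one]
      _ = p * (u * p * u) * u := by simp only [mul_assoc]
  exact (inv_eq_of_mul_eq_one_right hq).symm

theorem inv [Finite G] (d : Dat P C N t m) : ∀ x ∈ N, x ∉ C → ∀ c ∈ C, x * c * x⁻¹ = c⁻¹ := by
  intro x hxN hxC c hc
  obtain ⟨u, huN, huC, hu2⟩ := d.exists_invol
  have huc : ∀ c ∈ C, u * c * u⁻¹ = c⁻¹ := by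
    intro c hc
    rcases d.hdich c hc with h | h
    · exact d.inv_u huN huC hu2 h
    · have h1 := d.inv_u huN huC hu2 h
      have h2 : u * t = t * u := (d.memN u).mp huN
      have ht' : t⁻¹ = t := inv_eq_of_mul_eq_one_left d.ht2
      have h3 : u * (c * t) * u⁻¹ = (u * c * u⁻¹) * t := by
        calc u * (c * t) * u⁻¹ = u * c * (t * u⁻¹) := by simp only [mul_assoc]
          _ = u * c * (u⁻¹ * t) := by
              congr 1
              have := congrArg (fun z => u⁻¹ * z * u⁻¹) h2
              simpa [mul_assoc] using this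
          _ = (u * c * u⁻¹) * t := by simp only [mul_assoc]
      rw [h3, mul_inv_rev, ht', d.comm t d.htC c⁻¹ (C.inv_mem hc)] at h1
      exact mul_right_cancel h1
  have hc₀ : u⁻¹ * x ∈ C := by
    rw [d.mul_mem_iff (N.inv_mem huN) hxN]
    constructor
    · intro h
      exact absurd (by simpa using C.inv_mem h) huC
    · intro h
      exact absurd h hxC
  have hx : x = u * (u⁻¹ * x) := by simp
  have h1 : (u⁻¹ * x) * c * (u⁻¹ * x)⁻¹ = c := by
    rw [d.comm _ hc₀ c hc, mul_inv_cancel_right]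
  calc x * c * x⁻¹ = u * ((u⁻¹ * x) * c * (u⁻¹ * x)⁻¹) * u⁻¹ := by
        simp only [mul_inv_rev, inv_inv, mul_assoc, mul_inv_cancel_left, mul_inv_cancel, mul_one]
    _ = u * c * u⁻¹ := by rw [h1]
    _ = c⁻¹ := huc c hc

theorem invol_of_not_mem [Finite G] (d : Dat P C N t m) {x : G} (hxN : x ∈ N) (hxC : x ∉ C) :
    orderOf x = 2 := by
  have hy : x * x ∈ C := (d.mul_mem_iff hxN hxN).mpr Iff.rfl
  have h1 := d.inv x hxN hxC _ hy
  have h2 : x * (x * x) * x⁻¹ = x * x := by simp [mul_assoc]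
  rw [h2] at h1
  have h3 : x ^ 4 = 1 := by
    have : (x * x) * (x * x) = 1 := by
      nth_rewrite 1 [h1]
      exact inv_mul_cancel _
    calc x ^ 4 = (x * x) * (x * x) := by
          simp only [pow_succ, pow_zero, one_mul, mul_assoc]
      _ = 1 := this
  have h4 : orderOf x ∣ 2 ^ 2 := by
    have := orderOf_dvd_of_pow_eq_one h3
    simpa using this
  obtain ⟨k, -, hk⟩ := (Nat.dvd_prime_pow Nat.prime_two).mp h4
  have h5 := d.sq x k hk
  exact orderOf_eq_prime (by rw [pow_two]; exact h5) (fun h => hxC (h ▸ C.one_mem))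

theorem card_diff [Finite G] (d : Dat P C N t m) :
    Nat.card {x : G // x ∈ N ∧ x ∉ C} = 2 * m := by
  have h1 : Nat.card {x : G // x ∈ N ∧ x ∉ C} = ((N : Set G) \ (C : Set G)).ncard := by
    rw [← Nat.card_coe_set_eq]; rfl
  have h2 : (N : Set G).ncard = 4 * m := by rw [← d.cardN, ← Nat.card_coe_set_eq]; rfl
  have h3 : (C : Set G).ncard = 2 * m := by rw [← d.cardC, ← Nat.card_coe_set_eq]; rfl
  rw [h1, Set.ncard_diff (SetLike.coe_subset_coe.mpr d.hCN) (Set.toFinite _), h2, h3]
  omega

theorem orderOf_t (d : Dat P C N t m) : orderOf t = 2 :=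
  orderOf_eq_prime (by rw [pow_two]; exact d.ht2) d.ht1

theorem orderOf_of_isConj (d : Dat P C N t m) {x : G} (hx : IsConj t x) : orderOf x = 2 := by
  obtain ⟨h, rfl⟩ := isConj_iff.mp hx
  have := orderOf_injective (MulAut.conj h).toMonoidHom (MulAut.conj h).injective t
  rw [← d.orderOf_t, ← this]
  simp

theorem sq_of_orderOf {x : G} (hx : orderOf x = 2) : x * x = 1 := by
  rw [← pow_two, ← hx, pow_orderOf_eq_one]

theorem ne_one_of_orderOf {x : G} (hx : orderOf x = 2) : x ≠ 1 := by
  rintro rfl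
  simp at hx

theorem count [Finite G] (d : Dat P C N t m) (c : G) (hc : c ∈ C) (hc1 : c ≠ 1) :
    Nat.card {p : G × G // IsConj t p.1 ∧ IsConj t p.2 ∧ p.1 * p.2 = c} = 2 * m := by
  rw [← d.card_diff]
  apply Nat.card_congr
  refine ⟨fun p => ⟨p.1.1, ?_⟩, fun x => ⟨(x.1, x.1⁻¹ * c), ?_⟩, ?_, ?_⟩
  · obtain ⟨⟨x, y⟩, hx, hy, hxy⟩ := p
    simp only at hx hy hxy ⊢
    have hx2 := sq_of_orderOf (d.orderOf_of_isConj hx)
    have hy2 := sq_of_orderOf (d.orderOf_of_isConj hy)
    have hx1 := ne_one_of_orderOf (d.orderOf_of_isConj hx)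
    have hy1 := ne_one_of_orderOf (d.orderOf_of_isConj hy)
    have hx' : x⁻¹ = x := inv_eq_of_mul_eq_one_left hx2
    have hy' : y⁻¹ = y := inv_eq_of_mul_eq_one_left hy2
    have hinv : x * c * x⁻¹ = c⁻¹ := by
      rw [← hxy, mul_inv_rev, hx', hy', ← mul_assoc, hx2, one_mul]
    constructor
    · exact d.ti x c hc hc1 (by rw [hinv]; exact C.inv_mem hc)
    · intro hxC
      have hxt := d.uniq x hxC hx2 hx1
      have hyC : y ∈ C := by
        have : y = x⁻¹ * c := by rw [← hxy, inv_mul_cancel_left]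
        rw [this]
        exact C.mul_mem (C.inv_mem hxC) hc
      have hyt := d.uniq y hyC hy2 hy1
      apply hc1
      rw [← hxy, hxt, hyt, d.ht2]
  · obtain ⟨x, hxN, hxC⟩ := x
    simp only
    refine ⟨d.conj x (d.invol_of_not_mem hxN hxC), d.conj _ (d.invol_of_not_mem ?_ ?_), ?_⟩
    · exact N.mul_mem (N.inv_mem hxN) (d.hCN hc)
    · intro h
      apply hxC
      have := C.mul_mem h (C.inv_mem hc)
      rw [mul_inv_cancel_right] at this
      simpa using C.inv_mem this
    · rw [mul_inv_cancel_left]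
  · rintro ⟨⟨x, y⟩, hx, hy, hxy⟩
    simp only at hxy
    apply Subtype.ext
    simp only
    rw [← hxy, inv_mul_cancel_left]
  · rintro ⟨x, hx⟩
    rfl

theorem normC [Finite G] (d : Dat P C N t m) {n c : G} (hn : n ∈ N) (hc : c ∈ C) :
    n * c * n⁻¹ ∈ C := by
  by_cases hnC : n ∈ C
  · exact C.mul_mem (C.mul_mem hnC hc) (C.inv_mem hnC)
  · rw [d.inv n hn hnC c hc]
    exact C.inv_mem hc

theorem key_cover [Finite G] (d : Dat P C N t m)
    (ord : ∀ g : G, g ≠ 1 → t * g * t⁻¹ = g⁻¹ → orderOf g ∣ 4 * m)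
    (syl : ∀ g : G, Odd (orderOf g) → orderOf g ∣ 4 * m → ∃ h : G, h⁻¹ * g * h ∈ P)
    (v : G) (hv : IsConj t v) (hvt : v ≠ t) :
    ∃ h : G, (h * t * h⁻¹ ∈ N ∧ h * t * h⁻¹ ∉ C) ∧ h⁻¹ * (t * v) * h ∈ C := by
  have hv2 := sq_of_orderOf (d.orderOf_of_isConj hv)
  have hv1 := ne_one_of_orderOf (d.orderOf_of_isConj hv)
  have hv' : v⁻¹ = v := inv_eq_of_mul_eq_one_left hv2
  have ht' : t⁻¹ = t := inv_eq_of_mul_eq_one_left d.ht2
  have hg1 : t * v ≠ 1 := by
    intro h
    apply hvt
    rw [eq_inv_of_mul_eq_one_right h, ht']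
  have hgt : t * v ≠ t := by
    intro h
    apply hv1
    simpa using h
  have hginv : t * (t * v) * t⁻¹ = (t * v)⁻¹ := by
    rw [mul_inv_rev, hv', ht', ← mul_assoc, d.ht2, one_mul]
  have hord := ord _ hg1 hginv
  generalize t * v = g at hg1 hginv hord hgt ⊢
  rcases Nat.even_or_odd (orderOf g) with he | ho
  · -- even order
    obtain ⟨j, hj⟩ := he
    have hj0 : j ≠ 0 := by
      rintro rfl
      have := orderOf_pos g
      omega
    have hz : orderOf (g ^ j) = 2 := by
      rw [orderOf_pow_of_dvd hj0 ⟨2, by omega⟩, hj]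
      have : j + j = 2 * j := by ring
      rw [this]
      exact Nat.mul_div_cancel _ (Nat.pos_of_ne_zero hj0)
    obtain ⟨h, hh⟩ := isConj_iff.mp (d.conj _ hz)
    have hz2 := sq_of_orderOf hz
    have hz1 := ne_one_of_orderOf hz
    have hz' : (g ^ j)⁻¹ = g ^ j := inv_eq_of_mul_eq_one_left hz2
    have hgz : g * g ^ j = g ^ j * g := by rw [← pow_succ, ← pow_succ']
    have hcomm : (h⁻¹ * g * h) * t = t * (h⁻¹ * g * h) := by
      have h1 : h⁻¹ * (g * g ^ j) * h = h⁻¹ * (g ^ j * g) * h := by rw [hgz]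
      rw [← hh] at h1
      simp only [mul_assoc, inv_mul_cancel_left, inv_mul_cancel, mul_one] at h1
      simp only [mul_assoc]
      exact h1
    have hg'N : h⁻¹ * g * h ∈ N := (d.memN _).mpr hcomm
    have hord' : orderOf (h⁻¹ * g * h) = orderOf g := by
      have := orderOf_injective (MulAut.conj h⁻¹).toMonoidHom (MulAut.conj h⁻¹).injective g
      simpa using this
    have htz : t * g ^ j * t⁻¹ = g ^ j := by
      have h1 : t * g ^ j * t⁻¹ = (t * g * t⁻¹) ^ j := (conj_pow).symm
      rw [h1, hginv, inv_pow, hz']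
    have hzt : g ^ j * t = t * g ^ j := by
      have := congrArg (· * t) htz
      simpa [mul_assoc] using this.symm
    refine ⟨h, ⟨?_, ?_⟩, ?_⟩
    · rw [hh]
      exact (d.memN _).mpr hzt
    · rw [hh]
      intro hzC
      have hzeq := d.uniq _ hzC hz2 hz1
      -- g commutes with t
      have h1 : g * t = t * g := by rw [← hzeq]; exact hgz
      have h2 : g = g⁻¹ := by
        rw [← hginv, ← h1, mul_inv_cancel_right]
      have h3 : g * g = 1 := by
        nth_rewrite 1 [h2]
        exact inv_mul_cancel g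
      have h4 : orderOf g = 2 := orderOf_eq_prime (by rw [pow_two]; exact h3) hg1
      have hj1 : j = 1 := by omega
      rw [hj1, pow_one] at hzeq
      exact hgt hzeq
    · by_contra hnC
      have h2 := d.invol_of_not_mem hg'N hnC
      rw [hord'] at h2
      have hj1 : j = 1 := by omega
      rw [hj1, pow_one] at hh
      apply hnC
      rw [← hh]
      simp only [mul_assoc, inv_mul_cancel_left, inv_mul_cancel, mul_one]
      exact d.htC
  · -- odd order
    obtain ⟨h, hh⟩ := syl g ho hord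
    have hg'1 : h⁻¹ * g * h ≠ 1 := by
      intro h1
      apply hg1
      have := congrArg (fun z => h * z * h⁻¹) h1
      simpa [mul_assoc] using this
    have hord' : orderOf (h⁻¹ * g * h) = orderOf g := by
      have := orderOf_injective (MulAut.conj h⁻¹).toMonoidHom (MulAut.conj h⁻¹).injective g
      simpa using this
    have hinv' : (h⁻¹ * t * h) * (h⁻¹ * g * h) * (h⁻¹ * t * h)⁻¹ = (h⁻¹ * g * h)⁻¹ := by
      have h1 : (h⁻¹ * t * h) * (h⁻¹ * g * h) * (h⁻¹ * t * h)⁻¹ = h⁻¹ * (t * g * t⁻¹) * h := by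
        simp only [mul_inv_rev, inv_inv, mul_assoc, mul_inv_cancel_left]
      rw [h1, hginv]
      simp only [mul_inv_rev, inv_inv, mul_assoc]
    have ht'N : h⁻¹ * t * h ∈ N :=
      d.ti _ _ (d.hPC hh) hg'1 (by rw [hinv']; exact C.inv_mem (d.hPC hh))
    have hcomm := (d.memN _).mp ht'N
    refine ⟨h, ⟨?_, ?_⟩, d.hPC hh⟩
    · rw [d.memN]
      have := congrArg (fun z => h * z * h⁻¹) hcomm
      simp only [mul_assoc, mul_inv_cancel_left, mul_inv_cancel, mul_one] at this
      simp only [mul_assoc]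
      exact this.symm
    · intro hzC
      have hz2 : (h * t * h⁻¹) * (h * t * h⁻¹) = 1 := by
        simp only [mul_assoc, inv_mul_cancel_left]
        rw [← mul_assoc t t, d.ht2, one_mul, mul_inv_cancel]
      have hz1 : h * t * h⁻¹ ≠ 1 := by
        intro h1
        apply d.ht1
        have := congrArg (fun z => h⁻¹ * z * h) h1
        simpa [mul_assoc] using this
      have hzt := d.uniq _ hzC hz2 hz1
      have hht : h⁻¹ * t * h = t := by
        have := congrArg (fun z => h⁻¹ * z * h) hzt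
        simp only [mul_assoc, inv_mul_cancel_left, inv_mul_cancel, mul_one] at this
        simp only [mul_assoc]
        exact this.symm
      rw [hht, d.comm t d.htC _ (d.hPC hh), mul_inv_cancel_right] at hinv'
      have h3 : (h⁻¹ * g * h) * (h⁻¹ * g * h) = 1 := by
        nth_rewrite 1 [hinv']
        exact inv_mul_cancel _
      have h4 : orderOf (h⁻¹ * g * h) = 2 := orderOf_eq_prime (by rw [pow_two]; exact h3) hg'1
      rw [hord'] at h4
      rw [h4] at ho
      exact absurd ho (by decide)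

theorem bound [Finite G] (d : Dat P C N t m)
    (ord : ∀ g : G, g ≠ 1 → t * g * t⁻¹ = g⁻¹ → orderOf g ∣ 4 * m)
    (syl : ∀ g : G, Odd (orderOf g) → orderOf g ∣ 4 * m → ∃ h : G, h⁻¹ * g * h ∈ P) :
    Nat.card {x : G // IsConj t x} ≤ 4 * m ^ 2 + 1 := by
  classical
  have hex : ∀ z : {x : G // x ∈ N ∧ x ∉ C}, ∃ h : G, h * t * h⁻¹ = z.1 :=
    fun z => isConj_iff.mp (d.conj z.1 (d.invol_of_not_mem z.2.1 z.2.2))
  choose hz hhz using hex
  have hcov : ∀ v : {x : G // IsConj t x}, v.1 ≠ t →
      ∃ p : {x : G // x ∈ N ∧ x ∉ C} × C, hz p.1 * (p.2 : G) * (hz p.1)⁻¹ = t * v.1 := by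
    intro v hvt
    obtain ⟨h, hzN, hgC⟩ := d.key_cover ord syl v.1 v.2 hvt
    have hn : (hz ⟨h * t * h⁻¹, hzN⟩)⁻¹ * h ∈ N := by
      rw [d.memN]
      have h1 : hz ⟨h * t * h⁻¹, hzN⟩ * t * (hz ⟨h * t * h⁻¹, hzN⟩)⁻¹ = h * t * h⁻¹ := hhz _
      generalize hz ⟨h * t * h⁻¹, hzN⟩ = k at h1 ⊢
      have := congrArg (fun z => k⁻¹ * z * h) h1
      simp only [mul_assoc, inv_mul_cancel_left, inv_mul_cancel, mul_one] at this
      simp only [mul_assoc]
      exact this.symm
    refine ⟨(⟨h * t * h⁻¹, hzN⟩, ⟨_, d.normC hn hgC⟩), ?_⟩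
    simp only [mul_inv_rev, inv_inv, mul_assoc, mul_inv_cancel_left, inv_mul_cancel_left,
      mul_inv_cancel, mul_one]
  let F : {x : G // IsConj t x} → Option ({x : G // x ∈ N ∧ x ∉ C} × C) := fun v =>
    if h : v.1 = t then none else some (Classical.choose (hcov v h))
  have hF : Function.Injective F := by
    intro v v' hvv
    by_cases h : v.1 = t
    · by_cases h' : v'.1 = t
      · exact Subtype.ext (h.trans h'.symm)
      · simp [F, h, h'] at hvv
    · by_cases h' : v'.1 = t
      · simp [F, h, h'] at hvv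
      · simp only [F, h, h', dif_neg, not_false_eq_true, Option.some.injEq] at hvv
        have e1 := Classical.choose_spec (hcov v h)
        have e2 := Classical.choose_spec (hcov v' h')
        rw [hvv, e2] at e1
        exact Subtype.ext (mul_left_cancel e1).symm
  have hle := Nat.card_le_card_of_injective F hF
  rw [Finite.card_option, Nat.card_prod, d.card_diff, d.cardC] at hle
  calc Nat.card {x : G // IsConj t x} ≤ 2 * m * (2 * m) + 1 := hle
    _ = 4 * m ^ 2 + 1 := by ring

end Dat

end abstract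

/-- Let G be a finite group with an abelian Sylow 3-subgroup P such that the normalizer of P has order 4·#P, the centralizer C of P has order 2·#P, C meets each of its conjugates by elements outside its normalizer trivially, and every proper subgroup of G of even order has order dividing 4·#P. Then G is not simple. -/
theorem result {G : Type*} [Group G] [Finite G]
    (P : Sylow 3 G) (hab : IsMulCommutative P)
    (hN : Nat.card (Subgroup.normalizer ((P : Subgroup G) : Set G)) = 4 * Nat.card P)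
    (hC : Nat.card (Subgroup.centralizer (P : Set G)) = 2 * Nat.card P)
    (hTI : Cfsg.IsTISubset (Subgroup.centralizer (P : Set G) : Set G))
    (heven : ∀ H : Subgroup G, H ≠ ⊤ → 2 ∣ Nat.card H → Nat.card H ∣ 4 * Nat.card P) :
    ¬ IsSimpleGroup G := by
  intro hs
  haveI : Fact (Nat.Prime 3) := ⟨Nat.prime_three⟩
  haveI : Fact (Nat.Prime 2) := ⟨Nat.prime_two⟩
  obtain ⟨a, ha⟩ := P.isPGroup'.exists_card_eq
  have ha' : Nat.card P = 3 ^ a := ha
  generalize hm : Nat.card P = m at hN hC heven ha'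
  have hmP : Nat.card (P : Subgroup G) = m := hm
  have hmodd : Odd m := by rw [ha']; exact Odd.pow (by decide)
  have hsimple : ∀ H : Subgroup G, H.Normal → H = ⊥ ∨ H = ⊤ :=
    fun H hH => hs.eq_bot_or_eq_top_of_normal H hH
  have h4m : 4 * m ∣ Nat.card G := hN ▸ Subgroup.card_subgroup_dvd_card _
  have h4 : 4 ∣ Nat.card G := (Dvd.intro _ rfl).trans h4m
  have hGpos : 0 < Nat.card G := Nat.card_pos
  -- no normal subgroup generated by an involution etc.
  have hm1 : m ≠ 1 := by
    intro h1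
    have hPbot : (P : Subgroup G) = ⊥ := Subgroup.eq_bot_of_card_eq _ (hmP.trans h1)
    rw [hPbot, Subgroup.normalizer_eq_top, Subgroup.card_top, h1] at hN
    obtain ⟨z, hz⟩ := exists_prime_orderOf_dvd_card' (G := G) 2 (by rw [hN]; norm_num)
    have hcz : Nat.card (Subgroup.zpowers z) = 2 := by rw [Nat.card_zpowers, hz]
    have hidx : (Subgroup.zpowers z).index = 2 := by
      have := Subgroup.card_mul_index (Subgroup.zpowers z)
      rw [hcz, hN] at this
      omega
    rcases hsimple _ (Subgroup.normal_of_index_eq_two hidx) with h | h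
    · rw [h, Subgroup.card_bot] at hcz; omega
    · rw [h, Subgroup.card_top, hN] at hcz; omega
  have ha0 : a ≠ 0 := by
    rintro rfl
    exact hm1 (by simpa using ha')
  have h3m : 3 ∣ m := by rw [ha']; exact dvd_pow_self 3 ha0
  have hm3 : 3 ≤ m := Nat.le_of_dvd (by rcases hmodd with ⟨j, hj⟩; omega) h3m
  -- Sylow 2-subgroups
  obtain ⟨S⟩ : Nonempty (Sylow 2 G) := Sylow.nonempty
  have hScard : Nat.card (S : Subgroup G) = 4 := by
    have hS := S.card_eq_multiplicity
    have hk2 : 2 ≤ (Nat.card G).factorization 2 :=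
      (Nat.Prime.pow_dvd_iff_le_factorization Nat.prime_two hGpos.ne').mp (by simpa using h4)
    have hStop : (S : Subgroup G) ≠ ⊤ := by
      intro h
      rw [h, Subgroup.card_top] at hS
      have h3 : 3 ∣ 2 ^ (Nat.card G).factorization 2 := by
        rw [← hS]
        exact h3m.trans ((Dvd.intro_left _ rfl).trans h4m)
      have := Nat.Prime.dvd_of_dvd_pow Nat.prime_three h3
      omega
    have h4S : 4 ∣ Nat.card (S : Subgroup G) := by
      rw [hS]
      exact pow_dvd_pow 2 hk2
    have hSdvd := heven S hStop ((by norm_num : 2 ∣ 4).trans h4S)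
    have hcop : Nat.Coprime (Nat.card (S : Subgroup G)) m := by
      rw [hS]
      exact Nat.Coprime.pow_left _ (Nat.coprime_two_left.mpr hmodd)
    have := hcop.dvd_of_dvd_mul_right hSdvd
    exact Nat.dvd_antisymm this h4S
  have hG4 : Nat.card G = 4 * (S : Subgroup G).index := by
    rw [← hScard, Subgroup.card_mul_index]
  have hg₀ : Odd (S : Subgroup G).index := by
    rw [← Nat.not_even_iff_odd, even_iff_two_dvd]
    exact S.not_dvd_index
  have hnc : ¬ ∃ K : Subgroup G, K.Normal ∧ Nat.card K = (S : Subgroup G).index := by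
    rintro ⟨K, hKn, hK⟩
    rcases hsimple K hKn with h | h
    · rw [h, Subgroup.card_bot] at hK
      rw [← hK] at hG4
      rw [hG4] at h4m
      have := Nat.le_of_dvd (by norm_num) h4m
      omega
    · rw [h, Subgroup.card_top] at hK
      omega
  obtain ⟨hK, hconj⟩ := Cfsg.Agent.Lib.Helper74.klein_of_no_complement _ hg₀ hG4 hnc S
  -- the involution t
  obtain ⟨t', ht'⟩ := exists_prime_orderOf_dvd_card'
    (G := Subgroup.centralizer (P : Set G)) 2 (by rw [hC]; exact Dvd.intro _ rfl)
  obtain ⟨t, htC⟩ := t'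
  rw [Subgroup.orderOf_mk] at ht'
  have ht2 : t * t = 1 := Dat.sq_of_orderOf ht'
  have ht1 : t ≠ 1 := Dat.ne_one_of_orderOf ht'
  have hPcomm : ∀ x ∈ (P : Subgroup G), ∀ y ∈ (P : Subgroup G), x * y = y * x := by
    intro x hx y hy
    exact congrArg Subtype.val (hab.is_comm.comm ⟨x, hx⟩ ⟨y, hy⟩)
  have hcent : ∀ p ∈ (P : Subgroup G), ∀ c ∈ Subgroup.centralizer (P : Set G), c * p = p * c := by
    intro p hp c hc
    exact ((Subgroup.mem_centralizer_iff.mp hc) p hp).symm
  have hPC : (P : Subgroup G) ≤ Subgroup.centralizer (P : Set G) := by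
    intro p hp
    rw [Subgroup.mem_centralizer_iff]
    intro h hh
    exact hPcomm h hh p hp
  have hPodd : ∀ p ∈ (P : Subgroup G), Odd (orderOf p) := by
    intro p hp
    have h1 := orderOf_dvd_natCard (⟨p, hp⟩ : (P : Subgroup G))
    rw [Subgroup.orderOf_mk, hmP] at h1
    exact Odd.of_dvd_nat hmodd h1
  have hPodd' : ∀ p ∈ (P : Subgroup G), p * p = 1 → p = 1 := by
    intro p hp hpp
    by_contra hp1
    have h1 : orderOf p = 2 := orderOf_eq_prime (by rw [pow_two]; exact hpp) hp1
    have h2 := hPodd p hp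
    rw [h1] at h2
    exact absurd h2 (by decide)
  have htP : t ∉ (P : Subgroup G) := fun h => ht1 (hPodd' t h ht2)
  have hrel : (P : Subgroup G).relIndex (Subgroup.centralizer (P : Set G)) = 2 :=
    relIndex_two_of_card hPC (by rw [hC, hmP])
  have hdich : ∀ c ∈ Subgroup.centralizer (P : Set G), c ∈ (P : Subgroup G) ∨
      c * t ∈ (P : Subgroup G) := by
    intro c hc
    by_cases hcP : c ∈ (P : Subgroup G)
    · exact Or.inl hcP
    · right
      rw [mul_mem_iff_of_relIndex_two hrel hc htC]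
      exact ⟨fun h => absurd h hcP, fun h => absurd h htP⟩
  have comm := comm_of_dich (P : Subgroup G) _ t hPcomm hcent htC hdich
  have uniq := unique_invol (P : Subgroup G) _ t comm htC ht2 hPodd' hdich
  -- conjugation by the normalizer of P
  have hnormC : ∀ g ∈ Subgroup.normalizer ((P : Subgroup G) : Set G),
      ∀ c ∈ Subgroup.centralizer (P : Set G), g * c * g⁻¹ ∈ Subgroup.centralizer (P : Set G) := by
    intro g hg c hc
    rw [Subgroup.mem_centralizer_iff]
    intro p hp
    have hp' : g⁻¹ * p * g ∈ (P : Subgroup G) := by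
      have := (Subgroup.mem_normalizer_iff.mp (Subgroup.inv_mem _ hg) p).mp hp
      simpa using this
    have h1 := hcent _ hp' c hc
    calc p * (g * c * g⁻¹) = g * ((g⁻¹ * p * g) * c) * g⁻¹ := by
          simp only [mul_assoc, mul_inv_cancel_left]
      _ = g * (c * (g⁻¹ * p * g)) * g⁻¹ := by rw [h1]
      _ = g * c * g⁻¹ * p := by
          simp only [mul_assoc, mul_inv_cancel, mul_one]
  have hconjt : ∀ g : G, g * t * g⁻¹ ∈ Subgroup.centralizer (P : Set G) → g * t = t * g := by
    intro g hg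
    have h1 : (g * t * g⁻¹) * (g * t * g⁻¹) = 1 := by
      simp only [mul_assoc, inv_mul_cancel_left]
      rw [← mul_assoc t t, ht2, one_mul, mul_inv_cancel]
    have h2 : g * t * g⁻¹ ≠ 1 := by
      intro h
      apply ht1
      have := congrArg (fun z => g⁻¹ * z * g) h
      simpa [mul_assoc] using this
    have h3 := uniq _ hg h1 h2
    have := congrArg (· * g) h3
    simpa [mul_assoc] using this
  -- N = C_G(t)
  have hNPle : Subgroup.normalizer ((P : Subgroup G) : Set G) ≤ Subgroup.centralizer {t} := by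
    intro g hg
    rw [Subgroup.mem_centralizer_singleton_iff]
    exact hconjt g (hnormC g hg t htC)
  have hzp : ∀ z : G, z ≠ 1 → (Subgroup.zpowers z).Normal → Nat.card G = orderOf z := by
    intro z hz1 hzn
    rcases hsimple _ hzn with h | h
    · exact absurd (Subgroup.zpowers_eq_bot.mp h) hz1
    · rw [← Nat.card_zpowers, h, Subgroup.card_top]
  have hNtop : Subgroup.centralizer {t} ≠ (⊤ : Subgroup G) := by
    intro h
    have hall : ∀ g : G, g * t = t * g := by
      intro g
      rw [← Subgroup.mem_centralizer_singleton_iff, h]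
      exact Subgroup.mem_top g
    have hn : (Subgroup.zpowers t).Normal := by
      refine ⟨fun n hn g => ?_⟩
      obtain ⟨k, rfl⟩ := Subgroup.mem_zpowers_iff.mp hn
      have hc : Commute g (t ^ k) := Commute.zpow_right (hall g) k
      rw [hc.eq, mul_inv_cancel_right]
      exact Subgroup.zpow_mem_zpowers t k
    have := hzp t ht1 hn
    rw [ht'] at this
    omega
  have htN : t ∈ Subgroup.centralizer ({t} : Set G) := by
    rw [Subgroup.mem_centralizer_singleton_iff]
  have h2dvd : ∀ H : Subgroup G, t ∈ H → 2 ∣ Nat.card H := by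
    intro H hH
    have := orderOf_dvd_natCard (⟨t, hH⟩ : H)
    rwa [Subgroup.orderOf_mk, ht'] at this
  have hNdvd := heven _ hNtop (h2dvd _ htN)
  have hNeq : Subgroup.normalizer ((P : Subgroup G) : Set G) = Subgroup.centralizer {t} := by
    apply Subgroup.eq_of_le_of_card_ge hNPle
    rw [hN]
    exact Nat.le_of_dvd (by omega) hNdvd
  have cardN : Nat.card (Subgroup.centralizer ({t} : Set G)) = 4 * m := by rw [← hNeq, hN]
  have hCN : Subgroup.centralizer (P : Set G) ≤ Subgroup.centralizer {t} := by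
    intro c hc
    rw [Subgroup.mem_centralizer_singleton_iff]
    exact comm c hc t htC
  have ti : ∀ g : G, ∀ c ∈ Subgroup.centralizer (P : Set G), c ≠ 1 →
      g * c * g⁻¹ ∈ Subgroup.centralizer (P : Set G) → g ∈ Subgroup.centralizer {t} := by
    intro g c hc hc1 hmem
    by_contra hg
    apply hc1
    refine hTI g ?_ c hc hmem
    intro hgn
    apply hg
    rw [Subgroup.mem_centralizer_singleton_iff]
    exact hconjt g ((Subgroup.mem_normalizer_iff.mp hgn t).mp htC)
  have d : Dat (P : Subgroup G) (Subgroup.centralizer (P : Set G)) (Subgroup.centralizer {t}) t m :=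
    { cardC := hC
      cardN := cardN
      modd := hmodd
      hPC := hPC
      hCN := hCN
      comm := comm
      htC := htC
      ht2 := ht2
      ht1 := ht1
      hPodd := hPodd
      hdich := hdich
      uniq := uniq
      memN := fun x => Subgroup.mem_centralizer_singleton_iff
      normP := by
        intro x hx p hp
        rw [← hNeq] at hx
        exact (Subgroup.mem_normalizer_iff.mp hx p).mp hp
      ti := ti
      conj := fun x hx => hconj t x ht' hx
      sq := fun x k hx => Cfsg.Agent.Lib.Helper74.klein_two_element_sq S hx }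
  have ord : ∀ g : G, g ≠ 1 → t * g * t⁻¹ = g⁻¹ → orderOf g ∣ 4 * m := by
    intro g hg1 hginv
    have htn : t ∈ Subgroup.normalizer ((Subgroup.zpowers g : Subgroup G) : Set G) := by
      apply mem_normalizer_of_conj_mem
      intro x hx
      obtain ⟨k, rfl⟩ := Subgroup.mem_zpowers_iff.mp hx
      rw [← conj_zpow, hginv]
      exact Subgroup.zpow_mem _ (Subgroup.inv_mem _ (Subgroup.mem_zpowers g)) k
    have hHtop : Subgroup.normalizer ((Subgroup.zpowers g : Subgroup G) : Set G) ≠ ⊤ := by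
      intro h
      have hn : (Subgroup.zpowers g).Normal := Subgroup.normalizer_eq_top_iff.mp h
      have hcard := hzp g hg1 hn
      have htop : Subgroup.zpowers g = ⊤ := by
        rcases hsimple _ hn with h | h
        · exact absurd (Subgroup.zpowers_eq_bot.mp h) hg1
        · exact h
      have htg : t ∈ Subgroup.zpowers g := htop ▸ Subgroup.mem_top t
      obtain ⟨k, hk⟩ := Subgroup.mem_zpowers_iff.mp htg
      have hc : t * g = g * t := by
        rw [← hk]
        exact ((Commute.refl g).zpow_left k).eq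
      have hgg' : g = g⁻¹ := by rw [← hginv, hc, mul_inv_cancel_right]
      have hgg : g * g = 1 := by
        nth_rewrite 1 [hgg']
        exact inv_mul_cancel g
      have ho : orderOf g = 2 := orderOf_eq_prime (by rw [pow_two]; exact hgg) hg1
      omega
    have h1 := heven _ hHtop (h2dvd _ htn)
    have h2 : orderOf g ∣
        Nat.card (Subgroup.normalizer ((Subgroup.zpowers g : Subgroup G) : Set G)) := by
      have := orderOf_dvd_natCard (⟨g, Subgroup.le_normalizer (Subgroup.mem_zpowers g)⟩ :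
        Subgroup.normalizer ((Subgroup.zpowers g : Subgroup G) : Set G))
      rwa [Subgroup.orderOf_mk] at this
    exact h2.trans h1
  have syl : ∀ g : G, Odd (orderOf g) → orderOf g ∣ 4 * m →
      ∃ h : G, h⁻¹ * g * h ∈ (P : Subgroup G) := by
    intro g ho hd
    have hcop : Nat.Coprime (orderOf g) 4 := by
      have : Nat.Coprime (orderOf g) (2 ^ 2) :=
        Nat.Coprime.pow_right 2 (Nat.coprime_two_right.mpr ho)
      simpa using this
    have h1 : orderOf g ∣ 3 ^ a := ha' ▸ hcop.dvd_of_dvd_mul_left hd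
    obtain ⟨j, -, hj⟩ := (Nat.dvd_prime_pow Nat.prime_three).mp h1
    have hp : IsPGroup 3 (Subgroup.zpowers g) :=
      IsPGroup.of_card (n := j) (by rw [Nat.card_zpowers, hj])
    obtain ⟨h, hh⟩ := sylow_conj_top P _ hp
    refine ⟨h⁻¹, ?_⟩
    rw [inv_inv]
    exact hh g (Subgroup.mem_zpowers g)
  obtain ⟨p₀, hp₀, hp₀1⟩ : ∃ p₀ ∈ (P : Subgroup G), p₀ ≠ 1 := by
    by_contra hcon
    push Not at hcon
    have : (P : Subgroup G) = ⊥ := (Subgroup.eq_bot_iff_forall _).mpr hcon
    rw [this, Subgroup.card_bot] at hmP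
    omega
  refine DihTI.false_of_config _ _ t m (by omega) hC cardN hCN comm ti d.inv htC ht2 p₀
    (hPC hp₀) hp₀1 (hPodd p₀ hp₀) (S : Subgroup G) hScard ?_ d.count _ rfl ?_ (d.bound ord syl)
  · intro x hx hx1
    have h1 := Cfsg.Agent.Lib.Helper74.klein_mul_self S hx
    exact hconj t x ht' (orderOf_eq_prime (by rw [pow_two]; exact h1) hx1)
  · have := Cfsg.Agent.Lib.Helper3.card_isConj_mul_card_centralizer t
    rw [cardN] at this
    rw [← this]
    ring

end Cfsg.Agent.S4018
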