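import Cfsg.Statements.S4020
import Cfsg.Agent.S0118
import Cfsg.Agent.S4023
import Cfsg.Agent.S0225
import Cfsg.Agent.Lib.Helper5.LinearCard

set_option autoImplicit false
open Cfsg

namespace Cfsg.Agent.S4020

/-- Fusion configuration: `P` of order dividing `p^3`, exponent `p`, with a central element
fused to a noncentral one. -/
structure Config {G : Type*} [Group G] (p : ℕ) (P : Subgroup G) : Prop where
  card : Nat.card P ∣ p ^ 3
  exp : ∀ x ∈ P, x ^ p = 1
  wit : ∃ z g y : G, z ∈ P ∧ (∀ w ∈ P, w * z = z * w) ∧ g⁻¹ * z * g ∈ P ∧ y ∈ P ∧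
    y * (g⁻¹ * z * g) ≠ (g⁻¹ * z * g) * y

theorem thompson_eq_top {Q : Type*} [Group Q] [Finite Q] {p : ℕ} [Fact p.Prime]
    (hc : Nat.card Q ∣ p ^ 3) (he : ∀ x : Q, x ^ p = 1) (hn : ∃ x y : Q, x * y ≠ y * x) :
    thompsonSubgroup p Q = ⊤ := by
  have hp : p.Prime := Fact.out
  obtain ⟨m, hm, hcm⟩ := (Nat.dvd_prime_pow hp).1 hc
  have hPG : IsPGroup p Q := IsPGroup.of_card hcm
  obtain ⟨x0, y0, hxy⟩ := hn
  have : Nontrivial Q := ⟨⟨x0, y0, fun h => hxy (by rw [h])⟩⟩
  have := hPG.center_nontrivial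
  -- bound for proper subgroups
  have hprop : ∀ B : Subgroup Q, B ≠ ⊤ → Nat.card B ∣ p ^ 2 := by
    intro B hB
    obtain ⟨k, hk, hck⟩ := (Nat.dvd_prime_pow hp).1 ((Subgroup.card_subgroup_dvd_card B).trans hc)
    have hlt : Nat.card B < Nat.card Q := by
      rcases lt_or_eq_of_le (Subgroup.card_le_card_group B) with h | h
      · exact h
      · exact absurd (Subgroup.eq_top_of_card_eq B h) hB
    rw [hck, hcm] at hlt
    have : k < m := (Nat.pow_lt_pow_iff_right hp.one_lt).1 hlt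
    rw [hck]
    exact pow_dvd_pow p (by omega)
  have hab : ∀ B : Subgroup Q, IsElementaryAbelian p B → Nat.card B ≤ p ^ 2 := by
    intro B hB
    apply Nat.le_of_dvd (pow_pos hp.pos 2)
    apply hprop
    rintro rfl
    have := hB.1.is_comm.comm ⟨x0, Subgroup.mem_top _⟩ ⟨y0, Subgroup.mem_top _⟩
    exact hxy (congrArg Subtype.val this)
  -- centralizers of noncentral elements
  have hcent : ∀ x : Q, x ∉ Subgroup.center Q →
      Subgroup.centralizer {x} ∈ maxElementaryAbelianSubgroups p Q := by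
    intro x hx
    have h1 : Subgroup.centralizer {x} ≠ ⊤ := by
      intro h
      apply hx
      rw [Subgroup.mem_center_iff]
      intro g
      have : g ∈ Subgroup.centralizer {x} := h ▸ Subgroup.mem_top g
      exact ((Subgroup.mem_centralizer_iff.1 this) x rfl).symm
    have h2 := hprop _ h1
    have h3 : Subgroup.center Q < Subgroup.centralizer {x} := by
      refine lt_of_le_of_ne (Subgroup.center_le_centralizer _) ?_
      intro h
      apply hx
      rw [h]
      exact Subgroup.mem_centralizer_iff.2 (fun h hh => by rw [Set.mem_singleton_iff.1 hh])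
    have h4 : Nat.card (Subgroup.center Q) < Nat.card (Subgroup.centralizer {x}) := by
      by_contra hh
      push Not at hh
      exact h3.ne (Subgroup.eq_of_le_of_card_ge h3.le hh)
    have h5 : p ≤ Nat.card (Subgroup.center Q) := by
      obtain ⟨j, hj⟩ := (hPG.to_subgroup (Subgroup.center Q)).exists_card_eq
      rcases Nat.eq_zero_or_pos j with rfl | hj0
      · rw [pow_zero] at hj
        have := Finite.one_lt_card (α := Subgroup.center Q)
        omega
      · rw [hj]
        calc p = p ^ 1 := (pow_one p).symm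
          _ ≤ p ^ j := Nat.pow_le_pow_right hp.pos hj0
    obtain ⟨k, hk, hck⟩ := (Nat.dvd_prime_pow hp).1 h2
    have hk2 : k = 2 := by
      have : p ^ 1 < p ^ k := by rw [pow_one, ← hck]; omega
      have := (Nat.pow_lt_pow_iff_right hp.one_lt).1 this
      omega
    subst hk2
    refine ⟨⟨IsPGroup.isMulCommutative_of_card_eq_prime_sq hck, fun a _ => he a⟩, fun B hB => ?_⟩
    rw [hck]
    exact hab B hB
  have hx0 : x0 ∉ Subgroup.center Q := by
    intro h
    exact hxy ((Subgroup.mem_center_iff.1 h y0).symm)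
  rw [eq_top_iff]
  intro x _
  by_cases hx : x ∈ Subgroup.center Q
  · exact (le_sSup (hcent x0 hx0)) (Subgroup.center_le_centralizer _ hx)
  · exact (le_sSup (hcent x hx))
      (Subgroup.mem_centralizer_iff.2 (fun h hh => by rw [Set.mem_singleton_iff.1 hh]))

theorem centerThompsonOf_eq {G : Type*} [Group G] [Finite G] {p : ℕ} [Fact p.Prime]
    (P : Subgroup G) (h : Config p P) :
    centerThompsonOf p P = P ⊓ Subgroup.centralizer (P : Set G) := by
  obtain ⟨z, g, y, hz, hzc, hx, hy, hne⟩ := h.wit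
  have h1 : thompsonSubgroup p P = ⊤ := by
    apply thompson_eq_top h.card
    · intro x
      exact Subtype.ext (h.exp x x.2)
    · exact ⟨⟨y, hy⟩, ⟨_, hx⟩, fun hh => hne (congrArg Subtype.val hh)⟩
  have h2 : thompsonSubgroupOf p P = P := by
    rw [thompsonSubgroupOf, h1, ← MonoidHom.range_eq_map, Subgroup.range_subtype]
  rw [centerThompsonOf, h2]

theorem exists_section {G : Type*} [Group G] [Finite G] {p : ℕ} [Fact p.Prime] (hp : p ≠ 2)
    (P : Sylow p G) (h : Config p (P : Subgroup G)) :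
    ∃ (H K : Subgroup G) (_ : (K.subgroupOf H).Normal),
      Nonempty ((H ⧸ K.subgroupOf H) ≃* Matrix.SpecialLinearGroup (Fin 2) (ZMod p)) := by
  by_contra hfree
  obtain ⟨z, g, y, hz, hzc, hx, hy, hne⟩ := h.wit
  obtain ⟨n, hn, hn'⟩ := Cfsg.Agent.S0118.result hp hfree P {z} (Set.singleton_subset_iff.2 hz) g
    (by rintro _ ⟨a, rfl, rfl⟩; exact hx)
  have h1 := hn' z rfl
  have hW := centerThompsonOf_eq (P : Subgroup G) h
  have hzW : z ∈ centerThompsonOf p (P : Subgroup G) := by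
    rw [hW]
    exact ⟨hz, Subgroup.mem_centralizer_iff.2 (fun w hw => hzc w hw)⟩
  have h2 : n⁻¹ * z * n ∈ centerThompsonOf p (P : Subgroup G) :=
    (Subgroup.mem_normalizer_iff''.1 hn z).1 hzW
  rw [h1, hW] at h2
  exact hne (Subgroup.mem_centralizer_iff.1 h2.2 y hy)

theorem eight_dvd_card_SL2 {p : ℕ} [Fact p.Prime] (hp : p ≠ 2) :
    8 ∣ Nat.card (Matrix.SpecialLinearGroup (Fin 2) (ZMod p)) := by
  rw [Cfsg.Agent.Lib.Helper5.card_SL2, ZMod.card]
  have hodd : Odd p := (Fact.out : p.Prime).odd_of_ne_two hp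
  obtain ⟨k, rfl⟩ := hodd
  apply Dvd.dvd.mul_left
  have h1 : (2 * k + 1) ^ 2 - 1 = 4 * (k * (k + 1)) := by
    have : (2 * k + 1) ^ 2 = 4 * (k * (k + 1)) + 1 := by ring
    omega
  rw [h1]
  obtain ⟨j, hj⟩ := Nat.even_mul_succ_self k
  rw [hj]
  exact ⟨j, by ring⟩

theorem exists_order_four_SL2 {p : ℕ} [Fact p.Prime] (hp : p ≠ 2) :
    ∃ w : Matrix.SpecialLinearGroup (Fin 2) (ZMod p), orderOf w = 4 := by
  let w : Matrix.SpecialLinearGroup (Fin 2) (ZMod p) :=
    ⟨!![0, 1; -1, 0], by simp [Matrix.det_fin_two]⟩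
  refine ⟨w, ?_⟩
  have w00 : (w : Matrix (Fin 2) (Fin 2) (ZMod p)) 0 0 = 0 := rfl
  have w01 : (w : Matrix (Fin 2) (Fin 2) (ZMod p)) 0 1 = 1 := rfl
  have w10 : (w : Matrix (Fin 2) (Fin 2) (ZMod p)) 1 0 = -1 := rfl
  have w11 : (w : Matrix (Fin 2) (Fin 2) (ZMod p)) 1 1 = 0 := rfl
  have h := orderOf_eq_prime_pow (p := 2) (n := 1) (x := w) ?_ ?_
  · simpa using h
  · intro hh
    have h1 := congrArg (fun m : Matrix.SpecialLinearGroup (Fin 2) (ZMod p) => m.1 0 0) hh
    simp [pow_two, Matrix.mul_apply, Fin.sum_univ_two, w00, w01, w10] at h1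
    have h2 : (2 : ZMod p) = 0 := by
      have : (1 : ZMod p) + 1 = 0 := by
        nth_rewrite 1 [← h1]
        ring
      rw [← this]; norm_num
    have h3 : ((2 : ℕ) : ZMod p) = 0 := by exact_mod_cast h2
    rw [ZMod.natCast_eq_zero_iff] at h3
    exact hp ((Nat.prime_dvd_prime_iff_eq Fact.out Nat.prime_two).1 h3)
  · ext i j
    fin_cases i <;> fin_cases j <;>
      simp [pow_succ, Matrix.mul_apply, Fin.sum_univ_two, w00, w01, w10, w11]

theorem core8 {G : Type*} [Group G] [Finite G] {p : ℕ} [Fact p.Prime] (hp : p ≠ 2)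
    (P : Sylow p G) (h : Config p (P : Subgroup G)) :
    8 ∣ Nat.card G ∧ ∃ u : G, orderOf u = 4 := by
  obtain ⟨H, K, hK, ⟨e⟩⟩ := exists_section hp P h
  constructor
  · have h1 := eight_dvd_card_SL2 hp
    rw [← Nat.card_congr e.toEquiv] at h1
    exact h1.trans ((Subgroup.card_quotient_dvd_card _).trans (Subgroup.card_subgroup_dvd_card H))
  · obtain ⟨w, hw⟩ := exists_order_four_SL2 hp
    obtain ⟨u, hu⟩ := QuotientGroup.mk_surjective (e.symm w)
    have h1 : orderOf (e.symm w) = 4 := by rw [MulEquiv.orderOf_eq, hw]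
    have h2 : 4 ∣ orderOf (u : G) := by
      rw [Subgroup.orderOf_coe, ← h1, ← hu]
      exact orderOf_map_dvd (QuotientGroup.mk' (K.subgroupOf H)) u
    exact ⟨_, orderOf_pow_orderOf_div (orderOf_pos _).ne' h2⟩

theorem config_subtype {G : Type*} [Group G] [Finite G] {p : ℕ} [Fact p.Prime]
    (N : Subgroup G) [N.Normal] (P : Sylow p G) (hPN : (P : Subgroup G) ≤ N)
    (h : Config p (P : Subgroup G)) : Config p ((P.subtype hPN : Sylow p N) : Subgroup N) := by
  rw [Sylow.coe_subtype]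
  obtain ⟨z, g, y, hz, hzc, hx, hy, hne⟩ := h.wit
  refine ⟨?_, ?_, ?_⟩
  · rw [Nat.card_congr (Subgroup.subgroupOfEquivOfLe hPN).toEquiv]
    exact h.card
  · intro x hx
    exact Subtype.ext (h.exp x (Subgroup.mem_subgroupOf.1 hx))
  · have htop := P.normalizer_sup_eq_top' hPN
    have hg : g ∈ ((Subgroup.normalizer (P : Set G) ⊔ N : Subgroup G) : Set G) := by
      rw [htop]; trivial
    rw [Subgroup.mul_normal] at hg
    obtain ⟨n, hn, k, hk, rfl⟩ := Set.mem_mul.1 hg
    have hn' : ∀ w, w ∈ (P : Subgroup G) ↔ n⁻¹ * w * n ∈ (P : Subgroup G) :=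
      Subgroup.mem_normalizer_iff''.1 hn
    have hn2 : ∀ w, w ∈ (P : Subgroup G) ↔ n * w * n⁻¹ ∈ (P : Subgroup G) :=
      Subgroup.mem_normalizer_iff.1 hn
    have hz' : n⁻¹ * z * n ∈ (P : Subgroup G) := (hn' z).1 hz
    have hrw : (n * k)⁻¹ * z * (n * k) = k⁻¹ * (n⁻¹ * z * n) * k := by group
    rw [hrw] at hx hne
    refine ⟨⟨n⁻¹ * z * n, hPN hz'⟩, ⟨k, hk⟩, ⟨y, hPN hy⟩, Subgroup.mem_subgroupOf.2 hz', ?_,
      Subgroup.mem_subgroupOf.2 hx, Subgroup.mem_subgroupOf.2 hy, ?_⟩
    · intro w hw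
      apply Subtype.ext
      have h1 := hzc _ ((hn2 w).1 (Subgroup.mem_subgroupOf.1 hw))
      show (w : G) * (n⁻¹ * z * n) = (n⁻¹ * z * n) * w
      calc (w : G) * (n⁻¹ * z * n) = n⁻¹ * ((n * w * n⁻¹) * z) * n := by group
        _ = n⁻¹ * (z * (n * w * n⁻¹)) * n := by rw [h1]
        _ = (n⁻¹ * z * n) * w := by group
    · intro hh
      exact hne (congrArg Subtype.val hh)

theorem config_quot {G : Type*} [Group G] [Finite G] {p : ℕ} [Fact p.Prime]
    (N : Subgroup G) [N.Normal] (P : Sylow p G) (hN : ¬ p ∣ Nat.card N)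
    (h : Config p (P : Subgroup G)) :
    Config p ((P.mapSurjective (QuotientGroup.mk'_surjective N) : Sylow p (G ⧸ N)) :
      Subgroup (G ⧸ N)) := by
  rw [Sylow.coe_mapSurjective]
  obtain ⟨z, g, y, hz, hzc, hx, hy, hne⟩ := h.wit
  have hdisj : (P : Subgroup G) ⊓ N = ⊥ := by
    apply disjoint_iff.1
    apply Subgroup.disjoint_of_coprime_natCard
    obtain ⟨k, hk⟩ := P.2.exists_card_eq
    rw [hk]
    exact Nat.Coprime.pow_left _ ((Nat.Prime.coprime_iff_not_dvd Fact.out).2 hN)
  refine ⟨(Subgroup.card_map_dvd _ _).trans h.card, ?_, ?_⟩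
  · rintro _ ⟨x, hx, rfl⟩
    rw [← map_pow, h.exp x hx, map_one]
  · refine ⟨QuotientGroup.mk' N z, QuotientGroup.mk' N g, QuotientGroup.mk' N y,
      Subgroup.mem_map_of_mem _ hz, ?_, ?_, Subgroup.mem_map_of_mem _ hy, ?_⟩
    · rintro _ ⟨w, hw, rfl⟩
      rw [← map_mul, ← map_mul, hzc w hw]
    · rw [← map_inv, ← map_mul, ← map_mul]
      exact Subgroup.mem_map_of_mem _ hx
    · rw [← map_inv, ← map_mul, ← map_mul, ← map_mul, ← map_mul]
      intro hh
      have h1 : (y * (g⁻¹ * z * g))⁻¹ * ((g⁻¹ * z * g) * y) ∈ N := QuotientGroup.eq.1 hh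
      have h2 : (y * (g⁻¹ * z * g))⁻¹ * ((g⁻¹ * z * g) * y) ∈ (P : Subgroup G) :=
        mul_mem (inv_mem (mul_mem hy hx)) (mul_mem hx hy)
      have h3 : (y * (g⁻¹ * z * g))⁻¹ * ((g⁻¹ * z * g) * y) ∈ (P : Subgroup G) ⊓ N := ⟨h2, h1⟩
      rw [hdisj, Subgroup.mem_bot] at h3
      exact hne (inv_mul_eq_one.1 h3)

theorem config_of_hC {G : Type*} [Group G] [Finite G] {p : ℕ} [Fact p.Prime]
    (hC : ∀ H K : Subgroup G, IsPGroup p H → IsPGroup p K → Nat.card H = Nat.card K →
      ∃ g : G, K = H.map (MulAut.conj g).toMonoidHom) (P : Sylow p G)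
    (hnc : ¬ IsMulCommutative P) (hcard : Nat.card P = p ^ 3) (hexp : Monoid.exponent P = p) :
    Config p (P : Subgroup G) := by
  have hp : p.Prime := Fact.out
  have hexp' : ∀ x ∈ (P : Subgroup G), x ^ p = 1 := by
    intro x hx
    have := Monoid.pow_exponent_eq_one (⟨x, hx⟩ : (P : Subgroup G))
    rw [hexp] at this
    exact congrArg Subtype.val this
  refine ⟨hcard ▸ dvd_rfl, hexp', ?_⟩
  have : Nontrivial P := by
    apply (Finite.one_lt_card_iff_nontrivial).1
    rw [hcard]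
    exact Nat.one_lt_pow (by norm_num) hp.one_lt
  have := (P.2 : IsPGroup p P).center_nontrivial
  obtain ⟨z0, hz0⟩ := exists_ne (1 : Subgroup.center P)
  have hab : ∃ a b : P, a * b ≠ b * a := by
    by_contra hh
    push Not at hh
    exact hnc ⟨⟨hh⟩⟩
  obtain ⟨a, b, hab⟩ := hab
  have hzP : ((z0 : P) : G) ∈ (P : Subgroup G) := (z0 : P).2
  have hz1 : ((z0 : P) : G) ≠ 1 := by
    intro h
    apply hz0
    apply Subtype.ext
    apply Subtype.ext
    exact h
  have ha1 : (a : G) ≠ 1 := by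
    intro h
    apply hab
    have : a = 1 := Subtype.ext h
    rw [this]; simp
  have hoz : orderOf ((z0 : P) : G) = p := orderOf_eq_prime (hexp' _ hzP) hz1
  have hoa : orderOf (a : G) = p := orderOf_eq_prime (hexp' a a.2) ha1
  obtain ⟨g, hg⟩ := hC (Subgroup.zpowers ((z0 : P) : G)) (Subgroup.zpowers (a : G))
    (IsPGroup.of_card (n := 1) (by rw [Nat.card_zpowers, hoz, pow_one]))
    (IsPGroup.of_card (n := 1) (by rw [Nat.card_zpowers, hoa, pow_one]))
    (by rw [Nat.card_zpowers, Nat.card_zpowers, hoz, hoa])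
  have hmem : (a : G) ∈ (Subgroup.zpowers ((z0 : P) : G)).map (MulAut.conj g).toMonoidHom :=
    hg ▸ Subgroup.mem_zpowers _
  obtain ⟨_, ⟨k, rfl⟩, hk⟩ := hmem
  have hk' : g * ((z0 : P) : G) ^ k * g⁻¹ = a := by simpa using hk
  refine ⟨((z0 : P) : G) ^ k, g⁻¹, b, zpow_mem hzP k, ?_, ?_, b.2, ?_⟩
  · intro w hw
    have hc : Commute w ((z0 : P) : G) := by
      have := Subgroup.mem_center_iff.1 z0.2 ⟨w, hw⟩
      exact congrArg Subtype.val this
    exact hc.zpow_right k
  · rw [inv_inv, hk']; exact a.2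
  · rw [inv_inv, hk']
    intro hh
    exact hab (Subtype.ext hh.symm)

theorem le_of_dvd {G : Type*} [Group G] [Finite G] {p : ℕ} [Fact p.Prime]
    (hC : ∀ H K : Subgroup G, IsPGroup p H → IsPGroup p K → Nat.card H = Nat.card K →
      ∃ g : G, K = H.map (MulAut.conj g).toMonoidHom) (P : Subgroup G)
    (hexp' : ∀ x ∈ P, x ^ p = 1) (N : Subgroup G) [hN : N.Normal] (hpN : p ∣ Nat.card N) :
    P ≤ N := by
  obtain ⟨w, hw⟩ := exists_prime_orderOf_dvd_card' p hpN
  intro x hx
  by_cases hx1 : x = 1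
  · rw [hx1]; exact one_mem _
  have hox : orderOf x = p := orderOf_eq_prime (hexp' x hx) hx1
  have how : orderOf (w : G) = p := by rw [Subgroup.orderOf_coe, hw]
  obtain ⟨g, hg⟩ := hC (Subgroup.zpowers (w : G)) (Subgroup.zpowers x)
    (IsPGroup.of_card (n := 1) (by rw [Nat.card_zpowers, how, pow_one]))
    (IsPGroup.of_card (n := 1) (by rw [Nat.card_zpowers, hox, pow_one]))
    (by rw [Nat.card_zpowers, Nat.card_zpowers, hox, how])
  have hmem : x ∈ (Subgroup.zpowers (w : G)).map (MulAut.conj g).toMonoidHom :=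
    hg ▸ Subgroup.mem_zpowers _
  obtain ⟨_, ⟨k, rfl⟩, hk⟩ := hmem
  rw [← hk]
  exact hN.conj_mem _ (zpow_mem w.2 k) g

theorem card_sq_one_Q8 : Nat.card {x : QuaternionGroup 2 // x ^ 2 = 1} = 2 := by
  rw [Nat.card_eq_fintype_card]
  decide

/-- Let G be a finite group in which, for every prime p, any two p-subgroups of the same order are conjugate. Then every Sylow subgroup of G is cyclic, elementary abelian, or a quaternion group of order 8. -/
theorem result {G : Type*} [Group G] [Finite G]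
    (hD : ∀ p : ℕ, p.Prime → ∀ H K : Subgroup G, IsPGroup p H → IsPGroup p K → Nat.card H = Nat.card K →
      ∃ g : G, K = H.map (MulAut.conj g).toMonoidHom) {p : ℕ} [Fact p.Prime] (P : Sylow p G) :
    IsCyclic P ∨ Cfsg.IsElementaryAbelian p (P : Subgroup G) ∨ Nonempty ((P : Subgroup G) ≃* QuaternionGroup 2) := by
  rcases Cfsg.Agent.S4023.result (hD p Fact.out) P with h | h | h | ⟨hp2, hnc, hcard, hexp⟩
  · exact Or.inl h
  · exact Or.inr (Or.inl h)
  · exact Or.inr (Or.inr h.2)
  exfalso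
  have hcfg := config_of_hC (hD p Fact.out) P hnc hcard hexp
  obtain ⟨h8, u, hu⟩ := core8 hp2 P hcfg
  have : Fact (Nat.Prime 2) := ⟨Nat.prime_two⟩
  obtain ⟨S, hS⟩ := (IsPGroup.of_card (p := 2) (n := 2) (by rw [Nat.card_zpowers, hu]; norm_num) :
    IsPGroup 2 (Subgroup.zpowers u)).exists_le_sylow
  have huS : u ∈ (S : Subgroup G) := hS (Subgroup.mem_zpowers u)
  have key1 : ∀ N : Subgroup G, N.Normal → p ∣ Nat.card N → 8 ∣ Nat.card N := by
    intro N hN hpN
    have hle : (P : Subgroup G) ≤ N := le_of_dvd (hD p Fact.out) P hcfg.exp N hpN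
    exact (core8 hp2 (P.subtype hle) (config_subtype N P hle hcfg)).1
  have key2 : ∀ N : Subgroup G, N.Normal → ¬ p ∣ Nat.card N → 8 ∣ Nat.card (G ⧸ N) := by
    intro N hN hpN
    exact (core8 hp2 _ (config_quot N P hpN hcfg)).1
  rcases Cfsg.Agent.S4023.result (hD 2 Nat.prime_two) S with h | h | h | h
  · -- cyclic
    have hmin : (Nat.card G).minFac = 2 :=
      (Nat.minFac_eq_two_iff _).2 (dvd_trans (by norm_num) h8)
    have hcompl := IsCyclic.isComplement' hmin h
    have hN2 := MonoidHom.not_dvd_card_ker_transferSylow S (h.normalizer_le_centralizer hmin)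
    have hcardG := hcompl.card_mul_card
    have hpN : p ∣ Nat.card (MonoidHom.transferSylow S (h.normalizer_le_centralizer hmin)).ker := by
      have hpG : p ∣ Nat.card G :=
        (dvd_pow_self p (by norm_num : 3 ≠ 0)).trans
          (hcard ▸ Subgroup.card_subgroup_dvd_card (P : Subgroup G))
      rw [← hcardG] at hpG
      rcases (Nat.Prime.dvd_mul Fact.out).1 hpG with h' | h'
      · exact h'
      · obtain ⟨k, hk⟩ := S.2.exists_card_eq
        rw [hk] at h'
        have := Nat.Prime.dvd_of_dvd_pow Fact.out h'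
        exact absurd ((Nat.prime_dvd_prime_iff_eq Fact.out Nat.prime_two).1 this) hp2
    exact hN2 (dvd_trans (by norm_num) (key1 _ inferInstance hpN))
  · -- elementary abelian
    have h1 := orderOf_dvd_of_pow_eq_one (h.2 u huS)
    rw [hu] at h1
    norm_num at h1
  · -- quaternion
    obtain ⟨_, ⟨e⟩⟩ := h
    have hS8 : Nat.card (S : Subgroup G) = 8 := by
      rw [Nat.card_congr e.toEquiv, Nat.card_eq_fintype_card, QuaternionGroup.card]
    have hG16 : ¬ 16 ∣ Nat.card G := by
      intro h16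
      rw [← Subgroup.card_mul_index (S : Subgroup G), hS8] at h16
      exact S.not_dvd_index ((Nat.mul_dvd_mul_iff_left (by norm_num : 0 < 8)).1 h16)
    have hK : ∀ E : Subgroup G, ¬ IsKleinFour E := by
      intro E hE
      have hE4 : Nat.card E = 4 := hE.card_four
      obtain ⟨Q, hQ⟩ := (IsPGroup.of_card (p := 2) (n := 2) hE4).exists_le_sylow
      let φ : E →* QuaternionGroup 2 :=
        (e.toMonoidHom.comp (Sylow.equiv Q S).toMonoidHom).comp (Subgroup.inclusion hQ)
      have hφ : Function.Injective φ :=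
        (e.injective.comp (Sylow.equiv Q S).injective).comp (Subgroup.inclusion_injective hQ)
      have hsq : ∀ x : E, (φ x) ^ 2 = 1 := by
        intro x
        have h1 := Monoid.pow_exponent_eq_one x
        rw [hE.exponent_two] at h1
        rw [← map_pow, h1, map_one]
      have hcount : Nat.card E ≤ Nat.card {x : QuaternionGroup 2 // x ^ 2 = 1} :=
        Nat.card_le_card_of_injective (fun x => ⟨φ x, hsq x⟩)
          (fun a b hab => hφ (congrArg Subtype.val hab))
      rw [card_sq_one_Q8] at hcount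
      omega
    obtain ⟨t, ht, N0, hN0, hodd, hcomm⟩ := Cfsg.Agent.S0225.result
      (even_iff_two_dvd.2 (dvd_trans (by norm_num) h8)) hK
    set tb : G ⧸ N0 := QuotientGroup.mk' N0 t with htb
    have htc : ∀ g : G ⧸ N0, g * tb = tb * g := by
      intro g
      obtain ⟨g, rfl⟩ := QuotientGroup.mk'_surjective N0 g
      rw [htb, ← map_mul, ← map_mul]
      apply Eq.symm
      apply QuotientGroup.eq.2
      have h1 := hN0.conj_mem _ (inv_mem (hcomm g)) (t * g)⁻¹
      have h2 : (t * g)⁻¹ * (t * g * t⁻¹ * g⁻¹)⁻¹ * (t * g)⁻¹⁻¹ = (t * g)⁻¹ * (g * t) := by group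
      rw [h2] at h1
      exact h1
    have hZn : (Subgroup.zpowers tb).Normal := by
      refine ⟨?_⟩
      rintro _ ⟨k, rfl⟩ g
      have hc : Commute g tb := htc g
      have : g * tb ^ k * g⁻¹ = tb ^ k := by
        rw [(hc.zpow_right k).eq, mul_inv_cancel_right]
      simp only at this ⊢
      rw [this]
      exact Subgroup.zpow_mem_zpowers tb k
    have hotb : orderOf tb = 2 := by
      apply orderOf_eq_prime
      · rw [htb, ← map_pow, ← ht, pow_orderOf_eq_one, map_one]
      · intro h1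
        have h2 : t ∈ N0 := (QuotientGroup.eq_one_iff t).1 h1
        have h3 : orderOf (⟨t, h2⟩ : N0) ∣ Nat.card N0 := orderOf_dvd_natCard _
        rw [← Subgroup.orderOf_coe] at h3
        simp only [ht] at h3
        exact (Nat.not_even_iff_odd.2 hodd) (even_iff_two_dvd.2 h3)
    let N : Subgroup G := (Subgroup.zpowers tb).comap (QuotientGroup.mk' N0)
    have hNn : N.Normal := hZn.comap _
    have h1 : N.index = (Subgroup.zpowers tb).index :=
      Subgroup.index_comap_of_surjective _ (QuotientGroup.mk'_surjective N0)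
    have h2 := Subgroup.card_mul_index (Subgroup.zpowers tb)
    have h3 := Subgroup.card_eq_card_quotient_mul_card_subgroup N0
    have h4 := Subgroup.card_mul_index N
    rw [Nat.card_zpowers, hotb, ← h1] at h2
    have hipos : 0 < N.index := Nat.pos_of_ne_zero (Subgroup.FiniteIndex.index_ne_zero)
    have hNcard : Nat.card N = 2 * Nat.card N0 := by
      apply Nat.eq_of_mul_eq_mul_right hipos
      rw [h4, h3, ← h2]
      ring
    obtain ⟨c, hc⟩ := hodd
    by_cases hpN : p ∣ Nat.card N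
    · have := key1 N hNn hpN
      rw [hNcard, hc] at this
      omega
    · have h5 : 8 ∣ N.index := key2 N hNn hpN
      apply hG16
      rw [← h4, hNcard]
      obtain ⟨d, hd⟩ := h5
      rw [hd]
      exact ⟨Nat.card N0 * d, by ring⟩
  · exact h.1 rfl

end Cfsg.Agent.S4020
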