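import Cfsg.Statements.S4024
import Cfsg.Agent.S4023
import Cfsg.Agent.Lib.Lead.Cores
import Cfsg.Agent.Lib.Helper76.PSolvable

set_option autoImplicit false
open Cfsg

namespace Cfsg.Agent.S4024

open Cfsg.Agent.Lib.Helper73 Cfsg.Agent.Lib.Lead

/-- the preimage of a characteristic subgroup of a quotient by a characteristic subgroup is
characteristic -/
theorem comap_mk_characteristic {X : Type*} [Group X] (N : Subgroup X) [hN : N.Characteristic]
    (C : Subgroup (X ⧸ N)) [hC : C.Characteristic] :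
    (C.comap (QuotientGroup.mk' N)).Characteristic := by
  rw [Subgroup.characteristic_iff_le_comap]
  intro φ x hx
  rw [Subgroup.mem_comap] at hx ⊢
  rw [Subgroup.mem_comap]
  have hφ : N.map φ.toMonoidHom = N := Subgroup.characteristic_iff_map_eq.mp hN φ
  have h1 : QuotientGroup.congr N N φ hφ (QuotientGroup.mk' N x) ∈ C := by
    have := Subgroup.characteristic_iff_le_comap.mp hC (QuotientGroup.congr N N φ hφ) hx
    exact this
  exact h1

/-- a normal subgroup of order divisible by `p` contains all elements of order `p` -/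
theorem mem_of_pow_eq_one {G : Type*} [Group G] [Finite G]
    {p : ℕ} [hp : Fact p.Prime] (hC : ∀ H K : Subgroup G, IsPGroup p H → IsPGroup p K → Nat.card H = Nat.card K →
      ∃ g : G, K = H.map (MulAut.conj g).toMonoidHom)
    (M : Subgroup G) [hM : M.Normal] (hdiv : p ∣ Nat.card M) (x : G) (hx : x ^ p = 1) : x ∈ M := by
  by_cases hx1 : x = 1
  · rw [hx1]; exact one_mem _
  have hox : orderOf x = p := orderOf_eq_prime hx hx1
  obtain ⟨y, hy⟩ := exists_prime_orderOf_dvd_card' p hdiv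
  rw [← Subgroup.orderOf_coe] at hy
  have hpg : ∀ u : G, orderOf u = p → IsPGroup p (Subgroup.zpowers u) := by
    intro u hu
    apply IsPGroup.of_card (n := 1)
    rw [Nat.card_zpowers, hu, pow_one]
  obtain ⟨g, hg⟩ := hC (Subgroup.zpowers (y : G)) (Subgroup.zpowers x) (hpg _ hy) (hpg _ hox)
    (by rw [Nat.card_zpowers, Nat.card_zpowers, hy, hox])
  have h1 : x ∈ (Subgroup.zpowers (y : G)).map (MulAut.conj g).toMonoidHom := by
    rw [← hg]; exact Subgroup.mem_zpowers x
  obtain ⟨u, hu, rfl⟩ := h1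
  have hu' : u ∈ M := by
    have : Subgroup.zpowers (y : G) ≤ M := by rw [Subgroup.zpowers_le]; exact y.2
    exact this hu
  exact hM.conj_mem u hu' g

/-- if `P` has exponent `p`, it is abelian -/
theorem comm_of_exponent {G : Type*} [Group G] [Finite G]
    {p : ℕ} [hp : Fact p.Prime] (hC : ∀ H K : Subgroup G, IsPGroup p H → IsPGroup p K → Nat.card H = Nat.card K →
      ∃ g : G, K = H.map (MulAut.conj g).toMonoidHom) (P : Sylow p G)
    (H : Subgroup G) [H.Normal] (hsolv : Cfsg.IsPSolvable p H) (hdiv : p ∣ Nat.card H)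
    (hexp : ∀ a ∈ (P : Subgroup G), a ^ p = 1) (a b : G) (ha : a ∈ (P : Subgroup G))
    (hb : b ∈ (P : Subgroup G)) : a * b = b * a := by
  have hsolbar : IsPSolvable p (↥H ⧸ pPrimeCore p ↥H) :=
    Cfsg.Agent.Lib.Helper76.isPSolvable_quotient _ hsolv
  have hcore : pPrimeCore p (↥H ⧸ pPrimeCore p ↥H) = ⊥ := pPrimeCore_quotient_pPrimeCore p ↥H
  have hHH := Cfsg.Agent.Lib.Helper76.centralizer_pCore_le hsolbar hcore
  have hKcop : (Nat.card (pPrimeCore p ↥H)).Coprime p := card_pPrimeCore_coprime p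
  have hRne : pCore p (↥H ⧸ pPrimeCore p ↥H) ≠ ⊥ := by
    intro h
    rw [h] at hHH
    have h1 : (⊤ : Subgroup (↥H ⧸ pPrimeCore p ↥H)) ≤ ⊥ := by
      refine le_trans ?_ hHH
      intro x _
      rw [Subgroup.mem_centralizer_iff]
      intro y hy
      rw [Subgroup.mem_bot.mp hy]; simp
    have h2 : pPrimeCore p ↥H = ⊤ := by
      rw [eq_top_iff]
      intro x _
      rw [← QuotientGroup.eq_one_iff]
      exact Subgroup.mem_bot.mp (h1 (Subgroup.mem_top _))
    rw [h2, Subgroup.card_top] at hKcop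
    exact (Nat.Prime.coprime_iff_not_dvd hp.out).mp hKcop.symm hdiv
  have hRp : IsPGroup p (pCore p (↥H ⧸ pPrimeCore p ↥H)) := pCore_isPGroup p _
  have hnt : (⊤ : Subgroup ↥(pCore p (↥H ⧸ pPrimeCore p ↥H))) ≠ ⊥ := by
    intro h
    apply hRne
    rw [eq_bot_iff]
    intro x hx
    have : (⟨x, hx⟩ : ↥(pCore p (↥H ⧸ pPrimeCore p ↥H))) ∈
        (⊥ : Subgroup ↥(pCore p (↥H ⧸ pPrimeCore p ↥H))) := by rw [← h]; trivial
    rw [Subgroup.mem_bot] at this ⊢
    exact congrArg Subtype.val this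
  obtain ⟨z, -, hzc, hz⟩ := exists_central_orderOf_eq_prime hRp ⊤ hnt
  have hzC : (z : ↥H ⧸ pPrimeCore p ↥H) ∈
      Subgroup.centralizer (pCore p (↥H ⧸ pPrimeCore p ↥H) : Set (↥H ⧸ pPrimeCore p ↥H)) := by
    rw [Subgroup.mem_centralizer_iff]
    intro y hy
    exact congrArg Subtype.val (Subgroup.mem_center_iff.mp hzc ⟨y, hy⟩)
  have hdivC : p ∣ Nat.card (Subgroup.centralizer
      (pCore p (↥H ⧸ pPrimeCore p ↥H) : Set (↥H ⧸ pPrimeCore p ↥H))) := by
    have := Subgroup.orderOf_dvd_natCard _ hzC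
    rwa [Subgroup.orderOf_coe, hz] at this
  have hchar : ((Subgroup.centralizer
      (pCore p (↥H ⧸ pPrimeCore p ↥H) : Set (↥H ⧸ pPrimeCore p ↥H))).comap
        (QuotientGroup.mk' (pPrimeCore p ↥H))).Characteristic := comap_mk_characteristic _ _
  have hnorm := normal_map_subtype_of_characteristic H ((Subgroup.centralizer
      (pCore p (↥H ⧸ pPrimeCore p ↥H) : Set (↥H ⧸ pPrimeCore p ↥H))).comap
        (QuotientGroup.mk' (pPrimeCore p ↥H)))
  have hdivC' : p ∣ Nat.card ↥(((Subgroup.centralizer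
      (pCore p (↥H ⧸ pPrimeCore p ↥H) : Set (↥H ⧸ pPrimeCore p ↥H))).comap
        (QuotientGroup.mk' (pPrimeCore p ↥H))).map H.subtype) := by
    rw [Subgroup.card_map_of_injective (Subgroup.subtype_injective H), card_comap_mk']
    exact Dvd.dvd.mul_left hdivC _
  obtain ⟨a', ha', rfl⟩ := mem_of_pow_eq_one hC _ hdivC' a (hexp a ha)
  obtain ⟨b', hb', rfl⟩ := mem_of_pow_eq_one hC _ hdivC' b (hexp b hb)
  rw [SetLike.mem_coe, Subgroup.mem_comap] at ha' hb'
  have hcomm : QuotientGroup.mk' (pPrimeCore p ↥H) a' * QuotientGroup.mk' (pPrimeCore p ↥H) b'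
      = QuotientGroup.mk' (pPrimeCore p ↥H) b' * QuotientGroup.mk' (pPrimeCore p ↥H) a' :=
    (Subgroup.mem_centralizer_iff.mp ha' _ (hHH hb')).symm
  have hK : a' * b' * a'⁻¹ * b'⁻¹ ∈ pPrimeCore p ↥H := by
    rw [← QuotientGroup.eq_one_iff]
    show QuotientGroup.mk' (pPrimeCore p ↥H) (a' * b' * a'⁻¹ * b'⁻¹) = 1
    rw [map_mul, map_mul, map_mul, hcomm, map_inv, map_inv]; group
  have ho1 : orderOf (a' * b' * a'⁻¹ * b'⁻¹) ∣ Nat.card (pPrimeCore p ↥H) :=
    Subgroup.orderOf_dvd_natCard _ hK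
  have hP : ((a' * b' * a'⁻¹ * b'⁻¹ : ↥H) : G) ∈ (P : Subgroup G) := by
    have : ((a' * b' * a'⁻¹ * b'⁻¹ : ↥H) : G) = H.subtype a' * H.subtype b' * (H.subtype a')⁻¹ * (H.subtype b')⁻¹ := by
      simp
    rw [this]
    exact mul_mem (mul_mem (mul_mem ha hb) (inv_mem ha)) (inv_mem hb)
  obtain ⟨k, hk⟩ := P.isPGroup'.exists_orderOf_eq_pow ⟨_, hP⟩
  rw [← Subgroup.orderOf_coe] at hk
  simp only [Subgroup.orderOf_coe] at hk
  have h1 : orderOf (a' * b' * a'⁻¹ * b'⁻¹) = 1 := by
    have h2 : (orderOf (a' * b' * a'⁻¹ * b'⁻¹)).Coprime (orderOf (a' * b' * a'⁻¹ * b'⁻¹)) := by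
      have h3 : (orderOf (a' * b' * a'⁻¹ * b'⁻¹)).Coprime (p ^ k) :=
        Nat.Coprime.pow_right k (Nat.Coprime.of_dvd_left ho1 hKcop)
      rwa [← hk] at h3
    exact (Nat.coprime_self _).mp h2
  rw [orderOf_eq_one_iff] at h1
  have h2 : a' * b' = b' * a' := by
    have : a' * b' * a'⁻¹ * b'⁻¹ * (b' * a') = b' * a' := by rw [h1, one_mul]
    rw [← this]; group
  have := congrArg H.subtype h2
  rwa [map_mul, map_mul] at this

/-- Let p be an odd prime and G a finite group in which any two p-subgroups of the same order are conjugate, with Sylow p-subgroup P. If H is a normal p-solvable subgroup of G whose order is divisible by p, then P is abelian, and either P ≤ H or P is cyclic. -/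
theorem result {G : Type*} [Group G] [Finite G]
    {p : ℕ} [Fact p.Prime] (hp : p ≠ 2) (hC : ∀ H K : Subgroup G, IsPGroup p H → IsPGroup p K → Nat.card H = Nat.card K →
      ∃ g : G, K = H.map (MulAut.conj g).toMonoidHom) (P : Sylow p G)
    (H : Subgroup G) [H.Normal] (hsolv : Cfsg.IsPSolvable p H) (hdiv : p ∣ Nat.card H) :
    IsMulCommutative P ∧ ((P : Subgroup G) ≤ H ∨ IsCyclic P) := by
  have main : (∀ a ∈ (P : Subgroup G), a ^ p = 1) →
      IsMulCommutative P ∧ ((P : Subgroup G) ≤ H ∨ IsCyclic P) := by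
    intro hexp
    refine ⟨⟨⟨fun a b => ?_⟩⟩, Or.inl ?_⟩
    · exact Subtype.ext (comm_of_exponent hC P H hsolv hdiv hexp a b a.2 b.2)
    · intro a ha
      exact mem_of_pow_eq_one hC H hdiv a (hexp a ha)
  rcases Cfsg.Agent.S4023.result hC P with h | h | h | h
  · refine ⟨?_, Or.inr h⟩
    exact IsCyclic.isMulCommutative
  · exact main h.2
  · exact absurd h.1 hp
  · apply main
    intro a ha
    have := Monoid.pow_exponent_eq_one (⟨a, ha⟩ : ↥(P : Subgroup G))
    have h2 : Monoid.exponent ↥(P : Subgroup G) = p := h.2.2.2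
    rw [h2] at this
    simpa using congrArg Subtype.val this

end Cfsg.Agent.S4024
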