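import Cfsg.Statements.S4039
import Cfsg.Agent.Lib.Helper67.NilpMax
import Cfsg.Agent.Lib.Helper67.SylowTools
import Cfsg.Agent.Lib.Helper67.PTools
import Cfsg.Agent.Lib.Helper1.FPF
import Cfsg.Agent.S0077
import Cfsg.Agent.S0080
import Cfsg.Agent.S0557
import Cfsg.Agent.S4056

set_option autoImplicit false
open Cfsg

namespace Cfsg.Agent.S4039

open Cfsg.Agent.Lib.Helper67
open scoped commutatorElement

universe u

theorem hasNormalPComplement_of_class_two {G : Type*} [Group G] [Finite G] (M : Subgroup G)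
    (hmax : IsCoatom M) (hnil : Group.IsNilpotent M) (hcl : Group.nilpotencyClass ↥M ≤ 2)
    (hcore : M.normalCore = ⊥) (p : ℕ) [Fact p.Prime] (P : Sylow p G)
    (hPM : (P : Subgroup G) ≤ M) (hPne : (P : Subgroup G) ≠ ⊥)
    (hNP : Subgroup.normalizer ((P : Subgroup G) : Set G) = M) :
    Cfsg.HasNormalPComplement p G := by
  have hp : p.Prime := Fact.out
  -- commutators of elements of `M` commute with `M`
  have hcomm : ∀ x ∈ M, ∀ y ∈ M, ∀ m ∈ M, m * (x * y * x⁻¹ * y⁻¹) = (x * y * x⁻¹ * y⁻¹) * m := by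
    intro x hx y hy m hm
    have h1 := Cfsg.Agent.S4056.comm_mem_center hcl (⟨x, hx⟩ : M) ⟨y, hy⟩
    have h2 := Subgroup.mem_center_iff.1 h1 ⟨m, hm⟩
    exact congrArg Subtype.val h2
  -- `p`-subgroups of `M` lie in `P`
  have hpsub : ∀ U : Subgroup G, U ≤ M → IsPGroup p U → U ≤ P := by
    intro U hU hUp
    have h1 : U ⊓ Subgroup.normalizer ((P : Subgroup G) : Set G) = U ⊓ (P : Subgroup G) :=
      hUp.inf_normalizer_sylow P
    rw [hNP, inf_of_le_left hU] at h1
    rw [h1]
    exact inf_le_right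
  -- the `p`-complement of `M`
  obtain ⟨K, S, hKM, hSM, hKn, hSp, hKp, hKS, -⟩ := exists_of_hasNormalPComplement M
    (Cfsg.Agent.Lib.Helper1.FPF.hasNormalPComplement_of_isNilpotent p)
  have hSP : S ≤ P := hpsub S hSM hSp
  have hKP : ∀ k ∈ K, ∀ u ∈ (P : Subgroup G), k * u = u * k := by
    intro k hk u hu
    have h1 : k * u * k⁻¹ * u⁻¹ ∈ K := by
      have := hKn u (hPM hu) k⁻¹ (K.inv_mem hk)
      have h2 := K.mul_mem hk this
      simpa [mul_assoc] using h2
    have h2 : k * u * k⁻¹ * u⁻¹ ∈ (P : Subgroup G) := by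
      have hkN : k ∈ Subgroup.normalizer ((P : Subgroup G) : Set G) := hNP ▸ hKM hk
      exact Subgroup.mul_mem _ ((Subgroup.mem_normalizer_iff.1 hkN u).1 hu) (Subgroup.inv_mem _ hu)
    have hcop : Nat.Coprime (Nat.card K) (Nat.card (P : Subgroup G)) := by
      obtain ⟨a, ha⟩ := P.2.exists_card_eq
      rw [ha]
      exact Nat.Coprime.pow_right a ((Nat.Prime.coprime_iff_not_dvd hp).2 hKp).symm
    have h3 := eq_one_of_mem_of_coprime_card hcop h1 h2
    calc k * u = (k * u * k⁻¹ * u⁻¹) * (u * k) := by group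
      _ = u * k := by rw [h3, one_mul]
  -- subgroups of `P` normalized by `P` are normalized by `M`
  have hnormM : ∀ D : Subgroup G, D ≤ P → (P : Subgroup G) ≤ Subgroup.normalizer (D : Set G) →
      M ≤ Subgroup.normalizer (D : Set G) := by
    intro D hD hPD
    rw [← hKS]
    refine sup_le ?_ (hSP.trans hPD)
    intro k hk
    apply mem_normalizer_of_conj_mem
    intro d hd
    rw [hKP k hk d (hD hd), mul_assoc, mul_inv_cancel, mul_one]
    exact hd
  set Z : Subgroup G := (P : Subgroup G) ⊓ Subgroup.centralizer ((P : Subgroup G) : Set G) with hZ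
  have hZP : Z ≤ P := inf_le_left
  have hZC : Z ≤ Subgroup.centralizer ((P : Subgroup G) : Set G) := inf_le_right
  have hZne : Z ≠ ⊥ := by
    obtain ⟨d, hd, hd1, hds⟩ := exists_fixed_of_pGroup_normalizes (P : Subgroup G) P P.2 P.2 hPne
      Subgroup.le_normalizer
    intro h
    apply hd1
    have : d ∈ Z := by
      refine ⟨hd, ?_⟩
      show d ∈ Subgroup.centralizer ((P : Subgroup G) : Set G)
      rw [Subgroup.mem_centralizer_iff]
      intro s hs
      calc s * d = (s * d * s⁻¹) * s := by group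
        _ = d * s := by rw [hds s hs]
    rw [h] at this
    exact this
  have hcommZ : ∀ x ∈ (P : Subgroup G), ∀ y ∈ (P : Subgroup G), x * y * x⁻¹ * y⁻¹ ∈ Z := by
    intro x hx y hy
    refine ⟨Subgroup.mul_mem _ (Subgroup.mul_mem _ (Subgroup.mul_mem _ hx hy) (Subgroup.inv_mem _ hx))
      (Subgroup.inv_mem _ hy), ?_⟩
    show _ ∈ Subgroup.centralizer ((P : Subgroup G) : Set G)
    rw [Subgroup.mem_centralizer_iff]
    intro s hs
    exact hcomm x (hPM hx) y (hPM hy) s (hPM hs)
  have hPZ : (P : Subgroup G) ≤ Subgroup.normalizer (Z : Set G) := by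
    intro x hx
    apply mem_normalizer_of_conj_mem
    intro z hz
    have : x * z = z * x := Subgroup.mem_centralizer_iff.1 (hZC hz) x hx
    rw [this, mul_assoc, mul_inv_cancel, mul_one]
    exact hz
  have hNZ : Subgroup.normalizer (Z : Set G) = M :=
    normalizer_eq_of_normalCore_eq_bot hmax hcore (hZP.trans hPM) hZne (hnormM Z hZP hPZ)
  -- weak closure
  have hW : Cfsg.IsWeaklyClosed Z P := by
    refine ⟨hZP, ?_⟩
    intro g hg
    have hg' : ∀ z ∈ Z, g * z * g⁻¹ ∈ (P : Subgroup G) := fun z hz => hg ⟨z, hz, rfl⟩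
    have ha : ∀ z ∈ Z, g⁻¹ * z * g ∈ (P : Subgroup G) := by
      have hU : Z.map (MulAut.conj g⁻¹).toMonoidHom ≤ P := by
        apply hpsub
        · rw [← hNZ]
          rintro _ ⟨z, hz, rfl⟩
          apply mem_normalizer_of_conj_mem
          intro z' hz'
          have h1 : z * (g * z' * g⁻¹) = (g * z' * g⁻¹) * z :=
            (Subgroup.mem_centralizer_iff.1 (hZC hz) _ (hg' z' hz')).symm
          have h2 : (g⁻¹ * z * g) * z' = z' * (g⁻¹ * z * g) := by
            calc (g⁻¹ * z * g) * z' = g⁻¹ * (z * (g * z' * g⁻¹)) * g := by group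
              _ = g⁻¹ * ((g * z' * g⁻¹) * z) * g := by rw [h1]
              _ = z' * (g⁻¹ * z * g) := by group
          have h3 : (MulAut.conj g⁻¹).toMonoidHom z = g⁻¹ * z * g := by simp
          rw [h3, h2, mul_assoc, mul_inv_cancel, mul_one]
          exact hz'
        · exact (P.2.to_le hZP).map _
      intro z hz
      have := hU ⟨z, hz, rfl⟩
      simpa using this
    set D : Subgroup G := (P : Subgroup G) ⊓ (P : Subgroup G).map (MulAut.conj g).toMonoidHom
      with hD
    have hZD : Z ≤ D := by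
      intro z hz
      refine ⟨hZP hz, g⁻¹ * z * g, ha z hz, ?_⟩
      simp [mul_assoc]
    have hZgD : ∀ z ∈ Z, g * z * g⁻¹ ∈ D := by
      intro z hz
      exact ⟨hg' z hz, z, hZP hz, by simp⟩
    have hDne : D ≠ ⊥ := by
      intro h
      rw [h, le_bot_iff] at hZD
      exact hZne hZD
    have hPD : (P : Subgroup G) ≤ Subgroup.normalizer (D : Set G) := by
      intro x hx
      apply mem_normalizer_of_conj_mem
      intro d hd
      have h1 : x * d * x⁻¹ = (x * d * x⁻¹ * d⁻¹) * d := by group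
      rw [h1]
      exact D.mul_mem (hZD (hcommZ x hx d hd.1)) hd
    have hND : Subgroup.normalizer (D : Set G) = M :=
      normalizer_eq_of_normalCore_eq_bot hmax hcore (inf_le_left.trans hPM) hDne
        (hnormM D inf_le_left hPD)
    have hPgM : (P : Subgroup G).map (MulAut.conj g).toMonoidHom ≤ M := by
      rw [← hND]
      rintro _ ⟨x, hx, rfl⟩
      apply mem_normalizer_of_conj_mem
      intro d hd
      obtain ⟨d', hd', hdd⟩ := hd.2
      have hdd' : g * d' * g⁻¹ = d := by simpa using hdd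
      have h3 : (MulAut.conj g).toMonoidHom x = g * x * g⁻¹ := by simp
      rw [h3]
      have h1 : (g * x * g⁻¹) * d * (g * x * g⁻¹)⁻¹ = (g * (x * d' * x⁻¹ * d'⁻¹) * g⁻¹) * d := by
        rw [← hdd']; group
      rw [h1]
      exact D.mul_mem (hZgD _ (hcommZ x hx d' hd')) hd
    have hPgP := hpsub _ hPgM (P.2.map _)
    have hgN : g ∈ Subgroup.normalizer ((P : Subgroup G) : Set G) := by
      apply mem_normalizer_of_conj_mem
      intro x hx
      have := hPgP ⟨x, hx, rfl⟩
      simpa using this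
    rw [hNP, ← hNZ] at hgN
    exact Subgroup.mem_normalizer_iff_map_conj_eq.1 hgN
  -- Gruen
  have hGr := Cfsg.Agent.S0077.result P Z hZC hW
  rw [hNZ] at hGr
  have hcopP : Nat.Coprime (P : Subgroup G).index (⁅(P : Subgroup G), (P : Subgroup G)⁆.relIndex P) := by
    obtain ⟨a, ha⟩ := P.2.exists_card_eq
    have h1 : ⁅(P : Subgroup G), (P : Subgroup G)⁆.relIndex P ∣ p ^ a :=
      ha ▸ Subgroup.relIndex_dvd_card _ _
    have h2 : Nat.Coprime (P : Subgroup G).index (p ^ a) := ha ▸ P.card_coprime_index.symm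
    exact Nat.Coprime.of_dvd_right h1 h2
  have hfoc1 := (Cfsg.Agent.S0080.result (P : Subgroup G) hcopP).1
  rw [hGr] at hfoc1
  set A : Subgroup G := ⁅M, M⁆ ⊓ (P : Subgroup G) with hA
  have hAM : ∀ x ∈ A, ∀ m ∈ M, m * x = x * m := by
    have h1 : ⁅M, M⁆ ≤ Subgroup.centralizer (M : Set G) := by
      rw [Subgroup.commutator_le]
      intro x hx y hy
      rw [Subgroup.mem_centralizer_iff]
      intro m hm
      exact hcomm x hx y hy m hm
    intro x hx m hm
    exact Subgroup.mem_centralizer_iff.1 (h1 hx.1) m hm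
  have hfoc2 : Subgroup.focalSubgroup A = ⊥ := by
    rw [Subgroup.focalSubgroup_def, Subgroup.closure_eq_bot_iff]
    rintro g ⟨hgA, x, hxA, u, rfl⟩
    rw [Set.mem_singleton_iff]
    set y := u * x * u⁻¹ with hy
    have hxy : ⁅x, u⁆ = x * y⁻¹ := by rw [hy, commutatorElement_def]; group
    have hyA : y ∈ A := by
      have h1 : y = (⁅x, u⁆)⁻¹ * x := by rw [hxy]; group
      rw [h1]
      exact A.mul_mem (A.inv_mem hgA) hxA
    have hPC : (P : Subgroup G) ≤ Subgroup.centralizer {y} := by
      intro w hw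
      rw [Subgroup.mem_centralizer_singleton_iff]
      exact hAM y hyA w (hPM hw)
    have hBC : (P : Subgroup G).map (MulAut.conj u).toMonoidHom ≤ Subgroup.centralizer {y} := by
      rintro _ ⟨w, hw, rfl⟩
      rw [Subgroup.mem_centralizer_singleton_iff]
      have h1 : w * x = x * w := hAM x hxA w (hPM hw)
      have h3 : (MulAut.conj u).toMonoidHom w = u * w * u⁻¹ := by simp
      rw [h3, hy]
      calc u * w * u⁻¹ * (u * x * u⁻¹) = u * (w * x) * u⁻¹ := by group
        _ = u * (x * w) * u⁻¹ := by rw [h1]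
        _ = u * x * u⁻¹ * (u * w * u⁻¹) := by group
    have hidx : ¬ p ∣ (P : Subgroup G).relIndex (Subgroup.centralizer {y}) := by
      intro h
      apply P.not_dvd_index
      rw [← Subgroup.relIndex_mul_index hPC]
      exact Dvd.dvd.mul_right h _
    obtain ⟨c, hc, hcB⟩ := sylow_conj_in (Subgroup.centralizer {y}) (P : Subgroup G) _ hBC P.2
      (P.2.map _) hidx
    have hcu : c * u ∈ M := by
      rw [← hNP]
      apply mem_normalizer_of_conj_mem
      intro w hw
      have := hcB _ ⟨w, hw, rfl⟩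
      have h3 : (MulAut.conj u).toMonoidHom w = u * w * u⁻¹ := by simp
      rw [h3] at this
      have h4 : c * u * w * (c * u)⁻¹ = c * (u * w * u⁻¹) * c⁻¹ := by group
      rw [h4]; exact this
    have h1 : (c * u) * x = x * (c * u) := hAM x hxA _ hcu
    have h2 : c * y = y * c := Subgroup.mem_centralizer_singleton_iff.1 hc
    have h5 : y = x := by
      calc y = (y * c) * c⁻¹ := by group
        _ = (c * y) * c⁻¹ := by rw [h2]
        _ = ((c * u) * x) * (c * u)⁻¹ := by rw [hy]; group
        _ = (x * (c * u)) * (c * u)⁻¹ := by rw [h1]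
        _ = x := by group
    rw [hxy, h5, mul_inv_cancel]
  obtain ⟨N, hN, hNc⟩ := Cfsg.Agent.S0557.result (P : Subgroup G) P.card_coprime_index 2 (by
    show Subgroup.focalSubgroup (Subgroup.focalSubgroup (P : Subgroup G)) = ⊥
    rw [hfoc1, hfoc2])
  exact ⟨P, N, hN, hNc⟩

theorem aux (n : ℕ) : ∀ (G : Type u) [Group G] [Finite G] (M : Subgroup G), IsCoatom M →
    Group.IsNilpotent M → Group.nilpotencyClass ↥M ≤ 2 → Nat.card G = n → Group.IsSolvable G := by
  induction n using Nat.strong_induction_on with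
  | _ n ih =>
  intro G _ _ M hmax hnil hcl hn
  by_cases hcore : M.normalCore = ⊥
  · apply isSolvable_of_nilpotent_coatom M hmax
    intro p hp hpM
    have : Fact p.Prime := ⟨hp⟩
    obtain ⟨P, hPM, hPne, hNP⟩ := exists_sylow_le_of_normalCore_eq_bot hmax hcore p hpM
    rw [← Cfsg.Agent.Lib.Lead.hasNormalPComplement_iff]
    exact hasNormalPComplement_of_class_two M hmax hnil hcl hcore p P hPM hPne hNP
  · apply isSolvable_of_quotient_normalCore M
    have hsurj := (QuotientGroup.mk' M.normalCore).subgroupMap_surjective M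
    refine ih (Nat.card (G ⧸ M.normalCore)) ?_ (G ⧸ M.normalCore)
      (M.map (QuotientGroup.mk' M.normalCore)) (isCoatom_map_mk' M.normalCore_le hmax)
      (Group.nilpotent_of_surjective _ hsurj)
      ((Group.nilpotencyClass_le_of_surjective _ hsurj).trans hcl) rfl
    rw [← hn]
    exact Cfsg.Agent.Lib.Helper1.card_quotient_lt_of_ne_bot hcore

/-- A finite group possessing a maximal subgroup that is nilpotent of class at most 2 is solvable. -/
theorem result {G : Type*} [Group G] [Finite G]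
    (M : Subgroup G) (hmax : IsCoatom M) (hnil : Group.IsNilpotent M) (hcl : Group.nilpotencyClass ↥M ≤ 2) :
    Group.IsSolvable G :=
  aux _ G M hmax hnil hcl rfl

end Cfsg.Agent.S4039
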