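import Cfsg.Statements.S4040
import Cfsg.Agent.Lib.Helper67.NilpMax
import Cfsg.Agent.S0659
import Cfsg.Agent.S0658
import Cfsg.Agent.Lib.Helper1.FPF

set_option autoImplicit false
open Cfsg

namespace Cfsg.Agent.S4040

open Cfsg.Agent.Lib.Helper67

universe u

theorem aux (n : ℕ) : ∀ (G : Type u) [Group G] [Finite G] (M : Subgroup G), IsCoatom M →
    Group.IsNilpotent M → Odd (Nat.card M) → Nat.card G = n → Group.IsSolvable G := by
  induction n using Nat.strong_induction_on with
  | _ n ih =>
  intro G _ _ M hmax hnil hodd hn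
  by_cases hcore : M.normalCore = ⊥
  · apply isSolvable_of_nilpotent_coatom M hmax
    intro p hp hpM
    have : Fact p.Prime := ⟨hp⟩
    obtain ⟨P, hPM, hPne, hNP⟩ := exists_sylow_le_of_normalCore_eq_bot hmax hcore p hpM
    have hp2 : p ≠ 2 := by
      rintro rfl
      exact (Nat.not_even_iff_odd.2 hodd) (even_iff_two_dvd.2 hpM)
    rw [← Cfsg.Agent.Lib.Lead.hasNormalPComplement_iff]
    apply Cfsg.Agent.S0659.result hp2 P
    have hZ : Subgroup.normalizer (Cfsg.centerThompsonAOf (P : Subgroup G) : Set G) = M :=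
      normalizer_eq_of_normalCore_eq_bot hmax hcore
        ((Cfsg.Agent.S0658.centerThompsonAOf_le _).trans hPM)
        (Cfsg.Agent.S0658.centerThompsonAOf_ne_bot P.2 hPne)
        (by
          have := Cfsg.Agent.S0658.normalizer_le_normalizer_centerThompsonAOf (P : Subgroup G)
          rwa [hNP] at this)
    rw [hZ]
    exact Cfsg.Agent.Lib.Helper1.FPF.hasNormalPComplement_of_isNilpotent p
  · apply isSolvable_of_quotient_normalCore M
    have hsurj := (QuotientGroup.mk' M.normalCore).subgroupMap_surjective M
    refine ih (Nat.card (G ⧸ M.normalCore)) ?_ (G ⧸ M.normalCore)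
      (M.map (QuotientGroup.mk' M.normalCore)) (isCoatom_map_mk' M.normalCore_le hmax)
      (Group.nilpotent_of_surjective _ hsurj)
      (Odd.of_dvd_nat hodd (Subgroup.card_map_dvd _ _)) rfl
    rw [← hn]
    exact Cfsg.Agent.Lib.Helper1.card_quotient_lt_of_ne_bot hcore

/-- A finite group possessing a maximal subgroup that is nilpotent of odd order is solvable. -/
theorem result {G : Type*} [Group G] [Finite G]
    (M : Subgroup G) (hmax : IsCoatom M) (hnil : Group.IsNilpotent M) (hodd : Odd (Nat.card M)) :
    Group.IsSolvable G :=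
  aux _ G M hmax hnil hodd rfl

end Cfsg.Agent.S4040
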