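import Cfsg.Statements.S4068
import Cfsg.Agent.Lib.Helper59.FO.Main
import Cfsg.Agent.S0494
-- import your own Cfsg.Agent.* helpers here

set_option autoImplicit false
open Cfsg

namespace Cfsg.Agent.S4068

/-- A finite non-solvable group on which its automorphism group has exactly four orbits is isomorphic to the alternating group of degree 5. -/
theorem result {G : Type*} [Group G] [Finite G] (hns : ¬ Group.IsSolvable G)
    (h4 : Nat.card (MulAction.orbitRel.Quotient (MulAut G) G) = 4) : Nonempty (G ≃* alternatingGroup (Fin 5)) := by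
  obtain ⟨h3, hp, ht⟩ := Cfsg.Agent.Lib.Helper59.FO.orders_of_four_orbits hns h4
  have c : Cfsg.Agent.Lib.Helper59.FO.Cfg G :=
    ⟨Cfsg.Agent.Lib.Helper59.FO.simple_of hns h3 hp ht, hp, ht, h3⟩
  have h60 := Cfsg.Agent.Lib.Helper59.FO.main c
  haveI := c.simple
  exact Cfsg.Agent.S0494.result h60

end Cfsg.Agent.S4068
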