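import Mathlib
import Cfsg.Statements.S4113

set_option autoImplicit false
open Cfsg

namespace Cfsg.Agent.S4113

theorem result {G : Type*} [Group G] [Finite G] (N M : Subgroup G) [N.Normal] [M.Normal] (hMN : M ≤ N) (hM1 : M ≠ ⊥) (hN2 : N ≠ ⊤)
    (H : Subgroup G) (hHM : H ⊔ M = ⊤) (hHM' : H ⊓ M = ⊥) :
    (∀ x ∈ M, x ≠ 1 → Subgroup.centralizer ({x} : Set G) ≤ N) ↔
      (H ≠ ⊥ ∧ H ≠ ⊤ ∧ H ⊓ N < H ∧ ∀ g : G, g ∉ H → H ⊓ H.map (MulAut.conj g).toMonoidHom ≤ N) := by
  have hdisj : ∀ z : G, z ∈ H → z ∈ M → z = 1 := by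
    intro z h1 h2
    have : z ∈ H ⊓ M := ⟨h1, h2⟩
    rw [hHM'] at this
    exact Subgroup.mem_bot.mp this
  have hdecL : ∀ g : G, ∃ m ∈ M, ∃ h ∈ H, g = m * h := by
    intro g
    have hg : g ∈ ((M ⊔ H : Subgroup G) : Set G) := by
      rw [sup_comm, hHM]; trivial
    rw [Subgroup.normal_mul] at hg
    obtain ⟨m, hm, h, hh, rfl⟩ := Set.mem_mul.mp hg
    exact ⟨m, hm, h, hh, rfl⟩
  have hdecR : ∀ g : G, ∃ h ∈ H, ∃ m ∈ M, g = h * m := by
    intro g
    have hg : g ∈ ((H ⊔ M : Subgroup G) : Set G) := by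
      rw [hHM]; trivial
    rw [Subgroup.mul_normal] at hg
    obtain ⟨h, hh, m, hm, rfl⟩ := Set.mem_mul.mp hg
    exact ⟨h, hh, m, hm, rfl⟩
  constructor
  · intro hC
    refine ⟨?_, ?_, ?_, ?_⟩
    · rintro rfl
      rw [bot_sup_eq] at hHM
      exact hN2 (top_le_iff.mp (hHM ▸ hMN))
    · rintro rfl
      rw [top_inf_eq] at hHM'
      exact hM1 hHM'
    · refine lt_of_le_of_ne inf_le_left ?_
      intro h
      have hHN : H ≤ N := inf_eq_left.mp h
      exact hN2 (top_le_iff.mp (hHM ▸ sup_le hHN hMN))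
    · rintro g hg y ⟨hy, hy'⟩
      obtain ⟨y₁, hy₁, rfl⟩ := Subgroup.mem_map.mp hy'
      obtain ⟨m, hm, h, hh, rfl⟩ := hdecL g
      simp only [MulEquiv.coe_toMonoidHom, MulAut.conj_apply] at hy ⊢
      set y₂ := h * y₁ * h⁻¹ with hy₂
      have hy₂H : y₂ ∈ H := H.mul_mem (H.mul_mem hh hy₁) (H.inv_mem hh)
      have he : m * h * y₁ * (m * h)⁻¹ = m * y₂ * m⁻¹ := by
        rw [hy₂]; group
      rw [he] at hy ⊢
      have h1 : m * y₂ * m⁻¹ * y₂⁻¹ = 1 := by
        apply hdisj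
        · exact H.mul_mem hy (H.inv_mem hy₂H)
        · have : m * y₂ * m⁻¹ * y₂⁻¹ = m * (y₂ * m⁻¹ * y₂⁻¹) := by group
          rw [this]
          exact M.mul_mem hm (‹M.Normal›.conj_mem _ (M.inv_mem hm) _)
      have h2 : m * y₂ * m⁻¹ = y₂ := by
        rw [mul_inv_eq_one] at h1
        exact h1
      rw [h2]
      have hm1 : m ≠ 1 := by
        rintro rfl
        apply hg
        simpa using hh
      apply hC m hm hm1
      rw [Subgroup.mem_centralizer_singleton_iff]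
      rw [mul_inv_eq_iff_eq_mul] at h2
      exact h2.symm
  · rintro ⟨-, -, hlt, hTI⟩ x hx hx1 g hg
    rw [Subgroup.mem_centralizer_singleton_iff] at hg
    by_contra hgN
    obtain ⟨h, hh, m, hm, rfl⟩ := hdecR g
    have hhN : h ∉ N := by
      intro hhN
      exact hgN (N.mul_mem hhN (hMN hm))
    -- commuting with a nontrivial element of M is impossible for h
    have hnc : ∀ d ∈ M, d * h * d⁻¹ = h → d = 1 := by
      intro d hd hdh
      by_contra hd1
      have hdH : d ∉ H := fun hdH => hd1 (hdisj d hdH hd)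
      apply hhN
      apply hTI d hdH
      refine ⟨hh, Subgroup.mem_map.mpr ⟨h, hh, ?_⟩⟩
      simpa using hdh
    let φ : M → M := fun c => ⟨h⁻¹ * c * h * (c : G)⁻¹, by
      apply M.mul_mem _ (M.inv_mem c.2)
      have := ‹M.Normal›.conj_mem _ c.2 h⁻¹
      simpa using this⟩
    have hφinj : Function.Injective φ := by
      intro c c' hcc
      have h1 : h⁻¹ * c * h * (c : G)⁻¹ = h⁻¹ * c' * h * (c' : G)⁻¹ := congr_arg Subtype.val hcc
      have h2 : ((c' : G)⁻¹ * c) * h * ((c' : G)⁻¹ * c)⁻¹ = h := by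
        have h3 : (c : G) * h * (c : G)⁻¹ = c' * h * (c' : G)⁻¹ := by
          have := congr_arg (fun z => h * z) h1
          simpa [mul_assoc] using this
        calc ((c' : G)⁻¹ * c) * h * ((c' : G)⁻¹ * c)⁻¹ = (c' : G)⁻¹ * ((c : G) * h * (c : G)⁻¹) * c' := by group
          _ = (c' : G)⁻¹ * (c' * h * (c' : G)⁻¹) * c' := by rw [h3]
          _ = h := by group
      have h4 := hnc _ (M.mul_mem (M.inv_mem c'.2) c.2) h2
      apply Subtype.ext
      rw [inv_mul_eq_one] at h4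
      exact h4.symm
    have hφsurj : Function.Surjective φ := Finite.surjective_of_injective hφinj
    obtain ⟨c, hc⟩ := hφsurj ⟨m, hm⟩
    have hc' : h⁻¹ * c * h * (c : G)⁻¹ = m := congr_arg Subtype.val hc
    have hgc : h * m = c * h * (c : G)⁻¹ := by
      rw [← hc']; group
    rw [hgc] at hg
    have hx' : (c : G)⁻¹ * x * c = 1 := by
      apply hnc
      · have := ‹M.Normal›.conj_mem _ hx (c : G)⁻¹
        simpa using this
      · calc (c : G)⁻¹ * x * c * h * ((c : G)⁻¹ * x * c)⁻¹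
            = (c : G)⁻¹ * (x * (c * h * (c : G)⁻¹)) * x⁻¹ * c := by group
          _ = (c : G)⁻¹ * ((c * h * (c : G)⁻¹) * x) * x⁻¹ * c := by rw [hg]
          _ = h := by group
    apply hx1
    have : x = c * ((c : G)⁻¹ * x * c) * (c : G)⁻¹ := by group
    rw [this, hx']
    group

end Cfsg.Agent.S4113
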