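import Cfsg.Statements.S4140
import Cfsg.Agent.S0033
import Cfsg.Agent.Lib.Helper69.CaminaTate

set_option autoImplicit false
open Cfsg

namespace Cfsg.Agent.S4140

open Cfsg.Agent.Lib.Helper69 Cfsg.Agent.S4155 Subgroup

/-- a group embedded in the product of two nilpotent quotients is nilpotent -/
theorem isNilpotent_of_inf_eq_bot {X : Type*} [Group X] (A B : Subgroup X) [A.Normal] [B.Normal]
    (h : A ⊓ B = ⊥) (hA : Group.IsNilpotent (X ⧸ A)) (hB : Group.IsNilpotent (X ⧸ B)) :
    Group.IsNilpotent X := by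
  apply Subgroup.isNilpotent_of_ker_le_center ((QuotientGroup.mk' A).prod (QuotientGroup.mk' B))
  rw [MonoidHom.ker_prod, QuotientGroup.ker_mk', QuotientGroup.ker_mk', h]; exact bot_le

/-- Thompson: if a prime `q` divides `|G : N|` but not `|N|`, the kernel is nilpotent -/
theorem nilpotent_of_not_dvd {G : Type*} [Group G] [Finite G] {N : Subgroup G} [N.Normal] (h : Cam N)
    (hN1 : N ≠ ⊥) {q : ℕ} [Fact q.Prime] (hqi : q ∣ N.index) (hqN : ¬ q ∣ Nat.card N) :
    Group.IsNilpotent N := by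
  have hq : q.Prime := Fact.out
  obtain ⟨y', hy'⟩ := exists_prime_orderOf_dvd_card' (G := G ⧸ N) q (by rwa [← Subgroup.index_eq_card])
  obtain ⟨y, hyy', k, hk⟩ := exists_lift_pElement N q y' ⟨1, by rw [pow_one, ← hy', pow_orderOf_eq_one]⟩
  have hyN : y ∉ N := by
    rw [← QuotientGroup.eq_one_iff, hyy']
    intro h'
    rw [h', orderOf_one] at hy'
    exact hq.one_lt.ne hy'
  have hyqN : y ^ q ∈ N := by
    rw [← QuotientGroup.eq_one_iff, QuotientGroup.mk_pow, hyy', ← hy', pow_orderOf_eq_one]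
  have hcop : (Nat.card N).Coprime q := by
    rw [Nat.coprime_comm]; exact (Nat.Prime.coprime_iff_not_dvd hq).2 hqN
  have hyq : y ^ q = 1 := by
    rw [← orderOf_eq_one_iff]
    have h1 : orderOf (y ^ q) ∣ q ^ k := by
      apply orderOf_dvd_of_pow_eq_one
      rw [← pow_mul, mul_comm, pow_mul, hk, one_pow]
    have h2 : orderOf (y ^ q) ∣ Nat.card N := by
      rw [← Subgroup.orderOf_mk _ hyqN]
      exact orderOf_dvd_natCard _
    exact Nat.eq_one_of_dvd_coprimes (hcop.pow_right k) h2 h1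
  let φ : MulAut N := MulAut.conjNormal y
  have hfpf : MonoidHom.FixedPointFree ((φ : N ≃* N) : N →* N) := by
    intro n hn
    have h1 : y * (n : G) * y⁻¹ = n := congrArg Subtype.val hn
    have h2 : Commute y (n : G) := mul_inv_eq_iff_eq_mul.1 h1
    have h3 : (orderOf (n : G)).Coprime q := by
      apply Nat.Coprime.of_dvd_left _ hcop
      rw [Subgroup.orderOf_coe]
      exact orderOf_dvd_natCard _
    have := h.eqOrd.eq_one' hyN hyqN n.2 h2 h3
    exact Subtype.ext this
  have hord : orderOf φ = q := by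
    apply orderOf_eq_prime
    · rw [← map_pow, hyq, map_one]
    · intro h1
      obtain ⟨n, hn⟩ := Subgroup.ne_bot_iff_exists_ne_one.1 hN1
      apply hn
      apply hfpf
      show φ n = n
      rw [h1]; rfl
  exact Cfsg.Agent.S0033.result φ hfpf q hq hord

theorem dvd_card_map {G : Type*} [Group G] [Finite G] {N M₀ M : Subgroup G} [M₀.Normal] {p : ℕ}
    [Fact p.Prime] (hM₀ : M₀ ≤ M) (hchar : ∀ n ∈ N, n ∈ M ↔ (orderOf n).Coprime p) (hpN : p ∣ Nat.card N) :
    p ∣ Nat.card (N.map (QuotientGroup.mk' M₀)) := by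
  have hp : p.Prime := Fact.out
  obtain ⟨⟨n₀, hn₀N⟩, hn₀⟩ := exists_prime_orderOf_dvd_card' p hpN
  rw [Subgroup.orderOf_mk] at hn₀
  have h1 : n₀ ∉ M₀ := by
    intro h'
    have := (hchar n₀ hn₀N).1 (hM₀ h')
    rw [hn₀, Nat.coprime_self] at this
    exact hp.one_lt.ne' this
  have h2 : orderOf (n₀ : G ⧸ M₀) = p := by
    apply orderOf_eq_prime
    · rw [← QuotientGroup.mk_pow, ← hn₀, pow_orderOf_eq_one]; rfl
    · rw [Ne, QuotientGroup.eq_one_iff]; exact h1
  have h3 : (n₀ : G ⧸ M₀) ∈ N.map (QuotientGroup.mk' M₀) := ⟨n₀, hn₀N, rfl⟩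
  rw [← h2, ← Subgroup.orderOf_mk _ h3]
  exact orderOf_dvd_natCard _

theorem isPGroup_quot {G : Type*} [Group G] {N M₀ M : Subgroup G} [M₀.Normal] [M.Normal] {p k : ℕ}
    (hk : ∀ n ∈ N, n ^ (p ^ k) ∈ M)
    [((M.map (QuotientGroup.mk' M₀)).subgroupOf (N.map (QuotientGroup.mk' M₀))).Normal] :
    IsPGroup p ((N.map (QuotientGroup.mk' M₀) : Subgroup (G ⧸ M₀)) ⧸
      (M.map (QuotientGroup.mk' M₀)).subgroupOf (N.map (QuotientGroup.mk' M₀))) := by
  intro x
  obtain ⟨x, rfl⟩ := QuotientGroup.mk_surjective x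
  obtain ⟨_, ⟨n, hn, rfl⟩⟩ := x
  refine ⟨k, ?_⟩
  rw [← QuotientGroup.mk_pow, QuotientGroup.eq_one_iff, mem_subgroupOf]
  exact ⟨n ^ (p ^ k), hk n hn, by simp⟩

/-- Let G be a finite group and N a proper non-trivial normal subgroup such that for every g outside N the conjugacy class of g is a union of cosets of N (equivalently gn is conjugate to g for every n ∈ N). Then either every element of G outside N acts fixed-point-freely on N (C_G(x) ≤ N for all x ∈ N, x ≠ 1, so G is a Frobenius group with kernel N), or N has prime-power order, or G/N has prime-power order. -/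
theorem result {G : Type*} [Group G] [Finite G] (N : Subgroup G) [N.Normal] (hN1 : N ≠ ⊥) (hN2 : N ≠ ⊤)
    (hcam : ∀ g : G, g ∉ N → ∀ n ∈ N, ∃ x : G, x * g * x⁻¹ = g * n) :
    (∀ x ∈ N, x ≠ 1 → Subgroup.centralizer ({x} : Set G) ≤ N) ∨ IsPrimePow (Nat.card N) ∨ IsPrimePow N.index := by
  have h : Cam N := hcam
  by_cases hcop : (Nat.card N).Coprime N.index
  · left
    intro x hxN hx1 c hc
    by_contra hcN
    obtain ⟨s, m, hs, hsi, h1, h2⟩ := exists_prime_pow_not_mem N hcN
    have : Fact s.Prime := ⟨hs⟩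
    apply hx1
    apply h.eqOrd.eq_one' h1 h2 hxN
    · exact (show Commute c x from mem_cent_singleton.1 hc).pow_left m
    · apply Nat.Coprime.of_dvd _ hsi hcop
      rw [← Subgroup.orderOf_mk _ hxN]
      exact orderOf_dvd_natCard _
  · right
    obtain ⟨p, hp, hpN, hpi⟩ := Nat.Prime.not_coprime_iff_dvd.1 hcop
    have : Fact p.Prime := ⟨hp⟩
    by_contra hcon
    push Not at hcon
    obtain ⟨hnN, hni⟩ := hcon
    have hi1 : N.index ≠ 1 := fun h' => hN2 (Subgroup.index_eq_one.1 h')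
    have hc1 : Nat.card N ≠ 1 := fun h' => hN1 (Subgroup.card_eq_one.1 h')
    obtain ⟨q, hq, hqp, hqi⟩ := exists_prime_ne Subgroup.index_ne_zero_of_finite hi1 hni hp
    have : Fact q.Prime := ⟨hq⟩
    by_cases hqN : q ∣ Nat.card N
    · obtain ⟨Mp, hMpn, hMpN, hMpc, kp, hkp⟩ := h.exists_normal_pComplement hpi
      obtain ⟨Mq, hMqn, hMqN, hMqc, kq, hkq⟩ := h.exists_normal_pComplement hqi
      have hM₀ : (Mp ⊓ Mq).Normal := inferInstance
      have hsurj : Function.Surjective (QuotientGroup.mk' (Mp ⊓ Mq)) := QuotientGroup.mk'_surjective _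
      have hNn : (N.map (QuotientGroup.mk' (Mp ⊓ Mq))).Normal := Subgroup.Normal.map inferInstance _ hsurj
      have hMpn' : (Mp.map (QuotientGroup.mk' (Mp ⊓ Mq))).Normal := Subgroup.Normal.map inferInstance _ hsurj
      have hMqn' : (Mq.map (QuotientGroup.mk' (Mp ⊓ Mq))).Normal := Subgroup.Normal.map inferInstance _ hsurj
      have hnil : Group.IsNilpotent (N.map (QuotientGroup.mk' (Mp ⊓ Mq))) := by
        apply isNilpotent_of_inf_eq_bot
          ((Mp.map (QuotientGroup.mk' (Mp ⊓ Mq))).subgroupOf (N.map (QuotientGroup.mk' (Mp ⊓ Mq))))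
          ((Mq.map (QuotientGroup.mk' (Mp ⊓ Mq))).subgroupOf (N.map (QuotientGroup.mk' (Mp ⊓ Mq))))
        · rw [eq_bot_iff]
          intro x hx
          obtain ⟨hx1, hx2⟩ := Subgroup.mem_inf.1 hx
          rw [mem_subgroupOf] at hx1 hx2
          obtain ⟨m, hm, hmx⟩ := hx1
          obtain ⟨m', hm', hmx'⟩ := hx2
          have h1 : m⁻¹ * m' ∈ Mp ⊓ Mq := by
            rw [← QuotientGroup.eq]
            exact hmx.trans hmx'.symm
          have h2 : m' ∈ Mp := by
            have := Mp.mul_mem hm (Subgroup.mem_inf.1 h1).1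
            rwa [mul_inv_cancel_left] at this
          rw [Subgroup.mem_bot]
          apply Subtype.ext
          rw [← hmx']
          exact (QuotientGroup.eq_one_iff m').2 (Subgroup.mem_inf.2 ⟨h2, hm'⟩)
        · exact (isPGroup_quot hkp).isNilpotent
        · exact (isPGroup_quot hkq).isNilpotent
      have hidx : (N.map (QuotientGroup.mk' (Mp ⊓ Mq))).index = N.index := by
        apply Subgroup.index_map_eq _ hsurj
        rw [QuotientGroup.ker_mk']
        exact inf_le_left.trans hMpN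
      have key := (h.quot (Mp ⊓ Mq)).eq_of_nilpotent hnil (p := p) (dvd_card_map inf_le_left hMpc hpN)
        (by rw [hidx]; exact hpi) hq (dvd_card_map inf_le_right hMqc hqN)
      exact hqp key
    · have hnil := nilpotent_of_not_dvd h hN1 hqi hqN
      obtain ⟨r, hr, hrp, hrN⟩ := exists_prime_ne Nat.card_pos.ne' hc1 hnN hp
      exact hrp (h.eq_of_nilpotent hnil hpN hpi hr hrN)

end Cfsg.Agent.S4140
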