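import Cfsg.Statements.S4208
import Mathlib
import Cfsg.Agent.S4207
import Cfsg.Agent.S0012

set_option autoImplicit false
open Cfsg

namespace Cfsg.Agent.S4208

open Cfsg.Agent.S4207

theorem count_gen_add {V : Type*} [AddCommGroup V] {p r : ℕ} [hp : Fact p.Prime] [Module (ZMod p) V] [Finite V]
    (hV : Nat.card V = p ^ r) :
    Nat.card {v : Fin r → V // AddSubgroup.closure (Set.range v) = ⊤} = ∏ i : Fin r, (p ^ r - p ^ (i : ℕ)) := by
  classical
  have hfin : Module.finrank (ZMod p) V = r := by
    have h1 := Module.natCard_eq_pow_finrank (K := ZMod p) (V := V)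
    rw [Nat.card_zmod, hV] at h1
    exact (Nat.pow_right_injective hp.out.two_le h1).symm
  have hcount := card_linearIndependent (K := ZMod p) (V := V) (k := r) (le_of_eq hfin.symm)
  rw [hfin, ZMod.card] at hcount
  rw [← hcount]
  apply Nat.card_congr
  refine Equiv.subtypeEquivRight ?_
  intro y
  have hspan : AddSubgroup.closure (Set.range y) = ⊤ ↔
      ⊤ ≤ Submodule.span (ZMod p) (Set.range y) := by
    constructor
    · intro h w _
      have hle : AddSubgroup.closure (Set.range y) ≤ (Submodule.span (ZMod p) (Set.range y)).toAddSubgroup := by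
        rw [AddSubgroup.closure_le]
        exact Submodule.subset_span
      rw [h] at hle
      exact hle (AddSubgroup.mem_top w)
    · intro h
      rw [eq_top_iff]
      intro x _
      have hle : Submodule.span (ZMod p) (Set.range y) ≤
          AddSubgroup.toZModSubmodule p (AddSubgroup.closure (Set.range y)) := by
        rw [Submodule.span_le]
        exact AddSubgroup.subset_closure
      exact hle (h (Submodule.mem_top (x := x)))
  rw [hspan]
  constructor
  · intro h
    exact linearIndependent_of_top_le_span_of_card_eq_finrank h (by rw [hfin]; simp)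
  · intro h
    exact le_of_eq (h.span_eq_top_of_card_eq_finrank' (by rw [hfin]; simp)).symm

theorem count_gen_comm {Q : Type*} [CommGroup Q] [Finite Q] {p r : ℕ} [hp : Fact p.Prime]
    (hexp : ∀ x : Q, x ^ p = 1) (hQ : Nat.card Q = p ^ r) :
    Nat.card {y : Fin r → Q // Subgroup.closure (Set.range y) = ⊤} = ∏ i : Fin r, (p ^ r - p ^ (i : ℕ)) := by
  let _ : Module (ZMod p) (Additive Q) := AddCommGroup.zmodModule (n := p) (fun x => by
    induction x using Additive.rec with
    | ofMul x => rw [← ofMul_pow, hexp]; rfl)
  rw [← count_gen_add (V := Additive Q) (p := p) (r := r) hQ]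
  apply Nat.card_congr
  refine Equiv.subtypeEquiv (Equiv.refl _) ?_
  intro y
  show Subgroup.closure (Set.range y) = ⊤ ↔ AddSubgroup.closure (Set.range (fun i => Additive.ofMul (y i))) = ⊤
  have h1 : Subgroup.toAddSubgroup (Subgroup.closure (Set.range y)) =
      AddSubgroup.closure (Set.range (fun i => Additive.ofMul (y i))) := by
    rw [Subgroup.toAddSubgroup_closure]
    congr 1
  rw [← h1]
  constructor
  · intro h; rw [h]; rfl
  · intro h
    apply Subgroup.toAddSubgroup.injective
    rw [h]; rfl

theorem count_gen {Q : Type*} [Group Q] [Finite Q] {p r : ℕ} [hp : Fact p.Prime]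
    (hcomm : ∀ a b : Q, a * b = b * a) (hexp : ∀ x : Q, x ^ p = 1) (hQ : Nat.card Q = p ^ r) :
    Nat.card {y : Fin r → Q // Subgroup.closure (Set.range y) = ⊤} = ∏ i : Fin r, (p ^ r - p ^ (i : ℕ)) := by
  let _ : CommGroup Q := { ‹Group Q› with mul_comm := hcomm }
  exact count_gen_comm hexp hQ


/-- Let `P` be a group of order `p^n` whose Frattini subgroup has index `p^r`. Then the order of the automorphism group of `P` divides `p^(r(n-r)) · (p^r - 1)(p^r - p) ⋯ (p^r - p^(r-1))`. -/
theorem result {P : Type*} [Group P] [Finite P] {p n r : ℕ} [Fact p.Prime] (hP : Nat.card P = p ^ n) (hr : (frattini P).index = p ^ r) : Nat.card (MulAut P) ∣ p ^ (r * (n - r)) * ∏ i ∈ Finset.range r, (p ^ r - p ^ i) := by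
  classical
  obtain ⟨hrn, hΦ⟩ := card_frattini hP hr
  have hPp : IsPGroup p P := IsPGroup.of_card hP
  obtain ⟨hcomm, hpow⟩ := Cfsg.Agent.S0012.result p hPp
  have hQ : Nat.card (P ⧸ frattini P) = p ^ r := by rw [← hr]; rfl
  have hQcomm : ∀ a b : P ⧸ frattini P, a * b = b * a := by
    have := (Subgroup.Normal.quotient_commutative_iff_commutator_le (N := frattini P)).mpr hcomm
    exact fun a b => this.is_comm.comm a b
  have hQexp : ∀ x : P ⧸ frattini P, x ^ p = 1 := by
    intro x
    obtain ⟨x, rfl⟩ := QuotientGroup.mk_surjective x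
    rw [← QuotientGroup.mk_pow, QuotientGroup.eq_one_iff]
    exact hpow x
  have hcnt := count_gen hQcomm hQexp hQ
  let Ω := {y : Fin r → P // Subgroup.closure (Set.range y) = ⊤}
  let Ωbar := {y : Fin r → P ⧸ frattini P // Subgroup.closure (Set.range y) = ⊤}
  let _ : MulAction (MulAut P) Ω :=
    { smul := fun α y => ⟨fun i => α (y.1 i), by
        have h1 : Set.range (fun i => α (y.1 i)) = (α : P ≃* P).toMonoidHom '' Set.range y.1 := by
          rw [← Set.range_comp]; rfl
        rw [h1, ← MonoidHom.map_closure, y.2, ← MonoidHom.range_eq_map, MonoidHom.range_eq_top]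
        exact α.surjective⟩
      one_smul := fun y => by
        apply Subtype.ext
        funext i
        rfl
      mul_smul := fun α β y => by
        apply Subtype.ext
        funext i
        rfl }
  have hfree : ∀ y : Ω, MulAction.stabilizer (MulAut P) y = ⊥ := by
    intro y
    rw [eq_bot_iff]
    intro α hα
    rw [MulAction.mem_stabilizer_iff] at hα
    rw [Subgroup.mem_bot]
    have h1 : ∀ i, α (y.1 i) = y.1 i := fun i => congrFun (congrArg Subtype.val hα) i
    have h2 : (α : P ≃* P).toMonoidHom = MonoidHom.id P := by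
      apply MonoidHom.eq_of_eqOn_dense y.2
      rintro _ ⟨i, rfl⟩
      exact h1 i
    ext z
    exact DFunLike.congr_fun h2 z
  have hdvd := card_dvd_of_free hfree
  let f : Ω → Ωbar := fun y => ⟨fun i => (y.1 i : P ⧸ frattini P), by
    have h1 : Set.range (fun i => (y.1 i : P ⧸ frattini P)) = (QuotientGroup.mk' (frattini P)) '' Set.range y.1 := by
      rw [← Set.range_comp]; rfl
    rw [h1, ← MonoidHom.map_closure, y.2, ← MonoidHom.range_eq_map, MonoidHom.range_eq_top]
    exact QuotientGroup.mk'_surjective _⟩
  have hfib : ∀ ybar : Ωbar, Nat.card {y : Ω // f y = ybar} = Nat.card (frattini P) ^ r := by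
    intro ybar
    choose x hx using fun i => QuotientGroup.mk_surjective (ybar.1 i)
    rw [← card_lifts (frattini P) x]
    apply Nat.card_congr
    exact
    { toFun := fun y => ⟨y.1.1, fun i => by
        rw [hx i]
        exact congrFun (congrArg Subtype.val y.2) i⟩
      invFun := fun y => ⟨⟨y.1, by
        apply closure_eq_top_of_mk
        have : (fun i => (y.1 i : P ⧸ frattini P)) = ybar.1 := by
          funext i
          rw [y.2 i, hx i]
        rw [this, ybar.2]⟩, by
        apply Subtype.ext
        funext i
        show (y.1 i : P ⧸ frattini P) = ybar.1 i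
        rw [y.2 i, hx i]⟩
      left_inv := fun y => rfl
      right_inv := fun y => rfl }
  have hcard : Nat.card Ω = Nat.card Ωbar * Nat.card (frattini P) ^ r := by
    have : Fintype Ωbar := Fintype.ofFinite _
    rw [← Nat.card_congr (Equiv.sigmaFiberEquiv f), Nat.card_sigma]
    simp only [hfib]
    simp
  rw [hcard, hcnt, hΦ, ← pow_mul, mul_comm, mul_comm (n - r) r, ← Finset.prod_range (fun i => p ^ r - p ^ i)] at hdvd
  exact hdvd

end Cfsg.Agent.S4208
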