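import Cfsg.Statements.S4249
import Cfsg.Agent.Lib.Helper71.Kegel
import Cfsg.Agent.Lib.Helper25.NilpotentCoprime

set_option autoImplicit false
open Cfsg

namespace Cfsg.Agent.S4249

/-- Let G be a finite group and p a prime such that G is not a p-group, and suppose the Hughes subgroup H_p(G), generated by all elements g with g^p ≠ 1, is a proper subgroup. Then H_p(G) is nilpotent and has index p in G. -/
theorem result {G : Type*} [Group G] [Finite G] (p : ℕ) (hp : p.Prime) (hG : ¬ IsPGroup p G)
    (hH : Subgroup.closure {g : G | g ^ p ≠ 1} ≠ ⊤) :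
    Group.IsNilpotent (Subgroup.closure {g : G | g ^ p ≠ 1}) ∧ (Subgroup.closure {g : G | g ^ p ≠ 1}).index = p := by
  have : Fact p.Prime := ⟨hp⟩
  set H : Subgroup G := Subgroup.closure {g : G | g ^ p ≠ 1} with hHdef
  have hHn : H.Normal := by
    constructor
    intro n hn g
    have h1 : H.map (MulAut.conj g).toMonoidHom ≤ H := by
      rw [hHdef, MonoidHom.map_closure, Subgroup.closure_le]
      rintro _ ⟨x, hx, rfl⟩
      apply Subgroup.subset_closure
      show (g * x * g⁻¹) ^ p ≠ 1
      rw [conj_pow]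
      intro h
      apply hx
      rw [mul_inv_eq_iff_eq_mul, one_mul] at h
      exact mul_left_cancel (h.trans (mul_one g).symm)
    exact h1 ⟨n, hn, rfl⟩
  have hout : ∀ g : G, g ∉ H → g ^ p = 1 := by
    intro g hg
    by_contra h
    exact hg (Subgroup.subset_closure h)
  -- the quotient is a nontrivial `p`-group
  have hQp : IsPGroup p (G ⧸ H) := by
    intro y
    obtain ⟨g, rfl⟩ := QuotientGroup.mk_surjective y
    refine ⟨1, ?_⟩
    rw [pow_one]
    by_cases hg : g ∈ H
    · rw [(QuotientGroup.eq_one_iff g).2 hg, one_pow]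
    · rw [← QuotientGroup.mk_pow, hout g hg]; rfl
  obtain ⟨n, hn⟩ := IsPGroup.iff_card.1 hQp
  have hn0 : n ≠ 0 := by
    rintro rfl
    rw [pow_zero] at hn
    apply hH
    rw [← Subgroup.index_eq_one]
    exact hn
  obtain ⟨m, rfl⟩ := Nat.exists_eq_succ_of_ne_zero hn0
  obtain ⟨K, hK⟩ := Sylow.exists_subgroup_card_pow_prime (G := G ⧸ H) p (n := m)
    (by rw [hn]; exact pow_dvd_pow p (Nat.le_succ m))
  have hKidx : K.index = p := by
    have h1 := K.card_mul_index
    rw [hK, hn, pow_succ] at h1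
    exact Nat.eq_of_mul_eq_mul_left (pow_pos hp.pos m) h1
  have hKn : K.Normal := by
    apply Subgroup.normal_of_index_eq_minFac_card
    rw [hKidx, hn, Nat.Prime.pow_minFac hp (Nat.succ_ne_zero m)]
  set H₁ : Subgroup G := K.comap (QuotientGroup.mk' H) with hH₁
  have hH₁n : H₁.Normal := hKn.comap _
  have hH₁idx : H₁.index = p := by
    rw [hH₁, Subgroup.index_comap_of_surjective _ (QuotientGroup.mk'_surjective H), hKidx]
  have hle : H ≤ H₁ := by
    intro h hh
    rw [hH₁, Subgroup.mem_comap]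
    have : QuotientGroup.mk' H h = 1 := (QuotientGroup.eq_one_iff h).2 hh
    rw [this]; exact K.one_mem
  obtain ⟨x, hx⟩ : ∃ x : G, x ∉ H₁ := by
    by_contra hcon
    push Not at hcon
    have : H₁ = ⊤ := eq_top_iff.2 (fun g _ => hcon g)
    rw [this, Subgroup.index_top] at hH₁idx
    exact hp.one_lt.ne hH₁idx
  have hxp : x ^ p = 1 := hout x (fun h => hx (hle h))
  have hhx : ∀ h : H₁, ((h : G) * x) ^ p = 1 := by
    intro h
    apply hout
    intro hc
    apply hx
    have := H₁.mul_mem (H₁.inv_mem h.2) (hle hc)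
    rwa [inv_mul_cancel_left] at this
  let φ : H₁ ≃* H₁ := MulAut.conjNormal x
  have hφ : ∀ h : H₁, ((φ h : H₁) : G) = x * h * x⁻¹ := fun h => MulAut.conjNormal_apply x h
  have hit : ∀ (k : ℕ) (h : H₁), ((φ^[k] h : H₁) : G) = x ^ k * h * (x ^ k)⁻¹ := by
    intro k h
    induction k with
    | zero => simp
    | succ k ih =>
      rw [Function.iterate_succ_apply', hφ, ih, pow_succ']
      simp only [mul_inv_rev, mul_assoc]
  have hnrm : ∀ (k : ℕ) (h : H₁),
      ((h : G) * x) ^ k = (Cfsg.Agent.Lib.Helper71.Kegel.nrm φ k h : H₁) * x ^ k := by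
    intro k h
    induction k with
    | zero => simp [Cfsg.Agent.Lib.Helper71.Kegel.nrm]
    | succ k ih =>
      rw [pow_succ, ih, Cfsg.Agent.Lib.Helper71.Kegel.nrm_succ, Subgroup.coe_mul, hit, pow_succ]
      simp only [mul_assoc, inv_mul_cancel_left]
  have hspl : Cfsg.Agent.Lib.Helper71.Kegel.Spl φ p := by
    refine ⟨?_, fun h => ?_⟩
    · funext h
      apply Subtype.ext
      rw [hit, hxp]; simp
    · apply Subtype.ext
      have := hnrm p h
      rw [hhx, hxp, mul_one] at this
      exact this.symm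
  have hnil : Group.IsNilpotent H₁ := Cfsg.Agent.Lib.Helper71.Kegel.isNilpotent_of_spl hp hspl
  -- an element of prime order `q ≠ p`
  obtain ⟨q, hq, hqG, hqp⟩ : ∃ q : ℕ, q.Prime ∧ q ∣ Nat.card G ∧ q ≠ p := by
    by_contra hcon
    push Not at hcon
    apply hG
    have := Nat.eq_prime_pow_of_unique_prime_dvd (n := Nat.card G) (p := p) Nat.card_pos.ne'
      (fun {d} hd hdvd => hcon d hd hdvd)
    exact IsPGroup.of_card this
  have : Fact q.Prime := ⟨hq⟩
  obtain ⟨w, hw⟩ := exists_prime_orderOf_dvd_card' (G := G) q hqG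
  have hwp : w ^ p ≠ 1 := by
    intro h
    have h1 := orderOf_dvd_of_pow_eq_one h
    rw [hw] at h1
    exact hqp ((Nat.prime_dvd_prime_iff_eq hq hp).1 h1)
  have hwH : w ∈ H := Subgroup.subset_closure hwp
  have heq : H = H₁ := by
    apply le_antisymm hle
    intro d hd
    by_contra hdH
    have hdp : d ^ p = 1 := hout d hdH
    have hcop : (orderOf w).Coprime (orderOf d) := by
      rw [hw]
      exact Nat.Coprime.coprime_dvd_right (orderOf_dvd_of_pow_eq_one hdp)
        ((Nat.coprime_primes hq hp).2 hqp)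
    have hcomm : Commute w d :=
      Cfsg.Agent.Lib.Helper25.commute_of_coprime_orderOf_of_mem (C := H₁) hnil (hle hwH) hd hcop
    have hwd : w * d ∉ H := by
      intro hc
      apply hdH
      have := H.mul_mem (H.inv_mem hwH) hc
      rwa [inv_mul_cancel_left] at this
    have h1 := hout _ hwd
    rw [hcomm.mul_pow, hdp, mul_one] at h1
    exact hwp h1
  rw [heq]
  exact ⟨hnil, hH₁idx⟩

end Cfsg.Agent.S4249
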