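import Mathlib
import Cfsg.Statements.S4298
import Cfsg.Agent.Lib.Helper56.SL2Table

set_option autoImplicit false
open Cfsg

namespace Cfsg.Agent.S4298

open Cfsg.Agent.Lib.Helper56

/-- table of an embedding `SL(2,3) → SL(2,5)` (entries indexed by the four matrix entries) -/
def tbl : List (ZMod 5 × ZMod 5 × ZMod 5 × ZMod 5) := [
  (0, 0, 0, 0), (0, 0, 0, 0), (0, 0, 0, 0), (0, 0, 0, 0), (0, 0, 0, 0), (0, 0, 0, 0), (0, 0, 0, 0), (0, 0, 0, 0), (0, 0, 0, 0),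
  (0, 0, 0, 0), (0, 0, 0, 0), (0, 0, 0, 0), (0, 0, 0, 0), (0, 0, 0, 0), (0, 0, 0, 0), (2, 3, 0, 3), (0, 4, 1, 1), (3, 3, 4, 1),
  (0, 0, 0, 0), (0, 0, 0, 0), (0, 0, 0, 0), (3, 2, 0, 2), (2, 2, 1, 4), (0, 1, 4, 4), (0, 0, 0, 0), (0, 0, 0, 0), (0, 0, 0, 0),
  (0, 0, 0, 0), (1, 0, 0, 1), (0, 0, 0, 0), (0, 0, 0, 0), (0, 3, 3, 4), (0, 0, 0, 0), (0, 0, 0, 0), (4, 2, 2, 0), (0, 0, 0, 0),
  (0, 0, 0, 0), (2, 1, 3, 2), (0, 0, 0, 0), (0, 0, 0, 0), (0, 0, 0, 0), (4, 1, 3, 1), (4, 3, 4, 2), (0, 0, 0, 0), (0, 0, 0, 0),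
  (0, 0, 0, 0), (2, 4, 2, 2), (0, 0, 0, 0), (1, 1, 4, 0), (0, 0, 0, 0), (0, 0, 0, 0), (0, 0, 0, 0), (0, 0, 0, 0), (2, 0, 4, 3),
  (0, 0, 0, 0), (0, 0, 0, 0), (4, 0, 0, 4), (0, 0, 0, 0), (0, 0, 0, 0), (1, 3, 3, 0), (0, 0, 0, 0), (0, 0, 0, 0), (0, 2, 2, 1),
  (0, 0, 0, 0), (0, 0, 0, 0), (3, 1, 3, 3), (0, 0, 0, 0), (3, 0, 1, 2), (0, 0, 0, 0), (4, 4, 1, 0), (0, 0, 0, 0), (0, 0, 0, 0),
  (0, 0, 0, 0), (0, 0, 0, 0), (3, 4, 2, 3), (1, 2, 1, 3), (0, 0, 0, 0), (0, 0, 0, 0), (0, 0, 0, 0), (1, 4, 2, 4), (0, 0, 0, 0)]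

def T (a b c d : ZMod 3) : ZMod 5 × ZMod 5 × ZMod 5 × ZMod 5 :=
  tbl.getD (a.val * 27 + b.val * 9 + c.val * 3 + d.val) (0, 0, 0, 0)

set_option maxRecDepth 100000 in
theorem T_mul : ∀ a b c d : ZMod 3, a * d - b * c = 1 → ∀ a' b' c' d' : ZMod 3, a' * d' - b' * c' = 1 →
      T (a * a' + b * c') (a * b' + b * d') (c * a' + d * c') (c * b' + d * d')
        = mul4 (T a b c d) (T a' b' c' d') := by
  decide +kernel

set_option maxRecDepth 100000 in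
theorem T_fpf : ∀ a b c d : ZMod 3, a * d - b * c = 1 → (a, b, c, d) ≠ (1, 0, 0, 1) →
      ((T a b c d).1 - 1) * ((T a b c d).2.2.2 - 1) - (T a b c d).2.1 * (T a b c d).2.2.1 ≠ 0 := by
  decide +kernel

theorem T_one : T 1 0 0 1 = (1, 0, 0, 1) := by decide +kernel

/-- The group SL(2,3) of order 24 (the binary tetrahedral group) occurs as a Frobenius complement of some finite Frobenius group. -/
theorem result :
    ∃ (L : Type) (_ : Group L) (_ : Finite L) (H : Subgroup L), Cfsg.IsFrobeniusComplement H ∧ Nonempty (H ≃* Matrix.SpecialLinearGroup (Fin 2) (ZMod 3)) := by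
  have : Fact (Nat.Prime 3) := ⟨by norm_num⟩
  have : Fact (Nat.Prime 5) := ⟨by norm_num⟩
  exact frobenius_of_table 3 5 T T_one T_mul T_fpf

end Cfsg.Agent.S4298
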