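import Cfsg.Statements.S4347

set_option autoImplicit false
open Cfsg
open scoped Pointwise

namespace Cfsg.Agent.S4347

/-- Let G be a finite group and p a prime. Say a Sylow p-subgroup Q is redundant when every element of p-power order lies in some Sylow p-subgroup other than Q. Then G has no redundant Sylow p-subgroup if and only if some element of p-power order lies in exactly one Sylow p-subgroup. -/
theorem result {G : Type*} [Group G] [Finite G]
    (p : ℕ) [Fact p.Prime] :
    (¬ ∃ Q : Sylow p G, ∀ x : G, (∃ k : ℕ, orderOf x = p ^ k) → ∃ P : Sylow p G, P ≠ Q ∧ x ∈ P) ↔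
      ∃ x : G, (∃ k : ℕ, orderOf x = p ^ k) ∧ ∃! P : Sylow p G, x ∈ P := by
  constructor
  · intro h
    push Not at h
    obtain ⟨Q⟩ : Nonempty (Sylow p G) := inferInstance
    obtain ⟨x, hx, hxQ⟩ := h Q
    refine ⟨x, hx, ?_⟩
    have hz : IsPGroup p (Subgroup.zpowers x) := by
      obtain ⟨k, hk⟩ := hx
      apply IsPGroup.of_card (n := k)
      rw [Nat.card_zpowers, hk]
    obtain ⟨P, hP⟩ := hz.exists_le_sylow
    have hxP : x ∈ P := hP (Subgroup.mem_zpowers x)
    have hPQ : P = Q := by_contra fun hne => hxQ P hne hxP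
    subst hPQ
    exact ⟨P, hxP, fun P' hP' => by_contra fun hne => hxQ P' hne hP'⟩
  · rintro ⟨x, hx, P, hxP, huniq⟩ ⟨Q, hQ⟩
    obtain ⟨g, rfl⟩ := MulAction.exists_smul_eq G P Q
    obtain ⟨P', hne, hmem⟩ := hQ (g * x * g⁻¹) (by
      obtain ⟨k, hk⟩ := hx
      refine ⟨k, ?_⟩
      rw [← hk]
      exact ((SemiconjBy.conj_mk g x).orderOf_eq g).symm)
    have h1 : x ∈ g⁻¹ • P' := by
      have : x ∈ ((g⁻¹ • P' : Sylow p G) : Subgroup G) := by
        rw [Sylow.coe_subgroup_smul, Subgroup.mem_pointwise_smul_iff_inv_smul_mem]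
        have hmem' : g * x * g⁻¹ ∈ (P' : Subgroup G) := hmem
        simpa [MulAut.smul_def, MulAut.conj_apply] using hmem'
      exact this
    have h2 := huniq _ h1
    apply hne
    rw [← h2]
    simp

end Cfsg.Agent.S4347
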