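import Cfsg.Statements.S4358
import Cfsg.Agent.Lib.Helper10.RedSyl.V
import Cfsg.Agent.Lib.Helper10.RedSyl.QC
import Cfsg.Agent.Lib.Helper10.RedSyl.PA
import Cfsg.Agent.Lib.Helper10.RedSyl.C1
import Cfsg.Agent.Lib.Helper10.RedSyl.C2
import Cfsg.Agent.Lib.Helper10.RedSyl.C3
import Cfsg.Agent.Lib.Helper10.RedSyl.C4

set_option autoImplicit false
open Cfsg

namespace Cfsg.Agent.S4358

open Cfsg.Agent.Lib.Helper10.RedSyl in
/-- Let p be an odd prime and F a finite field with q elements such that p divides q - 1 but p² does not. Then GL(p, F) has a Sylow p-subgroup Q such that every element of p-power order lies in some Sylow p-subgroup other than Q (a redundant Sylow p-subgroup). -/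
theorem result {F : Type*} [Field F] [Fintype F] (p : ℕ) [Fact p.Prime]
    (hp : p ≠ 2) (h1 : p ∣ Fintype.card F - 1) (h2 : ¬ p ^ 2 ∣ Fintype.card F - 1) :
    ∃ Q : Sylow p (Matrix.GeneralLinearGroup (Fin p) F), ∀ x : Matrix.GeneralLinearGroup (Fin p) F,
      (∃ k : ℕ, orderOf x = p ^ k) → ∃ P : Sylow p (Matrix.GeneralLinearGroup (Fin p) F), P ≠ Q ∧ x ∈ P := by
  have hcard : Nat.card (Q0 F p) = p ^ (Nat.card (Matrix.GeneralLinearGroup (Fin p) F)).factorization p := by
    rw [card_GL_factorization p hp h1 h2, card_Q0 p h1]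
  have hp3 : 3 ≤ p := by
    have := (Fact.out : p.Prime).two_le
    omega
  obtain ⟨ζ, hζ, hζ1⟩ := exists_zeta (F := F) p h1
  have hpF := prime_ne_zero (F := F) p h1
  refine ⟨Sylow.ofCard (Q0 F p) hcard, fun x hx => ?_⟩
  have hmem : ∀ g, g ∈ Sylow.ofCard (Q0 F p) hcard ↔ InQ0 g := fun g => Iff.rfl
  by_cases hxQ : x ∈ Sylow.ofCard (Q0 F p) hcard
  · obtain ⟨d, j, hd, hxd⟩ := (hmem x).1 hxQ
    have hd0 : ∀ a, d a ≠ 0 := fun a => ne_zero_of_pow_eq_one (hd a)
    by_cases hj : j = 0
    · subst hj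
      by_cases hinj : Function.Injective d
      · obtain ⟨g, x', e, hx', hxg, he, hge⟩ := c2 hp3 ζ hζ hζ1 d hd hinj x hxd
        exact exists_sylow_of_conj _ x x' g e ((hmem _).2 hx') hxg ((hmem _).2 he)
          (fun h => hge ((hmem _).1 h))
      · have : ∃ a b, a ≠ b ∧ d a = d b := by
          by_contra hcon
          push Not at hcon
          apply hinj
          intro a b hab
          by_contra hne
          exact hcon a b hne hab
        obtain ⟨a, b, hab, hdab⟩ := this
        obtain ⟨y, hxy, hy, hyQ⟩ := c1 ζ hζ hζ1 d x hxd hab hdab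
        exact exists_sylow_of_comm _ x y hxy hx hy (fun h => hyQ ((hmem _).1 h))
    · have hpow : (x : Matrix (Fin p) (Fin p) F) ^ p
          = (∏ a, d a) • (1 : Matrix (Fin p) (Fin p) F) := by
        rw [hxd, MM_pow_prime d hj]
      have hδ : (∏ a, d a) ^ p = 1 := by
        rw [← Finset.prod_pow]
        exact Finset.prod_eq_one (fun a _ => hd a)
      by_cases hδ1 : (∏ a, d a) = 1
      · have hxp : x ^ p = 1 := by
          apply Units.ext
          rw [Units.val_pow_eq_pow_val, hpow, hδ1, one_smul, Units.val_one]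
        obtain ⟨y, hxy, hy, hyQ⟩ := c3 hp3 hpF ζ hζ hζ1 d hd0 hj x hxd hxp
        exact exists_sylow_of_comm _ x y hxy hx hy (fun h => hyQ ((hmem _).1 h))
      · obtain ⟨g, e, hgx, he, hge⟩ := c4 hp ζ hζ hζ1 d hd0 hj x hxd _ hδ hδ1 hpow
        refine exists_sylow_of_conj _ x x g e hxQ ?_ ((hmem _).2 he) (fun h => hge ((hmem _).1 h))
        rw [hgx.eq, mul_inv_cancel_right]
  · exact exists_sylow_of_not_mem _ x hx hxQ

end Cfsg.Agent.S4358
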