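import Cfsg.Statements.S4399
import Cfsg.Agent.Lib.Helper73.Taussky
import Cfsg.Agent.Lib.Helper73.DihedralRec

set_option autoImplicit false
open Cfsg

namespace Cfsg.Agent.S4399

open Cfsg.Agent.Lib.Helper73

/-- Taussky's theorem in terms of the index of the commutator subgroup. -/
theorem taussky {S : Type*} [Group S] [Finite S] (h2 : IsPGroup 2 S)
    (hidx : (commutator S).index = 4) (h4 : Nat.card S ≠ 4) :
    ((∃ k : ℕ, Nonempty (S ≃* DihedralGroup (2 ^ (k + 2)))) ∨
      (∃ k : ℕ, Nat.card S = 2 ^ (k + 4) ∧ ∃ a b : S, orderOf a = 2 ^ (k + 3) ∧ orderOf b = 2 ∧ b * a * b⁻¹ = a ^ (2 ^ (k + 2) - 1)) ∨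
      (∃ k : ℕ, Nonempty (S ≃* QuaternionGroup (2 ^ (k + 1))))) := by
  obtain ⟨a, ha⟩ := exists_cyclic_index_two _ S rfl h2 hidx
  obtain ⟨n, hn⟩ := IsPGroup.iff_card.mp h2
  have hcS := (commutator S).card_mul_index
  rw [hidx, hn] at hcS
  have hna : ∃ x y : S, x * y ≠ y * x := by
    by_contra hcon
    push Not at hcon
    have := commutator_eq_bot_of_comm hcon
    rw [this, Subgroup.index_bot] at hidx
    exact h4 hidx
  have hn3 : 3 ≤ n := by
    by_contra hcon
    have hlt : n < 3 := by omega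
    interval_cases n
    · omega
    · omega
    · exact h4 (by simpa using hn)
  obtain ⟨k, rfl⟩ : ∃ k, n = k + 3 := ⟨n - 3, by omega⟩
  have hoa : orderOf a = 4 * 2 ^ k := by
    have := (Subgroup.zpowers a).card_mul_index
    rw [ha, Nat.card_zpowers, hn] at this
    have e : 2 ^ (k + 3) = 4 * 2 ^ k * 2 := by ring
    omega
  have hcard : Nat.card S = 8 * 2 ^ k := by rw [hn]; ring
  obtain ⟨b, hb, h⟩ := cyc2_classify a k (2 ^ k) rfl hoa ha hna
  rcases h with ⟨hb2, hba⟩ | ⟨hb2, hba⟩ | ⟨hM, hb2, hba⟩ | ⟨hM, hb2, hba⟩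
  · left
    refine ⟨k, ?_⟩
    have : NeZero (2 ^ (k + 2)) := ⟨by positivity⟩
    apply nonempty_mulEquiv_dihedralGroup (2 ^ (k + 2)) a b _ hb2 hba hb
    · rw [hcard]; ring
    · rw [hoa]; ring
  · right; right
    refine ⟨k, ?_⟩
    have : NeZero (2 ^ (k + 1)) := ⟨by positivity⟩
    apply nonempty_mulEquiv_quaternionGroup (2 ^ (k + 1)) a b _ _ hba hb
    · rw [hcard]; ring
    · rw [hoa]; ring
    · rw [hb2]; congr 1; ring
  · -- modular case is impossible
    exfalso
    have hcomm : ∀ p ∈ Subgroup.zpowers a, ∀ q ∈ Subgroup.zpowers a, p * q = q * p := by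
      intro p hp q hq
      obtain ⟨i, rfl⟩ := Subgroup.mem_zpowers_iff.mp hp
      obtain ⟨j, rfl⟩ := Subgroup.mem_zpowers_iff.mp hq
      exact Commute.zpow_zpow_self a i j
    have ha4 : a ^ (4 * 2 ^ k) = 1 := by rw [← hoa]; exact pow_orderOf_eq_one a
    have hba2 : b * a ^ 2 * b⁻¹ = a ^ 2 := by
      rw [← conj_pow, hba, ← pow_mul]
      have : (1 + 2 * 2 ^ k) * 2 = 2 + 4 * 2 ^ k := by ring
      rw [this, pow_add, ha4, mul_one]
    have hc2 : Commute (a ^ 2) b := by
      show a ^ 2 * b = b * a ^ 2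
      calc a ^ 2 * b = (b * a ^ 2 * b⁻¹) * b := by rw [hba2]
        _ = b * a ^ 2 := by group
    have hle := card_commutator_mul_le (Subgroup.zpowers a) ha hcomm b hb (Subgroup.zpowers (a ^ 2))
      (Subgroup.zpowers_le.mpr (Subgroup.npow_mem_zpowers a 2))
      (by
        intro x hx
        obtain ⟨i, rfl⟩ := Subgroup.mem_zpowers_iff.mp hx
        exact hc2.zpow_left i)
    have ho2 : orderOf (a ^ 2) = 2 * 2 ^ k := by
      rw [orderOf_pow, hoa]
      have : Nat.gcd (4 * 2 ^ k) 2 = 2 := Nat.gcd_eq_right ⟨2 * 2 ^ k, by ring⟩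
      rw [this]
      have e : 4 * 2 ^ k = 2 * 2 ^ k * 2 := by ring
      rw [e, Nat.mul_div_cancel _ (by norm_num)]
    rw [Nat.card_zpowers, Nat.card_zpowers, ho2, hoa] at hle
    have hpos : 0 < 2 ^ k := by positivity
    have e : 2 ^ (k + 3) = 8 * 2 ^ k := by ring
    rw [e] at hcS
    nlinarith
  · right; left
    obtain ⟨k', rfl⟩ : ∃ k', k = k' + 1 := by
      rcases k with _ | k'
      · simp at hM
      · exact ⟨k', rfl⟩
    refine ⟨k', by rw [hcard]; ring, a, b, by rw [hoa]; ring, ?_, ?_⟩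
    · apply orderOf_eq_prime hb2
      intro h1
      apply hb
      rw [h1]; exact one_mem _
    · rw [hba]; congr 2; ring

/-- Let S be a finite 2-group whose commutator quotient S/[S,S] is a Klein four-group (order 4 and exponent 2). Then S itself has order 4, or S is dihedral of order at least 8, semidihedral of order at least 16 (order 2^(k+4) with an element a of order 2^(k+3) and an involution b with b a b⁻¹ = a^(2^(k+2)−1)), or generalized quaternion of order at least 8. -/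
theorem result {S : Type*} [Group S] [Finite S] (h2 : IsPGroup 2 S) (hab : Nat.card (Abelianization S) = 4)
    (hexp : ∀ x : Abelianization S, x ^ 2 = 1) :
    Nat.card S = 4 ∨
    ((∃ k : ℕ, Nonempty (S ≃* DihedralGroup (2 ^ (k + 2)))) ∨
      (∃ k : ℕ, Nat.card S = 2 ^ (k + 4) ∧ ∃ a b : S, orderOf a = 2 ^ (k + 3) ∧ orderOf b = 2 ∧ b * a * b⁻¹ = a ^ (2 ^ (k + 2) - 1)) ∨
      (∃ k : ℕ, Nonempty (S ≃* QuaternionGroup (2 ^ (k + 1))))) := by
  by_cases h4 : Nat.card S = 4
  · exact Or.inl h4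
  · exact Or.inr (taussky h2 hab h4)

end Cfsg.Agent.S4399
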