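import Cfsg.Statements.S4403
import Cfsg.Agent.Lib.Helper23.LBal2
import Cfsg.Agent.Lib.Helper23.PConstrained
import Cfsg.Agent.Lib.Helper69.SubgroupSylow
import Cfsg.Agent.Lib.Helper34.NPC
import Cfsg.Agent.Lib.Helper31.GenFitting
import Cfsg.Agent.Lib.Helper31.LocalLayer6
import Cfsg.Agent.S3025

set_option autoImplicit false
set_option linter.style.haveILetI false
open Cfsg

namespace Cfsg.Agent.S4403

open Subgroup

theorem conj_pow_iter {G : Type*} [Group G] {a x : G} {k : ℕ} (hk : a * x * a⁻¹ = x ^ k) (j : ℕ) :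
    a ^ j * x * (a ^ j)⁻¹ = x ^ (k ^ j) := by
  induction j with
  | zero => simp
  | succ j ih =>
    have h1 : a ^ (j + 1) * x * (a ^ (j + 1))⁻¹ = a * (a ^ j * x * (a ^ j)⁻¹) * a⁻¹ := by
      rw [pow_succ']; group
    rw [h1, ih, ← conj_pow, hk, ← pow_mul, pow_succ']

/-- A `p'`-element acting on `⟨x⟩` (`x` a `p`-element) as `x ↦ x ^ k` with `k ≡ 1 mod p` centralizes `x`. -/
theorem conj_eq_self {G : Type*} [Group G] {p : ℕ} {a x : G} {k n : ℕ}
    (hx : x ^ (p ^ n) = 1) (ha : (orderOf a).Coprime p) (hk : a * x * a⁻¹ = x ^ k)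
    (hk1 : (p : ℤ) ∣ (k : ℤ) - 1) : a * x * a⁻¹ = x := by
  have h1 := conj_pow_iter hk (p ^ n)
  have h2 : ((p : ℤ) ^ (n + 1)) ∣ (k : ℤ) ^ (p ^ n) - 1 ^ (p ^ n) := dvd_sub_pow_of_dvd_sub hk1 n
  rw [one_pow] at h2
  have h3 : x ^ (k ^ (p ^ n)) = x := by
    have h4 : k ^ (p ^ n) ≡ 1 [MOD orderOf x] := by
      apply Nat.ModEq.symm
      rw [Nat.modEq_iff_dvd]
      push_cast
      refine dvd_trans ?_ h2
      have h5 : orderOf x ∣ p ^ n := orderOf_dvd_of_pow_eq_one hx
      have h6 : ((orderOf x : ℕ) : ℤ) ∣ ((p ^ n : ℕ) : ℤ) := Int.natCast_dvd_natCast.mpr h5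
      push_cast at h6
      exact h6.trans (pow_dvd_pow _ (Nat.le_succ n))
    have := (pow_eq_pow_iff_modEq (x := x)).mpr h4
    rwa [pow_one] at this
  rw [h3] at h1
  have h4 : Commute (a ^ (p ^ n)) x := by
    have : a ^ (p ^ n) * x = x * a ^ (p ^ n) := by
      calc a ^ (p ^ n) * x = (a ^ (p ^ n) * x * (a ^ (p ^ n))⁻¹) * a ^ (p ^ n) := by group
        _ = x * a ^ (p ^ n) := by rw [h1]
    exact this
  obtain ⟨m, hm⟩ := exists_pow_eq_self_of_coprime (x := a) (n := p ^ n)
    (Nat.Coprime.pow_left n ha.symm)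
  have h5 : Commute a x := by
    have := h4.pow_left m
    rwa [hm] at this
  rw [h5.eq, mul_inv_cancel_right]

/-- If `k ≢ 1 mod p`, then `x` is a power of the commutator. -/
theorem mem_zpowers_comm {G : Type*} [Group G] {p : ℕ} [hp : Fact p.Prime] {a x : G} {k n : ℕ}
    (hx : x ^ (p ^ n) = 1) (hk : a * x * a⁻¹ = x ^ k)
    (hk1 : ¬ (p : ℤ) ∣ (k : ℤ) - 1) : x ∈ zpowers (a * x * a⁻¹ * x⁻¹) := by
  have h1 : IsCoprime ((k : ℤ) - 1) ((p : ℤ) ^ n) := by
    apply IsCoprime.pow_right
    exact ((Nat.prime_iff_prime_int.mp hp.out).irreducible.coprime_iff_not_dvd.mpr hk1).symm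
  obtain ⟨u, v, huv⟩ := h1
  refine ⟨u, ?_⟩
  have h2 : a * x * a⁻¹ * x⁻¹ = x ^ ((k : ℤ) - 1) := by
    rw [hk, zpow_sub, zpow_natCast, zpow_one]
  have h3 : x ^ ((p : ℤ) ^ n) = 1 := by
    have : ((p : ℤ) ^ n) = ((p ^ n : ℕ) : ℤ) := by push_cast; rfl
    rw [this, zpow_natCast, hx]
  change (a * x * a⁻¹ * x⁻¹) ^ u = x
  rw [h2, ← zpow_mul]
  calc x ^ (((k : ℤ) - 1) * u) = x ^ (((k : ℤ) - 1) * u) * (x ^ ((p : ℤ) ^ n)) ^ v := by
        rw [h3, one_zpow, mul_one]
    _ = x ^ (u * ((k : ℤ) - 1) + v * (p : ℤ) ^ n) := by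
        rw [← zpow_mul, ← zpow_add]; congr 1; ring
    _ = x := by rw [huv, zpow_one]

/-- In a finite cyclic group two subgroups of the same order coincide. -/
theorem eq_of_card_eq {E : Type*} [Group E] [Finite E] [IsCyclic E]
    {A B : Subgroup E} (h : Nat.card A = Nat.card B) : A = B := by
  classical
  have : Fintype E := Fintype.ofFinite E
  set n := Nat.card A with hn
  have hn0 : 0 < n := Nat.card_pos
  have key : ∀ C : Subgroup E, Nat.card C = n →
      (C : Set E) = ((Finset.univ.filter fun a : E => a ^ n = 1 : Finset E) : Set E) := by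
    intro C hC
    apply Set.eq_of_subset_of_ncard_le
    · intro x hx
      simp only [Finset.coe_filter, Finset.mem_univ, true_and, Set.mem_ofPred_eq]
      have := pow_card_eq_one' (x := (⟨x, hx⟩ : C))
      rw [hC] at this
      exact congrArg Subtype.val this
    · rw [Set.ncard_coe_finset]
      have h1 := IsCyclic.card_pow_eq_one_le (α := E) hn0
      have h2 : (C : Set E).ncard = n := by rw [← hC]; rfl
      rw [h2]; exact h1
    · exact Set.toFinite _
  exact SetLike.coe_injective ((key A rfl).trans (key B h.symm).symm)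

/-- Elements of order `p` in a cyclic subgroup generate the same subgroup. -/
theorem mem_zpowers_of_orderOf {G : Type*} [Group G] [Finite G] {p : ℕ} (P : Subgroup G)
    [IsCyclic ↥P] {u v : G} (hu : u ∈ P) (hv : v ∈ P) (hou : orderOf u = p) (hov : orderOf v = p) :
    v ∈ zpowers u := by
  have h1 : zpowers (⟨u, hu⟩ : ↥P) = zpowers (⟨v, hv⟩ : ↥P) := by
    apply eq_of_card_eq
    rw [Nat.card_zpowers, Nat.card_zpowers, ← Subgroup.orderOf_coe, ← Subgroup.orderOf_coe]
    simp [hou, hov]
  have h2 : (⟨v, hv⟩ : ↥P) ∈ zpowers (⟨u, hu⟩ : ↥P) := by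
    rw [h1]; exact mem_zpowers _
  obtain ⟨j, hj⟩ := h2
  exact ⟨j, by simpa using congrArg Subtype.val hj⟩

theorem exists_orderOf_eq {G : Type*} [Group G] [Finite G] {p : ℕ} [Fact p.Prime] {A : Subgroup G}
    (hA : IsPGroup p A) (hne : A ≠ ⊥) : ∃ u ∈ A, orderOf u = p := by
  have h1 : p ∣ Nat.card A := by
    rcases hA.card_eq_or_dvd with h | h
    · exact absurd ((Subgroup.card_eq_one).mp h) hne
    · exact h
  obtain ⟨u, hu⟩ := exists_prime_orderOf_dvd_card' p h1
  exact ⟨u, u.2, by rw [← hu, Subgroup.orderOf_coe]⟩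

/-- Two nontrivial subgroups of a cyclic `p`-group meet nontrivially. -/
theorem exists_mem_inf {G : Type*} [Group G] [Finite G] {p : ℕ} [hp : Fact p.Prime] (P : Subgroup G)
    [IsCyclic ↥P] (hP : IsPGroup p P) {A B : Subgroup G} (hA : A ≤ P) (hB : B ≤ P) (hA1 : A ≠ ⊥)
    (hB1 : B ≠ ⊥) : ∃ z, z ≠ 1 ∧ z ∈ A ∧ z ∈ B := by
  obtain ⟨u, huA, hu⟩ := exists_orderOf_eq (hP.to_le hA) hA1
  obtain ⟨v, hvB, hv⟩ := exists_orderOf_eq (hP.to_le hB) hB1
  refine ⟨v, ?_, ?_, hvB⟩
  · rintro rfl
    rw [orderOf_one] at hv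
    exact hp.out.one_lt.ne hv
  · exact (zpowers_le.mpr huA) (mem_zpowers_of_orderOf P (hA huA) (hB hvB) hu hv)

/-- Transfer: a central element of a perfect group lying in an abelian Sylow subgroup is trivial. -/
theorem eq_one_of_perfect {L : Type*} [Group L] [Finite L] {p : ℕ} [Fact p.Prime]
    (hL : Group.IsPerfect L) (S : Sylow p L)
    (hS : ∀ a ∈ (S : Subgroup L), ∀ b ∈ (S : Subgroup L), a * b = b * a) {z : L}
    (hzc : z ∈ center L) (hzS : z ∈ (S : Subgroup L)) : z = 1 := by
  classical
  letI : CommGroup ↥(S : Subgroup L) :=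
    { (inferInstance : Group ↥(S : Subgroup L)) with
      mul_comm := fun a b => Subtype.ext (hS a a.2 b b.2) }
  set ϕ : ↥(S : Subgroup L) →* ↥(S : Subgroup L) := MonoidHom.id _ with hϕ
  have key : ∀ (k : ℕ) (g₀ : L), g₀⁻¹ * z ^ k * g₀ ∈ (S : Subgroup L) →
      g₀⁻¹ * z ^ k * g₀ = z ^ k := by
    intro k g₀ _
    have h1 : z ^ k ∈ center L := Subgroup.pow_mem _ hzc k
    rw [mul_assoc, ← mem_center_iff.mp h1 g₀, inv_mul_cancel_left]
  have h1 := MonoidHom.transfer_eq_pow ϕ z key
  have h2 : MonoidHom.transfer ϕ z = 1 :=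
    Abelianization.commutator_subset_ker (MonoidHom.transfer ϕ) (by
      rw [hL.commutator_eq_top]; exact mem_top z)
  rw [h2] at h1
  have h3 : z ^ (S : Subgroup L).index = 1 := by
    have h4 := congrArg Subtype.val h1.symm
    simpa [hϕ] using h4
  obtain ⟨k, hk⟩ := S.isPGroup' ⟨z, hzS⟩
  have h5 : orderOf z ∣ p ^ k := by
    apply orderOf_dvd_of_pow_eq_one
    exact congrArg Subtype.val hk
  have h6 : Nat.Coprime (S : Subgroup L).index (orderOf z) := by
    apply Nat.Coprime.coprime_dvd_right h5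
    apply Nat.Coprime.pow_right
    exact ((Nat.Prime.coprime_iff_not_dvd Fact.out).mpr S.not_dvd_index).symm
  obtain ⟨m, hm⟩ := exists_pow_eq_self_of_coprime h6
  rw [← hm, h3, one_pow]

/-- A perfect group of order divisible by `p` has no normal `p`-complement. -/
theorem not_hasNormalPComplement {L : Type*} [Group L] [Finite L] {p : ℕ} [Fact p.Prime]
    (hL : Group.IsPerfect L) (hp : p ∣ Nat.card L) : ¬ HasNormalPComplement p L := by
  intro h
  obtain ⟨N, hN, hcop, k, hk⟩ := Cfsg.Agent.Lib.Lead.hasNormalPComplement_iff.mp h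
  haveI := hN
  have h1 : IsPGroup p (L ⧸ N) := IsPGroup.of_card (n := k) (by rw [← hk]; rfl)
  haveI : Group.IsNilpotent (L ⧸ N) := h1.isNilpotent
  have h2 : Subsingleton (L ⧸ N) := by
    by_contra hns
    rw [not_subsingleton_iff_nontrivial] at hns
    haveI := hns
    exact Group.IsPerfect.not_isNilpotent (L ⧸ N) inferInstance
  have h3 : N = ⊤ := by
    rw [eq_top_iff]
    intro x _
    rw [← QuotientGroup.eq_one_iff]
    exact Subsingleton.elim _ _
  rw [h3, Subgroup.card_top] at hcop
  exact (Nat.Prime.coprime_iff_not_dvd Fact.out).mp hcop.symm hp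

theorem orderOf_conj' {G : Type*} [Group G] (g x : G) : orderOf (g * x * g⁻¹) = orderOf x :=
  orderOf_injective (MulAut.conj g).toMonoidHom (MulAut.conj g).injective x

/-- Let K be a finite group, p a prime dividing its order with O_{p'}(K) = 1 (no nontrivial normal subgroup of order prime to p), and P a cyclic Sylow p-subgroup of K. Then either P is normal and self-centralizing in K with K/P cyclic of order dividing p − 1 (so K is the semidirect product of P by a group of automorphisms of P of order dividing p − 1), or the generalized Fitting subgroup F*(K) is a non-abelian simple group and p does not divide the index of F*(K) in K. -/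
theorem result {K : Type*} [Group K] [Finite K] (p : ℕ) [Fact p.Prime] (hp : p ∣ Nat.card K) (hO : Cfsg.pPrimeCore p K = ⊥)
    (P : Sylow p K) (hP : IsCyclic ↥(P : Subgroup K)) :
    ((P : Subgroup K).Normal ∧ Subgroup.centralizer ((P : Subgroup K) : Set K) = (P : Subgroup K) ∧
      (∀ (_ : (P : Subgroup K).Normal), IsCyclic (K ⧸ (P : Subgroup K))) ∧ (P : Subgroup K).index ∣ p - 1) ∨
    (IsSimpleGroup ↥(Cfsg.generalizedFittingSubgroup K) ∧ ¬ IsMulCommutative ↥(Cfsg.generalizedFittingSubgroup K) ∧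
      ¬ p ∣ (Cfsg.generalizedFittingSubgroup K).index) := by
  classical
  have hp' : p.Prime := Fact.out
  haveI := hP
  have hPp : IsPGroup p (P : Subgroup K) := P.isPGroup'
  have hcomm : ∀ a ∈ (P : Subgroup K), ∀ b ∈ (P : Subgroup K), a * b = b * a := by
    intro a ha b hb
    letI := IsCyclic.commGroup (α := ↥(P : Subgroup K))
    exact congrArg Subtype.val (mul_comm (⟨a, ha⟩ : ↥(P : Subgroup K)) ⟨b, hb⟩)
  obtain ⟨⟨x, hxP⟩, hx⟩ := IsCyclic.exists_generator (α := ↥(P : Subgroup K))
  have hgen : ∀ y ∈ (P : Subgroup K), y ∈ zpowers x := by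
    intro y hy
    obtain ⟨j, hj⟩ := hx ⟨y, hy⟩
    exact ⟨j, by simpa using congrArg Subtype.val hj⟩
  obtain ⟨n, hn⟩ := hPp ⟨x, hxP⟩
  have hxn : x ^ (p ^ n) = 1 := congrArg Subtype.val hn
  have hexk : ∀ a ∈ normalizer ((P : Subgroup K) : Set K), ∃ k : ℕ, a * x * a⁻¹ = x ^ k := by
    intro a ha
    have h1 : a * x * a⁻¹ ∈ (P : Subgroup K) := (mem_normalizer_iff.mp ha x).mp hxP
    obtain ⟨k, hk⟩ := (mem_powers_iff_mem_zpowers).mpr (hgen _ h1)
    exact ⟨k, hk.symm⟩
  have hcx : ∀ a : K, a * x * a⁻¹ = x → a ∈ centralizer ((P : Subgroup K) : Set K) := by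
    intro a ha
    have h1 : Commute a x := by
      have : a * x = x * a := by
        calc a * x = (a * x * a⁻¹) * a := by group
          _ = x * a := by rw [ha]
      exact this
    rw [mem_centralizer_iff]
    intro y hy
    obtain ⟨j, rfl⟩ := hgen y hy
    exact ((h1.zpow_right j).eq).symm
  have hcent : ∀ a ∈ normalizer ((P : Subgroup K) : Set K), (orderOf a).Coprime p →
      ∀ u ∈ (P : Subgroup K), orderOf u = p → a * u * a⁻¹ = u →
      a ∈ centralizer ((P : Subgroup K) : Set K) := by
    intro a ha hao u hu huo hau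
    obtain ⟨k, hk⟩ := hexk a ha
    obtain ⟨j, hj⟩ := hgen u hu
    have hj' : x ^ j = u := hj
    have h1 : u ^ k = u ^ 1 := by
      calc u ^ k = (x ^ j) ^ k := by rw [hj']
        _ = (x ^ k) ^ j := by
            rw [← zpow_natCast, ← zpow_natCast, ← zpow_mul, ← zpow_mul, mul_comm]
        _ = a * x ^ j * a⁻¹ := by rw [← hk, conj_zpow]
        _ = u ^ 1 := by rw [hj', hau, pow_one]
    have h2 := (pow_eq_pow_iff_modEq (x := u)).mp h1
    rw [huo] at h2
    have h3 : (p : ℤ) ∣ (k : ℤ) - 1 := by
      have := (Nat.modEq_iff_dvd.mp h2.symm)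
      simpa using this
    exact hcx a (conj_eq_self hxn hao hk h3)
  by_cases hE : layer K = ⊥
  · left
    have hF : generalizedFittingSubgroup K = pCore p K :=
      Cfsg.Agent.Lib.Helper23.genFitting_eq_pCore p hO hE
    have hC : centralizer (pCore p K : Set K) ≤ pCore p K := by
      have := Cfsg.Agent.Lib.Helper31.centralizer_genFitting_le (G := K)
      rwa [hF] at this
    have hQP : pCore p K ≤ P := Cfsg.Agent.Lib.Lead.pCore_le_sylow P
    have hPQ : (P : Subgroup K) ≤ pCore p K := by
      intro y hy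
      apply hC
      rw [mem_centralizer_iff]
      intro h hh
      exact hcomm h (hQP hh) y hy
    have hPeq : (P : Subgroup K) = pCore p K := le_antisymm hPQ hQP
    have hPn : (P : Subgroup K).Normal := by
      rw [hPeq]; exact Cfsg.Agent.Lib.Lead.pCore_normal' p K
    have hCP : centralizer ((P : Subgroup K) : Set K) = (P : Subgroup K) := by
      apply le_antisymm
      · have := hC
        rwa [← hPeq] at this
      · intro y hy
        rw [mem_centralizer_iff]
        intro h hh
        exact hcomm h hh y hy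
    have hnorm : ∀ a : K, a ∈ normalizer ((P : Subgroup K) : Set K) := by
      intro a
      rw [normalizer_eq_top_iff.mpr hPn]
      exact mem_top a
    obtain ⟨u, huP, huo⟩ := exists_orderOf_eq hPp (P.ne_bot_of_dvd_card hp)
    have hNn : (zpowers u).Normal := by
      constructor
      intro y hy g
      obtain ⟨j, rfl⟩ := hy
      have h1 : g * u * g⁻¹ ∈ zpowers u :=
        mem_zpowers_of_orderOf (P : Subgroup K) huP (hPn.conj_mem u huP g) huo
          (by rw [orderOf_conj', huo])
      change g * u ^ j * g⁻¹ ∈ zpowers u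
      rw [← conj_zpow]
      exact zpow_mem h1 j
    have hNc : Nat.card (zpowers u) = p := by rw [Nat.card_zpowers, huo]
    obtain ⟨⟨g, hg⟩, hidx⟩ := Cfsg.Agent.S3025.index_centralizer (zpowers u) (by rw [hNc]; exact hp')
    rw [hNc] at hidx
    have hPC : (P : Subgroup K) ≤ centralizer ((zpowers u : Subgroup K) : Set K) := by
      intro y hy
      rw [mem_centralizer_iff]
      intro h hh
      exact hcomm h ((zpowers_le.mpr huP) hh) y hy
    have hq : ∀ q : ℕ, q.Prime → q ∣ Nat.card (centralizer ((zpowers u : Subgroup K) : Set K)) →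
        q = p := by
      intro q hq hdvd
      by_contra hne
      haveI := Fact.mk hq
      obtain ⟨c, hc⟩ := exists_prime_orderOf_dvd_card' q hdvd
      have hco : orderOf (c : K) = q := by rw [Subgroup.orderOf_coe]; exact hc
      have h0 : (c : K) * u * (c : K)⁻¹ = u := by
        have := mem_centralizer_iff.mp c.2 u (mem_zpowers u)
        rw [← this, mul_inv_cancel_right]
      have h1 : (c : K) ∈ centralizer ((P : Subgroup K) : Set K) :=
        hcent c (hnorm c) (by rw [hco]; exact (Nat.coprime_primes hq hp').mpr hne) u huP huo h0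
      rw [hCP] at h1
      obtain ⟨k, hk⟩ := hPp ⟨c, h1⟩
      have h2 : orderOf (c : K) ∣ p ^ k := orderOf_dvd_of_pow_eq_one (congrArg Subtype.val hk)
      rw [hco] at h2
      exact hne ((Nat.prime_dvd_prime_iff_eq hq hp').mp (hq.dvd_of_dvd_pow h2))
    have hCcard := Nat.eq_prime_pow_of_unique_prime_dvd (p := p)
      (n := Nat.card (centralizer ((zpowers u : Subgroup K) : Set K))) Nat.card_pos.ne'
      (fun {d} hd hdvd => hq d hd hdvd)
    have hCp : IsPGroup p (centralizer ((zpowers u : Subgroup K) : Set K)) := IsPGroup.of_card hCcard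
    have hCeq : centralizer ((zpowers u : Subgroup K) : Set K) = (P : Subgroup K) :=
      P.is_maximal' hCp hPC
    rw [hCeq] at hidx hg
    refine ⟨hPn, hCP, ?_, hidx⟩
    intro hn'
    rw [isCyclic_iff_exists_zpowers_eq_top]
    refine ⟨QuotientGroup.mk' (P : Subgroup K) g, ?_⟩
    rw [← MonoidHom.map_zpowers, eq_top_iff, ← Subgroup.map_top_of_surjective
      (QuotientGroup.mk' (P : Subgroup K)) (QuotientGroup.mk'_surjective _), ← hg, Subgroup.map_sup,
      QuotientGroup.map_mk'_self, bot_sup_eq]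
  · right
    obtain ⟨L, hL⟩ : ∃ L : Subgroup K, IsComponent L := by
      by_contra hcon
      push Not at hcon
      apply hE
      rw [eq_bot_iff]
      exact sSup_le fun M hM => absurd hM (hcon M)
    have key1 : ∀ M : Subgroup K, IsComponent M → ∀ z ∈ (P : Subgroup K) ⊓ M,
        z ∈ centralizer (M : Set K) → z = 1 := by
      intro M hM z hz hzc
      have hS := Cfsg.Agent.Lib.Helper23.isSylowIn_inf_of_subnormal P hM.1
      have h1 := eq_one_of_perfect (L := ↥M) hM.2.1 hS.toSylow (z := ⟨z, hz.2⟩) ?_ ?_ ?_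
      · exact congrArg Subtype.val h1
      · intro a ha b hb
        rw [Cfsg.Agent.Lib.Helper72.IsSylowIn.coe_toSylow, mem_subgroupOf] at ha hb
        exact Subtype.ext (hcomm a ha.1 b hb.1)
      · rw [mem_center_iff]
        intro g
        exact Subtype.ext (mem_centralizer_iff.mp hzc g g.2)
      · rw [Cfsg.Agent.Lib.Helper72.IsSylowIn.coe_toSylow, mem_subgroupOf]
        exact hz
    have key2 : ∀ M : Subgroup K, IsComponent M → (P : Subgroup K) ⊓ M ≠ ⊥ := by
      intro M hM h
      apply Cfsg.Agent.Lib.Helper23.sylow_inf_component_not_le p hO hM P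
      rw [h]; exact bot_le
    have huniq : ∀ M : Subgroup K, IsComponent M → M = L := by
      intro M hM
      by_contra hne
      have h1 := Cfsg.Agent.Lib.Helper31.IsComponent.commutator_eq_bot_of_ne hM hL hne
      rw [Subgroup.commutator_eq_bot_iff_le_centralizer] at h1
      obtain ⟨z, hz1, hzL, hzM⟩ := exists_mem_inf (P : Subgroup K) hPp (A := (P : Subgroup K) ⊓ L)
        (B := (P : Subgroup K) ⊓ M) inf_le_left inf_le_left (key2 L hL) (key2 M hM)
      exact hz1 (key1 L hL z hzL (h1 hzM.2))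
    have hlayer : layer K = L := by
      apply le_antisymm
      · exact sSup_le fun M hM => (huniq M hM).le
      · exact Cfsg.Agent.Lib.Helper31.IsComponent.le_layer hL
    have hLn : L.Normal := by
      rw [← hlayer]; exact Cfsg.Agent.Lib.Helper31.layer_normal
    have hOp : pCore p K = ⊥ := by
      by_contra hne
      have hsolv : Group.IsSolvable ↥(pCore p K) := by
        haveI : Group.IsNilpotent ↥(pCore p K) := (Cfsg.Agent.Lib.Lead.pCore_isPGroup p K).isNilpotent
        infer_instance
      have hn : (pCore p K).Normal := Cfsg.Agent.Lib.Lead.pCore_normal' p K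
      have h1 := Cfsg.Agent.Lib.Helper31.IsComponent.commutator_eq_bot_of_isSolvable hL hsolv
        (by rw [normalizer_eq_top_iff.mpr hn]; exact le_top)
      rw [Subgroup.commutator_comm, Subgroup.commutator_eq_bot_iff_le_centralizer] at h1
      obtain ⟨z, hz1, hzL, hzM⟩ := exists_mem_inf (P : Subgroup K) hPp (A := (P : Subgroup K) ⊓ L)
        (B := pCore p K) inf_le_left (Cfsg.Agent.Lib.Lead.pCore_le_sylow P) (key2 L hL) hne
      exact hz1 (key1 L hL z hzL (h1 hzM))
    have hFit : fittingSubgroup K = ⊥ := by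
      rw [Cfsg.Agent.Lib.Helper1.fittingSubgroup_eq_iSup_pCore, eq_bot_iff]
      have := Cfsg.Agent.Lib.Helper1.iSup_pCore_le_sup (G := K) p hp'
      rwa [hOp, hO, sup_bot_eq] at this
    have hFs : generalizedFittingSubgroup K = L := by
      unfold generalizedFittingSubgroup; rw [hFit, sup_bot_eq, hlayer]
    rw [hFs]
    haveI hperf : Group.IsPerfect ↥L := hL.2.1
    haveI hnt : Nontrivial ↥L :=
      (Subgroup.nontrivial_iff_ne_bot L).mpr (Cfsg.Agent.Lib.Helper31.IsComponent.ne_bot hL)
    have hZ : center ↥L = ⊥ := by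
      rw [eq_bot_iff]
      intro z hz
      have h1 : (z : K) ∈ L ⊓ centralizer (L : Set K) := by
        refine Subgroup.mem_inf.mpr ⟨z.2, ?_⟩
        rw [mem_centralizer_iff]
        intro h hh
        exact congrArg Subtype.val (mem_center_iff.mp hz ⟨h, hh⟩)
      have h2 := Cfsg.Agent.Lib.Helper31.IsComponent.inf_centralizer_le_pCore p hO hL h1
      rw [hOp, mem_bot] at h2
      rw [mem_bot]
      exact Subtype.ext h2
    refine ⟨?_, Group.IsPerfect.not_isMulCommutative ↥L, ?_⟩
    · haveI := hL.2.2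
      have hbij : Function.Bijective (QuotientGroup.mk' (center ↥L)) := by
        refine ⟨?_, QuotientGroup.mk'_surjective _⟩
        rw [← MonoidHom.ker_eq_bot_iff, QuotientGroup.ker_mk', hZ]
      exact (MulEquiv.ofBijective (QuotientGroup.mk' (center ↥L)) hbij).isSimpleGroup
    · have hPL : (P : Subgroup K) ≤ L := by
        by_contra hPL
        have hSy := Cfsg.Agent.Lib.Helper72.sylow_isSylowIn P (H := L ⊔ (P : Subgroup K)) le_sup_right
        have hmap : ((hSy.toSylow : Subgroup ↥(L ⊔ (P : Subgroup K))).map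
            (L ⊔ (P : Subgroup K)).subtype : Subgroup K) = (P : Subgroup K) := by
          rw [Cfsg.Agent.Lib.Helper72.IsSylowIn.coe_toSylow]
          exact Subgroup.map_subgroupOf_eq_of_le le_sup_right
        -- some element of `LP` normalizes but does not centralize `P`
        obtain ⟨a, haH, haN, haC⟩ : ∃ a ∈ L ⊔ (P : Subgroup K),
            a ∈ normalizer ((P : Subgroup K) : Set K) ∧ a ∉ centralizer ((P : Subgroup K) : Set K) := by
          by_contra hcon
          push Not at hcon
          have h1 := Cfsg.Agent.Lib.Helper69.burnside_in_subgroup (L ⊔ (P : Subgroup K)) hSy.toSylow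
            (by rw [hmap]; exact hcon)
          have h2 := Cfsg.Agent.Lib.Helper34.hasNormalPComplement_of_le
            (le_sup_left : L ≤ L ⊔ (P : Subgroup K)) h1
          exact not_hasNormalPComplement hperf
            (Cfsg.Agent.Lib.Helper23.dvd_card_of_isComponent p hO hL) h2
        -- pass to the `p'`-part
        obtain ⟨b, hbH, hbN, hbC, hbo⟩ : ∃ b ∈ L ⊔ (P : Subgroup K),
            b ∈ normalizer ((P : Subgroup K) : Set K) ∧ b ∉ centralizer ((P : Subgroup K) : Set K) ∧
            (orderOf b).Coprime p := by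
          set o := orderOf a with ho
          have ho0 : o ≠ 0 := (orderOf_pos a).ne'
          set e := o.factorization p with he
          have hcop : Nat.Coprime (p ^ e) (o / p ^ e) := Nat.coprime_ordCompl hp' ho0 |>.pow_left e
          refine ⟨a ^ (p ^ e), pow_mem haH _, pow_mem haN _, ?_, ?_⟩
          · intro hbC
            apply haC
            have h1 : a ^ (o / p ^ e) ∈ (P : Subgroup K) := by
              have h2 : IsPGroup p (zpowers (a ^ (o / p ^ e))) := by
                apply IsPGroup.of_card (n := e)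
                rw [Nat.card_zpowers, orderOf_pow_of_dvd (Nat.div_pos
                  (Nat.le_of_dvd (Nat.pos_of_ne_zero ho0) (Nat.ordProj_dvd o p))
                    (pow_pos hp'.pos e)).ne' (Nat.div_dvd_of_dvd (Nat.ordProj_dvd o p)), ← ho]
                exact Nat.div_div_self (Nat.ordProj_dvd o p) ho0
              have h3 := h2.inf_normalizer_sylow P
              have h4 : a ^ (o / p ^ e) ∈ zpowers (a ^ (o / p ^ e)) ⊓
                  normalizer ((P : Subgroup K) : Set K) :=
                Subgroup.mem_inf.mpr ⟨mem_zpowers _, pow_mem haN _⟩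
              have h5 : a ^ (o / p ^ e) ∈ zpowers (a ^ (o / p ^ e)) ⊓ (P : Subgroup K) := h3 ▸ h4
              exact (Subgroup.mem_inf.mp h5).2
            have h2 : a ^ (o / p ^ e) ∈ centralizer ((P : Subgroup K) : Set K) := by
              rw [mem_centralizer_iff]
              intro h hh
              exact hcomm h hh _ h1
            have h3 : IsCoprime ((p ^ e : ℕ) : ℤ) ((o / p ^ e : ℕ) : ℤ) :=
              Nat.isCoprime_iff_coprime.mpr hcop
            obtain ⟨r, s, hrs⟩ := h3
            have h4 : a = (a ^ (p ^ e)) ^ r * (a ^ (o / p ^ e)) ^ s := by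
              rw [← zpow_natCast, ← zpow_natCast, ← zpow_mul, ← zpow_mul, ← zpow_add]
              have : ((p ^ e : ℕ) : ℤ) * r + ((o / p ^ e : ℕ) : ℤ) * s = 1 := by
                rw [← hrs]; ring
              rw [this, zpow_one]
            rw [h4]
            exact mul_mem (zpow_mem hbC r) (zpow_mem h2 s)
          · rw [orderOf_pow_of_dvd (pow_ne_zero e hp'.ne_zero) (Nat.ordProj_dvd o p), ← ho]
            exact (Nat.coprime_ordCompl hp' ho0).symm
        obtain ⟨k, hk⟩ := hexk b hbN
        have hk1 : ¬ (p : ℤ) ∣ (k : ℤ) - 1 := by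
          intro h
          exact hbC (hcx b (conj_eq_self hxn hbo hk h))
        have h1 := mem_zpowers_comm hxn hk hk1
        have h2 : b * x * b⁻¹ * x⁻¹ ∈ L := by
          obtain ⟨l, hl, s, hs, rfl⟩ := (Subgroup.mem_sup_of_normal_left).mp hbH
          have h3 : l * s * x * (l * s)⁻¹ * x⁻¹ = l * (x * l⁻¹ * x⁻¹) := by
            have h4 : s * x = x * s := hcomm s hs x hxP
            calc l * s * x * (l * s)⁻¹ * x⁻¹ = l * (s * x) * s⁻¹ * l⁻¹ * x⁻¹ := by group
              _ = l * (x * s) * s⁻¹ * l⁻¹ * x⁻¹ := by rw [h4]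
              _ = l * (x * l⁻¹ * x⁻¹) := by group
          rw [h3]
          exact mul_mem hl (hLn.conj_mem _ (inv_mem hl) x)
        apply hPL
        intro y hy
        exact (zpowers_le.mpr ((zpowers_le.mpr h2) h1)) (hgen y hy)
      intro hdvd
      exact P.not_dvd_index (hdvd.trans (Subgroup.index_dvd_of_le hPL))

end Cfsg.Agent.S4403
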