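import Cfsg.Statements.S5432
import Cfsg.Agent.Lib.Helper90.ESOut4

set_option autoImplicit false
open Cfsg

namespace Cfsg.Agent.S5432

open Cfsg.Agent.Lib.Helper90

theorem not_pRankLE_of {E : Type*} [Group E] {k l : ℕ} (hkl : k < l)
    (h : ∃ A : Subgroup E, Cfsg.IsElementaryAbelian 2 A ∧ Nat.card A = 2 ^ l) :
    ¬ Cfsg.PRankLE 2 k E := by
  obtain ⟨A, hA, hc⟩ := h
  intro hk
  have h1 := hk A hA.1 hA.2
  rw [hc] at h1
  have := Nat.pow_lt_pow_right (a := 2) (by norm_num) hkl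
  omega

/-- Let E be an extraspecial 2-group of order 2^(2n+1), n ≥ 1. -/
theorem result {E : Type*} [Group E] [Finite E] (hE : Cfsg.IsExtraspecial 2 E) (n : ℕ) (hn : 1 ≤ n) (hcard : Nat.card E = 2 ^ (2 * n + 1)) : ((∃ A : Subgroup E, Cfsg.IsElementaryAbelian 2 A ∧ Nat.card ↥A = 2 ^ (n + 1)) → Nonempty (Cfsg.Out E ≃* Cfsg.isometryGroup (ZMod 2) (Cfsg.quadFormPlus n (ZMod 2)))) ∧ ((¬ ∃ A : Subgroup E, Cfsg.IsElementaryAbelian 2 A ∧ Nat.card ↥A = 2 ^ (n + 1)) → Nonempty (Cfsg.Out E ≃* Cfsg.isometryGroup (ZMod 2) (Cfsg.quadFormMinus (n - 1) (ZMod 2) 1 1))) := by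
  refine ⟨?_, ?_⟩
  · intro hA
    have hN : Nat.card {x : E // x ^ 2 = 1} = 2 ^ (2 * n) + 2 ^ n := by
      rcases rank_of_isExtraspecial hE n hcard with ⟨h1, -, -⟩ | ⟨-, -, h2, -⟩
      · exact h1
      · exact absurd h2 (not_pRankLE_of (Nat.lt_succ_self n) hA)
    obtain ⟨e⟩ := nonempty_mulEquiv_of_isExtraspecial hE
      (HE.isExtraspecial (ε := fun _ : Fin n => (0 : ZMod 2)) hn)
      (hcard.trans HE.card_HE.symm) (hN.trans (HE.count_plus (fun _ => rfl)).symm)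
    obtain ⟨e1⟩ := nonempty_out_congr (e.trans (hePlusEquiv n))
    obtain ⟨e2⟩ := BE.nonempty_out_equiv (fPlus_nd n)
    rw [fPlus_diag] at e2
    exact ⟨e1.trans e2⟩
  · intro hA
    obtain ⟨m, rfl⟩ : ∃ m, n = m + 1 := ⟨n - 1, by omega⟩
    have hN : Nat.card {x : E // x ^ 2 = 1} + 2 ^ (m + 1) = 2 ^ (2 * (m + 1)) := by
      rcases rank_of_isExtraspecial hE (m + 1) hcard with ⟨-, -, h1⟩ | ⟨-, h2, -, -⟩
      · exact absurd h1 hA
      · exact h2
    have h0 : epsMinus m ⟨0, hn⟩ = 1 := by simp [epsMinus]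
    have h1 : ∀ j : Fin (m + 1), 1 ≤ j.val → epsMinus m j = 0 := by
      intro j hj
      have : j.val ≠ 0 := by omega
      simp [epsMinus, this]
    have hN' := HE.count_minus hn h0 h1
    obtain ⟨e⟩ := nonempty_mulEquiv_of_isExtraspecial hE
      (HE.isExtraspecial (ε := epsMinus m) hn)
      (hcard.trans HE.card_HE.symm) (by omega)
    obtain ⟨e1⟩ := nonempty_out_congr (e.trans (heMinusEquiv m))
    obtain ⟨e2⟩ := BE.nonempty_out_equiv (fMinus_nd m)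
    rw [fMinus_diag] at e2
    rw [Nat.add_sub_cancel]
    exact ⟨e1.trans e2⟩

end Cfsg.Agent.S5432
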