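import Cfsg.Statements.S4413
import Cfsg.Agent.S5432
import Cfsg.Agent.S0824

set_option autoImplicit false
open Cfsg

namespace Cfsg.Agent.S4413

theorem ker_conj {G : Type*} [Group G] : (MulAut.conj : G →* MulAut G).ker = Subgroup.center G := by
  ext g
  rw [MonoidHom.mem_ker, Subgroup.mem_center_iff]
  constructor
  · intro h x
    have := congrArg (fun φ : MulAut G => φ x) h
    simp only [MulAut.conj_apply, MulAut.one_apply] at this
    rw [mul_inv_eq_iff_eq_mul] at this
    exact this.symm
  · intro h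
    ext x
    rw [MulAut.conj_apply, MulAut.one_apply, mul_inv_eq_iff_eq_mul]
    exact (h x).symm

theorem result {P : Type*} [Group P] [Finite P]
    (hex : Cfsg.IsExtraspecial 2 P) (h32 : Nat.card P = 32)
    (hminus : ∀ A : Subgroup P, Cfsg.IsElementaryAbelian 2 A → Nat.card ↥A ≤ 4)
    [(MulAut.conj : P →* MulAut P).range.Normal] :
    Nat.card ↥(MulAut.conj : P →* MulAut P).range = 16 ∧ Nat.card (MulAut P) = 1920 ∧
      Nonempty ((MulAut P ⧸ (MulAut.conj : P →* MulAut P).range) ≃* Equiv.Perm (Fin 5)) := by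
  have hinn : Nat.card ↥(MulAut.conj : P →* MulAut P).range = 16 := by
    have h1 := Nat.card_congr
      (QuotientGroup.quotientKerEquivRange (MulAut.conj : P →* MulAut P)).toEquiv
    have h2 := Subgroup.card_eq_card_quotient_mul_card_subgroup (MulAut.conj : P →* MulAut P).ker
    have h3 : Nat.card (MulAut.conj : P →* MulAut P).ker = 2 := by
      rw [ker_conj]; exact hex.2
    rw [h32, h3, h1] at h2
    omega
  have hno : ¬ ∃ A : Subgroup P, Cfsg.IsElementaryAbelian 2 A ∧ Nat.card ↥A = 2 ^ (2 + 1) := by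
    rintro ⟨A, hA, hc⟩
    have := hminus A hA
    rw [hc] at this
    norm_num at this
  obtain ⟨e1⟩ := (Cfsg.Agent.S5432.result hex 2 (by norm_num) (by rw [h32]; norm_num)).2 hno
  obtain ⟨e2⟩ := Cfsg.Agent.S0824.result (F := ZMod 2) (by simp)
  have e : (MulAut P ⧸ (MulAut.conj : P →* MulAut P).range) ≃* Equiv.Perm (Fin 5) := e1.trans e2
  refine ⟨hinn, ?_, ⟨e⟩⟩
  have h1 := Subgroup.card_eq_card_quotient_mul_card_subgroup (MulAut.conj : P →* MulAut P).range
  rw [hinn, Nat.card_congr e.toEquiv, Nat.card_perm] at h1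
  rw [h1]
  simp [Nat.factorial]

end Cfsg.Agent.S4413
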