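import Cfsg.Statements.S4419
import Cfsg.Agent.Lib.Helper64.MetaData
import Cfsg.Agent.Lib.Helper2.PGroupFrattini
import Cfsg.Agent.Lib.Lead.Residual
import Cfsg.Agent.S0071
import Cfsg.Agent.S4208
import Cfsg.Agent.S3886

set_option autoImplicit false
open Cfsg

namespace Cfsg.Agent.S4419

open Cfsg.Agent.Lib.Helper64 Cfsg.Agent.Lib.Lead Subgroup

theorem frattini_index_le {Q : Type*} [Group Q] [Finite Q] {p : ℕ} [hp : Fact p.Prime]
    (hQ : IsPGroup p Q) (hmc : Cfsg.IsMetacyclic Q) : ∃ r ≤ 2, (frattini Q).index = p ^ r := by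
  obtain ⟨a, b, κ, m, k, n, D⟩ := exists_metaData hQ hmc
  obtain ⟨N, hN⟩ := hQ.exists_card_eq
  obtain ⟨r, _, hr⟩ := (Nat.dvd_prime_pow hp.out).1 (hN ▸ (frattini Q).index_dvd_card)
  refine ⟨r, ?_, hr⟩
  have hle : (frattini Q).index ≤ p ^ 2 := by
    rw [index_eq_card]
    let f : Fin p × Fin p → Q ⧸ frattini Q := fun x => QuotientGroup.mk (a ^ (x.1 : ℕ) * b ^ (x.2 : ℕ))
    have hf : Function.Surjective f := by
      intro y
      obtain ⟨g, rfl⟩ := QuotientGroup.mk_surjective y
      obtain ⟨j, i, rfl⟩ := D.gen g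
      refine ⟨(⟨j % p, Nat.mod_lt _ hp.out.pos⟩, ⟨i % p, Nat.mod_lt _ hp.out.pos⟩), ?_⟩
      have ha : (QuotientGroup.mk a : Q ⧸ frattini Q) ^ p = 1 := by
        rw [← QuotientGroup.mk_pow, QuotientGroup.eq_one_iff]
        exact Cfsg.Agent.Lib.Helper2.pow_p_mem_frattini hQ a
      have hb : (QuotientGroup.mk b : Q ⧸ frattini Q) ^ p = 1 := by
        rw [← QuotientGroup.mk_pow, QuotientGroup.eq_one_iff]
        exact Cfsg.Agent.Lib.Helper2.pow_p_mem_frattini hQ b
      simp only [f, QuotientGroup.mk_mul, QuotientGroup.mk_pow]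
      rw [← pow_eq_pow_mod j ha, ← pow_eq_pow_mod i hb]
    have := Nat.card_le_card_of_surjective f hf
    simpa [sq] using this
  rw [hr] at hle
  exact (Nat.pow_le_pow_iff_right hp.out.one_lt).1 hle

theorem pPrimePCore_normal' (p : ℕ) (G : Type*) [Group G] : (Cfsg.pPrimePCore p G).Normal := by
  unfold Cfsg.pPrimePCore
  infer_instance

theorem prime_dvd_of_dvd_card_mulAut {Q : Type*} [Group Q] [Finite Q] {p : ℕ} [hp : Fact p.Prime]
    (hQ : IsPGroup p Q) (hmc : Cfsg.IsMetacyclic Q) {q : ℕ} (hq : q.Prime) (hqp : q ≠ p)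
    (hdvd : q ∣ Nat.card (MulAut Q)) : q ∣ p ^ 2 - 1 := by
  obtain ⟨r, hr2, hr⟩ := frattini_index_le hQ hmc
  obtain ⟨N, hN⟩ := hQ.exists_card_eq
  have h1 := hdvd.trans (Cfsg.Agent.S4208.result hN hr)
  have hnp : ¬ q ∣ p := fun h => hqp ((Nat.prime_dvd_prime_iff_eq hq hp.out).1 h)
  have h2 : q ∣ ∏ i ∈ Finset.range r, (p ^ r - p ^ i) := by
    rcases (Nat.Prime.dvd_mul hq).1 h1 with h | h
    · exact absurd (hq.dvd_of_dvd_pow h) hnp
    · exact h
  have hfac : p ^ 2 - 1 = (p - 1) * (p + 1) := by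
    have := hp.out.pos
    obtain ⟨c, rfl⟩ : ∃ c, p = c + 1 := ⟨p - 1, by omega⟩
    simp only [Nat.add_sub_cancel]
    have : (c + 1) ^ 2 = c * (c + 1 + 1) + 1 := by ring
    omega
  interval_cases r
  · simp at h2
    exact absurd h2 hq.one_lt.ne'
  · simp at h2
    rw [hfac]; exact Dvd.dvd.mul_right h2 _
  · simp [Finset.prod_range_succ] at h2
    rcases (Nat.Prime.dvd_mul hq).1 h2 with h | h
    · exact h
    · have h3 : p ^ 2 - p = p * (p - 1) := by
        rw [Nat.mul_sub, sq, mul_one]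
      rw [h3] at h
      rcases (Nat.Prime.dvd_mul hq).1 h with h | h
      · exact absurd h hnp
      · rw [hfac]; exact Dvd.dvd.mul_right h _

/-- Let p be a prime and G a finite group whose Sylow p-subgroups are metacyclic (a cyclic normal subgroup with cyclic quotient). Then G has a normal p-complement if and only if the order of G/O_{p′,p}(G) is coprime to p² − 1. -/
theorem result {G : Type*} [Group G] [Finite G] (p : ℕ) [Fact p.Prime] (S : Sylow p G) (hS : Cfsg.IsMetacyclic ↥(S : Subgroup G)) : Cfsg.HasNormalPComplement p G ↔ Nat.Coprime (Nat.card (G ⧸ Cfsg.pPrimePCore p G)) (p ^ 2 - 1) := by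
  have hpp : p.Prime := Fact.out
  constructor
  · intro h
    obtain ⟨k, hk⟩ := hasNormalPComplement_iff_index_pPrimeCore.1 h
    have h1 : IsPGroup p (G ⧸ Cfsg.pPrimeCore p G) := by
      apply IsPGroup.of_card (n := k)
      rw [← index_eq_card, hk]
    have h2 : Cfsg.pPrimePCore p G = ⊤ := by
      unfold Cfsg.pPrimePCore
      rw [pCore_eq_top_iff.2 h1, comap_top]
    rw [← index_eq_card, h2, index_top]
    exact Nat.coprime_one_left _
  · intro hcop
    by_contra hno
    have h1 : ¬ ∀ Q : Subgroup G, Q ≤ (S : Subgroup G) → ∀ g ∈ Subgroup.normalizer (Q : Set G),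
        Nat.Coprime (orderOf g) p → g ∈ Subgroup.centralizer (Q : Set G) := by
      intro h
      obtain ⟨N, hN, hc⟩ := (Cfsg.Agent.S0071.result S).2 h
      exact hno ⟨S, N, hN, hc⟩
    push Not at h1
    obtain ⟨Q, hQS, g, hgN, hgp, hgC⟩ := h1
    have hQp : IsPGroup p ↥Q := S.2.to_le hQS
    have hQm : Cfsg.IsMetacyclic ↥Q := by
      have h2 := Cfsg.Agent.S3886.isMetacyclic_subgroup hS (Q.subgroupOf (S : Subgroup G))
      obtain ⟨N, hN, hNc, hQc⟩ := h2
      let e : ↥(Q.subgroupOf (S : Subgroup G)) ≃* ↥Q := subgroupOfEquivOfLe hQS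
      refine ⟨N.map e.toMonoidHom, ?_, ?_, ?_⟩
      · exact hN.map _ e.surjective
      · exact isCyclic_of_surjective (e.subgroupMap N) (e.subgroupMap N).surjective
      · have : (N.map e.toMonoidHom).Normal := hN.map _ e.surjective
        let e2 := QuotientGroup.congr N (N.map e.toMonoidHom) e rfl
        exact isCyclic_of_surjective e2 e2.surjective
    set α := Q.normalizerMonoidHom ⟨g, hgN⟩ with hα
    have hpowα : ∀ j : ℕ, g ^ j ∈ centralizer (Q : Set G) → α ^ j = 1 := by
      intro j hj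
      rw [hα, ← map_pow, ← MonoidHom.mem_ker, normalizerMonoidHom_ker, mem_subgroupOf]
      exact hj
    have hα1 : α ≠ 1 := by
      intro h
      apply hgC
      have : (⟨g, hgN⟩ : normalizer (Q : Set G)) ∈ Q.normalizerMonoidHom.ker := h
      rw [normalizerMonoidHom_ker, mem_subgroupOf] at this
      exact this
    have ht1 : orderOf α ≠ 1 := by
      rw [Ne, orderOf_eq_one_iff]; exact hα1
    have htg : orderOf α ∣ orderOf g := by
      have := orderOf_map_dvd Q.normalizerMonoidHom (⟨g, hgN⟩ : normalizer (Q : Set G))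
      rwa [Subgroup.orderOf_mk] at this
    set q := (orderOf α).minFac with hq
    have hqprime : q.Prime := Nat.minFac_prime ht1
    have hqt : q ∣ orderOf α := Nat.minFac_dvd _
    have hqp : q ≠ p := by
      intro h
      have h3 : p ∣ orderOf g := h ▸ hqt.trans htg
      have := Nat.Coprime.eq_one_of_dvd hgp.symm h3
      exact hpp.one_lt.ne' this
    have hq1 : q ∣ p ^ 2 - 1 :=
      prime_dvd_of_dvd_card_mulAut hQp hQm hqprime hqp (hqt.trans (orderOf_dvd_natCard α))
    have hKn := pPrimePCore_normal' p G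
    have hq2 : q ∣ Nat.card (G ⧸ Cfsg.pPrimePCore p G) := by
      refine Dvd.dvd.trans ?_ (orderOf_dvd_natCard (QuotientGroup.mk g : G ⧸ Cfsg.pPrimePCore p G))
      set s := orderOf (QuotientGroup.mk g : G ⧸ Cfsg.pPrimePCore p G) with hs
      have h3 : g ^ s ∈ Cfsg.pPrimePCore p G := by
        rw [← QuotientGroup.eq_one_iff, QuotientGroup.mk_pow, hs, pow_orderOf_eq_one]
      unfold Cfsg.pPrimePCore at h3
      rw [mem_comap] at h3
      obtain ⟨k, hk⟩ := (pCore_isPGroup p (G ⧸ Cfsg.pPrimeCore p G)) ⟨_, h3⟩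
      have hk' : (QuotientGroup.mk' (Cfsg.pPrimeCore p G) (g ^ s)) ^ p ^ k = 1 :=
        congrArg Subtype.val hk
      rw [QuotientGroup.mk'_apply, ← QuotientGroup.mk_pow, QuotientGroup.eq_one_iff, ← pow_mul] at hk'
      have hcent : g ^ (s * p ^ k) ∈ centralizer (Q : Set G) := by
        rw [mem_centralizer_iff]
        intro u hu
        have hyN : g ^ (s * p ^ k) ∈ normalizer (Q : Set G) := Subgroup.pow_mem _ hgN _
        set y := g ^ (s * p ^ k) with hy
        have h4 : y * u * y⁻¹ * u⁻¹ ∈ Q :=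
          Q.mul_mem ((mem_normalizer_iff.1 hyN u).1 hu) (Q.inv_mem hu)
        have h5 : y * u * y⁻¹ * u⁻¹ ∈ Cfsg.pPrimeCore p G := by
          have hn : (Cfsg.pPrimeCore p G).Normal := inferInstance
          have := (Cfsg.pPrimeCore p G).mul_mem hk' (hn.conj_mem _ ((Cfsg.pPrimeCore p G).inv_mem hk') u)
          simpa [mul_assoc] using this
        have h6 : Q ⊓ Cfsg.pPrimeCore p G = ⊥ := by
          apply inf_eq_bot_of_coprime
          obtain ⟨c, hc⟩ := hQp.exists_card_eq
          rw [hc]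
          exact Nat.Coprime.pow_left _ (card_pPrimeCore_coprime p).symm
        have h7 : y * u * y⁻¹ * u⁻¹ = 1 := by
          have : y * u * y⁻¹ * u⁻¹ ∈ Q ⊓ Cfsg.pPrimeCore p G := ⟨h4, h5⟩
          rwa [h6, mem_bot] at this
        calc u * y = (y * u * y⁻¹ * u⁻¹)⁻¹ * (y * u) := by group
          _ = y * u := by rw [h7]; simp
      have h8 := orderOf_dvd_of_pow_eq_one (hpowα _ hcent)
      have h9 := hqt.trans h8
      rcases (Nat.Prime.dvd_mul hqprime).1 h9 with h | h
      · exact h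
      · exact absurd ((Nat.prime_dvd_prime_iff_eq hqprime hpp).1 (hqprime.dvd_of_dvd_pow h)) hqp
    have := Nat.eq_one_of_dvd_coprimes hcop hq2 hq1
    exact hqprime.one_lt.ne' this

end Cfsg.Agent.S4419
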