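import Cfsg.Statements.S4492
import Cfsg.Agent.Lib.Helper16.PPrimeBlock
import Cfsg.Agent.S0629
import Cfsg.Agent.Lib.Helper69.PSolv
import Cfsg.Agent.Lib.Helper54.PConstrained
import Cfsg.Agent.Lib.Helper82.PrincipalBlock
-- import your own Cfsg.Agent.* helpers here

set_option autoImplicit false
open Cfsg Cfsg.Agent.Lib.Helper78 Cfsg.Agent.Lib.Helper16 Cfsg.Agent.Lib

namespace Cfsg.Agent.S4492

/-- Let G be a finite p-solvable group, N = O_{p'}(G) its largest normal subgroup of order prime to p, and θ an irreducible character of N invariant under conjugation by G; fix a maximal ideal M of the algebraic integers containing p. Then the irreducible characters of G lying over θ (those whose restriction to N contains θ) form a single p-block of G, and the defect groups of that block are exactly the Sylow p-subgroups of G. -/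
theorem result {G : Type*} [Group G] [Fintype G] (p : ℕ) [Fact p.Prime] (M : Ideal Cfsg.AlgInt) (hM : Cfsg.IsPModular p M) (hsolv : Cfsg.IsPSolvable p G) (N : Subgroup G) [hN : N.Normal] [Fintype N] (hNdef : N = Cfsg.pPrimeCore p G) (θ : Cfsg.IrrCharacter N) (hinv : ∀ (g : G) (n : N), (θ : N → ℂ) ⟨g * n * g⁻¹, hN.conj_mem n n.2 g⟩ = (θ : N → ℂ) n) : ∃ B : Set (Cfsg.IrrCharacter G), Cfsg.IsPBlock M B ∧ (∀ χ : Cfsg.IrrCharacter G, χ ∈ B ↔ Cfsg.classInner (fun n : N => (χ : G → ℂ) n) (θ : N → ℂ) ≠ 0) ∧ (∀ P : Sylow p G, Cfsg.IsDefectGroup p M B (P : Subgroup G)) ∧ ∀ D : Subgroup G, Cfsg.IsDefectGroup p M B D → ∃ P : Sylow p G, D = (P : Subgroup G) := by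
  classical
  subst hNdef
  have hp := hM.1
  have hNK : pPrimeCore p G ≤ pPrimePCore p G := Helper54.pPrimeCore_le_pPrimePCore p G
  have hNp : ¬ p ∣ Nat.card (pPrimeCore p G) := Helper82.not_dvd_card_pPrimeCore p
  have hidx : ∃ k : ℕ, ((pPrimeCore p G).subgroupOf (pPrimePCore p G)).index = p ^ k := by
    obtain ⟨k, hk⟩ := (Lead.pCore_isPGroup p (G ⧸ pPrimeCore p G)).exists_card_eq
    refine ⟨k, ?_⟩
    have h1 := ((pPrimeCore p G).subgroupOf (pPrimePCore p G)).index_mul_card
    rw [card_subgroupOf_of_le hNK] at h1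
    have h2 : Nat.card (pPrimePCore p G) =
        Nat.card (pPrimeCore p G) * Nat.card (pCore p (G ⧸ pPrimeCore p G)) :=
      Lead.card_comap_mk' _ _
    rw [h2, hk, mul_comm] at h1
    exact Nat.eq_of_mul_eq_mul_left Nat.card_pos h1
  have hcon : IsPConstrained p G := by
    obtain P : Sylow p ↥(pPrimePCore p G) := default
    exact Cfsg.Agent.S0629.result P (Helper69.isPSolvable_subgroup _ hsolv)
  obtain ⟨B, hB, hmem, hd⟩ := block_over_invariant hM (pPrimeCore p G) (pPrimePCore p G) hNK hNp hidx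
    (fun Q hQ => hcon (Sylow.ofCard Q hQ)) θ
    (fun g => Subtype.ext (funext fun n => hinv g n))
  obtain ⟨h1, h2⟩ := isDefectGroup_sylow_of_full_defect hM hB hd
  exact ⟨B, hB, hmem, h1, h2⟩

end Cfsg.Agent.S4492
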