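import Mathlib
import Cfsg.Agent.Lib.Helper4.PSolvHeightB
import Cfsg.Agent.Lib.Helper35.FirstMainExt
import Cfsg.Agent.Lib.Helper35.BlockNormal2
import Cfsg.Agent.Lib.Helper69.PSolv
import Cfsg.Agent.Lib.Helper16.DefectAPI
import Cfsg.Agent.S4492
import Cfsg.Agent.S4435
import Cfsg.Agent.S4436
import Cfsg.Statements.S4439

set_option autoImplicit false
open Cfsg

namespace Cfsg.Agent.S4439

open Cfsg.Agent.Lib Cfsg.Agent.Lib.Helper78 in
theorem main.{u} (p : ℕ) [Fact p.Prime] (M : Ideal Cfsg.AlgInt) (hM : Cfsg.IsPModular p M) :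
    ∀ (n : ℕ) (G : Type u) [Group G] [Finite G], Nat.card G = n → Cfsg.IsPSolvable p G →
      ∀ (B : Set (Cfsg.IrrCharacter G)), Cfsg.IsPBlock M B → ∀ (P : Subgroup G),
      Cfsg.IsDefectGroup p M B P → ∀ χ : Cfsg.IrrCharacter G, χ ∈ B →
      Cfsg.blockHeight p B (χ : G → ℂ) ≤ ((Subgroup.center P).index).factorization p := by
  intro n
  induction n using Nat.strong_induction_on with
  | _ n ih =>
  intro G _ _ hn hsol B hB P hP χ hχ
  classical
  cases nonempty_fintype G
  have hMp := pmod_isPrime hM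
  have : Fintype (pPrimeCore p G) := Fintype.ofFinite _
  have hNp : ¬ p ∣ Nat.card (pPrimeCore p G) := by
    intro h
    exact (Nat.Prime.coprime_iff_not_dvd Fact.out).1 (Lead.card_pPrimeCore_coprime p).symm h
  -- a constituent of the restriction
  have hres : IsCharacter (pPrimeCore p G) (fun x : pPrimeCore p G => (χ : G → ℂ) x) :=
    Helper15.char_restrict (Helper15.irr_char χ.2) _
  have hres0 : (fun x : pPrimeCore p G => (χ : G → ℂ) x) ≠ 0 := by
    intro h
    exact Helper15.irr_one_ne_zero χ.2 (congrFun h 1)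
  obtain ⟨θ₀, hθ₀, hχθ⟩ := Helper15.exists_constituent hres hres0
  obtain ⟨θ, hθ⟩ : ∃ θ : IrrCharacter (pPrimeCore p G), θ = ⟨θ₀, hθ₀⟩ := ⟨_, rfl⟩
  have hθv : (θ : pPrimeCore p G → ℂ) = θ₀ := by rw [hθ]
  rw [← hθv] at hχθ
  have hb : IsPBlock M ({θ} : Set (IrrCharacter (pPrimeCore p G))) :=
    ⟨θ, (Helper35.blockOf_eq_singleton_of_not_dvd hM hNp θ).symm⟩
  obtain ⟨T, hTdef⟩ : ∃ T : Subgroup G, T = Helper15.inertia (pPrimeCore p G) (θ : pPrimeCore p G → ℂ) :=
    ⟨_, rfl⟩
  have hNT : pPrimeCore p G ≤ T := by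
    rw [hTdef]; exact Helper15.le_inertia _ (Helper15.irr_cf θ.2)
  have hT : ∀ g : G, g ∈ T ↔ ∀ θ₁ ∈ ({θ} : Set (IrrCharacter (pPrimeCore p G))),
      ∀ θ' : IrrCharacter (pPrimeCore p G),
      (∀ n : pPrimeCore p G, (θ' : pPrimeCore p G → ℂ) n = (θ₁ : pPrimeCore p G → ℂ)
        ⟨g * n * g⁻¹, (inferInstance : (pPrimeCore p G).Normal).conj_mem n n.2 g⟩) →
      θ' ∈ ({θ} : Set (IrrCharacter (pPrimeCore p G))) := by
    intro g
    rw [hTdef, Helper15.mem_inertia]
    constructor
    · intro hg θ₁ hθ₁ θ' h'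
      rw [Set.mem_singleton_iff] at hθ₁ ⊢
      subst hθ₁
      apply Subtype.ext
      rw [← hg]
      funext n
      exact h' n
    · intro h
      have := h θ rfl ⟨Helper15.cj (pPrimeCore p G) g (θ : pPrimeCore p G → ℂ),
        Helper15.irr_cj _ g θ.2⟩ (fun n => rfl)
      rw [Set.mem_singleton_iff] at this
      exact congrArg Subtype.val this
  by_cases hTtop : T = ⊤
  · -- invariant case
    have hinv : ∀ (g : G) (n : pPrimeCore p G), (θ : pPrimeCore p G → ℂ)
        ⟨g * n * g⁻¹, (inferInstance : (pPrimeCore p G).Normal).conj_mem n n.2 g⟩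
          = (θ : pPrimeCore p G → ℂ) n := by
      intro g n
      have hg : g ∈ T := by rw [hTtop]; exact Subgroup.mem_top g
      rw [hTdef, Helper15.mem_inertia] at hg
      exact congrFun hg n
    obtain ⟨B₀, hB₀, hmem, -, hsyl⟩ := Cfsg.Agent.S4492.result p M hM hsol (pPrimeCore p G) rfl θ hinv
    have hBB : B = B₀ := IsPBlock.eq_of_mem_mem hMp hB hB₀ hχ ((hmem χ).2 hχθ)
    obtain ⟨P', rfl⟩ := hsyl P (hBB ▸ hP)
    exact (Nat.sub_le _ _).trans (Helper4.val_degree_le_of_invariant p hsol θ hinv χ hχθ P')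
  · -- Fong-Reynolds reduction
    have : Fintype T := Fintype.ofFinite _
    obtain ⟨h1, -, h3⟩ := Cfsg.Agent.S4435.result p M hM (pPrimeCore p G) {θ} hb T hT hNT
    obtain ⟨B', hB', hcov', hind⟩ := h3 B hB ⟨χ, hχ, θ, rfl, hχθ⟩
    obtain ⟨B₁, hind₁, -, -, hmem⟩ := h1 B' hB' hcov'
    have hB1 : B₁ = B := Helper35.IsInducedBlock.unique T hMp hind₁ hind
    subst hB1
    obtain ⟨ψ, hψ, hχψ⟩ := (hmem χ).1 hχ
    obtain ⟨hdef, hheight⟩ := Cfsg.Agent.S4436.result p M hM (pPrimeCore p G) {θ} hb T hT hNT B' hB'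
      hcov' B₁ hind
    obtain ⟨χ', -, hχ', hh⟩ := hheight ψ hψ
    rw [hχψ, ← hχ', hh]
    obtain ⟨D', hD'⟩ := Helper16.exists_isDefectGroup hM hB'
    have hlt : Nat.card T < n := by
      rw [← hn]
      rcases (Subgroup.card_le_card_group T).lt_or_eq with h | h
      · exact h
      · exact absurd (Subgroup.eq_top_of_card_eq T h) hTtop
    have hih := ih (Nat.card T) hlt T rfl (Helper69.isPSolvable_subgroup T hsol) B' hB' D' hD' ψ hψ
    refine hih.trans (le_of_eq ?_)
    obtain ⟨x, hx⟩ := Helper16.IsDefectGroup.exists_conj_eq hM hB (hdef D' hD') hP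
    have e1 : D' ≃* (D'.map T.subtype) := D'.equivMapOfInjective _ T.subtype_injective
    have e2 : (D'.map T.subtype) ≃* (Helper16.cj x (D'.map T.subtype)) :=
      (D'.map T.subtype).equivMapOfInjective _ (MulAut.conj x).injective
    have e3 : D' ≃* P := by
      rw [hx]; exact e1.trans e2
    have c1 : Nat.card D' = Nat.card P := Nat.card_congr e3.toEquiv
    have c2 : Nat.card (Subgroup.center D') = Nat.card (Subgroup.center P) :=
      Nat.card_congr (Subgroup.centerCongr e3).toEquiv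
    have i1 := (Subgroup.center D').index_mul_card
    have i2 := (Subgroup.center P).index_mul_card
    rw [c1, c2, ← i2] at i1
    rw [Nat.eq_of_mul_eq_mul_right Nat.card_pos i1]

/-- Let G be a finite p-solvable group and B a p-block of G with defect group P (relative to a maximal ideal M of the algebraic integers containing p). Then the height of every irreducible character in B is at most the exponent of p in the index of the centre of P in P. -/
theorem result {G : Type*} [Group G] [Finite G] (p : ℕ) [Fact p.Prime] (M : Ideal Cfsg.AlgInt) (hM : Cfsg.IsPModular p M) (hsolv : Cfsg.IsPSolvable p G) (B : Set (Cfsg.IrrCharacter G)) (hB : Cfsg.IsPBlock M B) (P : Subgroup G) (hP : Cfsg.IsDefectGroup p M B P) (χ : Cfsg.IrrCharacter G) (hχ : χ ∈ B) : Cfsg.blockHeight p B (χ : G → ℂ) ≤ ((Subgroup.center P).index).factorization p := by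
  exact main p M hM _ G rfl hsolv B hB P hP χ hχ

end Cfsg.Agent.S4439
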