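import Cfsg.Statements.S4477
import Cfsg.Agent.S1337
import Cfsg.Agent.S4400
import Cfsg.Agent.Lib.Helper73.MaxClass2
import Cfsg.Agent.Lib.Helper73.Cyc2Normal
import Cfsg.Agent.Lib.Helper75.ClassSum

set_option autoImplicit false
open Cfsg

namespace Cfsg.Agent.S4477

open Cfsg.Agent.Lib.Helper73

/-- a function on a 2-group invariant under left multiplication by two different non-identity
elements has sum divisible by four -/
theorem four_dvd_sum {G : Type*} [Group G] [Fintype G] (hG : IsPGroup 2 G) (f : G → ℤ) (y z : G)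
    (hy1 : y ≠ 1) (hz1 : z ≠ 1) (hyz : y ≠ z) (hy : ∀ x, f (y * x) = f x)
    (hz : ∀ x, f (z * x) = f x) : (4 : ℤ) ∣ ∑ x, f x := by
  let Γ : Subgroup G :=
    { carrier := {γ | ∀ x, f (γ * x) = f x}
      one_mem' := by intro x; simp
      mul_mem' := by
        intro a b ha hb x
        rw [mul_assoc, ha, hb]
      inv_mem' := by
        intro a ha x
        have := ha (a⁻¹ * x)
        rw [mul_inv_cancel_left] at this
        exact this.symm }
  have h := Cfsg.Agent.Lib.Helper75.orbit_sum_dvd (Γ := Γ) f (fun γ w => γ.2 w) 4 ?_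
  · exact_mod_cast h
  · intro w; right
    have h1 : (MulAction.orbit Γ w).ncard = Nat.card Γ := by
      apply Set.ncard_range_of_injective
      intro a b hab
      apply Subtype.ext
      exact mul_right_cancel (show (a : G) * w = b * w from hab)
    rw [h1]
    obtain ⟨j, hj⟩ := (hG.to_subgroup Γ).exists_card_eq
    rw [hj]
    have hyΓ : y ∈ Γ := hy
    have hzΓ : z ∈ Γ := hz
    have hj2 : 2 ≤ j := by
      by_contra hlt
      have : j = 0 ∨ j = 1 := by omega
      rcases this with rfl | rfl
      · rw [pow_zero, Nat.card_eq_one_iff_unique] at hj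
        have := hj.1.elim (⟨y, hyΓ⟩ : Γ) 1
        exact hy1 (congrArg Subtype.val this)
      · rw [pow_one, Nat.card_eq_two_iff' (1 : Γ)] at hj
        obtain ⟨b, -, hb⟩ := hj
        have e1 := hb ⟨y, hyΓ⟩ (fun h => hy1 (congrArg Subtype.val h))
        have e2 := hb ⟨z, hzΓ⟩ (fun h => hz1 (congrArg Subtype.val h))
        exact hyz (congrArg Subtype.val (e1.trans e2.symm))
    exact (show 4 = 2 ^ 2 by norm_num) ▸ pow_dvd_pow 2 hj2

/-- a 2-group which is neither cyclic nor of maximal class has a normal four-group -/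
theorem exists_data {G : Type*} [Group G] [Finite G] (hG : IsPGroup 2 G) (hnc : ¬ IsCyclic G)
    (hidx : (commutator G).index ≠ 4) :
    ∃ z u : G, z ∈ Subgroup.center G ∧ z ≠ 1 ∧ z * z = 1 ∧ u * u = 1 ∧ u ≠ 1 ∧ u ≠ z ∧
      ∀ g : G, g * u * g⁻¹ = u ∨ g * u * g⁻¹ = z * u := by
  have hp : Fact (Nat.Prime 2) := ⟨Nat.prime_two⟩
  have hnil : Group.IsNilpotent G := hG.isNilpotent
  obtain ⟨A, hAn, hAc, hCA⟩ :=
    Cfsg.Agent.Lib.Helper25.exists_normal_abelian_selfCentralizing (R := G)
  by_cases hcyc : IsCyclic A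
  · obtain ⟨a', ha'⟩ := hcyc
    obtain ⟨a, haA⟩ : ∃ a : G, a = a' := ⟨_, rfl⟩
    have hAeq : A = Subgroup.zpowers a := by
      apply le_antisymm
      · intro x hx
        obtain ⟨i, hi⟩ := Subgroup.mem_zpowers_iff.mp (ha' ⟨x, hx⟩)
        rw [Subgroup.mem_zpowers_iff]
        exact ⟨i, by rw [haA, ← Subgroup.coe_zpow, hi]⟩
      · rw [Subgroup.zpowers_le, haA]; exact a'.2
    have hcent : ∀ g : G, g * a = a * g → g ∈ Subgroup.zpowers a := by
      intro g hg
      rw [← hAeq]
      apply hCA
      rw [Subgroup.mem_centralizer_iff]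
      intro x hx
      rw [SetLike.mem_coe, hAeq] at hx
      obtain ⟨i, rfl⟩ := Subgroup.mem_zpowers_iff.mp hx
      exact ((Commute.zpow_right (show Commute g a from hg) i)).symm
    have hnorm : ∀ g : G, g * a * g⁻¹ ∈ Subgroup.zpowers a := by
      intro g
      rw [← hAeq]
      exact hAn.conj_mem a (by rw [hAeq]; exact Subgroup.mem_zpowers a) g
    have htop : Subgroup.zpowers a ≠ ⊤ := by
      intro htop
      apply hnc
      exact ⟨a, fun x => by
        have hx : x ∈ Subgroup.zpowers a := by rw [htop]; trivial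
        exact Subgroup.mem_zpowers_iff.mp hx⟩
    obtain ⟨x₀, hx₀⟩ : ∃ x₀ : G, x₀ ∉ Subgroup.zpowers a := by
      by_contra hcon
      push Not at hcon
      exact htop (eq_top_iff.mpr fun x _ => hcon x)
    obtain ⟨m, hm'⟩ := hG.exists_orderOf_eq_pow a
    have hm2 : 2 ≤ m := by
      by_contra hcon
      have ha2 : a ^ 2 = 1 := by
        have h1 : orderOf a ∣ 2 := by
          rw [hm']
          have : m = 0 ∨ m = 1 := by omega
          rcases this with rfl | rfl <;> norm_num
        exact orderOf_dvd_iff_pow_eq_one.mp h1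
      apply hx₀
      apply hcent
      rcases eq_one_or_eq_of_mem_zpowers ha2 (hnorm x₀) with h | h
      · have : a = 1 := by
          have h1 : a = x₀⁻¹ * (x₀ * a * x₀⁻¹) * x₀ := by group
          rw [h1, h]; group
        rw [this]; simp
      · calc x₀ * a = x₀ * a * x₀⁻¹ * x₀ := by group
          _ = a * x₀ := by rw [h]
    obtain ⟨k, rfl⟩ : ∃ k, m = k + 2 := ⟨m - 2, by omega⟩
    obtain ⟨M, hM⟩ : ∃ M, M = 2 ^ k := ⟨_, rfl⟩
    have hMpos : 0 < M := by rw [hM]; positivity
    have hoa : orderOf a = 4 * M := by rw [hm', hM]; ring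
    have ha4 : a ^ (4 * M) = 1 := by rw [← hoa]; exact pow_orderOf_eq_one a
    obtain ⟨c, hcdef⟩ : ∃ c, c = a ^ (2 * M) := ⟨_, rfl⟩
    have hc2 : c * c = 1 := by rw [hcdef, ← pow_add, ← ha4]; congr 1; ring
    have hc1 : c ≠ 1 := by
      rw [hcdef]; intro h1
      have := orderOf_dvd_of_pow_eq_one h1
      rw [hoa] at this
      have := Nat.le_of_dvd (by positivity) this
      omega
    have hcc : ∀ g : G, g * c * g⁻¹ = c := by
      intro g; rw [hcdef]
      exact conj_half a (2 * M) (by omega) (by rw [hoa]; ring) g (hnorm g)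
    have hcA : c ∈ Subgroup.zpowers a := by rw [hcdef]; exact Subgroup.npow_mem_zpowers a _
    rcases cyc2_normal_core hG a k M hM hoa hnorm hcent ⟨x₀, hx₀⟩ with
      ⟨hidx2, b, hb, h⟩ | ⟨hM2, b, hb, hb2, hba⟩
    · exfalso
      apply hidx
      rcases h with ⟨-, hba⟩ | ⟨-, hba⟩ | ⟨hM2, -, hba⟩
      · exact index_commutator_of_type a b k M hM hoa hidx2 (Or.inl hba)
      · exact index_commutator_of_type a b k M hM hoa hidx2 (Or.inl hba)
      · exact index_commutator_of_type a b k M hM hoa hidx2 (Or.inr ⟨hM2, hba⟩)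
    · refine ⟨c, b, ?_, hc1, hc2, by rw [← sq]; exact hb2, ?_, ?_, ?_⟩
      · rw [Subgroup.mem_center_iff]
        intro g
        exact mul_inv_eq_iff_eq_mul.mp (hcc g)
      · rintro rfl; exact hb (one_mem _)
      · rintro rfl; exact hb hcA
      · intro g
        rw [hcdef]
        exact conj_modular a b k M hM hM2 hoa hnorm hcent hb2 hba g
  · let _ : CommGroup A := { (inferInstance : Group A) with mul_comm := hAc.is_comm.comm }
    obtain ⟨r, c, d, hr, hc, hd, hcd⟩ := Cfsg.Agent.Lib.Helper52.exists_rank_two (A := A) hcyc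
    have hrp : r = 2 := by
      obtain ⟨k, hk⟩ := (hG.to_subgroup A).exists_orderOf_eq_pow d
      rw [hd] at hk
      have h1 : r ∣ 2 ^ k := by rw [← hk]
      exact (Nat.prime_dvd_prime_iff_eq hr hp.out).mp (hr.dvd_of_dvd_pow h1)
    subst hrp
    have hc1 : c ≠ 1 := by
      rintro rfl; exact hcd (one_mem _)
    have hoc : orderOf (c : G) = 2 := by rw [Subgroup.orderOf_coe]; exact orderOf_eq_prime hc hc1
    have hod : orderOf (d : G) = 2 := by rw [Subgroup.orderOf_coe]; exact hd
    have hcomm : ∀ x ∈ A, ∀ y ∈ A, x * y = y * x := fun x hx y hy =>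
      congrArg Subtype.val (hAc.is_comm.comm ⟨x, hx⟩ ⟨y, hy⟩)
    have hmul : ∀ x ∈ A, ∀ y ∈ A, (x * y) ^ 2 = x ^ 2 * y ^ 2 := fun x hx y hy =>
      (show Commute x y from hcomm x hx y hy).mul_pow 2
    have hcd' : (c : G) ∉ Subgroup.zpowers (d : G) := by
      intro h
      obtain ⟨i, hi⟩ := Subgroup.mem_zpowers_iff.mp h
      apply hcd
      rw [Subgroup.mem_zpowers_iff]
      exact ⟨i, Subtype.ext (by rw [Subgroup.coe_zpow, hi])⟩
    have hdA : Subgroup.zpowers (d : G) ≤ A := by rw [Subgroup.zpowers_le]; exact d.2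
    have hcard2 : Nat.card ↥(Subgroup.zpowers (c : G) ⊔ Subgroup.zpowers (d : G)) = 2 * 2 := by
      rw [Cfsg.Agent.S4023.card_sup_zpowers 2 hoc _ hcd', Nat.card_zpowers, hod]
      intro e he
      rw [hcomm c c.2 e (hdA he), mul_inv_cancel_right]; exact he
    have hN := Cfsg.Agent.Lib.Helper29.powKer_normal A 2 hmul
    have hle : Subgroup.zpowers (c : G) ⊔ Subgroup.zpowers (d : G)
        ≤ Cfsg.Agent.Lib.Helper29.powKer A 2 hmul := by
      apply sup_le <;> rw [Subgroup.zpowers_le]
      · exact ⟨c.2, by rw [← hoc]; exact pow_orderOf_eq_one _⟩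
      · exact ⟨d.2, by rw [← hod]; exact pow_orderOf_eq_one _⟩
    have hlt : 2 < Nat.card (Cfsg.Agent.Lib.Helper29.powKer A 2 hmul) := by
      have h1 := Subgroup.card_le_of_le hle
      rw [hcard2] at h1
      omega
    obtain ⟨z, v, -, hvN, hzc, hz, hvz, hv⟩ := Cfsg.Agent.S1337.normal_structure 2 hG _ hlt
    have hz2 : z ^ 2 = 1 := by rw [← hz]; exact pow_orderOf_eq_one z
    have hv2 : v ^ 2 = 1 := hvN.2
    have hvi : v⁻¹ = v := by
      rw [inv_eq_iff_mul_eq_one, ← sq]; exact hv2
    refine ⟨z, v, hzc, ?_, by rw [← sq]; exact hz2, by rw [← sq]; exact hv2, ?_, ?_, ?_⟩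
    · rintro rfl; rw [orderOf_one] at hz; omega
    · rintro rfl; exact hvz (one_mem _)
    · rintro rfl; exact hvz (Subgroup.mem_zpowers _)
    · intro g
      rcases eq_one_or_eq_of_mem_zpowers hz2 (hv g) with h | h
      · left
        have h1 : g * v * g⁻¹ = v⁻¹ * (v * g * v⁻¹ * g⁻¹) := by rw [hvi]; rw [← mul_assoc, ← mul_assoc, ← mul_assoc, ← sq, hv2, one_mul]
        rw [h1, h, mul_one, hvi]
      · right
        have h1 : g * v * g⁻¹ = v⁻¹ * (v * g * v⁻¹ * g⁻¹) := by rw [hvi]; rw [← mul_assoc, ← mul_assoc, ← mul_assoc, ← sq, hv2, one_mul]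
        rw [h1, h, hvi]
        exact Subgroup.mem_center_iff.mp hzc v

/-- twisting lemma -/
theorem tw {G : Type*} [Group G] (z : G) (hzg : ∀ g, g * z = z * g) (hz1 : z ≠ 1) (hzz : z * z = 1)
    (d k a : G) (hd : d * a = z * a * d) (hk : k * a = a * k ∨ k * a = z * a * k) :
    (d * k) * a ≠ a * (d * k) ↔ k * a = a * k := by
  constructor
  · intro h
    rcases hk with hk | hk
    · exact hk
    · exfalso; apply h
      calc d * k * a = d * (k * a) := by group
        _ = d * (z * a * k) := by rw [hk]
        _ = (d * z) * a * k := by group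
        _ = z * (d * a) * k := by rw [hzg d]; group
        _ = z * (z * a * d) * k := by rw [hd]
        _ = (z * z) * (a * (d * k)) := by group
        _ = a * (d * k) := by rw [hzz, one_mul]
  · intro hk' h
    apply hz1
    have h1 : d * k * a = z * (a * (d * k)) := by
      calc d * k * a = d * (k * a) := by group
        _ = d * (a * k) := by rw [hk']
        _ = (d * a) * k := by group
        _ = z * a * d * k := by rw [hd]
        _ = z * (a * (d * k)) := by group
    rw [h] at h1
    exact (mul_eq_right.mp h1.symm)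

theorem comm_or {G : Type*} [Group G] (z a : G)
    (hconj : ∀ g : G, g * a * g⁻¹ = a ∨ g * a * g⁻¹ = z * a) (k : G) :
    k * a = a * k ∨ k * a = z * a * k := by
  rcases hconj k with h | h
  · left; exact mul_inv_eq_iff_eq_mul.mp h
  · right; exact mul_inv_eq_iff_eq_mul.mp h

theorem index_centralizer_eq_two {G : Type*} [Group G] (z : G) (hzg : ∀ g, g * z = z * g)
    (hz1 : z ≠ 1) (hzz : z * z = 1) (u t : G) (htu : t * u = z * u * t)
    (hcu : ∀ g : G, g * u * g⁻¹ = u ∨ g * u * g⁻¹ = z * u) :
    (Subgroup.centralizer ({u} : Set G)).index = 2 := by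
  rw [Subgroup.index_eq_two_iff']
  refine ⟨t, fun b => ?_⟩
  have h := tw z hzg hz1 hzz t b u htu (comm_or z u hcu b)
  rw [Subgroup.mem_centralizer_singleton_iff, Subgroup.mem_centralizer_singleton_iff]
  by_cases hb : b * u = u * b
  · right
    exact ⟨hb, h.mpr hb⟩
  · left
    refine ⟨?_, hb⟩
    by_contra hcon
    exact hb (h.mp hcon)

/-- an element of the centralizer of the dihedral group which is central of order two modulo `z` -/
theorem exists_y {G : Type*} [Group G] [Finite G] (hG : IsPGroup 2 G)
    (hidx : (commutator G).index ≠ 4)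
    (z u t : G) (hzg : ∀ g, g * z = z * g) (hz1 : z ≠ 1) (hzz : z * z = 1)
    (htu : t * u = z * u * t) (hut : u * t = z * t * u)
    (hcu : ∀ g : G, g * u * g⁻¹ = u ∨ g * u * g⁻¹ = z * u)
    (hct : ∀ g : G, g * t * g⁻¹ = t ∨ g * t * g⁻¹ = z * t) :
    ∃ y : G, y * u = u * y ∧ y * t = t * y ∧ y ≠ 1 ∧ y ≠ z ∧ (y * y = 1 ∨ y * y = z) ∧
      ∀ g, y * g = g * y ∨ y * g = z * (g * y) := by
  have hp : Fact (Nat.Prime 2) := ⟨Nat.prime_two⟩
  have hnil : Group.IsNilpotent G := hG.isNilpotent
  have hz2 : z ^ 2 = 1 := by rw [sq]; exact hzz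
  have hoz : orderOf z = 2 := orderOf_eq_prime hz2 hz1
  obtain ⟨K, hK⟩ : ∃ K, K = Subgroup.centralizer ({u} : Set G) ⊓ Subgroup.centralizer ({t} : Set G) :=
    ⟨_, rfl⟩
  have hKmem : ∀ k, k ∈ K ↔ k * u = u * k ∧ k * t = t * k := by
    intro k
    rw [hK, Subgroup.mem_inf, Subgroup.mem_centralizer_singleton_iff,
      Subgroup.mem_centralizer_singleton_iff]
  have hnormal : ∀ (a : G), (∀ g : G, g * a * g⁻¹ = a ∨ g * a * g⁻¹ = z * a) →
      ∀ k g : G, k * a = a * k → (g * k * g⁻¹) * a = a * (g * k * g⁻¹) := by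
    intro a ha k g hk
    have h1 : k * (g⁻¹ * a * g) = (g⁻¹ * a * g) * k := by
      have h2 := ha g⁻¹
      rw [inv_inv] at h2
      rcases h2 with h2 | h2
      · rw [h2]; exact hk
      · rw [h2]
        calc k * (z * a) = (k * z) * a := by group
          _ = z * (k * a) := by rw [hzg k]; group
          _ = z * a * k := by rw [hk]; group
    calc g * k * g⁻¹ * a = g * (k * (g⁻¹ * a * g)) * g⁻¹ := by group
      _ = g * ((g⁻¹ * a * g) * k) * g⁻¹ := by rw [h1]
      _ = a * (g * k * g⁻¹) := by group
  have hKn : K.Normal := by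
    refine ⟨fun k hk g => ?_⟩
    rw [hKmem] at hk ⊢
    exact ⟨hnormal u hcu k g hk.1, hnormal t hct k g hk.2⟩
  have hzK : Subgroup.zpowers z ≤ K := by
    rw [Subgroup.zpowers_le, hKmem]
    exact ⟨(hzg u).symm, (hzg t).symm⟩
  have hne : Subgroup.zpowers z ≠ K := by
    intro heq
    apply hidx
    have h1 : K.index ≤ 2 * 2 := by
      have := Subgroup.index_inf_le (H := Subgroup.centralizer ({u} : Set G))
        (K := Subgroup.centralizer ({t} : Set G))
      rw [index_centralizer_eq_two z hzg hz1 hzz u t htu hcu,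
        index_centralizer_eq_two z hzg hz1 hzz t u hut hct, ← hK] at this
      exact this
    have h2 : Nat.card K = 2 := by rw [← heq, Nat.card_zpowers, hoz]
    have h3 := K.card_mul_index
    have hna : ∃ x y : G, x * y ≠ y * x := by
      refine ⟨t, u, fun h => hz1 ?_⟩
      rw [htu, mul_assoc] at h
      exact mul_eq_right.mp h
    obtain ⟨m, hm⟩ := sq_dvd_index_commutator hG hna
    have h4 := (commutator G).card_mul_index
    have h5 : 1 < Nat.card (commutator G) := by
      rw [Subgroup.one_lt_card_iff_ne_bot]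
      intro h
      obtain ⟨x, y, hxy⟩ := hna
      exact hxy (comm_of_commutator_eq_bot h x y)
    have h6 : (commutator G).index ≠ 0 := Subgroup.index_ne_zero_of_finite
    rw [h2] at h3
    have h7 : Nat.card G ≤ 8 := by rw [← h3]; omega
    rw [hm] at h4 h6 ⊢
    have hm1 : m ≠ 0 := by rintro rfl; simp at h6
    have hm2 : m < 2 := by
      by_contra hcon
      have : 2 * (2 ^ 2 * 2) ≤ Nat.card (commutator G) * (2 ^ 2 * m) :=
        Nat.mul_le_mul h5 (Nat.mul_le_mul_left _ (by omega))
      omega
    have : m = 1 := by omega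
    rw [this]; norm_num
  have hlt : Subgroup.zpowers z < K := lt_of_le_of_ne hzK hne
  obtain ⟨x, hxK, hxz, hx⟩ := Cfsg.Agent.Lib.Helper32.exists_central_mod_of_lt hlt
  have hx' : ∀ g, x * g = g * x ∨ x * g = z * (g * x) := by
    intro g
    have e : x * g = (x * g * x⁻¹ * g⁻¹) * (g * x) := by group
    rcases eq_one_or_eq_of_mem_zpowers hz2 (hx g) with h | h
    · left; rw [e, h, one_mul]
    · right; rw [e, h]
  by_cases hxx : x * x ∈ Subgroup.zpowers z
  · refine ⟨x, ((hKmem x).mp hxK).1, ((hKmem x).mp hxK).2, ?_, ?_,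
      eq_one_or_eq_of_mem_zpowers hz2 hxx, hx'⟩
    · rintro rfl; exact hxz (one_mem _)
    · rintro rfl; exact hxz (Subgroup.mem_zpowers _)
  · have hcen : ∀ g, (x * x) * g = g * (x * x) := by
      intro g
      rcases hx' g with h | h
      · calc x * x * g = x * (x * g) := by group
          _ = x * (g * x) := by rw [h]
          _ = (x * g) * x := by group
          _ = g * (x * x) := by rw [h]; group
      · calc x * x * g = x * (x * g) := by group
          _ = x * (z * (g * x)) := by rw [h]
          _ = (x * z) * g * x := by group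
          _ = z * (x * g) * x := by rw [hzg x]; group
          _ = z * (z * (g * x)) * x := by rw [h]
          _ = (z * z) * (g * (x * x)) := by group
          _ = g * (x * x) := by rw [hzz, one_mul]
    obtain ⟨k, hk1, hk2⟩ := Cfsg.Agent.S4400.exists_pow_not_mem_sq_mem hG _ (x * x) hxx
    have hcen' : ∀ g, (x * x) ^ k * g = g * (x * x) ^ k := by
      intro g
      exact ((show Commute (x * x) g from hcen g).pow_left k)
    refine ⟨(x * x) ^ k, hcen' u, hcen' t, ?_, ?_, ?_, fun g => Or.inl (hcen' g)⟩
    · intro h; rw [h] at hk1; exact hk1 (one_mem _)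
    · intro h; rw [h] at hk1; exact hk1 (Subgroup.mem_zpowers _)
    · rw [← sq]; exact eq_one_or_eq_of_mem_zpowers hz2 hk2

theorem bad_case {G : Type*} [Group G] [Fintype G] [DecidableEq G] (hG : IsPGroup 2 G)
    (hidx : (commutator G).index ≠ 4)
    (z u t : G) (hzg : ∀ g, g * z = z * g) (hz1 : z ≠ 1) (hzz : z * z = 1) (huu : u * u = 1)
    (htt : t * t = 1) (htu : t * u = z * u * t)
    (hcu : ∀ g : G, g * u * g⁻¹ = u ∨ g * u * g⁻¹ = z * u)
    (hct : ∀ g : G, g * t * g⁻¹ = t ∨ g * t * g⁻¹ = z * t) :
    (4 : ℤ) ∣ ∑ x : G, (if x * x = 1 ∧ x * u ≠ u * x then 1 else 0) := by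
  have hut : u * t = z * t * u := by
    calc u * t = (z * z) * (u * t) := by rw [hzz, one_mul]
      _ = z * (z * u * t) := by group
      _ = z * t * u := by rw [← htu]; group
  have hdu : (t * u) * u = z * u * (t * u) := by
    calc t * u * u = (z * u * t) * u := by rw [← htu]
      _ = z * u * (t * u) := by group
  have hdt : (t * u) * t = z * t * (t * u) := by
    calc t * u * t = t * (u * t) := by group
      _ = t * (z * t * u) := by rw [hut]
      _ = (t * z) * (t * u) := by group
      _ = z * t * (t * u) := by rw [hzg t]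
  have hdd : (t * u) * (t * u) = z := by
    calc t * u * (t * u) = (z * u * t) * (t * u) := by rw [← htu]
      _ = z * u * (t * t) * u := by group
      _ = z * (u * u) := by rw [htt]; group
      _ = z := by rw [huu, mul_one]
  have hsplit : ∀ x : G, (if x * x = 1 ∧ x * u ≠ u * x then (1 : ℤ) else 0) =
      (if (x * x = 1 ∧ x * u ≠ u * x) ∧ x * t = t * x then 1 else 0) +
      (if (x * x = 1 ∧ x * u ≠ u * x) ∧ x * t ≠ t * x then 1 else 0) := by
    intro x
    by_cases h1 : x * x = 1 ∧ x * u ≠ u * x <;> by_cases h2 : x * t = t * x <;> simp [h1, h2]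
  have e1 : ∑ x : G, (if (x * x = 1 ∧ x * u ≠ u * x) ∧ x * t = t * x then (1 : ℤ) else 0) =
      ∑ k : G, (if (k * u = u * k ∧ k * t = t * k) ∧ k * k = 1 then (1 : ℤ) else 0) := by
    rw [← Equiv.sum_comp (Equiv.mulLeft t)]
    apply Finset.sum_congr rfl
    intro k _
    apply if_congr _ rfl rfl
    simp only [Equiv.coe_mulLeft]
    have h1 : (t * k) * u ≠ u * (t * k) ↔ k * u = u * k :=
      tw z hzg hz1 hzz t k u htu (comm_or z u hcu k)
    have h2 : (t * k) * t = t * (t * k) ↔ k * t = t * k := by
      rw [mul_assoc, mul_left_cancel_iff]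
    have h3 : k * t = t * k → (t * k) * (t * k) = k * k := by
      intro h
      calc t * k * (t * k) = t * (k * t) * k := by group
        _ = t * (t * k) * k := by rw [h]
        _ = (t * t) * (k * k) := by group
        _ = k * k := by rw [htt, one_mul]
    rw [h1, h2]
    constructor
    · rintro ⟨⟨a, b⟩, c⟩; exact ⟨⟨b, c⟩, by rw [← h3 c]; exact a⟩
    · rintro ⟨⟨b, c⟩, a⟩; exact ⟨⟨by rw [h3 c]; exact a, b⟩, c⟩
  have e2 : ∑ x : G, (if (x * x = 1 ∧ x * u ≠ u * x) ∧ x * t ≠ t * x then (1 : ℤ) else 0) =
      ∑ k : G, (if (k * u = u * k ∧ k * t = t * k) ∧ k * k = z then (1 : ℤ) else 0) := by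
    rw [← Equiv.sum_comp (Equiv.mulLeft (t * u))]
    apply Finset.sum_congr rfl
    intro k _
    apply if_congr _ rfl rfl
    simp only [Equiv.coe_mulLeft]
    have h1 : (t * u * k) * u ≠ u * (t * u * k) ↔ k * u = u * k :=
      tw z hzg hz1 hzz (t * u) k u hdu (comm_or z u hcu k)
    have h2 : (t * u * k) * t ≠ t * (t * u * k) ↔ k * t = t * k :=
      tw z hzg hz1 hzz (t * u) k t hdt (comm_or z t hct k)
    have h3 : k * u = u * k → k * t = t * k → (t * u * k) * (t * u * k) = z * (k * k) := by
      intro hu ht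
      calc t * u * k * (t * u * k) = t * u * (k * t) * u * k := by group
        _ = t * u * (t * k) * u * k := by rw [ht]
        _ = t * u * t * (k * u) * k := by group
        _ = t * u * t * (u * k) * k := by rw [hu]
        _ = (t * u * (t * u)) * (k * k) := by group
        _ = z * (k * k) := by rw [hdd]
    have h4 : z * (k * k) = 1 ↔ k * k = z := by
      constructor
      · intro h
        calc k * k = (z * z) * (k * k) := by rw [hzz, one_mul]
          _ = z * (z * (k * k)) := by group
          _ = z := by rw [h, mul_one]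
      · intro h; rw [h, hzz]
    rw [h1, h2]
    constructor
    · rintro ⟨⟨a, b⟩, c⟩; exact ⟨⟨b, c⟩, by rw [← h4, ← h3 b c]; exact a⟩
    · rintro ⟨⟨b, c⟩, a⟩; exact ⟨⟨by rw [h3 b c, h4]; exact a, b⟩, c⟩
  have e3 : ∀ k : G, (if (k * u = u * k ∧ k * t = t * k) ∧ k * k = 1 then (1 : ℤ) else 0) +
      (if (k * u = u * k ∧ k * t = t * k) ∧ k * k = z then (1 : ℤ) else 0) =
      (if (k * u = u * k ∧ k * t = t * k) ∧ (k * k = 1 ∨ k * k = z) then (1 : ℤ) else 0) := by
    intro k
    by_cases hK : k * u = u * k ∧ k * t = t * k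
    · by_cases h1 : k * k = 1
      · have h2 : ¬ (1 : G) = z := fun h => hz1 h.symm
        simp [hK, h1, h2]
      · simp [hK, h1]
    · simp [hK]
  rw [Finset.sum_congr rfl (fun x _ => hsplit x), Finset.sum_add_distrib, e1, e2,
    ← Finset.sum_add_distrib, Finset.sum_congr rfl (fun x _ => e3 x)]
  obtain ⟨y, hyu, hyt, hy1, hyz, hyy, hyg⟩ :=
    exists_y hG hidx z u t hzg hz1 hzz htu hut hcu hct
  have hswap : ∀ v : G, (z * v = 1 ∨ z * v = z) ↔ (v = 1 ∨ v = z) := by
    intro v
    have h4 : z * v = 1 ↔ v = z := by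
      constructor
      · intro h
        calc v = (z * z) * v := by rw [hzz, one_mul]
          _ = z * (z * v) := by group
          _ = z := by rw [h, mul_one]
      · intro h; rw [h, hzz]
    rw [h4, mul_eq_left]
    exact Or.comm
  have hcomm_iff : ∀ (c a k : G), c * a = a * c → ((c * k) * a = a * (c * k) ↔ k * a = a * k) := by
    intro c a k hc
    have e : a * (c * k) = c * (a * k) := by rw [← mul_assoc, ← hc, mul_assoc]
    rw [e, mul_assoc, mul_left_cancel_iff]
  apply four_dvd_sum hG _ y z hy1 hz1 hyz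
  · intro k
    apply if_congr _ rfl rfl
    rw [hcomm_iff y u k hyu, hcomm_iff y t k hyt]
    apply and_congr_right
    intro _
    -- `(y k)(y k) = e (k k)` with `e ∈ {1, z}`
    have hky : k * y = y * k ∨ k * y = z * (y * k) := by
      rcases hyg k with h | h
      · left; exact h.symm
      · right
        rw [h, ← mul_assoc, hzz, one_mul]
    have he : (y * k) * (y * k) = k * k ∨ (y * k) * (y * k) = z * (k * k) := by
      rcases hky with h | h <;> rcases hyy with h' | h'
      · left
        calc y * k * (y * k) = y * (k * y) * k := by group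
          _ = y * (y * k) * k := by rw [h]
          _ = (y * y) * (k * k) := by group
          _ = k * k := by rw [h', one_mul]
      · right
        calc y * k * (y * k) = y * (k * y) * k := by group
          _ = y * (y * k) * k := by rw [h]
          _ = (y * y) * (k * k) := by group
          _ = z * (k * k) := by rw [h']
      · right
        calc y * k * (y * k) = y * (k * y) * k := by group
          _ = y * (z * (y * k)) * k := by rw [h]
          _ = (y * z) * y * (k * k) := by group
          _ = z * (y * y) * (k * k) := by rw [hzg y]; group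
          _ = z * (k * k) := by rw [h', mul_one]
      · left
        calc y * k * (y * k) = y * (k * y) * k := by group
          _ = y * (z * (y * k)) * k := by rw [h]
          _ = (y * z) * y * (k * k) := by group
          _ = z * (y * y) * (k * k) := by rw [hzg y]; group
          _ = k * k := by rw [h', hzz, one_mul]
    rcases he with h | h
    · rw [h]
    · rw [h]; exact hswap _
  · intro k
    apply if_congr _ rfl rfl
    rw [hcomm_iff z u k (hzg u).symm, hcomm_iff z t k (hzg t).symm]
    apply and_congr_right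
    intro _
    have h : (z * k) * (z * k) = k * k := by
      calc z * k * (z * k) = z * (k * z) * k := by group
        _ = z * (z * k) * k := by rw [hzg k]
        _ = (z * z) * (k * k) := by group
        _ = k * k := by rw [hzz, one_mul]
    rw [h]

theorem conj_comm {G : Type*} [Group G] (z : G) (hzg : ∀ g, g * z = z * g) (a : G)
    (ha : ∀ g : G, g * a * g⁻¹ = a ∨ g * a * g⁻¹ = z * a) (k g : G) (hk : k * a = a * k) :
    (g * k * g⁻¹) * a = a * (g * k * g⁻¹) := by
  have h1 : k * (g⁻¹ * a * g) = (g⁻¹ * a * g) * k := by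
    have h2 := ha g⁻¹
    rw [inv_inv] at h2
    rcases h2 with h2 | h2
    · rw [h2]; exact hk
    · rw [h2]
      calc k * (z * a) = (k * z) * a := by group
        _ = z * (k * a) := by rw [hzg k]; group
        _ = z * a * k := by rw [hk]; group
  calc g * k * g⁻¹ * a = g * (k * (g⁻¹ * a * g)) * g⁻¹ := by group
    _ = g * ((g⁻¹ * a * g) * k) * g⁻¹ := by rw [h1]
    _ = a * (g * k * g⁻¹) := by group

theorem main {G : Type*} [Group G] [Fintype G] [DecidableEq G] (hG : IsPGroup 2 G)
    (hidx : (commutator G).index ≠ 4)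
    (z u : G) (hzc : z ∈ Subgroup.center G) (hz1 : z ≠ 1) (hzz : z * z = 1) (huu : u * u = 1)
    (hu1 : u ≠ 1) (huz : u ≠ z) (hcu : ∀ g : G, g * u * g⁻¹ = u ∨ g * u * g⁻¹ = z * u) :
    (4 : ℤ) ∣ ∑ x : G, (if x * x = 1 then 1 else 0) := by
  have hzg : ∀ g, g * z = z * g := Subgroup.mem_center_iff.mp hzc
  have hsplit : ∀ x : G, (if x * x = 1 then (1 : ℤ) else 0) =
      (if x * x = 1 ∧ x * u = u * x then 1 else 0) +
      (if x * x = 1 ∧ x * u ≠ u * x then 1 else 0) := by
    intro x
    by_cases h1 : x * x = 1 <;> by_cases h2 : x * u = u * x <;> simp [h1, h2]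
  rw [Finset.sum_congr rfl (fun x _ => hsplit x), Finset.sum_add_distrib]
  apply dvd_add
  · apply four_dvd_sum hG _ u z hu1 hz1 huz
    · intro x
      apply if_congr _ rfl rfl
      have h2 : (u * x) * u = u * (u * x) ↔ x * u = u * x := by
        rw [mul_assoc, mul_left_cancel_iff]
      rw [h2]
      apply and_congr_left
      intro h
      have h3 : (u * x) * (u * x) = x * x := by
        calc u * x * (u * x) = u * (x * u) * x := by group
          _ = u * (u * x) * x := by rw [h]
          _ = (u * u) * (x * x) := by group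
          _ = x * x := by rw [huu, one_mul]
      rw [h3]
    · intro x
      apply if_congr _ rfl rfl
      have h2 : (z * x) * u = u * (z * x) ↔ x * u = u * x := by
        have e : u * (z * x) = z * (u * x) := by rw [← mul_assoc, hzg u, mul_assoc]
        rw [e, mul_assoc, mul_left_cancel_iff]
      have h3 : (z * x) * (z * x) = x * x := by
        calc z * x * (z * x) = z * (x * z) * x := by group
          _ = z * (z * x) * x := by rw [hzg x]
          _ = (z * z) * (x * x) := by group
          _ = x * x := by rw [hzz, one_mul]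
      rw [h2, h3]
  · by_cases hbad : ∃ t : G, t * t = 1 ∧ t * u ≠ u * t ∧
        (Subgroup.centralizer ({t} : Set G)).index = 2
    · obtain ⟨t, htt, htu, hti⟩ := hbad
      have htu' : t * u = z * u * t := (comm_or z u hcu t).resolve_left htu
      have hut : u * t = z * t * u := by
        calc u * t = (z * z) * (u * t) := by rw [hzz, one_mul]
          _ = z * (z * u * t) := by group
          _ = z * t * u := by rw [← htu']; group
      have hct : ∀ g, g * t * g⁻¹ = t ∨ g * t * g⁻¹ = z * t := by
        intro g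
        by_cases hg : g * t = t * g
        · left; exact mul_inv_eq_iff_eq_mul.mpr hg
        · right
          have h1 : u⁻¹ * g ∈ Subgroup.centralizer ({t} : Set G) := by
            rw [Subgroup.mul_mem_iff_of_index_two hti, inv_mem_iff,
              Subgroup.mem_centralizer_singleton_iff, Subgroup.mem_centralizer_singleton_iff]
            constructor
            · intro h; exact absurd h.symm htu
            · intro h; exact absurd h hg
          rw [Subgroup.mem_centralizer_singleton_iff] at h1
          calc g * t * g⁻¹ = u * (u⁻¹ * g * t) * g⁻¹ := by group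
            _ = u * (t * (u⁻¹ * g)) * g⁻¹ := by rw [h1]
            _ = u * t * u⁻¹ := by group
            _ = z * t := mul_inv_eq_iff_eq_mul.mpr hut
      exact bad_case hG hidx z u t hzg hz1 hzz huu htt htu' hcu hct
    · have h := Cfsg.Agent.Lib.Helper75.class_sum_dvd (S := ℤ)
        (fun x : G => if x * x = 1 ∧ x * u ≠ u * x then (1 : ℤ) else 0) ?_ 4 ?_
      · exact_mod_cast h
      · intro x g
        apply if_congr _ rfl rfl
        have h1 : (x * g * x⁻¹) * (x * g * x⁻¹) = 1 ↔ g * g = 1 := by
          have e : (x * g * x⁻¹) * (x * g * x⁻¹) = x * (g * g) * x⁻¹ := by group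
          rw [e, conj_eq_one_iff]
        have h2 : (x * g * x⁻¹) * u = u * (x * g * x⁻¹) ↔ g * u = u * g := by
          constructor
          · intro h
            have h3 := conj_comm z hzg u hcu _ x⁻¹ h
            have e : x⁻¹ * (x * g * x⁻¹) * x⁻¹⁻¹ = g := by group
            rwa [e] at h3
          · intro h
            exact conj_comm z hzg u hcu g x h
        rw [h1, Ne, h2]
      · intro g
        by_cases hg : g * g = 1 ∧ g * u ≠ u * g
        · right
          obtain ⟨j, hj⟩ := hG.index (Subgroup.centralizer ({g} : Set G))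
          rw [hj]
          have hj2 : 2 ≤ j := by
            by_contra hlt
            have : j = 0 ∨ j = 1 := by omega
            rcases this with rfl | rfl
            · rw [pow_zero, Subgroup.index_eq_one] at hj
              apply hg.2
              have h3 : u ∈ Subgroup.centralizer ({g} : Set G) := by rw [hj]; trivial
              exact (Subgroup.mem_centralizer_singleton_iff.mp h3).symm
            · rw [pow_one] at hj
              exact hbad ⟨g, hg.1, hg.2, hj⟩
          exact (show 4 = 2 ^ 2 by norm_num) ▸ pow_dvd_pow 2 hj2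
        · left; exact if_neg hg

/-- Let G be a finite 2-group whose number of involutions is congruent to 1 modulo 4. Then G is cyclic or its commutator subgroup has index 4. -/
theorem result {G : Type*} [Group G] [Finite G] (hG : IsPGroup 2 G) (ht : Nat.card {x : G // orderOf x = 2} % 4 = 1) : IsCyclic G ∨ (commutator G).index = 4 := by
  classical
  by_contra hcon
  push Not at hcon
  obtain ⟨hnc, hidx⟩ := hcon
  have := Fintype.ofFinite G
  obtain ⟨z, u, hzc, hz1, hzz, huu, hu1, huz, hcu⟩ := exists_data hG hnc hidx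
  have h4 : (4 : ℤ) ∣ ∑ x : G, (if x * x = 1 then (1 : ℤ) else 0) :=
    main hG hidx z u hzc hz1 hzz huu hu1 huz hcu
  have hcount : ∑ x : G, (if x * x = 1 then (1 : ℤ) else 0) =
      1 + (Nat.card {x : G // orderOf x = 2} : ℤ) := by
    rw [Finset.sum_boole, Nat.card_eq_fintype_card, Fintype.card_subtype]
    have h5 : Finset.univ.filter (fun x : G => x * x = 1) =
        insert 1 (Finset.univ.filter (fun x : G => orderOf x = 2)) := by
      ext x
      simp only [Finset.mem_filter, Finset.mem_univ, true_and, Finset.mem_insert]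
      constructor
      · intro h
        by_cases hx : x = 1
        · left; exact hx
        · right
          have : Fact (Nat.Prime 2) := ⟨Nat.prime_two⟩
          exact orderOf_eq_prime (by rw [sq]; exact h) hx
      · rintro (rfl | h)
        · simp
        · rw [← sq, ← h]; exact pow_orderOf_eq_one x
    rw [h5, Finset.card_insert_of_notMem (by simp)]
    push_cast; ring
  rw [hcount] at h4
  omega

end Cfsg.Agent.S4477
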