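import Cfsg.Statements.S4511
import Cfsg.Agent.Lib.Helper97.BlockRank
import Cfsg.Agent.Lib.Helper78.BlockOrth

set_option autoImplicit false
open Cfsg

namespace Cfsg.Agent.S4511

open Cfsg.Agent.Lib.Helper78 Cfsg.Agent.Lib.Helper16 Cfsg.Agent.Lib.Helper4 Cfsg.Agent.Lib.Helper97
open scoped ComplexConjugate

section Aux

variable {G : Type*} [Group G] [Fintype G] {M : Ideal AlgInt} {p : ℕ} [Fact p.Prime]

theorem finsum_indSet (hMp : M.IsPrime) (x : G) (B : Set (IrrCharacter G))
    (f : IrrCharacter (Cen x) → ℂ) :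
    ∑ᶠ ψ ∈ indSet M x B, f ψ
      = ∑ᶠ b ∈ {b : Set (IrrCharacter (Cen x)) | IsInducedBlock M (Cen x) b B}, ∑ᶠ ψ ∈ b, f ψ := by
  have h : indSet M x B
      = ⋃ b ∈ {b : Set (IrrCharacter (Cen x)) | IsInducedBlock M (Cen x) b B}, b := by
    ext ψ
    simp only [Set.mem_iUnion, Set.mem_ofPred_eq, exists_prop]
    constructor
    · intro hψ
      exact ⟨_, hψ, mem_blockOf_self hMp ψ⟩
    · rintro ⟨b, hb, hψ⟩
      show IsInducedBlock M _ _ B
      rw [← IsPBlock.eq_blockOf hMp hb.1 hψ]
      exact hb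
  rw [h, finsum_mem_biUnion _ (Set.toFinite _) (fun _ _ => Set.toFinite _)]
  intro b hb b' hb' hne
  exact Set.disjoint_left.2 fun ψ h1 h2 => hne (IsPBlock.eq_of_mem_mem hMp hb.1 hb'.1 h1 h2)

theorem blockRank_indSet (hM : IsPModular p M) (x : G) (B : Set (IrrCharacter G)) :
    ((∑ᶠ b ∈ {b : Set (IrrCharacter (Cen x)) | IsInducedBlock M (Cen x) b B},
      blockRank p b : ℕ) : ℂ) = (blockRank p (indSet M x B) : ℂ) := by
  classical
  have hMp : M.IsPrime := hM.2.1.isPrime
  have hS : {b : Set (IrrCharacter (Cen x)) | IsInducedBlock M (Cen x) b B}.Finite :=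
    Set.toFinite _
  rw [blockRank_eq hM _ (indSet_union hMp x B), finsum_mem_eq_finite_toFinset_sum _ hS,
    Nat.cast_sum]
  have h1 : ∀ b ∈ hS.toFinset, (blockRank p b : ℂ) = (Fintype.card (Cen x) : ℂ)⁻¹ * ∑ c : Cen x,
      if ¬ p ∣ orderOf c then ∑ᶠ ψ ∈ b, (ψ : Cen x → ℂ) c * conj ((ψ : Cen x → ℂ) c) else 0 := by
    intro b hb
    have hb' : IsInducedBlock M (Cen x) b B := by simpa using hb
    apply blockRank_eq hM
    intro ψ hψ
    rw [← IsPBlock.eq_blockOf hMp hb'.1 hψ]
  rw [Finset.sum_congr rfl h1, ← Finset.mul_sum, Finset.sum_comm]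
  congr 1
  refine Finset.sum_congr rfl fun c _ => ?_
  by_cases hc : p ∣ orderOf c
  · simp [hc]
  · simp only [if_pos hc]
    rw [finsum_indSet hMp, finsum_mem_eq_finite_toFinset_sum _ hS]

end Aux

/-- Brauer's count of the irreducible characters in a block by subsections. Let M be a maximal ideal of the algebraic integers containing the prime p, B a p-block of the finite group G, and X a set of representatives of the conjugacy classes of p-elements of G (elements of p-power order, the identity included: every p-element is conjugate to exactly one member of X). Then the number of irreducible characters in B is the sum, over x ∈ X and over the blocks b of C_G(x) that induce B, of the p-regular rank of b (the number of irreducible Brauer characters of b, here the dimension of the span of the restrictions of the members of b to the p-regular elements of C_G(x)). -/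
theorem result {G : Type*} [Group G] [Finite G] (p : ℕ) (M : Ideal Cfsg.AlgInt) (hM : Cfsg.IsPModular p M)
    (B : Set (Cfsg.IrrCharacter G)) (hB : Cfsg.IsPBlock M B) (X : Finset G)
    (hX : ∀ x ∈ X, ∃ k : ℕ, orderOf x = p ^ k)
    (hXrep : ∀ g : G, (∃ k : ℕ, orderOf g = p ^ k) → ∃! x, x ∈ X ∧ IsConj g x) :
    Nat.card B = ∑ x ∈ X, ∑ᶠ b ∈ {b : Set (Cfsg.IrrCharacter ↥(Subgroup.centralizer ({x} : Set G))) | Cfsg.IsInducedBlock M (Subgroup.centralizer ({x} : Set G)) b B},
      Cfsg.blockRank p b := by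
  classical
  have : Fact p.Prime := ⟨hM.1⟩
  have : Fintype G := Fintype.ofFinite G
  have hMp : M.IsPrime := hM.2.1.isPrime
  apply Nat.cast_injective (R := ℂ)
  rw [Nat.cast_sum]
  obtain ⟨F, hFdef⟩ : ∃ F : G → ℂ, F = fun g => ∑ᶠ χ ∈ B, (χ : G → ℂ) g * conj ((χ : G → ℂ) g) :=
    ⟨_, rfl⟩
  have hF : IsClassFunction G F := by
    intro g h
    rw [hFdef]
    show ∑ᶠ χ ∈ B, _ = ∑ᶠ χ ∈ B, _
    refine finsum_congr fun χ => ?_
    rw [irr_isClassFunction χ g h]
  have hR : ∀ x ∈ X, ((∑ᶠ b ∈ {b : Set (IrrCharacter (Cen x)) | IsInducedBlock M (Cen x) b B},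
      blockRank p b : ℕ) : ℂ) = (Fintype.card (Cen x) : ℂ)⁻¹ *
      ∑ c : Cen x, if ¬ p ∣ orderOf c then F (x * (c : G)) else 0 := by
    intro x hx
    rw [blockRank_indSet hM, blockRank_eq hM _ (indSet_union hMp x B)]
    congr 1
    refine Finset.sum_congr rfl fun c _ => ?_
    by_cases hc : p ∣ orderOf c
    · simp [hc]
    · simp only [if_pos hc]
      rw [hFdef]
      exact (sum_block_section hM x (hX x hx) hB c c hc hc).symm
  rw [Finset.sum_congr rfl hR, ← sum_sections X hX hXrep F hF, hFdef]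
  simp_rw [finsum_mem_irr]
  rw [Finset.sum_comm]
  have h1 : ∀ χ : IrrCharacter G, (∑ g : G, if χ ∈ B then (χ : G → ℂ) g * conj ((χ : G → ℂ) g) else 0)
      = if χ ∈ B then (Fintype.card G : ℂ) else 0 := by
    intro χ
    split_ifs
    · rw [sum_irr_mul_conj, if_pos rfl]
    · simp
  simp_rw [h1]
  have hG : (Fintype.card G : ℂ) ≠ 0 := by exact_mod_cast Fintype.card_ne_zero
  rw [← Finset.sum_filter, Finset.sum_const, nsmul_eq_mul, mul_comm ((_ : ℕ) : ℂ),
    inv_mul_cancel_left₀ hG, Nat.card_eq_fintype_card, Fintype.card_subtype]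

end Cfsg.Agent.S4511
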