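import Cfsg.Statements.S4550
import Cfsg.Agent.Lib.Helper76.GaloisChar
import Cfsg.Agent.Lib.Helper76.CharBasic
import Cfsg.Agent.Lib.Helper78.Osima
import Cfsg.Agent.S0907

set_option autoImplicit false
open Cfsg

namespace Cfsg.Agent.S4550

open scoped ComplexConjugate
open Cfsg.Agent.Lib.Helper76 Cfsg.Agent.Lib.Helper3 Cfsg.Agent.Lib.Helper78

variable {G : Type*} [Group G] [Finite G]

theorem coprime_k (k : ℕ) (hk₁ : ∀ g : G, (∃ j : ℕ, orderOf g = 2 ^ j) → g ^ k = g ^ 3)
    (hk₂ : ∀ g : G, Odd (orderOf g) → g ^ k = g) : k.Coprime (Nat.card G) := by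
  apply Nat.Coprime.symm
  apply Nat.coprime_of_dvd
  intro r hr hrG hrk
  have : Fact r.Prime := ⟨hr⟩
  obtain ⟨x, hx⟩ := exists_prime_orderOf_dvd_card' (G := G) r hrG
  have hxk : x ^ k = 1 := by
    rw [← orderOf_dvd_iff_pow_eq_one, hx]; exact hrk
  have hx1 : x ≠ 1 := by
    intro h
    rw [h, orderOf_one] at hx
    exact hr.one_lt.ne hx
  rcases hr.eq_two_or_odd' with h2 | hodd
  · have h3 := hk₁ x ⟨1, by rw [hx, h2, pow_one]⟩
    have h4 : x ^ 2 = 1 := by rw [← h2, ← hx]; exact pow_orderOf_eq_one x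
    rw [hxk, pow_succ, h4, one_mul] at h3
    exact hx1 h3.symm
  · have h3 := hk₂ x (hx ▸ hodd)
    rw [hxk] at h3
    exact hx1 h3.symm

theorem three_pow_modEq (s N : ℕ) (h : s ≤ N + 1) : 3 ^ (2 ^ N) ≡ 1 [MOD 2 ^ s] := by
  rcases Nat.eq_zero_or_pos s with rfl | hs
  · simp [Nat.modEq_one]
  have h1 : (3 : ℕ) ^ (2 ^ s).totient ≡ 1 [MOD 2 ^ s] :=
    Nat.ModEq.pow_totient (Nat.Coprime.pow_right s (by norm_num))
  rw [Nat.totient_prime_pow Nat.prime_two hs] at h1
  simp only [Nat.add_one_sub_one, mul_one] at h1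
  obtain ⟨c, hc⟩ : ∃ c, N = (s - 1) + c := ⟨N - (s - 1), by omega⟩
  rw [hc, pow_add, pow_mul]
  simpa using h1.pow (2 ^ c)

theorem pow_pow_eq_self (k : ℕ) (hk₁ : ∀ g : G, (∃ j : ℕ, orderOf g = 2 ^ j) → g ^ k = g ^ 3)
    (hk₂ : ∀ g : G, Odd (orderOf g) → g ^ k = g) (g : G) : g ^ (k ^ (2 ^ Nat.card G)) = g := by
  obtain ⟨s, t, ht, ho⟩ := Nat.exists_eq_two_pow_mul_odd (orderOf_pos g).ne'
  have htpos : 0 < t := ht.pos
  have h1 : orderOf (g ^ t) = 2 ^ s := by
    rw [orderOf_pow_of_dvd htpos.ne' (ho ▸ Dvd.intro_left _ rfl), ho]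
    exact Nat.mul_div_cancel _ htpos
  have h2 : orderOf (g ^ (2 ^ s)) = t := by
    rw [orderOf_pow_of_dvd (by positivity) (ho ▸ Dvd.intro _ rfl), ho]
    exact Nat.mul_div_cancel_left _ (by positivity)
  have h3 : k ≡ 3 [MOD 2 ^ s] := by
    rw [← h1]
    exact pow_eq_pow_iff_modEq.mp (hk₁ _ ⟨s, h1⟩)
  have h4 : k ≡ 1 [MOD t] := by
    rw [← h2]
    apply pow_eq_pow_iff_modEq.mp
    rw [pow_one]
    exact hk₂ _ (h2 ▸ ht)
  have hs : s ≤ Nat.card G + 1 := by
    have h5 : 2 ^ s ∣ Nat.card G := (Dvd.intro _ ho.symm).trans (orderOf_dvd_natCard g)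
    have h6 : 2 ^ s ≤ Nat.card G := Nat.le_of_dvd Nat.card_pos h5
    have h7 : s < 2 ^ s := Nat.lt_two_pow_self
    omega
  have h5 : k ^ (2 ^ Nat.card G) ≡ 1 [MOD 2 ^ s] :=
    (h3.pow _).trans (three_pow_modEq s _ hs)
  have h6 : k ^ (2 ^ Nat.card G) ≡ 1 [MOD t] := by
    simpa using h4.pow (2 ^ Nat.card G)
  have h7 : k ^ (2 ^ Nat.card G) ≡ 1 [MOD orderOf g] := by
    rw [ho]
    exact (Nat.modEq_and_modEq_iff_modEq_mul
      (Nat.Coprime.pow_left s (Nat.coprime_two_left.mpr ht))).mp ⟨h5, h6⟩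
  have := pow_eq_pow_iff_modEq.mpr h7
  rwa [pow_one] at this

theorem centralizer_pow_eq {k : ℕ} (hk : k.Coprime (Nat.card G)) (g : G) :
    Subgroup.centralizer ({g ^ k} : Set G) = Subgroup.centralizer ({g} : Set G) := by
  obtain ⟨m, hm⟩ := exists_pow_eq_self_of_coprime
    (Nat.Coprime.of_dvd_right (orderOf_dvd_natCard g) hk)
  ext x
  rw [Subgroup.mem_centralizer_singleton_iff, Subgroup.mem_centralizer_singleton_iff]
  constructor
  · intro h
    have : Commute x (g ^ k) := h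
    have h2 := this.pow_right m
    rw [hm] at h2
    exact h2
  · intro h
    have : Commute x g := h
    exact this.pow_right k

theorem centralChar_pow {k : ℕ} (hk : k.Coprime (Nat.card G)) (χ : G → ℂ) (g : G) :
    centralChar (fun g => χ (g ^ k)) g = centralChar χ (g ^ k) := by
  unfold centralChar
  rw [centralizer_pow_eq hk]
  simp only [one_pow]

theorem mem_principalBlock_pow {M : Ideal AlgInt} {k : ℕ} (hk : k.Coprime (Nat.card G))
    (χ χ' : IrrCharacter G) (hχ' : ∀ g, (χ' : G → ℂ) g = (χ : G → ℂ) (g ^ k))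
    (h : χ ∈ principalBlock M G) : χ' ∈ principalBlock M G := by
  intro g
  have h1 := h (g ^ k)
  have h2 : (χ' : G → ℂ) = fun g => (χ : G → ℂ) (g ^ k) := funext hχ'
  rw [h2, centralChar_pow hk]
  have h3 := centralChar_pow hk (fun _ : G => (1 : ℂ)) g
  rw [← h3] at h1
  exact h1

/-- The value at an involution. -/
theorem exists_value_involution {χ : G → ℂ} (h : IsCharacter G χ) (y : G) (hy : y ^ 2 = 1) :
    ∃ e : ℤ, χ y = (charDegree χ : ℂ) - 2 * (e : ℂ) := by
  classical
  rw [← char_one_eq h]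
  obtain ⟨n, ρ, rfl⟩ := h
  obtain ⟨μ, h1, h2⟩ := exists_char_eigenvalues ρ y 2 (by norm_num) hy
  have h3 := h2 1
  have h4 := h2 0
  simp only [pow_one, pow_zero] at h3 h4
  rw [h3, h4]
  refine ⟨∑ i, (if μ i = 1 then 0 else 1), ?_⟩
  push_cast
  rw [Finset.mul_sum, ← Finset.sum_sub_distrib]
  apply Finset.sum_congr rfl
  intro i _
  rcases sq_eq_one_iff.mp (h1 i) with h5 | h5
  · rw [h5]; simp
  · rw [h5]
    have : (-1 : ℂ) ≠ 1 := by norm_num
    simp only [this, if_false]
    norm_num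

omit [Finite G] in
theorem zmod2_sq : ∀ x : ZMod 2, x * x = x := by decide

theorem zmod2_two : (2 : ZMod 2) = 0 := by decide

theorem even_card_odd (M : Ideal AlgInt) (hM : IsPModular 2 M) (hev : Even (Nat.card G)) :
    Even (Nat.card {χ : IrrCharacter G //
      χ ∈ principalBlock M G ∧ Odd (charDegree (χ : G → ℂ))}) := by
  classical
  have : Fact (Nat.Prime 2) := ⟨Nat.prime_two⟩
  obtain ⟨y, hy⟩ := exists_prime_orderOf_dvd_card' (G := G) 2 hev.two_dvd
  have hy2 : y ^ 2 = 1 := by rw [← hy]; exact pow_orderOf_eq_one y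
  have h0 := Cfsg.Agent.S0907.result 2 M hM (principalBlock M G) isPBlock_principalBlock 1 y
    (by simp) (by rw [hy])
  rw [finsum_mem_irr] at h0
  choose e he using fun χ : IrrCharacter G =>
    exists_value_involution (IsIrrCharacter.isCharacter χ.2) y hy2
  have h1 : ∑ χ : IrrCharacter G, (if χ ∈ principalBlock M G then
      ((charDegree (χ : G → ℂ) : ℤ) * ((charDegree (χ : G → ℂ) : ℤ) - 2 * e χ)) else 0) = 0 := by
    have h : ((∑ χ : IrrCharacter G, (if χ ∈ principalBlock M G then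
        ((charDegree (χ : G → ℂ) : ℤ) * ((charDegree (χ : G → ℂ) : ℤ) - 2 * e χ)) else 0) : ℤ) : ℂ)
        = 0 := by
      rw [← h0]
      push_cast
      apply Finset.sum_congr rfl
      intro χ _
      split_ifs
      · rw [he χ, char_one_eq (IsIrrCharacter.isCharacter χ.2), map_sub, map_mul, Complex.conj_natCast,
          map_intCast]
        have : (starRingEnd ℂ) (2 : ℂ) = 2 := Complex.conj_ofNat 2
        rw [this]
      · rfl
    exact_mod_cast h
  have h2 := congrArg (Int.cast : ℤ → ZMod 2) h1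
  have hsq : ∀ x : ZMod 2, x * x = x := zmod2_sq
  have h20 : (2 : ZMod 2) = 0 := zmod2_two
  have h3 : ∀ χ : IrrCharacter G, (((if χ ∈ principalBlock M G then
      ((charDegree (χ : G → ℂ) : ℤ) * ((charDegree (χ : G → ℂ) : ℤ) - 2 * e χ)) else 0 : ℤ)) : ZMod 2)
      = if (χ ∈ principalBlock M G ∧ Odd (charDegree (χ : G → ℂ))) then 1 else 0 := by
    intro χ
    by_cases hB : χ ∈ principalBlock M G
    · rw [if_pos hB]
      push_cast
      rw [h20, zero_mul, sub_zero, hsq]
      by_cases hodd : Odd (charDegree (χ : G → ℂ))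
      · rw [if_pos ⟨hB, hodd⟩]
        exact ZMod.natCast_eq_one_iff_odd.mpr hodd
      · rw [if_neg (fun h => hodd h.2)]
        exact ZMod.natCast_eq_zero_iff_even.mpr (Nat.not_odd_iff_even.mp hodd)
    · rw [if_neg hB, if_neg (fun h => hB h.1)]
      simp
  rw [Int.cast_sum, Finset.sum_congr rfl (fun χ _ => h3 χ), Finset.sum_boole, Int.cast_zero,
    ZMod.natCast_eq_zero_iff_even] at h2
  rw [Nat.card_eq_fintype_card, Fintype.card_subtype]
  exact h2

/-- Let G be a finite group of even order and M a maximal ideal of the algebraic integers containing 2. Let k be a natural number with g ^ k = g ^ 3 for every 2-element g and g ^ k = g for every element g of odd order (such k exist); an irreducible character χ is unchanged by g ↦ g ^ k exactly when it is fixed by the field automorphism that cubes the 2-power roots of unity and fixes the roots of unity of odd order. Then the number of members χ of the principal 2-block of odd degree with χ (g ^ k) = χ g for all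 g is even. -/
theorem result {G : Type*} [Group G] [Finite G] (M : Ideal Cfsg.AlgInt) (hM : Cfsg.IsPModular 2 M) (hev : Even (Nat.card G)) (k : ℕ) (hk₁ : ∀ g : G, (∃ j : ℕ, orderOf g = 2 ^ j) → g ^ k = g ^ 3) (hk₂ : ∀ g : G, Odd (orderOf g) → g ^ k = g) : Even (Nat.card {χ : Cfsg.IrrCharacter G // χ ∈ Cfsg.principalBlock M G ∧ Odd (Cfsg.charDegree (χ : G → ℂ)) ∧ ∀ g : G, (χ : G → ℂ) (g ^ k) = (χ : G → ℂ) g}) := by
  classical
  have : Fact (Nat.Prime 2) := ⟨Nat.prime_two⟩
  have hk := coprime_k k hk₁ hk₂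
  let X := {χ : IrrCharacter G // χ ∈ principalBlock M G ∧ Odd (charDegree (χ : G → ℂ))}
  let T : IrrCharacter G → IrrCharacter G :=
    fun χ => ⟨fun g => (χ : G → ℂ) (g ^ k), isIrrCharacter_pow_coprime χ.2 hk⟩
  let f : Function.End X := fun χ => ⟨T χ.1,
    mem_principalBlock_pow hk χ.1 (T χ.1) (fun g => rfl) χ.2.1, by
      have h : charDegree ((T χ.1 : IrrCharacter G) : G → ℂ) = charDegree (χ.1 : G → ℂ) := by
        unfold charDegree
        simp [T]
      rw [h]; exact χ.2.2⟩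
  have hf : ∀ (j : ℕ) (χ : X) (g : G),
      (((f ^ j) χ).1 : G → ℂ) g = (χ.1 : G → ℂ) (g ^ (k ^ j)) := by
    intro j
    induction j with
    | zero =>
      intro χ g
      rw [pow_zero, pow_zero, pow_one]
      rfl
    | succ j ih =>
      intro χ g
      rw [pow_succ]
      show (((f ^ j) (f χ)).1 : G → ℂ) g = _
      rw [ih]
      show (χ.1 : G → ℂ) ((g ^ (k ^ j)) ^ k) = _
      rw [← pow_mul, ← pow_succ]
  have hf1 : f ^ 2 ^ (Nat.card G) = 1 := by
    funext χ
    apply Subtype.ext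
    apply Subtype.ext
    funext g
    rw [hf, pow_pow_eq_self k hk₁ hk₂]
    rfl
  let _ : Fintype X := Fintype.ofFinite X
  have h1 := Equiv.Perm.card_fixedPoints_modEq hf1
  have h2 : Even (Fintype.card X) := by
    rw [← Nat.card_eq_fintype_card]
    exact even_card_odd M hM hev
  have h3 : Nat.card {χ : Cfsg.IrrCharacter G // χ ∈ Cfsg.principalBlock M G ∧
      Odd (Cfsg.charDegree (χ : G → ℂ)) ∧ ∀ g : G, (χ : G → ℂ) (g ^ k) = (χ : G → ℂ) g} =
      Fintype.card (Function.fixedPoints f) := by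
    rw [← Nat.card_eq_fintype_card]
    apply Nat.card_congr
    exact
      { toFun := fun χ => ⟨⟨χ.1, χ.2.1, χ.2.2.1⟩, by
          apply Subtype.ext
          apply Subtype.ext
          funext g
          exact χ.2.2.2 g⟩
        invFun := fun χ => ⟨χ.1.1, χ.1.2.1, χ.1.2.2, by
          intro g
          have h := χ.2
          have h' : ((f χ.1).1 : G → ℂ) g = (χ.1.1 : G → ℂ) g := by rw [h]
          exact h'⟩
        left_inv := fun χ => rfl
        right_inv := fun χ => rfl }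
  rw [h3]
  have h4 : Fintype.card X % 2 = Fintype.card (Function.fixedPoints f) % 2 := h1
  rw [Nat.even_iff] at h2 ⊢
  omega

end Cfsg.Agent.S4550
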