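import Cfsg.Statements.S4520
import Cfsg.Agent.Lib.Helper76.AlperinDade
import Cfsg.Agent.Lib.Helper35.BlockCover
import Cfsg.Agent.S4517
import Cfsg.Agent.S4550
import Cfsg.Agent.S0887

set_option autoImplicit false
open Cfsg Cfsg.Agent.Lib.Helper76 Cfsg.Agent.Lib.Helper78 Cfsg.Agent.Lib.Helper74

namespace Cfsg.Agent.S4520

/-- Let N be a normal subgroup of odd index in the finite group G, M a maximal ideal of the algebraic integers containing 2, and k coprime to the order of G with k ^ (2 ^ e) ≡ 1 modulo the order of G for some e and g ^ k = g⁻¹ for every element g of odd order. Let θ be an irreducible character of N and χ an irreducible character of G over θ, both unchanged by composing with g ↦ g ^ k. Then χ lies in the principal 2-block of G if and only if θ lies in the principal 2-block of N. -/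
theorem result {G : Type*} [Group G] [Fintype G] (M : Ideal Cfsg.AlgInt) (hM : Cfsg.IsPModular 2 M) (N : Subgroup G) [N.Normal] [Fintype N] (hidx : Odd N.index) (k e : ℕ) (hk : Nat.Coprime k (Nat.card G)) (hke : k ^ (2 ^ e) ≡ 1 [MOD Nat.card G]) (hk₂ : ∀ g : G, Odd (orderOf g) → g ^ k = g⁻¹) (θ : Cfsg.IrrCharacter N) (hθ : ∀ n : N, (θ : N → ℂ) (n ^ k) = (θ : N → ℂ) n) (χ : Cfsg.IrrCharacter G) (hχ : ∀ g : G, (χ : G → ℂ) (g ^ k) = (χ : G → ℂ) g) (hover : Cfsg.classInner (fun n : N => (χ : G → ℂ) n) (θ : N → ℂ) ≠ 0) : χ ∈ Cfsg.principalBlock M G ↔ θ ∈ Cfsg.principalBlock M N := by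
  classical
  have hMp := pmod_isPrime hM
  constructor
  · intro h
    exact mem_principalBlock_of_constituent N hM h hover
  · intro hθB
    set B : Set (IrrCharacter G) := blockOf M (χ : G → ℂ) with hB
    have hBb : IsPBlock M B := isPBlock_blockOf χ
    have hχB : χ ∈ B := mem_blockOf_self hMp χ
    have hcov : Cfsg.Agent.Lib.Helper35.Covers N B (principalBlock M N) :=
      ⟨χ, hχB, θ, hθB, hover⟩
    obtain ⟨χ', hχ'B, hχ'⟩ := Cfsg.Agent.Lib.Helper35.exists_over_of_covers N hMp hBb
      isPBlock_principalBlock hcov (trivIrr_mem_principalBlock hMp)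
    have hdeg := Cfsg.Agent.S0887.result N (χ' : G → ℂ) χ'.2 ((trivIrr N : IrrCharacter N) : N → ℂ)
      (trivIrr N).2 hχ' (charDegree (χ' : G → ℂ)) 1
      (Cfsg.Agent.Lib.Helper80.char_one_eq_charDegree (Cfsg.Agent.Lib.Helper80.isCharacter_of_irr χ'.2)) (by simp [trivIrr])
    have hodd : Odd (charDegree (χ' : G → ℂ)) := by
      have h1 := hdeg.2
      rw [Nat.div_one] at h1
      exact Odd.of_dvd_nat hidx h1
    have hfac : (charDegree (χ' : G → ℂ)).factorization 2 = 0 := by
      apply Nat.factorization_eq_zero_of_not_dvd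
      intro h2
      exact (Nat.not_even_iff_odd.mpr hodd) (even_iff_two_dvd.mpr h2)
    have hdef : blockDefect 2 B = (Nat.card G).factorization 2 := by
      unfold blockDefect
      have : sInf ((fun χ : IrrCharacter G => (charDegree (χ : G → ℂ)).factorization 2) '' B) = 0 := by
        apply Nat.eq_zero_of_le_zero
        apply Nat.sInf_le
        exact ⟨χ', hχ'B, hfac⟩
      rw [this, Nat.sub_zero]
    have hstab : ∀ ψ ∈ B, ∃ ψ' ∈ B, ∀ g : G, (ψ' : G → ℂ) g = (ψ : G → ℂ) (g ^ k) := by
      intro ψ hψ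
      refine ⟨⟨fun g => (ψ : G → ℂ) (g ^ k), isIrrCharacter_pow_coprime ψ.2 hk⟩, ?_, fun g => rfl⟩
      intro g
      have h1 : MemLocalIdeal M (centralChar (χ : G → ℂ) (g ^ k) - centralChar (ψ : G → ℂ) (g ^ k)) :=
        hψ (g ^ k)
      have h2 : (χ : G → ℂ) = fun g => (χ : G → ℂ) (g ^ k) := funext fun g => (hχ g).symm
      show MemLocalIdeal M (centralChar (χ : G → ℂ) g -
        centralChar (fun g => (ψ : G → ℂ) (g ^ k)) g)
      rw [h2, Cfsg.Agent.S4550.centralChar_pow hk, Cfsg.Agent.S4550.centralChar_pow hk]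
      exact h1
    have := Cfsg.Agent.S4517.result M hM k hk hk₂ B hBb hdef hstab
    rw [← this]
    exact hχB

end Cfsg.Agent.S4520
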