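import Cfsg.Statements.S4573
import Cfsg.Agent.Lib.Helper81.WreathM
import Cfsg.Agent.Lib.Helper76.Nilp

set_option autoImplicit false
universe u
open Cfsg

namespace Cfsg.Agent.S4573

open Cfsg.Agent.Lib Cfsg.Agent.Lib.Helper15 Cfsg.Agent.Lib.Helper81
open RegularWreathProduct

/-- the Kaloujnine–Krasner embedding, composed with an embedding of the normal subgroup -/
noncomputable def kk {G : Type*} [Group G] (N : Subgroup G) [hN : N.Normal] {M : Type*} [Group M]
    (ι : N →* M) : G →* M ≀ᵣ (G ⧸ N) where
  toFun g := ⟨fun q => ι ⟨(q.out)⁻¹ * g * (((g : G ⧸ N)⁻¹ * q).out), by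
    rw [← QuotientGroup.eq_one_iff]
    simp⟩, (g : G ⧸ N)⟩
  map_one' := by
    apply RegularWreathProduct.ext
    · funext q
      have : (⟨(q.out)⁻¹ * 1 * ((((1 : G) : G ⧸ N)⁻¹ * q).out), by
          rw [← QuotientGroup.eq_one_iff]
          simp⟩ : N) = 1 := by
        apply Subtype.ext
        simp
      simp only [this, map_one]
      rfl
    · rfl
  map_mul' g h := by
    apply RegularWreathProduct.ext
    · funext q
      simp only [mul_left, Pi.mul_apply]
      rw [← map_mul]
      congr 1
      apply Subtype.ext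
      simp only [Subgroup.coe_mul, QuotientGroup.mk_mul, mul_inv_rev, mul_assoc]
      simp
    · rfl

theorem kk_injective {G : Type*} [Group G] (N : Subgroup G) [hN : N.Normal] {M : Type*} [Group M]
    (ι : N →* M) (hι : Function.Injective ι) : Function.Injective (kk N ι) := by
  rw [injective_iff_map_eq_one]
  intro g hg
  have h1 : (g : G ⧸ N) = 1 := congrArg RegularWreathProduct.right hg
  have h2 := congrFun (congrArg RegularWreathProduct.left hg) 1
  have h3 : ι ⟨((1 : G ⧸ N).out)⁻¹ * g * (((g : G ⧸ N)⁻¹ * 1).out), by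
    rw [← QuotientGroup.eq_one_iff]
    simp⟩ = 1 := h2
  rw [← map_one ι] at h3
  have h4 := congrArg Subtype.val (hι h3)
  simp only [h1, inv_one, mul_one, Subgroup.coe_one] at h4
  have h5 : g = (1 : G ⧸ N).out * ((1 : G ⧸ N).out)⁻¹ := by
    rw [eq_mul_inv_iff_mul_eq, ← mul_left_cancel_iff (a := ((1 : G ⧸ N).out)⁻¹), ← mul_assoc, h4]
    simp
  rw [h5, mul_inv_cancel]

theorem main (n : ℕ) : ∀ (G : Type u) [Group G] [Finite G], Group.IsSolvable G → Nat.card G ≤ n →
    ∃ (M : Type u) (_ : Group M) (_ : Fintype M), IsMGroup M ∧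
      ∃ f : G →* M, Function.Injective f := by
  induction n with
  | zero =>
    intro G _ _ _ h
    exact absurd h (by have := Nat.card_pos (α := G); omega)
  | succ n ih =>
    intro G _ _ hsolv hcard
    by_cases htriv : Subsingleton G
    · have := Fintype.ofFinite G
      refine ⟨G, inferInstance, inferInstance, ?_, MonoidHom.id G, Function.injective_id⟩
      intro χ hχ
      exact Helper3.exists_monomial_of_apply_one_eq_one (irr_char hχ)
        (Helper3.IsIrrCharacter.apply_one_eq_one_of_comm (fun a b => Subsingleton.elim _ _) hχ)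
    · rw [not_subsingleton_iff_nontrivial] at htriv
      obtain ⟨N, hN, hp⟩ := Helper76.exists_normal_prime_index_of_solvable G
      have hlt : Nat.card N ≤ n := by
        have h1 := N.card_mul_index
        have h2 := hp.two_le
        have h3 := Nat.card_pos (α := N)
        nlinarith
      obtain ⟨M, _, _, hM, ι, hι⟩ := ih N inferInstance hlt
      have : Fintype (G ⧸ N) := Fintype.ofFinite _
      have : Fintype (M ≀ᵣ (G ⧸ N)) := Fintype.ofFinite _
      exact ⟨M ≀ᵣ (G ⧸ N), inferInstance, inferInstance, wreath_mgroup hM hp, kk N ι,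
        kk_injective N ι hι⟩

/-- Every finite solvable group is isomorphic to a subgroup of a finite M-group, a group each of whose irreducible characters is induced from a homomorphism of some subgroup into ℂˣ. -/
theorem result {G : Type u} [Group G] [Finite G] (hsolv : Group.IsSolvable G) : ∃ (M : Type u) (_ : Group M) (_ : Fintype M), (∀ χ : M → ℂ, Cfsg.IsIrrCharacter M χ → (∃ (H : Subgroup M) (lam : ↥H →* ℂˣ), χ = Cfsg.indFun H (fun h => (lam h : ℂ)))) ∧ ∃ f : G →* M, Function.Injective f :=
  main _ G hsolv le_rfl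

end Cfsg.Agent.S4573
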