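import Cfsg.Statements.S4561
import Cfsg.Agent.Lib.Helper81.CentralType
import Cfsg.Agent.S4573

set_option autoImplicit false
universe u
open Cfsg

namespace Cfsg.Agent.S4561

open Cfsg.Agent.Lib Cfsg.Agent.Lib.Helper15 Cfsg.Agent.Lib.Helper81
open RegularWreathProduct

theorem main (n : ℕ) : ∀ (G : Type u) [Group G] [Finite G], Group.IsSolvable G → Nat.card G ≤ n →
    ∃ (G' : Type u) (_ : Group G') (_ : Finite G'), Nonempty (Coc G') ∧
      (∃ f : G →* G', Function.Injective f) ∧
      ∀ q : ℕ, q.Prime → (q ∣ Nat.card G' ↔ q ∣ Nat.card G) := by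
  induction n with
  | zero =>
    intro G _ _ _ h
    exact absurd h (by have := Nat.card_pos (α := G); omega)
  | succ n ih =>
    intro G _ _ hsolv hcard
    by_cases htriv : Subsingleton G
    · exact ⟨G, inferInstance, inferInstance, ⟨Coc.ofSubsingleton G⟩,
        ⟨MonoidHom.id G, Function.injective_id⟩, fun _ _ => Iff.rfl⟩
    · rw [not_subsingleton_iff_nontrivial] at htriv
      obtain ⟨N, hN, hp⟩ := Helper76.exists_normal_prime_index_of_solvable G
      have hNi := N.card_mul_index
      have hlt : Nat.card N ≤ n := by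
        have h2 := hp.two_le
        have h3 := Nat.card_pos (α := N)
        nlinarith
      obtain ⟨M, _, _, ⟨D⟩, ⟨ι, hι⟩, hpr⟩ := ih N inferInstance hlt
      have : Fact N.index.Prime := ⟨hp⟩
      refine ⟨M ≀ᵣ (G ⧸ N), inferInstance, inferInstance, ⟨D.wreath (G ⧸ N) N.index rfl⟩,
        ⟨S4573.kk N ι, S4573.kk_injective N ι hι⟩, ?_⟩
      intro q hq
      rw [RegularWreathProduct.card, ← hNi, hq.dvd_mul, hq.dvd_mul, ← hpr q hq]
      have hQ : Nat.card (G ⧸ N) = N.index := rfl
      rw [hQ]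
      constructor
      · rintro (h | h)
        · exact Or.inl (hq.dvd_of_dvd_pow h)
        · exact Or.inr h
      · rintro (h | h)
        · exact Or.inl (h.trans (dvd_pow_self _ hp.ne_zero))
        · exact Or.inr h

/-- For every finite solvable group G there is a finite group H with a faithful irreducible character χ whose degree squared equals the index of the centre Z(H) (so χ is fully ramified over the centre), such that G is isomorphic to a subgroup of H/Z(H), the primes dividing the orders of H, of Z(H) and of G are the same, and the order of Z(H) is squarefree. -/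
theorem result {G : Type u} [Group G] [Finite G] (hsolv : Group.IsSolvable G) : ∃ (H : Type u) (_ : Group H) (_ : Finite H) (χ : Cfsg.IrrCharacter H), (∀ h : H, (χ : H → ℂ) h = (χ : H → ℂ) 1 → h = 1) ∧ (Cfsg.charDegree (χ : H → ℂ)) ^ 2 = (Subgroup.center H).index ∧ (∃ f : G →* H ⧸ Subgroup.center H, Function.Injective f) ∧ (∀ p : ℕ, p.Prime → ((p ∣ Nat.card H ↔ p ∣ Nat.card G) ∧ (p ∣ Nat.card (Subgroup.center H) ↔ p ∣ Nat.card G))) ∧ Squarefree (Nat.card (Subgroup.center H)) := by
  obtain ⟨G', _, _, ⟨D⟩, ⟨f, hf⟩, hpr⟩ := main _ G hsolv le_rfl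
  obtain ⟨H, i1, i2, χ, h1, h2, ⟨f', hf'⟩, h3, h4⟩ := Coc.exists_ct D
  have hG' : Nat.card G' ≠ 0 := Nat.card_pos.ne'
  refine ⟨H, i1, i2, χ, h1, h2, ⟨f'.comp f, hf'.comp hf⟩, ?_, ?_⟩
  · intro p hp
    rw [h3, h4, ← hpr p hp, hp.dvd_mul, dvd_prad hp hG']
    refine ⟨⟨?_, fun h => Or.inl h⟩, Iff.rfl⟩
    rintro (h | h)
    · exact h
    · exact hp.dvd_of_dvd_pow h
  · rw [h4]
    exact squarefree_prad _

end Cfsg.Agent.S4561
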