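import Cfsg.Statements.S4564
import Cfsg.Agent.Lib.Helper68.FR.Main

set_option autoImplicit false
open Cfsg

namespace Cfsg.Agent.S4564

/-- Let χ be an irreducible character of the finite group H that is fully ramified over the normal subgroup Z: the restriction of χ to Z is e times an irreducible character of Z with e ^ 2 equal to the index of Z. Let K be a normal subgroup of H containing Z and P a cyclic Sylow p-subgroup of H/K. Then P has a complement in H/K: a subgroup meeting P trivially whose product with P is the whole group. -/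
theorem result {H : Type*} [Group H] [Finite H] (Z : Subgroup H) [Z.Normal] (χ : Cfsg.IrrCharacter H) (hfr : ∃ (θ : Cfsg.IrrCharacter ↥Z) (e : ℕ), e ^ 2 = Z.index ∧ ∀ z : ↥Z, (χ : H → ℂ) z = (e : ℂ) * (θ : ↥Z → ℂ) z) (K : Subgroup H) [K.Normal] (hZK : Z ≤ K) (p : ℕ) [Fact p.Prime] (P : Sylow p (H ⧸ K)) (hcyc : IsCyclic P) : ∃ M : Subgroup (H ⧸ K), M.IsComplement' (P : Subgroup (H ⧸ K)) := by
  classical
  haveI : Fintype H := Fintype.ofFinite H
  obtain ⟨θ, e, he, hχZ⟩ := hfr
  have hp : p.Prime := Fact.out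
  have hcyc' : ∀ Q : Subgroup (H ⧸ K), IsPGroup p Q → IsCyclic Q := by
    intro Q hQ
    obtain ⟨P', hP'⟩ := hQ.exists_le_sylow
    haveI : IsCyclic P' := isCyclic_of_surjective (Sylow.equiv P P') (Sylow.equiv P P').surjective
    haveI : IsCyclic (Q.subgroupOf (P' : Subgroup (H ⧸ K))) := inferInstance
    exact isCyclic_of_surjective (Subgroup.subgroupOfEquivOfLe hP')
      (Subgroup.subgroupOfEquivOfLe hP').surjective
  obtain ⟨M, hM⟩ := Cfsg.Agent.Lib.Helper68.FR.exists_pcompl Z χ.2 θ.2 he hχZ K hZK hp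
    (Or.inl hcyc')
  refine ⟨M, ?_⟩
  have hP : Nat.card P = p ^ (Nat.card (H ⧸ K)).factorization p := P.card_eq_multiplicity
  have h1 : Nat.card M * Nat.card (P : Subgroup (H ⧸ K)) = Nat.card (H ⧸ K) := by
    rw [hP, ← hM]
    exact M.card_mul_index
  apply Subgroup.isComplement'_of_coprime h1
  have h2 : ¬ p ∣ Nat.card M := by
    intro h3
    have h4 : p ^ ((Nat.card (H ⧸ K)).factorization p + 1) ∣ Nat.card (H ⧸ K) := by
      have h5 : p ^ ((Nat.card (H ⧸ K)).factorization p + 1) ∣
          Nat.card M * Nat.card (P : Subgroup (H ⧸ K)) := by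
        rw [hP, pow_succ, mul_comm]
        exact Nat.mul_dvd_mul_right h3 _
      rwa [h1] at h5
    exact Nat.pow_succ_factorization_not_dvd Nat.card_pos.ne' hp h4
  rw [hP]
  exact Nat.Coprime.pow_right _ (Nat.Coprime.symm ((Nat.Prime.coprime_iff_not_dvd hp).2 h2))

end Cfsg.Agent.S4564
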