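import Cfsg.Statements.S4565
import Cfsg.Agent.Lib.Helper80.FullyRamified
import Cfsg.Agent.Lib.Helper81.Schur
import Cfsg.Agent.S0886
import Cfsg.Agent.S4996

set_option autoImplicit false
open Cfsg

namespace Cfsg.Agent.S4565

open Cfsg.Agent.Lib.Helper74 Cfsg.Agent.Lib.Helper80 Cfsg.Agent.Lib.Helper81
open scoped ComplexConjugate

/-- Let χ be an irreducible character of the finite group H that is fully ramified over the normal subgroup Z: the restriction of χ to Z is e times an irreducible character of Z with e ^ 2 equal to the index of Z. If Z ≠ H, then H/Z has no cyclic subgroup that is its own centralizer. -/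
theorem result {H : Type*} [Group H] [Finite H] (Z : Subgroup H) [Z.Normal] (χ : Cfsg.IrrCharacter H) (hfr : ∃ (θ : Cfsg.IrrCharacter ↥Z) (e : ℕ), e ^ 2 = Z.index ∧ ∀ z : ↥Z, (χ : H → ℂ) z = (e : ℂ) * (θ : ↥Z → ℂ) z) (hZ : Z ≠ ⊤) (C : Subgroup (H ⧸ Z)) (hC : IsCyclic C) : Subgroup.centralizer (C : Set (H ⧸ Z)) ≠ C := by
  classical
  have := Fintype.ofFinite H
  obtain ⟨θ, e, he, hχθ⟩ := hfr
  intro hcent
  have hvan := fr_vanish Z χ θ e he hχθ
  have hinv := fr_invariant Z χ θ e he hχθ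
  have he0 : (e : ℂ) ≠ 0 := by
    have : e ≠ 0 := by
      rintro rfl
      exact Z.index_ne_zero_of_finite (by rw [← he]; simp)
    exact_mod_cast this
  obtain ⟨⟨q, hqC⟩, hq⟩ := hC.exists_generator
  have hq' : ∀ r ∈ C, r ∈ Subgroup.zpowers q := by
    intro r hr
    obtain ⟨k, hk⟩ := Subgroup.mem_zpowers_iff.1 (hq ⟨r, hr⟩)
    exact Subgroup.mem_zpowers_iff.2 ⟨k, by simpa using congrArg Subtype.val hk⟩
  obtain ⟨x, rfl⟩ := QuotientGroup.mk_surjective q
  -- the preimage of `C`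
  set D : Subgroup H := C.comap (QuotientGroup.mk' Z) with hD
  have hZD : Z ≤ D := by
    intro z hz
    rw [hD, Subgroup.mem_comap]
    have : QuotientGroup.mk' Z z = 1 := (QuotientGroup.eq_one_iff z).2 hz
    rw [this]
    exact C.one_mem
  have hmemD : ∀ y : H, y ∈ D ↔ (y : H ⧸ Z) ∈ C := fun y => Iff.rfl
  -- membership in `D` through commutation with any lift of the generator
  have hcomm : ∀ (x' : H), (x' : H ⧸ Z) = (x : H ⧸ Z) → ∀ y : H, x'⁻¹ * (y * x' * y⁻¹) ∈ Z → y ∈ D := by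
    intro x' hx' y hy
    rw [hmemD, ← SetLike.mem_coe, ← hcent, SetLike.mem_coe, Subgroup.mem_centralizer_iff]
    intro r hr
    obtain ⟨k, rfl⟩ := Subgroup.mem_zpowers_iff.1 (hq' r hr)
    have h1 : ((x'⁻¹ * (y * x' * y⁻¹) : H) : H ⧸ Z) = 1 := (QuotientGroup.eq_one_iff _).2 hy
    simp only [QuotientGroup.mk_mul, QuotientGroup.mk_inv, hx'] at h1
    have h2 : Commute (y : H ⧸ Z) (x : H ⧸ Z) := by
      have h3 : (y : H ⧸ Z) * (x : H ⧸ Z) * (y : H ⧸ Z)⁻¹ = (x : H ⧸ Z) := by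
        rw [inv_mul_eq_one] at h1
        exact h1.symm
      exact mul_inv_eq_iff_eq_mul.1 h3
    exact (h2.zpow_right k).symm
  have hxZ : x ∉ Z := by
    intro hx
    apply hZ
    have h1 : (x : H ⧸ Z) = 1 := (QuotientGroup.eq_one_iff x).2 hx
    have h2 : C = ⊥ := by
      rw [eq_bot_iff]
      intro r hr
      have := hq' r hr
      rw [h1, Subgroup.zpowers_one_eq_bot] at this
      exact this
    rw [h2] at hcent
    have h3 : (⊤ : Subgroup (H ⧸ Z)) = ⊥ := by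
      rw [← hcent]
      ext r
      simp [Subgroup.mem_centralizer_iff]
    rw [eq_top_iff]
    intro g _
    rw [← QuotientGroup.eq_one_iff]
    have : (g : H ⧸ Z) ∈ (⊤ : Subgroup (H ⧸ Z)) := Subgroup.mem_top _
    rw [h3] at this
    exact this
  have hxD : x ∈ D := hqC
  -- the extension of `θ` to `D`
  set N : Subgroup D := Z.subgroupOf D with hN
  let ε : N ≃* Z := Subgroup.subgroupOfEquivOfLe hZD
  have hε : ∀ n : N, ((ε n : Z) : H) = ((n : D) : H) := fun n => rfl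
  have hϑ : IsIrrCharacter N ((θ : Z → ℂ) ∘ ε.toMonoidHom) :=
    isIrrCharacter_comp ε.toMonoidHom ε.surjective θ.2
  have hcyc : IsCyclic (D ⧸ N) := by
    refine ⟨⟨((⟨x, hxD⟩ : D) : D ⧸ N), fun r => ?_⟩⟩
    obtain ⟨d, rfl⟩ := QuotientGroup.mk_surjective r
    obtain ⟨k, hk⟩ := Subgroup.mem_zpowers_iff.1 (hq' _ ((hmemD d).1 d.2))
    refine ⟨k, ?_⟩
    change ((⟨x, hxD⟩ : D) : D ⧸ N) ^ k = (d : D ⧸ N)
    rw [← QuotientGroup.mk_zpow, QuotientGroup.eq, hN, Subgroup.mem_subgroupOf]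
    rw [← QuotientGroup.mk_zpow, QuotientGroup.eq] at hk
    simpa using hk
  obtain ⟨φ, hφ, hφN⟩ := Cfsg.Agent.S0886.result N hcyc _ hϑ (by
    intro g n
    simp only [Function.comp_apply]
    have h1 := hinv (g : H) (ε n)
    exact h1)
  have hφc := isCharacter_of_irr hφ
  have hvanφ : ∀ n : N, φ ((n : D) * ⟨x, hxD⟩) = 0 := by
    intro n
    set c₀ : D := (n : D) * ⟨x, hxD⟩ with hc₀def
    have hnZ : ((n : D) : H) ∈ Z := Subgroup.mem_subgroupOf.1 n.2
    have hc₀ : ((c₀ : H) : H ⧸ Z) = (x : H ⧸ Z) := by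
      rw [hc₀def]
      simp only [Subgroup.coe_mul, QuotientGroup.mk_mul]
      rw [(QuotientGroup.eq_one_iff _).2 hnZ, one_mul]
    have hc₀Z : (c₀ : H) ∉ Z := by
      intro h
      apply hxZ
      rw [← QuotientGroup.eq_one_iff, ← hc₀]
      exact (QuotientGroup.eq_one_iff _).2 h
    have h1 := IsIrrCharacter.sum_mul_conj hφ c₀⁻¹ c₀
    have h2 := IsIrrCharacter.sum_mul_conj χ.2 (c₀ : H)⁻¹ (c₀ : H)
    rw [hvan _ hc₀Z, mul_zero, zero_div] at h2
    have hwZ : ∀ y : D, ((c₀⁻¹ * (y * c₀ * y⁻¹) : D) : H) ∈ Z := by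
      intro y
      rw [← QuotientGroup.eq_one_iff]
      simp only [Subgroup.coe_mul, Subgroup.coe_inv, QuotientGroup.mk_mul, QuotientGroup.mk_inv, hc₀]
      obtain ⟨k, hk⟩ := Subgroup.mem_zpowers_iff.1 (hq' _ ((hmemD y).1 y.2))
      rw [← hk]
      have h3 : Commute ((x : H ⧸ Z) ^ k) (x : H ⧸ Z) := (Commute.refl _).zpow_left k
      rw [h3.eq, mul_assoc, mul_inv_cancel, mul_one, inv_mul_cancel]
    have h3 : ∀ y : D, φ (c₀⁻¹ * (y * c₀ * y⁻¹)) =
        (e : ℂ)⁻¹ * (χ : H → ℂ) ((c₀ : H)⁻¹ * ((y : H) * (c₀ : H) * (y : H)⁻¹)) := by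
      intro y
      have h4 := hφN ⟨c₀⁻¹ * (y * c₀ * y⁻¹), Subgroup.mem_subgroupOf.2 (hwZ y)⟩
      have h5 := hχθ ⟨_, hwZ y⟩
      simp only [Subgroup.coe_mul, Subgroup.coe_inv] at h5
      rw [h5, inv_mul_cancel_left₀ he0]
      rw [h4]
      simp only [Function.comp_apply]
      congr 1
    have h4 : ∑ y : H, (χ : H → ℂ) ((c₀ : H)⁻¹ * (y * (c₀ : H) * y⁻¹)) =
        ∑ y : D, (χ : H → ℂ) ((c₀ : H)⁻¹ * ((y : H) * (c₀ : H) * (y : H)⁻¹)) := by
      rw [← Finset.sum_filter_add_sum_filter_not Finset.univ (fun g => g ∈ D)]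
      rw [← Finset.sum_subtype (p := fun g => g ∈ D) (Finset.univ.filter (fun g => g ∈ D))
        (by simp) (fun y => (χ : H → ℂ) ((c₀ : H)⁻¹ * (y * (c₀ : H) * y⁻¹)))]
      rw [add_eq_left]
      apply Finset.sum_eq_zero
      intro y hy
      apply hvan
      intro hmem
      exact (Finset.mem_filter.1 hy).2 (hcomm _ hc₀ y hmem)
    rw [Finset.sum_congr rfl (fun y _ => h3 y), ← Finset.mul_sum, ← h4, h2, mul_zero] at h1
    have h5 : (Fintype.card D : ℂ) ≠ 0 := by exact_mod_cast Fintype.card_ne_zero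
    have h6 := char_one_ne_zero_of_irr hφ
    have h7 : φ c₀⁻¹ * φ c₀ = 0 := by
      have h8 := h1.symm
      rw [div_eq_zero_iff] at h8
      rcases h8 with h8 | h8
      · rw [mul_assoc] at h8
        exact (mul_eq_zero.1 h8).resolve_left h5
      · exact absurd h8 h6
    rw [IsCharacter.inv hφc] at h7
    rcases mul_eq_zero.1 h7 with h8 | h8
    · simpa using h8
    · exact h8
  have h9 := (Cfsg.Agent.S4996.result N ⟨φ, hφ⟩).2 ⟨⟨x, hxD⟩, hvanφ⟩
  apply h9
  have h10 : (fun n : N => φ n) = (θ : Z → ℂ) ∘ ε.toMonoidHom := funext hφN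
  change IsIrrCharacter N (fun n : N => φ n)
  rw [h10]
  exact hϑ

end Cfsg.Agent.S4565
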