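import Cfsg.Statements.S4591
import Mathlib
import Cfsg.Agent.Lib.Helper15.RealP2
import Cfsg.Agent.Lib.Helper15.CoprimeCount
import Cfsg.Agent.Lib.Helper2.PComplement
import Cfsg.Agent.Lib.Helper2.PGroupFrattini
import Cfsg.Agent.S0081
import Cfsg.Agent.Lib.Helper80.Eigen
import Cfsg.Agent.Lib.Helper67.PTools
import Cfsg.Agent.Lib.Helper3.Irr

set_option autoImplicit false
open Cfsg

namespace Cfsg.Agent.S4591


open Cfsg.Agent.Lib Cfsg.Agent.Lib.Helper15
open scoped ComplexConjugate

/-- a character of degree prime to `p` has an irreducible constituent of degree prime to `p` -/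
theorem exists_constituent_not_dvd {H : Type*} [Group H] [Fintype H] (p : ℕ) {Φ : H → ℂ}
    (hΦ : IsCharacter H Φ) (hd : ¬ p ∣ charDegree Φ) :
    ∃ ξ : IrrCharacter H, classInner Φ (ξ : H → ℂ) ≠ 0 ∧ ¬ p ∣ charDegree (ξ : H → ℂ) := by
  by_contra hcon
  push Not at hcon
  obtain ⟨m, hm, -, hsum⟩ := Helper80.exists_mult_spec hΦ
  apply hd
  rw [hsum]
  apply Finset.dvd_sum
  intro ξ _
  by_cases h0 : m ξ = 0
  · rw [h0, zero_mul]; exact dvd_zero _
  exact Dvd.dvd.mul_left (hcon ξ (by rw [hm]; exact_mod_cast h0)) _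

/-- an irreducible character of degree prime to `p` of a subgroup of index prime to `p` lies under
an irreducible character of degree prime to `p` -/
theorem exists_over_not_dvd {G : Type*} [Group G] [Fintype G] (p : ℕ) (hp : p.Prime)
    (H : Subgroup G) [Fintype H] (hH : ¬ p ∣ H.index) {ψ : H → ℂ} (hψ : IsIrrCharacter H ψ)
    (hd : ¬ p ∣ charDegree ψ) :
    ∃ χ : IrrCharacter G, ¬ p ∣ charDegree (χ : G → ℂ) ∧
      classInner (fun h : H => (χ : G → ℂ) h) ψ ≠ 0 := by
  have hc : IsCharacter G (indFun H ψ) := char_indFun H (irr_char hψ)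
  have hdeg : charDegree (indFun H ψ) = H.index * charDegree ψ := by
    have h1 := indFun_one H ψ
    rw [Helper80.char_one_eq_charDegree hc, Helper80.char_one_eq_charDegree (irr_char hψ)] at h1
    exact_mod_cast h1
  obtain ⟨χ, h1, h2⟩ := exists_constituent_not_dvd p hc (by
    rw [hdeg]
    intro h
    rcases hp.dvd_mul.1 h with h | h
    · exact hH h
    · exact hd h)
  refine ⟨χ, h2, ?_⟩
  rw [classInner_indFun_left H ψ χ (irr_cf χ.2)] at h1
  rw [inner_comm_of_char (char_restrict (irr_char χ.2) H) (irr_char hψ)]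
  exact h1

/-- the kernel of a character is contained in the kernel of its constituents -/
theorem ker_of_constituent {H : Type*} [Group H] [Fintype H] {Φ : H → ℂ} (hΦ : IsCharacter H Φ)
    (ξ : IrrCharacter H) (h : classInner Φ (ξ : H → ℂ) ≠ 0) {x : H} (hx : Φ x = Φ 1) :
    (ξ : H → ℂ) x = (ξ : H → ℂ) 1 := by
  obtain ⟨Φ', hΦ', hsum⟩ := Helper80.exists_add_of_constituent hΦ ξ h
  have key : ∀ {θ : H → ℂ}, IsCharacter H θ → ∃ n : ℕ, θ 1 = n ∧ ‖θ x‖ ≤ n := by
    intro θ hθ
    obtain ⟨n, ρ, rfl⟩ := hθ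
    refine ⟨n, ?_, ?_⟩
    · rw [Representation.char_one]; simp
    · have := Helper80.norm_char_le ρ x
      simpa using this
  obtain ⟨a, ha1, ha⟩ := key (irr_char ξ.2)
  obtain ⟨b, hb1, hb⟩ := key hΦ'
  have e1 : (ξ : H → ℂ) x + Φ' x = (a : ℂ) + b := by
    have h1 := congrFun hsum x
    have h2 := congrFun hsum 1
    simp only [Pi.add_apply] at h1 h2
    rw [← h1, hx, h2, ha1, hb1]
  have r1 : ((ξ : H → ℂ) x).re ≤ a := (Complex.re_le_norm _).trans ha
  have r2 : (Φ' x).re ≤ b := (Complex.re_le_norm _).trans hb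
  have r3 : ((ξ : H → ℂ) x).re + (Φ' x).re = (a : ℝ) + b := by
    have := congrArg Complex.re e1
    simpa using this
  have r4 : ((ξ : H → ℂ) x).re = a := by linarith
  have r5 : ((ξ : H → ℂ) x).im = 0 := by
    have h1 : ‖(ξ : H → ℂ) x‖ ^ 2 ≤ (a : ℝ) ^ 2 := by
      apply pow_le_pow_left₀ (norm_nonneg _) ha
    rw [← Complex.normSq_eq_norm_sq, Complex.normSq_apply, r4] at h1
    nlinarith [mul_self_nonneg ((ξ : H → ℂ) x).im]
  rw [ha1]
  apply Complex.ext
  · simpa using r4
  · simpa using r5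

/-- every `p`-subgroup is conjugate into a given Sylow `p`-subgroup -/
theorem exists_conj_le_sylow {G : Type*} [Group G] [Finite G] {p : ℕ} [Fact p.Prime]
    (P : Sylow p G) (Q : Subgroup G) (hQ : IsPGroup p Q) :
    ∃ g : G, ∀ x ∈ Q, g * x * g⁻¹ ∈ (P : Subgroup G) := by
  obtain ⟨R, hR⟩ := hQ.exists_le_sylow
  obtain ⟨g, hg⟩ := MulAction.exists_smul_eq G R P
  refine ⟨g, fun x hx => ?_⟩
  rw [← hg, Sylow.coe_subgroup_smul]
  have := Subgroup.smul_mem_pointwise_smul x (MulAut.conj g) (R : Subgroup G) (hR hx)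
  simpa [MulAut.conj_apply] using this

/-- Let G be a finite group, p a prime and P a Sylow p-subgroup, and let N be the largest normal subgroup of G in which P has trivial centralizer (N is normal with C_N(P) = 1 and contains every normal subgroup with that property). Then the intersection of the kernels of the irreducible characters of G of degree prime to p is the normal core in G of the subgroup N·P' (P' the derived subgroup of P). In particular, when G has no nontrivial normal subgroup of order prime to p, that intersection is the normal core of P'. -/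
theorem result {G : Type*} [Group G] [Finite G] (p : ℕ) [Fact p.Prime] (P : Sylow p G) (N : Subgroup G) [N.Normal]
    (hN : N ⊓ Subgroup.centralizer ((P : Subgroup G) : Set G) = ⊥)
    (hmax : ∀ L : Subgroup G, L.Normal → L ⊓ Subgroup.centralizer ((P : Subgroup G) : Set G) = ⊥ → L ≤ N) :
    {g : G | ∀ χ : Cfsg.IrrCharacter G, ¬ p ∣ Cfsg.charDegree (χ : G → ℂ) → (χ : G → ℂ) g = (χ : G → ℂ) 1} =
      ((N ⊔ ⁅(P : Subgroup G), (P : Subgroup G)⁆).normalCore : Set G) := by
  classical
  have := Fintype.ofFinite G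
  have hp : p.Prime := Fact.out
  -- `N` meets `P` trivially
  have hNP : N ⊓ (P : Subgroup G) = ⊥ := by
    by_contra hne
    obtain ⟨d, hd, hd1, hfix⟩ := Helper67.exists_fixed_of_pGroup_normalizes (P : Subgroup G)
      (N ⊓ (P : Subgroup G)) P.2 (P.2.to_le inf_le_right) hne (by
        intro s hs
        rw [Subgroup.mem_normalizer_iff]
        intro h
        rw [Subgroup.mem_inf, Subgroup.mem_inf]
        constructor
        · rintro ⟨h1, h2⟩
          exact ⟨‹N.Normal›.conj_mem h h1 s,
            (P : Subgroup G).mul_mem ((P : Subgroup G).mul_mem hs h2) ((P : Subgroup G).inv_mem hs)⟩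
        · rintro ⟨h1, h2⟩
          constructor
          · have := ‹N.Normal›.conj_mem _ h1 s⁻¹
            simpa [mul_assoc] using this
          · have := (P : Subgroup G).mul_mem ((P : Subgroup G).mul_mem
              ((P : Subgroup G).inv_mem hs) h2) hs
            simpa [mul_assoc] using this)
    apply hd1
    have : d ∈ N ⊓ Subgroup.centralizer ((P : Subgroup G) : Set G) := by
      rw [Subgroup.mem_inf]
      refine ⟨(Subgroup.mem_inf.1 hd).1, ?_⟩
      rw [Subgroup.mem_centralizer_iff]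
      intro s hs
      have := hfix s hs
      rw [mul_inv_eq_iff_eq_mul] at this
      exact this
    rw [hN] at this
    exact this
  have hcopN : (Nat.card N).Coprime (Nat.card (P : Subgroup G)) := by
    obtain ⟨k, hk⟩ := P.2.exists_card_eq
    have hk' : Nat.card (P : Subgroup G) = p ^ k := hk
    rw [hk']
    apply Nat.Coprime.pow_right
    rw [Nat.coprime_comm, hp.coprime_iff_not_dvd]
    intro hdvd
    obtain ⟨x, hx⟩ := exists_prime_orderOf_dvd_card' p hdvd
    have hz : IsPGroup p (Subgroup.zpowers (x : G)) := by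
      apply IsPGroup.of_card (n := 1)
      rw [Nat.card_zpowers, Subgroup.orderOf_coe, hx, pow_one]
    obtain ⟨g, hg⟩ := exists_conj_le_sylow P _ hz
    have h1 : g * (x : G) * g⁻¹ ∈ N ⊓ (P : Subgroup G) :=
      Subgroup.mem_inf.2 ⟨‹N.Normal›.conj_mem _ x.2 g, hg _ (Subgroup.mem_zpowers _)⟩
    rw [hNP, Subgroup.mem_bot, conj_eq_one_iff] at h1
    have h2 : x = 1 := Subtype.ext h1
    rw [h2, orderOf_one] at hx
    exact hp.one_lt.ne hx
  -- Part A
  have hA : ∀ χ : IrrCharacter G, ¬ p ∣ charDegree (χ : G → ℂ) →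
      ∀ g ∈ (N ⊔ ⁅(P : Subgroup G), (P : Subgroup G)⁆).normalCore,
        (χ : G → ℂ) g = (χ : G → ℂ) 1 := by
    intro χ hχ g hg
    have hN' := ker_of_not_dvd p N (P : Subgroup G) P.2 hcopN hN χ hχ
    obtain ⟨ψ, hψ, hψχ⟩ := Helper80.exists_deflate_irr N χ.2 hN'
    have hdeg : charDegree ψ = charDegree (χ : G → ℂ) := by
      unfold charDegree
      rw [← hψχ 1]
      rfl
    set R := (N ⊔ ⁅(P : Subgroup G), (P : Subgroup G)⁆).normalCore with hR
    have hRn : (R.map (QuotientGroup.mk' N)).Normal :=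
      Subgroup.Normal.map inferInstance _ (QuotientGroup.mk'_surjective N)
    have hle : R.map (QuotientGroup.mk' N) ≤ ⁅(P : Subgroup G).map (QuotientGroup.mk' N),
        (P : Subgroup G).map (QuotientGroup.mk' N)⁆ := by
      rw [← Subgroup.map_commutator]
      calc R.map (QuotientGroup.mk' N)
          ≤ (N ⊔ ⁅(P : Subgroup G), (P : Subgroup G)⁆).map (QuotientGroup.mk' N) :=
            Subgroup.map_mono (Subgroup.normalCore_le _)
        _ = _ := by
            rw [Subgroup.map_sup, QuotientGroup.map_mk'_self, bot_sup_eq]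
    have h1 := ker_of_le_commutator p ((P : Subgroup G).map (QuotientGroup.mk' N))
      (R.map (QuotientGroup.mk' N)) (P.2.map _) hle ⟨ψ, hψ⟩ (by rw [hdeg]; exact hχ)
      (QuotientGroup.mk' N g) (Subgroup.mem_map_of_mem _ hg)
    rw [← hψχ g, ← hψχ 1]
    exact h1
  -- the kernel
  let K : Subgroup G := ⨅ χ : {χ : IrrCharacter G // ¬ p ∣ charDegree (χ : G → ℂ)},
    Helper80.charKer (χ.1 : G → ℂ) (irr_char χ.1.2)
  have hKmem : ∀ g, g ∈ K ↔ ∀ χ : IrrCharacter G, ¬ p ∣ charDegree (χ : G → ℂ) →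
      (χ : G → ℂ) g = (χ : G → ℂ) 1 := by
    intro g
    simp only [K, Subgroup.mem_iInf, Helper80.mem_charKer, Subtype.forall]
  have hKn : K.Normal := Subgroup.normal_iInf_normal (fun χ => Helper80.charKer_normal _)
  have hKP : K ⊓ (P : Subgroup G) ≤ ⁅(P : Subgroup G), (P : Subgroup G)⁆ := by
    intro x hx
    obtain ⟨hxK, hxP⟩ := Subgroup.mem_inf.1 hx
    by_contra hcon
    have hx' : (⟨x, hxP⟩ : (P : Subgroup G)) ∉ commutator (P : Subgroup G) := by
      intro h
      apply hcon
      rw [← Subgroup.map_subtype_commutator]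
      exact ⟨_, h, rfl⟩
    have hne : (Abelianization.of (⟨x, hxP⟩ : (P : Subgroup G))) ≠ 1 := by
      intro h
      apply hx'
      exact (QuotientGroup.eq_one_iff _).1 h
    obtain ⟨φ, hφ⟩ := CommGroup.exists_apply_ne_one_of_hasEnoughRootsOfUnity
      (Abelianization (P : Subgroup G)) ℂ hne
    let μ : (P : Subgroup G) →* ℂˣ := φ.comp Abelianization.of
    have hμ := Helper74.isIrrCharacter_of_hom μ
    obtain ⟨χ, hχ1, hχ2⟩ := exists_over_not_dvd p hp (P : Subgroup G) P.not_dvd_index hμ (by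
      have : charDegree (fun g => ((μ g : ℂˣ) : ℂ)) = 1 := by
        unfold charDegree
        simp
      rw [this]
      exact hp.one_lt.ne' ∘ Nat.dvd_one.1)
    have h1 := ker_of_constituent (char_restrict (irr_char χ.2) (P : Subgroup G)) ⟨_, hμ⟩ hχ2
      (x := ⟨x, hxP⟩) ((hKmem x).1 hxK χ hχ1)
    apply hφ
    have h2 : ((μ ⟨x, hxP⟩ : ℂˣ) : ℂ) = ((μ 1 : ℂˣ) : ℂ) := h1
    rw [map_one] at h2
    exact Units.ext h2
  have hT : HasNormalPComplement p K := Cfsg.Agent.S0081.result P K (hKP.trans (by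
    rw [← Subgroup.map_subtype_commutator]
    exact Subgroup.map_mono (Helper2.commutator_le_frattini P.2)))
  rw [Helper2.hasNormalPComplement_iff] at hT
  let L : Subgroup G := (pResidual p K).map K.subtype
  have hLn : L.Normal := ConjAct.normal_of_characteristic_of_normal
  have hLcard : Nat.card L = Nat.card (pResidual p K) :=
    Subgroup.card_map_of_injective K.subtype_injective
  have hLK : L ≤ K := Subgroup.map_subtype_le _
  have hLp : (Nat.card L).Coprime p := by rw [hLcard]; exact hT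
  have hcopL : (Nat.card L).Coprime (Nat.card (P : Subgroup G)) := by
    obtain ⟨k, hk⟩ := P.2.exists_card_eq
    have hk' : Nat.card (P : Subgroup G) = p ^ k := hk
    rw [hk']
    exact Nat.Coprime.pow_right _ hLp
  have hinv : ∀ θ : IrrCharacter L, InvUnder L (P : Subgroup G) (θ : L → ℂ) →
      (θ : L → ℂ) = fun _ => 1 := by
    intro θ hθ
    set H : Subgroup G := L ⊔ (P : Subgroup G) with hH
    have hLH : L ≤ H := le_sup_left
    have hPH : (P : Subgroup G) ≤ H := le_sup_right
    have hL'n : (L.subgroupOf H).Normal := hLn.subgroupOf H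
    have hθ' := irr_downFun hLH θ.2
    have hin : H ≤ inertia L (θ : L → ℂ) :=
      sup_le (le_inertia L (irr_cf θ.2)) ((invUnder_iff_le_inertia (P : Subgroup G) _).1 hθ)
    have hcop' : (Nat.card (L.subgroupOf H)).Coprime (L.subgroupOf H).index := by
      have h1 : Nat.card (L.subgroupOf H) = Nat.card L :=
        Nat.card_congr (Subgroup.subgroupOfEquivOfLe hLH).toEquiv
      have h2 : (L.subgroupOf H).index ∣ Nat.card (P : Subgroup G) := by
        show L.relIndex H ∣ _
        rw [hH, sup_comm, Subgroup.relIndex_sup_right]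
        exact Subgroup.relIndex_dvd_card _ _
      rw [h1]
      exact Nat.Coprime.coprime_dvd_right h2 hcopL
    obtain ⟨ψ, hψ, hψθ⟩ := exists_extension_of_coprime (L.subgroupOf H) hcop' hθ' (by
      intro g n
      have h1 := (mem_inertia L _ _).1 (hin g.2)
      have h2 := congrFun h1 ⟨((n : H) : G), Subgroup.mem_subgroupOf.1 n.2⟩
      exact h2)
    have hψ1 : ψ 1 = (θ : L → ℂ) 1 := hψθ 1
    have hdeg : charDegree ψ = charDegree (θ : L → ℂ) := by
      unfold charDegree
      rw [hψ1]
    obtain ⟨χ, hχ1, hχ2⟩ := exists_over_not_dvd p hp H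
      (fun h => P.not_dvd_index (h.trans (Subgroup.index_dvd_of_le hPH))) hψ (by
        rw [hdeg]
        intro h
        have h1 := h.trans (Helper78.irr_charDegree_dvd_card θ)
        exact (hp.coprime_iff_not_dvd.1 hLp.symm) h1)
    have hconst : ∀ l : L, (θ : L → ℂ) l = (θ : L → ℂ) 1 := by
      intro l
      have h1 := ker_of_constituent (char_restrict (irr_char χ.2) H) ⟨ψ, hψ⟩ hχ2
        (x := ⟨(l : G), hLH l.2⟩) ((hKmem l).1 (hLK l.2) χ hχ1)
      have h2 := hψθ ⟨⟨(l : G), hLH l.2⟩, Subgroup.mem_subgroupOf.2 l.2⟩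
      have h3 : ψ ⟨(l : G), hLH l.2⟩ = (θ : L → ℂ) l := h2
      rw [← h3, ← hψ1]
      exact h1
    apply irr_eq_of_inner_ne_zero θ.2 irr_one
    unfold classInner
    simp only [hconst, map_one, mul_one, Finset.sum_const, Finset.card_univ, nsmul_eq_mul]
    rw [← Nat.card_eq_fintype_card, ← mul_assoc, inv_mul_cancel₀ (card_ne_zero L), one_mul]
    exact irr_one_ne_zero θ.2
  have hLC : L ⊓ Subgroup.centralizer ((P : Subgroup G) : Set G) = ⊥ := by
    have hsolv : Group.IsSolvable (P : Subgroup G) := by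
      have := P.2.isNilpotent
      infer_instance
    have hcard := card_inv_eq (P : Subgroup G) hsolv _ L rfl
      (fun s _ g hg => hLn.conj_mem g hg s) hcopL
    have h1 : Nat.card {χ : IrrCharacter L // InvUnder L (P : Subgroup G) (χ : L → ℂ)} = 1 := by
      rw [Nat.card_eq_one_iff_unique]
      exact ⟨⟨fun a b => Subtype.ext (Subtype.ext ((hinv a.1 a.2).trans (hinv b.1 b.2).symm))⟩,
        ⟨⟨⟨fun _ => 1, irr_one⟩, fun _ _ _ _ _ => rfl⟩⟩⟩
    rw [h1, Helper3.card_irrCharacter] at hcard
    have hsub := (Nat.card_eq_one_iff_unique.1 hcard.symm).1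
    rw [eq_bot_iff]
    intro x hx
    have h2 : ConjClasses.mk (⟨x, hx⟩ : ↥(L ⊓ Subgroup.centralizer ((P : Subgroup G) : Set G)))
        = ConjClasses.mk 1 := Subsingleton.elim _ _
    rw [ConjClasses.mk_eq_mk_iff_isConj, isConj_one_left] at h2
    exact congrArg Subtype.val h2
  have hLN : L ≤ N := hmax L hLn hLC
  have hKle : K ≤ N ⊔ ⁅(P : Subgroup G), (P : Subgroup G)⁆ := by
    obtain ⟨PK⟩ : Nonempty (Sylow p K) := inferInstance
    have hsup := Helper2.pResidual_sup_sylow PK
    set Q : Subgroup G := (PK : Subgroup K).map K.subtype with hQ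
    have hLQ : L ⊔ Q = K := by
      rw [← Subgroup.map_sup, hsup, ← MonoidHom.range_eq_map, Subgroup.range_subtype]
    obtain ⟨g, hg⟩ := exists_conj_le_sylow P Q (PK.2.map _)
    have hW : K ≤ (N ⊔ ⁅(P : Subgroup G), (P : Subgroup G)⁆).comap (MulAut.conj g).toMonoidHom := by
      rw [← hLQ]
      apply sup_le
      · intro l hl
        rw [Subgroup.mem_comap]
        exact le_sup_left (a := N) (hLN (hLn.conj_mem l hl g))
      · intro x hx
        rw [Subgroup.mem_comap]
        apply le_sup_right (a := N)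
        apply hKP
        exact Subgroup.mem_inf.2 ⟨hKn.conj_mem x (Subgroup.map_subtype_le _ hx) g, hg x hx⟩
    intro k hk
    have h1 := hW (hKn.conj_mem k hk g⁻¹)
    rw [Subgroup.mem_comap] at h1
    simpa [MulAut.conj_apply, mul_assoc] using h1
  ext g
  constructor
  · intro hg
    exact (Subgroup.normal_le_normalCore.2 hKle) ((hKmem g).2 hg)
  · intro hg χ hχ
    exact hA χ hχ g hg

end Cfsg.Agent.S4591
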