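import Cfsg.Statements.S4667
import Cfsg.Agent.Lib.Helper97.BlockRank
import Cfsg.Agent.Lib.Helper77.BlockBasic

set_option autoImplicit false
open Cfsg Cfsg.Agent.Lib.Helper77
open Cfsg

namespace Cfsg.Agent.S4667

/-- Fix a prime p and a maximal ideal M of the algebraic integers containing p, and a p-block B of the finite group G. The p-regular rank of B (the number of irreducible Brauer characters in B) times the order of G equals the sum over the p-regular elements x of G of Σ_{χ ∈ B} χ(x) χ(x⁻¹) (written with the restriction of χ to p-regular elements, which vanishes at p-singular x). -/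
theorem result {G : Type*} [Group G] [Fintype G] (p : ℕ) [Fact p.Prime] (M : Ideal Cfsg.AlgInt) (hM : Cfsg.IsPModular p M) (B : Set (Cfsg.IrrCharacter G)) (hB : Cfsg.IsPBlock M B) : (Nat.card G : ℂ) * (Cfsg.blockRank p B : ℂ) = ∑ x : G, ∑ᶠ χ ∈ B, Cfsg.pRegularPart p (χ : G → ℂ) x * (χ : G → ℂ) x⁻¹ := by
  classical
  have hMp := Cfsg.Agent.Lib.Helper78.pmod_isPrime hM
  have h1 := Cfsg.Agent.Lib.Helper97.blockRank_eq hM B (fun ψ hψ => by
    rw [← Cfsg.Agent.Lib.Helper78.IsPBlock.eq_blockOf hMp hB hψ])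
  rw [h1, Nat.card_eq_fintype_card, ← mul_assoc,
    mul_inv_cancel₀ (by exact_mod_cast Fintype.card_ne_zero), one_mul]
  refine Finset.sum_congr rfl fun c _ => ?_
  by_cases hc : p ∣ orderOf c
  · rw [if_neg (not_not.2 hc)]
    symm
    simp only [Cfsg.Agent.Lib.Helper97.pRegularPart_of_sing _ hc, zero_mul, finsum_zero]
  · rw [if_pos hc]
    refine finsum_congr fun χ => finsum_congr fun _ => ?_
    rw [Cfsg.Agent.Lib.Helper97.pRegularPart_of_reg _ hc, Cfsg.Agent.Lib.Helper78.irr_inv]

end Cfsg.Agent.S4667
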