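import Cfsg.Statements.S4733
import Cfsg.Agent.Lib.Helper78.DefectZero
import Cfsg.Agent.S0907
import Cfsg.Agent.S0914

set_option autoImplicit false
open Cfsg

namespace Cfsg.Agent.S4733

open Cfsg.Agent.Lib.Helper78
open scoped ComplexConjugate

section aux
variable {G : Type*} [Group G] [Finite G]

omit [Finite G] in
theorem blockDefect_eq_zero_iff (p : ℕ) {B : Set (IrrCharacter G)} (hB : B.Nonempty) :
    blockDefect p B = 0 ↔
      ∀ χ ∈ B, (Nat.card G).factorization p ≤ (charDegree (χ : G → ℂ)).factorization p := by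
  unfold blockDefect
  rw [Nat.sub_eq_zero_iff_le, le_csInf_iff (OrderBot.bddBelow _) (hB.image _)]
  exact Set.forall_mem_image

theorem not_dvd_div_iff {p : ℕ} (hp : p.Prime) (χ : IrrCharacter G) :
    ¬ p ∣ Nat.card G / charDegree (χ : G → ℂ) ↔
      (Nat.card G).factorization p ≤ (charDegree (χ : G → ℂ)).factorization p := by
  have hd := irr_charDegree_dvd_card χ
  have hne : Nat.card G / charDegree (χ : G → ℂ) ≠ 0 := by
    have h1 : 0 < Nat.card G / charDegree (χ : G → ℂ) :=
      Nat.div_pos (Nat.le_of_dvd Nat.card_pos hd) (irr_charDegree_pos χ)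
    omega
  rw [hp.dvd_iff_one_le_factorization hne, Nat.factorization_div hd]
  simp only [Finsupp.coe_tsub, Pi.sub_apply]
  omega

omit [Finite G] in
theorem pRegularPart_one (p : ℕ) (hp : p.Prime) (χ : G → ℂ) : pRegularPart p χ 1 = χ 1 := by
  unfold pRegularPart
  rw [if_pos]
  unfold IsPRegular
  rw [orderOf_one]
  exact hp.one_lt.ne' ∘ Nat.dvd_one.1

end aux

/-- Let p be a prime, M a maximal ideal of the algebraic integers containing p, and B a p-block of the finite group G with k irreducible characters and p-regular rank l (the number of irreducible Brauer characters). Then l ≤ k, and the following are equivalent: B has defect 0; k = l = 1; k = l. -/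
theorem result {G : Type*} [Group G] [Finite G] (p : ℕ) [Fact p.Prime] (M : Ideal Cfsg.AlgInt) (hM : Cfsg.IsPModular p M) (B : Set (Cfsg.IrrCharacter G)) (hB : Cfsg.IsPBlock M B) : Cfsg.blockRank p B ≤ Nat.card B ∧ (Cfsg.blockDefect p B = 0 ↔ (Nat.card B = 1 ∧ Cfsg.blockRank p B = 1)) ∧ (Cfsg.blockDefect p B = 0 ↔ Nat.card B = Cfsg.blockRank p B) := by
  classical
  have hp : p.Prime := Fact.out
  have hMp := pmod_isPrime hM
  have hne := IsPBlock.nonempty hMp hB
  have := Fintype.ofFinite G
  have hrange : Set.range (fun χ : B => pRegularPart p ((χ : IrrCharacter G) : G → ℂ))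
      = (fun χ : IrrCharacter G => pRegularPart p (χ : G → ℂ)) '' B := by
    ext f; simp
  have h1 : Cfsg.blockRank p B ≤ Nat.card B := by
    unfold blockRank
    rw [← hrange, Nat.card_eq_fintype_card]
    exact finrank_range_le_card _
  have h2 : Cfsg.blockDefect p B = 0 → (Nat.card B = 1 ∧ Cfsg.blockRank p B = 1) := by
    intro h0
    obtain ⟨χ, hχ⟩ := hne
    have h3 := (blockDefect_eq_zero_iff p ⟨χ, hχ⟩).1 h0 χ hχ
    have h4 := (Cfsg.Agent.S0914.result p M hM χ).1 ((not_dvd_div_iff hp χ).2 h3)
    have h5 : B = {χ} := by rw [IsPBlock.eq_blockOf hMp hB hχ, h4]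
    subst h5
    refine ⟨by simp, ?_⟩
    unfold blockRank
    rw [Set.image_singleton]
    apply finrank_span_singleton
    intro h6
    have h7 := congrFun h6 1
    rw [pRegularPart_one p hp] at h7
    exact irr_one_ne_zero χ h7
  have h3 : Nat.card B = Cfsg.blockRank p B → Cfsg.blockDefect p B = 0 := by
    intro hcard
    have hli : LinearIndependent ℂ (fun χ : B => pRegularPart p ((χ : IrrCharacter G) : G → ℂ)) := by
      rw [linearIndependent_iff_card_eq_finrank_span, ← Nat.card_eq_fintype_card, hcard]
      unfold blockRank Set.finrank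
      rw [hrange]
    rw [Fintype.linearIndependent_iff] at hli
    have hvan : ∀ y : G, p ∣ orderOf y → ∀ χ ∈ B, (χ : G → ℂ) y = 0 := by
      intro y hy χ hχ
      have h4 := hli (fun χ => conj (((χ : IrrCharacter G) : G → ℂ) y)) ?_ ⟨χ, hχ⟩
      · simpa using h4
      · funext x
        rw [Finset.sum_apply]
        simp only [Pi.smul_apply, smul_eq_mul, Pi.zero_apply]
        by_cases hx : p ∣ orderOf x
        · apply Finset.sum_eq_zero
          intro ψ _
          unfold pRegularPart IsPRegular
          rw [if_neg (not_not.2 hx), mul_zero]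
        · have h5 := Cfsg.Agent.S0907.result p M hM B hB x y hx hy
          rw [← finsum_set_coe_eq_finsum_mem, finsum_eq_sum_of_fintype] at h5
          rw [← h5]
          refine Finset.sum_congr rfl fun ψ _ => ?_
          unfold pRegularPart IsPRegular
          rw [if_pos hx, mul_comm]
    rw [blockDefect_eq_zero_iff p hne]
    intro χ hχ
    obtain ⟨P⟩ : Nonempty (Sylow p G) := inferInstance
    have h6 : Nat.card P ∣ charDegree (χ : G → ℂ) := by
      apply card_dvd_charDegree_of_vanish (Cfsg.Agent.Lib.Helper74.IrrCharacter.isCharacter χ)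
      intro u hu hu1
      apply hvan u _ χ hχ
      obtain ⟨k, hk⟩ := (IsPGroup.iff_orderOf.1 P.2) ⟨u, hu⟩
      rw [Subgroup.orderOf_mk] at hk
      rw [hk]
      apply dvd_pow_self
      rintro rfl
      rw [pow_zero, orderOf_eq_one_iff] at hk
      exact hu1 hk
    rw [P.card_eq_multiplicity] at h6
    exact (hp.pow_dvd_iff_le_factorization (irr_charDegree_pos χ).ne').1 h6
  refine ⟨h1, ⟨h2, fun h => h3 (h.1.trans h.2.symm)⟩, ⟨fun h => ?_, h3⟩⟩
  have := h2 h
  rw [this.1, this.2]

end Cfsg.Agent.S4733
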