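import Cfsg.Statements.S4765
import Cfsg.Agent.Lib.Helper41.PSL2Deg
import Cfsg.Agent.S2300

set_option autoImplicit false
open Cfsg

namespace Cfsg.Agent.S4765

open Cfsg.Agent.Lib.Helper41

/-- abstract form: a unique irreducible character has degree `q`, and all degrees divisible by `p`
are equal to `q`. -/
theorem package {G : Type*} [Group G] (p q : ℕ) (hpq : p ∣ q)
    (hdeg : ∀ χ : IrrCharacter G, p ∣ charDegree (χ : G → ℂ) → charDegree (χ : G → ℂ) = q)
    (χ₀ : IrrCharacter G) (h₀ : charDegree (χ₀ : G → ℂ) = q)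
    (huniq : ∀ χ : IrrCharacter G, charDegree (χ : G → ℂ) = q → χ = χ₀) :
    Nat.card {χ : IrrCharacter G // p ∣ charDegree (χ : G → ℂ)} = 1 := by
  rw [Nat.card_eq_one_iff_unique]
  refine ⟨⟨?_⟩, ⟨⟨χ₀, h₀ ▸ hpq⟩⟩⟩
  rintro ⟨a, ha⟩ ⟨b, hb⟩
  apply Subtype.ext
  show a = b
  rw [huniq a (hdeg a ha), huniq b (hdeg b hb)]

theorem not_dvd_aux (p q n : ℕ) (hp : p.Prime) (hn : n ≠ 0) (hq : q = p ^ n) (d : ℕ)
    (hd : d ∣ q + 1 ∨ d ∣ q - 1) (hq2 : 2 ≤ q) : ¬ p ∣ d := by
  intro h
  have hpq : p ∣ q := by rw [hq]; exact dvd_pow_self p hn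
  rcases hd with hd | hd
  · have := (Nat.dvd_add_right hpq).1 (h.trans hd)
    exact hp.one_lt.ne' (Nat.dvd_one.1 this)
  · have h1 : p ∣ q - 1 := h.trans hd
    have h2 : p ∣ (q - 1) + 1 := by rw [Nat.sub_add_cancel (by omega)]; exact hpq
    have := (Nat.dvd_add_right h1).1 h2
    exact hp.one_lt.ne' (Nat.dvd_one.1 this)

/-- Let F be a finite field of characteristic p with at least 4 elements. Then PSL(2,F) has exactly one irreducible complex character of degree divisible by p, and its degree is the order of F. -/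
theorem result (p : ℕ) [Fact p.Prime] (F : Type*) [Field F] [Fintype F] [CharP F p] (hF : 4 ≤ Fintype.card F) : Nat.card {χ : Cfsg.IrrCharacter (Matrix.ProjectiveSpecialLinearGroup (Fin 2) F) // p ∣ Cfsg.charDegree (χ : Matrix.ProjectiveSpecialLinearGroup (Fin 2) F → ℂ)} = 1 ∧ ∀ χ : Cfsg.IrrCharacter (Matrix.ProjectiveSpecialLinearGroup (Fin 2) F), p ∣ Cfsg.charDegree (χ : Matrix.ProjectiveSpecialLinearGroup (Fin 2) F → ℂ) → Cfsg.charDegree (χ : Matrix.ProjectiveSpecialLinearGroup (Fin 2) F → ℂ) = Fintype.card F := by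
  classical
  have hp : p.Prime := Fact.out
  obtain ⟨n, -, hn⟩ := FiniteField.card F p
  have hpq : p ∣ Fintype.card F := by rw [hn]; exact dvd_pow_self p n.ne_zero
  -- the degrees
  have hdeg : ∀ χ : IrrCharacter (Matrix.ProjectiveSpecialLinearGroup (Fin 2) F),
      p ∣ charDegree (χ : Matrix.ProjectiveSpecialLinearGroup (Fin 2) F → ℂ) →
      charDegree (χ : Matrix.ProjectiveSpecialLinearGroup (Fin 2) F → ℂ) = Fintype.card F := by
    intro χ hχ
    have hmem : charDegree (χ : Matrix.ProjectiveSpecialLinearGroup (Fin 2) F → ℂ) ∈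
      charDegrees (Matrix.SpecialLinearGroup (Fin 2) F) :=
      charDegrees_quotient_subset _ ⟨χ, rfl⟩
    set d := charDegree (χ : Matrix.ProjectiveSpecialLinearGroup (Fin 2) F → ℂ) with hd
    have hcases : d = Fintype.card F ∨ d ∣ Fintype.card F + 1 ∨ d ∣ Fintype.card F - 1 := by
      by_cases h2 : p = 2
      · subst h2
        obtain ⟨ψ, hψ⟩ := hmem
        rcases (Cfsg.Agent.S2300.result (F := F)).1 ψ ψ.2 with h | h | h | h
        · right; left
          have : charDegree (ψ : Matrix.SpecialLinearGroup (Fin 2) F → ℂ) = 1 :=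
            charDegree_eq_of_one (by rw [h]; simp)
          rw [← hψ, this]; exact one_dvd _
        · right; right
          have : charDegree (ψ : Matrix.SpecialLinearGroup (Fin 2) F → ℂ) = Fintype.card F - 1 :=
            charDegree_eq_of_one (by rw [h, Nat.cast_sub (by omega)]; simp)
          rw [← hψ, this]
        · left
          have : charDegree (ψ : Matrix.SpecialLinearGroup (Fin 2) F → ℂ) = Fintype.card F :=
            charDegree_eq_of_one h
          rw [← hψ, this]
        · right; left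
          have : charDegree (ψ : Matrix.SpecialLinearGroup (Fin 2) F → ℂ) = Fintype.card F + 1 :=
            charDegree_eq_of_one (by rw [h]; simp)
          rw [← hψ, this]
      · have hodd : Fintype.card F % 2 = 1 := by
          rw [hn]
          exact Nat.odd_iff.1 ((hp.odd_of_ne_two h2).pow)
        rcases charDegrees_SL2_odd hodd d hmem with h | h | h | h | h | h
        · right; left; rw [h]; exact one_dvd _
        · left; exact h
        · right; left; rw [h]
        · right; right; rw [← h]; simp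
        · right; left; rw [← h]; exact Dvd.intro_left _ rfl
        · right; right; rw [← h]; simp
    rcases hcases with h | h
    · exact h
    · exact absurd hχ (not_dvd_aux p _ n hp n.ne_zero hn d h (by omega))
  refine ⟨?_, hdeg⟩
  -- the Steinberg character
  obtain ⟨ψ, hψ, hψχ⟩ := Cfsg.Agent.Lib.Helper80.exists_deflate_irr
    (Subgroup.center (Matrix.SpecialLinearGroup (Fin 2) F)) (St_irr (F := F))
    (trivial_on_center (St_neg 1))
  have hψ1 : ψ 1 = (Fintype.card F : ℂ) := by
    rw [← St_one, ← hψχ 1]; rfl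
  refine package p (Fintype.card F) hpq hdeg ⟨ψ, hψ⟩ (charDegree_eq_of_one hψ1) ?_
  intro χ hχ
  -- inflate `χ`
  have hinf := Cfsg.Agent.Lib.Helper80.isIrrCharacter_inflate
    (Subgroup.center (Matrix.SpecialLinearGroup (Fin 2) F)) χ.2
  have hinf1 : (fun g : Matrix.SpecialLinearGroup (Fin 2) F =>
      (χ : Matrix.ProjectiveSpecialLinearGroup (Fin 2) F → ℂ) (g : Matrix.SpecialLinearGroup (Fin 2) F ⧸ _)) 1
      = (Fintype.card F : ℂ) := by
    have := Cfsg.Agent.Lib.Helper80.char_one_eq_charDegree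
      (Cfsg.Agent.Lib.Helper80.isCharacter_of_irr χ.2)
    rw [hχ] at this
    exact this
  have hSt : (fun g : Matrix.SpecialLinearGroup (Fin 2) F =>
      (χ : Matrix.ProjectiveSpecialLinearGroup (Fin 2) F → ℂ) (g : Matrix.SpecialLinearGroup (Fin 2) F ⧸ _))
      = St := by
    by_cases h2 : p = 2
    · subst h2
      have hc := ((Cfsg.Agent.S2300.result (F := F)).2 hF).2.1
      rw [Nat.card_eq_one_iff_unique] at hc
      have := hc.1.elim ⟨⟨_, hinf⟩, hinf1⟩ ⟨⟨_, St_irr⟩, St_one⟩
      exact congrArg (fun x => (x.1 : Matrix.SpecialLinearGroup (Fin 2) F → ℂ)) this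
    · have hodd : Fintype.card F % 2 = 1 := by
        rw [hn]
        exact Nat.odd_iff.1 ((hp.odd_of_ne_two h2).pow)
      exact NSGen.type_of_degree_q hodd hinf hinf1
  apply Subtype.ext
  funext x
  obtain ⟨g, rfl⟩ := QuotientGroup.mk_surjective x
  show (χ : Matrix.ProjectiveSpecialLinearGroup (Fin 2) F → ℂ) g = ψ g
  rw [hψχ g, ← hSt]

end Cfsg.Agent.S4765
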