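import Cfsg.Statements.S4774
import Cfsg.Agent.Lib.Helper41.PSL2Deg

set_option autoImplicit false
open Cfsg

namespace Cfsg.Agent.S4774

open Cfsg.Agent.Lib.Helper41

/-- Let F be a finite field of odd characteristic t with q > 5 elements and let S be isomorphic to PSL(2,F) or to SL(2,F). Then the vertices of the character degree graph of S are the primes dividing q(q²−1); the prime t is adjacent to no vertex; two distinct primes dividing q² − 1 are adjacent exactly when one of them is 2, or both divide q + 1, or both divide q − 1. -/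
theorem result (F : Type*) [Field F] [Fintype F] (t : ℕ) [Fact t.Prime] [CharP F t] (ht : t ≠ 2) (q : ℕ) (hq : Fintype.card F = q) (h5 : 5 < q) {S : Type*} [Group S] [Finite S] (hS : Nonempty (S ≃* Matrix.ProjectiveSpecialLinearGroup (Fin 2) F) ∨ Nonempty (S ≃* Matrix.SpecialLinearGroup (Fin 2) F)) : Cfsg.degreePrimes S = {r : ℕ | r.Prime ∧ r ∣ q * (q ^ 2 - 1)} ∧ ∀ r s : ℕ, (Cfsg.degreeGraph S).Adj r s ↔ (r ≠ s ∧ r.Prime ∧ s.Prime ∧ r ∣ q ^ 2 - 1 ∧ s ∣ q ^ 2 - 1 ∧ (r = 2 ∨ s = 2 ∨ (r ∣ q + 1 ∧ s ∣ q + 1) ∨ (r ∣ q - 1 ∧ s ∣ q - 1))) := by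
  classical
  have htp : t.Prime := Fact.out
  obtain ⟨n, -, hn⟩ := FiniteField.card F t
  rw [hq] at hn
  have hoddq : q % 2 = 1 := by
    rw [hn]
    have : Odd (t ^ (n : ℕ)) := (htp.odd_of_ne_two ht).pow
    exact Nat.odd_iff.1 this
  have hodd : Fintype.card F % 2 = 1 := by rw [hq]; exact hoddq
  have hq7 : 7 ≤ Fintype.card F := by rw [hq]; omega
  have key : (∀ d ∈ charDegrees S, d ∣ q ∨ d ∣ q + 1 ∨ d ∣ q - 1) ∧ q ∈ charDegrees S ∧
      q + 1 ∈ charDegrees S ∧ q - 1 ∈ charDegrees S := by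
    have hsub : ∀ d : ℕ, (d = 1 ∨ d = Fintype.card F ∨ d = Fintype.card F + 1 ∨
        d + 1 = Fintype.card F ∨ 2 * d = Fintype.card F + 1 ∨ 2 * d + 1 = Fintype.card F) →
        d ∣ q ∨ d ∣ q + 1 ∨ d ∣ q - 1 := by
      intro d hd
      rw [hq] at hd
      rcases hd with h | h | h | h | h | h
      · left; rw [h]; exact one_dvd _
      · left; rw [h]
      · right; left; rw [h]
      · right; right; rw [← h]; simp
      · right; left; rw [← h]; exact Dvd.intro_left _ rfl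
      · right; right; rw [← h]; simp
    have hP1 := card_mem_charDegrees_PSL2 (F := F)
    have hP2 := card_add_one_mem_charDegrees_PSL2 (F := F) hq7
    have hP3 := card_sub_one_mem_charDegrees_PSL2 (F := F) hodd (by omega)
    rcases hS with ⟨⟨e⟩⟩ | ⟨⟨e⟩⟩
    · rw [charDegrees_congr e, ← hq]
      exact ⟨fun d hd => hq ▸ hsub d (charDegrees_PSL2_odd hodd d hd), hP1, hP2, hP3⟩
    · rw [charDegrees_congr e, ← hq]
      exact ⟨fun d hd => hq ▸ hsub d (charDegrees_SL2_odd hodd d hd),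
        charDegrees_quotient_subset _ hP1, charDegrees_quotient_subset _ hP2,
        charDegrees_quotient_subset _ hP3⟩
  obtain ⟨hD, h1, h2, h3⟩ := key
  obtain ⟨hA, hB⟩ := degreeGraph_of_degrees q t htp ⟨n, hn⟩ (by omega) hD h1 h2 h3
  refine ⟨hA, ?_⟩
  intro r s
  rw [hB, sq_sub_one_eq q (by omega)]
  have h2a : 2 ∣ q + 1 := by omega
  have h2b : 2 ∣ q - 1 := by omega
  constructor
  · rintro ⟨hne, hr, hs, h⟩
    refine ⟨hne, hr, hs, ?_, ?_, Or.inr (Or.inr h)⟩
    · rcases h with h | h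
      · exact Dvd.dvd.mul_left h.1 _
      · exact Dvd.dvd.mul_right h.1 _
    · rcases h with h | h
      · exact Dvd.dvd.mul_left h.2 _
      · exact Dvd.dvd.mul_right h.2 _
  · rintro ⟨hne, hr, hs, hrd, hsd, h⟩
    refine ⟨hne, hr, hs, ?_⟩
    rcases h with rfl | rfl | h | h
    · rcases (Nat.Prime.dvd_mul hs).1 hsd with h | h
      · exact Or.inr ⟨h2b, h⟩
      · exact Or.inl ⟨h2a, h⟩
    · rcases (Nat.Prime.dvd_mul hr).1 hrd with h | h
      · exact Or.inr ⟨h, h2b⟩
      · exact Or.inl ⟨h, h2a⟩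
    · exact Or.inl h
    · exact Or.inr h

end Cfsg.Agent.S4774
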