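import Cfsg.Statements.S4775
import Cfsg.Agent.Lib.Helper4.SzDeg.IntegD
import Cfsg.Agent.Lib.Helper4.SzDeg.G
import Cfsg.Agent.Lib.Helper4.SzDeg.M
import Cfsg.Agent.Lib.Helper37.Suzuki.LieModel
import Cfsg.Agent.Lib.Helper39.Sz.MinDeg
import Cfsg.Agent.Lib.Helper41.PSL2Deg

set_option autoImplicit false
open Cfsg

namespace Cfsg.Agent.S4775

open Cfsg.Agent.Lib.Helper4.SzDeg

/-- Let F be a finite field with q = 2^(2m+1) ≥ 8 elements and let S be isomorphic to the Suzuki group over F. Then the vertices of the character degree graph of S are 2 and the primes dividing (q − 1)(q² + 1); the primes dividing (q − 1)(q² + 1) are pairwise adjacent, and 2 is adjacent exactly to the primes dividing q − 1. -/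
theorem result (F : Type*) [Field F] [Fintype F] (m : ℕ) (hm : 1 ≤ m) (q : ℕ) (hq : Fintype.card F = q) (hqm : q = 2 ^ (2 * m + 1)) {S : Type*} [Group S] [Finite S] (hS : Nonempty (S ≃* ↥(Cfsg.Lie.Sz F (2 ^ (m + 1))))) : Cfsg.degreePrimes S = {r : ℕ | r.Prime ∧ (r = 2 ∨ r ∣ (q - 1) * (q ^ 2 + 1))} ∧ ∀ r s : ℕ, (Cfsg.degreeGraph S).Adj r s ↔ (r ≠ s ∧ r.Prime ∧ s.Prime ∧ ((r ∣ (q - 1) * (q ^ 2 + 1) ∧ s ∣ (q - 1) * (q ^ 2 + 1)) ∨ (r = 2 ∧ s ∣ q - 1) ∨ (s = 2 ∧ r ∣ q - 1))) := by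
  classical
  have hSz : Cfsg.Agent.Lib.Helper37.Suz.SzField F m := ⟨hm, hq.trans hqm⟩
  have hfin : Finite (Cfsg.Sz F m) := Cfsg.Agent.Lib.Helper39.SzDeg.finite_Sz (F := F) m
  have i1 : Fintype (Cfsg.Sz F m) := Fintype.ofFinite _
  have hfin2 : Finite (Cfsg.suzukiOvoid F m) :=
    Finite.of_equiv _ (Cfsg.Agent.Lib.Helper37.Suz.ovoidEquiv F m)
  have i2 : Fintype (Cfsg.suzukiOvoid F m) := Fintype.ofFinite _
  obtain ⟨a, b, Q, Z, H, Ap, Am, ax⟩ := model_ax (F := F) m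
  have hd := deg_facts ax
  obtain ⟨e⟩ := hS
  have e2 : S ≃* Cfsg.Sz F m := e.trans (Cfsg.Agent.Lib.Helper37.Suz.lieEquiv (F := F) m).symm
  have hcd : charDegrees S = charDegrees (Cfsg.Sz F m) :=
    Cfsg.Agent.Lib.Helper41.charDegrees_congr e2
  rw [← hcd, hq] at hd
  obtain ⟨h1, h2, h3, h4, h5, h6, h7⟩ := hd
  have h8 := ax.q8
  have hev := ax.even
  have hr := ax.hr
  rw [hq] at h8 hev hr
  refine graph_glue S q (2 ^ (m + 1)) h8 ?_ hev hr h1 h2 h3 h4 h5 h6 h7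
  intro p hp hpq
  rw [hqm] at hpq
  exact (Nat.prime_dvd_prime_iff_eq hp Nat.prime_two).1 (hp.dvd_of_dvd_pow hpq)

end Cfsg.Agent.S4775
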