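import Cfsg.Statements.S4812
import Cfsg.Agent.Lib.Helper41.PSL2Deg
import Cfsg.Agent.S2300

set_option autoImplicit false
open Cfsg

namespace Cfsg.Agent.S4812

open Cfsg.Agent.Lib.Helper41

theorem exists_of_card_pos {α : Type*} {P : α → Prop} (h : 0 < Nat.card {x : α // P x}) :
    ∃ x, P x := by
  have : Nonempty {x : α // P x} := (Nat.card_pos_iff.1 h).1
  obtain ⟨x, hx⟩ := this
  exact ⟨x, hx⟩

theorem degrees_SL2_even (F : Type*) [Field F] [Fintype F] [CharP F 2]
    (h4 : 4 ≤ Fintype.card F) :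
    (∀ d ∈ charDegrees (Matrix.SpecialLinearGroup (Fin 2) F),
      d ∣ Fintype.card F ∨ d ∣ Fintype.card F + 1 ∨ d ∣ Fintype.card F - 1) ∧
    Fintype.card F ∈ charDegrees (Matrix.SpecialLinearGroup (Fin 2) F) ∧
    Fintype.card F + 1 ∈ charDegrees (Matrix.SpecialLinearGroup (Fin 2) F) ∧
    Fintype.card F - 1 ∈ charDegrees (Matrix.SpecialLinearGroup (Fin 2) F) := by
  obtain ⟨hA, hB⟩ := Cfsg.Agent.S2300.result (F := F)
  obtain ⟨-, h2, h3, h4'⟩ := hB h4
  refine ⟨?_, ?_, ?_, ?_⟩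
  · rintro d ⟨χ, hχ⟩
    rcases hA χ χ.2 with h | h | h | h
    · left
      have : charDegree (χ : Matrix.SpecialLinearGroup (Fin 2) F → ℂ) = 1 :=
        charDegree_eq_of_one (by rw [h]; simp)
      rw [← hχ, this]; exact one_dvd _
    · right; right
      have : charDegree (χ : Matrix.SpecialLinearGroup (Fin 2) F → ℂ) = Fintype.card F - 1 :=
        charDegree_eq_of_one (by rw [h, Nat.cast_sub (by omega)]; simp)
      rw [← hχ, this]
    · left
      have : charDegree (χ : Matrix.SpecialLinearGroup (Fin 2) F → ℂ) = Fintype.card F :=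
        charDegree_eq_of_one h
      rw [← hχ, this]
    · right; left
      have : charDegree (χ : Matrix.SpecialLinearGroup (Fin 2) F → ℂ) = Fintype.card F + 1 :=
        charDegree_eq_of_one (by rw [h]; simp)
      rw [← hχ, this]
  · obtain ⟨χ, hχ⟩ := exists_of_card_pos (by rw [h2]; norm_num)
    exact mem_charDegrees_of_irr χ.2 hχ
  · obtain ⟨χ, hχ⟩ := exists_of_card_pos (by rw [h3]; omega)
    exact mem_charDegrees_of_irr χ.2 (by rw [hχ]; simp)
  · obtain ⟨χ, hχ⟩ := exists_of_card_pos (by rw [h4']; omega)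
    exact mem_charDegrees_of_irr χ.2 (by rw [hχ, Nat.cast_sub (by omega)]; simp)

/-- Let F be a finite field of characteristic 2 with q ≥ 4 elements and let S be isomorphic to PSL(2,F) or to SL(2,F). Then the vertices of the character degree graph of S are the primes dividing q(q²−1), and two distinct primes are adjacent exactly when both divide q + 1 or both divide q − 1; so the graph has the three connected components {2}, the primes dividing q + 1 and the primes dividing q − 1, each complete. -/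
theorem result (F : Type*) [Field F] [Fintype F] [CharP F 2] (q : ℕ) (hq : Fintype.card F = q) (h4 : 4 ≤ q) {S : Type*} [Group S] [Finite S] (hS : Nonempty (S ≃* Matrix.ProjectiveSpecialLinearGroup (Fin 2) F) ∨ Nonempty (S ≃* Matrix.SpecialLinearGroup (Fin 2) F)) : Cfsg.degreePrimes S = {r : ℕ | r.Prime ∧ r ∣ q * (q ^ 2 - 1)} ∧ ∀ r s : ℕ, (Cfsg.degreeGraph S).Adj r s ↔ (r ≠ s ∧ r.Prime ∧ s.Prime ∧ ((r ∣ q + 1 ∧ s ∣ q + 1) ∨ (r ∣ q - 1 ∧ s ∣ q - 1))) := by
  obtain ⟨e⟩ : Nonempty (S ≃* Matrix.SpecialLinearGroup (Fin 2) F) := by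
    rcases hS with ⟨⟨e⟩⟩ | ⟨⟨e⟩⟩
    · exact ⟨e.trans (Cfsg.Agent.Lib.Helper61.sl2EquivPSL2 (F := F)).symm⟩
    · exact ⟨e⟩
  obtain ⟨n, -, hn⟩ := FiniteField.card F 2
  rw [hq] at hn
  obtain ⟨hD, h1, h2, h3⟩ := degrees_SL2_even F (by rw [hq]; exact h4)
  rw [← charDegrees_congr e, hq] at hD h1 h2 h3
  exact degreeGraph_of_degrees q 2 Nat.prime_two ⟨n, hn⟩ (by omega) hD h1 h2 h3

end Cfsg.Agent.S4812
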