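import Cfsg.Statements.S4813
import Cfsg.Agent.S4466
import Cfsg.Agent.S4811

set_option autoImplicit false
open Cfsg

namespace Cfsg.Agent.S4813

/-- If every irreducible complex character of the finite group G of degree greater than one has prime degree, then G has at most three distinct irreducible character degrees. -/
theorem result {G : Type*} [Group G] [Finite G] (hprime : ∀ d ∈ Cfsg.charDegrees G, d = 1 ∨ d.Prime) : Nat.card ↥(Cfsg.charDegrees G) ≤ 3 := by
  classical
  have hsolv : Group.IsSolvable G :=
    Cfsg.Agent.S4466.result (fun χ hχ => (hprime _ ⟨χ, rfl⟩).resolve_left hχ)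
  have h2 := Cfsg.Agent.S4811.result (G := G)
  have hfin : (charDegrees G).Finite := by
    have : charDegrees G = Set.range (fun χ : IrrCharacter G => charDegree (χ : G → ℂ)) := by
      ext d
      simp [charDegrees]
    rw [this]
    exact Set.finite_range _
  have hsub : degreePrimes G ⊆ charDegrees G := by
    rintro p ⟨hp, d, hd, hpd⟩
    rcases hprime d hd with rfl | hd'
    · exact absurd (Nat.dvd_one.mp hpd) hp.one_lt.ne'
    · rwa [(Nat.prime_dvd_prime_iff_eq hp hd').mp hpd]
  have : Finite (degreePrimes G) := (hfin.subset hsub).to_subtype
  have hnoadj : ∀ p q, ¬ (degreeGraph G).Adj p q := by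
    rintro p q ⟨hne, hp, hq, d, hd, hdvd⟩
    rcases hprime d hd with rfl | hd'
    · have := Nat.dvd_one.mp hdvd
      have h1 := hp.two_le
      have h2 := hq.two_le
      nlinarith
    · rcases (Nat.dvd_prime hd').mp hdvd with h | h
      · have h1 := hp.two_le
        have h2 := hq.two_le
        nlinarith
      · rw [← h] at hd'
        exact Nat.not_prime_mul hp.one_lt.ne' hq.one_lt.ne' hd'
  have hinj : Function.Injective (fun v : degreePrimes G =>
      ((degreeGraph G).induce (degreePrimes G)).connectedComponentMk v) := by
    intro v w hvw
    have hr : ((degreeGraph G).induce (degreePrimes G)).Reachable v w :=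
      SimpleGraph.ConnectedComponent.eq.mp hvw
    obtain ⟨walk⟩ := hr
    cases walk with
    | nil => rfl
    | cons hadj _ => exact absurd hadj (hnoadj _ _)
  have h3 : Nat.card (degreePrimes G) ≤ 2 := (Nat.card_le_card_of_injective _ hinj).trans h2
  let f : charDegrees G → Option (degreePrimes G) := fun d =>
    if h : d.1 = 1 then none else some ⟨d.1, (hprime d.1 d.2).resolve_left h, d.1, d.2, dvd_rfl⟩
  have hf : Function.Injective f := by
    intro a b hab
    simp only [f] at hab
    by_cases ha : a.1 = 1 <;> by_cases hb : b.1 = 1
    · exact Subtype.ext (ha.trans hb.symm)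
    · simp [ha, hb] at hab
    · simp [ha, hb] at hab
    · simp only [ha, hb, dite_false, Option.some.injEq] at hab
      exact Subtype.ext (congrArg (fun z : degreePrimes G => z.1) hab)
  calc Nat.card (charDegrees G) ≤ Nat.card (Option (degreePrimes G)) :=
        Nat.card_le_card_of_injective f hf
    _ = Nat.card (degreePrimes G) + 1 := Finite.card_option
    _ ≤ 3 := by omega

end Cfsg.Agent.S4813
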