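import Cfsg.Statements.S4839
import Cfsg.Agent.S4835
import Cfsg.Agent.S4837
import Cfsg.Agent.S4838
import Cfsg.Agent.S4142
import Cfsg.Agent.Lib.Helper49.CharP
import Cfsg.Agent.Lib.Helper29.Gagola

set_option autoImplicit false
open Cfsg
open scoped Pointwise

namespace Cfsg.Agent.S4839

/-- Let G be a finite group of order greater than 2 with an irreducible character χ nonzero on exactly two conjugacy classes, and let N be the normal p-subgroup of elements where χ is nonzero. Then N is the whole p-core O_p(G) if and only if G is a doubly transitive Frobenius group with kernel N: G has a Frobenius complement H whose Frobenius kernel is N and whose order is one less than that of N. -/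
theorem result {G : Type*} [Group G] [Finite G] (hG : 2 < Nat.card G) (χ : Cfsg.IrrCharacter G) (hχ : Nat.card {C : ConjClasses G // ∃ g ∈ C.carrier, (χ : G → ℂ) g ≠ 0} = 2) (p : ℕ) [Fact p.Prime] (N : Subgroup G) [N.Normal] (hN : ∀ g : G, g ∈ N ↔ (χ : G → ℂ) g ≠ 0) (hNp : IsPGroup p N) (hN1 : N ≠ ⊥) :
    N = Cfsg.pCore p G ↔ ∃ H : Subgroup G, Cfsg.IsFrobeniusComplement H ∧ Cfsg.frobeniusKernel H = (N : Set G) ∧ Nat.card H + 1 = Nat.card N := by
  classical
  have hp : p.Prime := Fact.out
  constructor
  · intro hcoreEq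
    -- the hypotheses
    obtain ⟨N', hN'n, hN'1, -, ⟨q, hq, hel⟩, hsupp, hconj⟩ := Cfsg.Agent.S4835.result hG χ hχ
    have hNN : N' = N := by
      ext g
      rw [hN g, hsupp g]
    subst hNN
    obtain ⟨P⟩ : Nonempty (Sylow p G) := inferInstance
    have h37 := (Cfsg.Agent.S4837.result hG χ hχ p N' hN hNp hN1).1
    have h38 := (Cfsg.Agent.S4838.result hG χ hχ p N' hN hNp hN1 P).1
    have hcam := (Cfsg.Agent.S4142.result N').2 h38
    have hab : ∀ a ∈ N', ∀ b ∈ N', a * b = b * a := by
      intro a ha b hb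
      have := hel.1.is_comm.comm ⟨a, ha⟩ ⟨b, hb⟩
      exact congrArg Subtype.val this
    have hqp : q = p := by
      obtain ⟨x, hx, hx1⟩ : ∃ x ∈ N', x ≠ 1 := by
        by_contra hc
        push Not at hc
        exact hN1 ((Subgroup.eq_bot_iff_forall _).2 hc)
      have h1 : orderOf x ∣ q := orderOf_dvd_of_pow_eq_one (hel.2 x hx)
      have h2 : orderOf x = q := by
        rcases (Nat.dvd_prime hq).1 h1 with h | h
        · exact absurd (orderOf_eq_one_iff.mp h) hx1
        · exact h
      obtain ⟨k, hk⟩ := hNp ⟨x, hx⟩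
      have hk' : x ^ (p ^ k) = 1 := by
        have := congrArg Subtype.val hk
        simpa using this
      have h3 : q ∣ p ^ k := h2 ▸ orderOf_dvd_of_pow_eq_one hk'
      exact (Nat.prime_dvd_prime_iff_eq hq hp).1 (hq.dvd_of_dvd_pow h3)
    subst hqp
    have hyp : Cfsg.Agent.Lib.Helper29.Gagola.Hyp q N' :=
      { pN := hNp
        ne := hN1
        ab := hab
        ex := hel.2
        cent := by
          intro x hx hx1
          obtain ⟨Q, hQ⟩ := h37 x hx hx1
          rw [hQ]
          exact Q.isPGroup'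
        cam := hcam
        conj := hconj }
    have hcore : ∀ K : Subgroup G, K.Normal → IsPGroup q K → K ≤ N' := by
      intro K hK hKp
      rw [hcoreEq]
      exact Cfsg.Agent.Lib.Helper49.le_pCore hK hKp
    exact hyp.frobenius hG (hyp.not_dvd_index hcore)
  · rintro ⟨H, hH, hker, hcard⟩
    apply le_antisymm (Cfsg.Agent.Lib.Helper49.le_pCore inferInstance hNp)
    intro g hg
    by_contra hgN
    have hgk : g ∉ Cfsg.frobeniusKernel H := by
      rw [hker]
      exact hgN
    have hg1 : g ≠ 1 := fun h => hgk (Or.inl h)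
    have hex : ∃ a : G, g ∈ MulAut.conj a • H := by
      by_contra hc
      push Not at hc
      exact hgk (Or.inr hc)
    obtain ⟨a, ha⟩ := hex
    obtain ⟨b, hb, hba⟩ := (Subgroup.mem_smul_pointwise_iff_exists _ _ _).1 ha
    have hba' : a * b * a⁻¹ = g := by simpa [MulAut.smul_def] using hba
    obtain ⟨k, hk⟩ := Cfsg.Agent.Lib.Helper49.pCore_isPGroup p G ⟨g, hg⟩
    have hk' : g ^ (p ^ k) = 1 := by
      have := congrArg Subtype.val hk
      simpa using this
    have hb1 : b ≠ 1 := by
      rintro rfl
      apply hg1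
      rw [← hba']
      group
    have hbk : b ^ (p ^ k) = 1 := by
      have e : b = a⁻¹ * g * a⁻¹⁻¹ := by rw [← hba']; group
      rw [e, conj_pow, hk']
      group
    have h1 : orderOf b ∣ p ^ k := orderOf_dvd_of_pow_eq_one hbk
    obtain ⟨j, -, hj⟩ := (Nat.dvd_prime_pow hp).1 h1
    have hj0 : j ≠ 0 := by
      rintro rfl
      rw [pow_zero] at hj
      exact hb1 (orderOf_eq_one_iff.mp hj)
    have h2 : p ∣ orderOf b := by
      rw [hj]
      exact dvd_pow_self p hj0
    have h3 : orderOf b ∣ Nat.card H := by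
      have := orderOf_dvd_natCard (⟨b, hb⟩ : H)
      rwa [Subgroup.orderOf_mk] at this
    have h4 : p ∣ Nat.card H := h2.trans h3
    have h5 : p ∣ Nat.card N := by
      obtain ⟨n, hn⟩ := IsPGroup.iff_card.mp hNp
      rw [hn]
      have : n ≠ 0 := by
        rintro rfl
        rw [pow_zero] at hn
        exact hN1 (Subgroup.card_eq_one.mp hn)
      exact dvd_pow_self p this
    rw [← hcard] at h5
    have h6 : p ∣ 1 := (Nat.dvd_add_right h4).1 h5
    exact hp.one_lt.ne' (Nat.dvd_one.mp h6)

end Cfsg.Agent.S4839
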