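import Cfsg.Statements.S4885
import Mathlib
import Cfsg.Agent.S4591
import Cfsg.Agent.Lib.Helper82.PrincipalBlock

set_option autoImplicit false
open Cfsg

namespace Cfsg.Agent.S4885

open Cfsg.Agent.Lib Cfsg.Agent.Lib.Helper15

/-- an element of a Sylow `p`-subgroup lying in the kernel of all irreducible characters of degree
prime to `p` lies in the derived subgroup of the Sylow subgroup -/
theorem mem_commutator_of_ker {H : Type*} [Group H] [Finite H] (p : ℕ) [Fact p.Prime]
    (P : Sylow p H) {x : H} (hxP : x ∈ (P : Subgroup H))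
    (hx : ∀ χ : IrrCharacter H, ¬ p ∣ charDegree (χ : H → ℂ) → (χ : H → ℂ) x = (χ : H → ℂ) 1) :
    x ∈ ⁅(P : Subgroup H), (P : Subgroup H)⁆ := by
  classical
  have := Fintype.ofFinite H
  have hp : p.Prime := Fact.out
  by_contra hcon
  have hx' : (⟨x, hxP⟩ : (P : Subgroup H)) ∉ commutator (P : Subgroup H) := by
    intro h
    apply hcon
    rw [← Subgroup.map_subtype_commutator]
    exact ⟨_, h, rfl⟩
  have hne : (Abelianization.of (⟨x, hxP⟩ : (P : Subgroup H))) ≠ 1 := by
    intro h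
    apply hx'
    exact (QuotientGroup.eq_one_iff _).1 h
  obtain ⟨φ, hφ⟩ := CommGroup.exists_apply_ne_one_of_hasEnoughRootsOfUnity
    (Abelianization (P : Subgroup H)) ℂ hne
  let μ : (P : Subgroup H) →* ℂˣ := φ.comp Abelianization.of
  have hμ := Helper74.isIrrCharacter_of_hom μ
  obtain ⟨χ, hχ1, hχ2⟩ := S4591.exists_over_not_dvd p hp (P : Subgroup H) P.not_dvd_index hμ (by
    have : charDegree (fun g => ((μ g : ℂˣ) : ℂ)) = 1 := by
      unfold charDegree
      simp
    rw [this]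
    exact hp.one_lt.ne' ∘ Nat.dvd_one.1)
  have h1 := S4591.ker_of_constituent (char_restrict (irr_char χ.2) (P : Subgroup H)) ⟨_, hμ⟩ hχ2
    (x := ⟨x, hxP⟩) (hx χ hχ1)
  apply hφ
  have h2 : ((μ ⟨x, hxP⟩ : ℂˣ) : ℂ) = ((μ 1 : ℂˣ) : ℂ) := h1
  rw [map_one] at h2
  exact Units.ext h2

/-- a `p`-element mapping into a `p'`-subgroup maps to `1` -/
theorem map_eq_one_of_coprime {G Y : Type*} [Group G] [Group Y] (p : ℕ) (f : G →* Y)
    (B : Subgroup Y) (hB : (Nat.card B).Coprime p) (R : Subgroup G) (hR : IsPGroup p R) {x : G}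
    (hx : x ∈ R) (hfx : f x ∈ B) : f x = 1 := by
  obtain ⟨k, hk⟩ := hR ⟨x, hx⟩
  have hk' : x ^ (p ^ k) = 1 := by simpa using congrArg Subtype.val hk
  have h1 : orderOf (f x) ∣ p ^ k := by
    apply orderOf_dvd_of_pow_eq_one
    rw [← map_pow, hk', map_one]
  have h2 : orderOf (f x) ∣ Nat.card B := by
    have := orderOf_dvd_natCard (⟨f x, hfx⟩ : B)
    rwa [Subgroup.orderOf_mk] at this
  have h3 : orderOf (f x) = 1 :=
    Nat.eq_one_of_dvd_coprimes (Nat.Coprime.pow_right k hB) h2 h1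
  exact orderOf_eq_one_iff.1 h3

/-- relative version modulo a normal `p'`-subgroup -/
theorem mem_commutator_of_ker_quot {G : Type*} [Group G] [Finite G] (p : ℕ) [Fact p.Prime]
    (A : Subgroup G) [A.Normal] (hA : (Nat.card A).Coprime p) (P : Sylow p G) {x : G}
    (hxP : x ∈ (P : Subgroup G))
    (hx : ∀ χ : IrrCharacter G, (∀ a ∈ A, (χ : G → ℂ) a = (χ : G → ℂ) 1) →
      ¬ p ∣ charDegree (χ : G → ℂ) → (χ : G → ℂ) x = (χ : G → ℂ) 1) :
    x ∈ ⁅(P : Subgroup G), (P : Subgroup G)⁆ := by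
  let Pb : Sylow p (G ⧸ A) := P.mapSurjective (QuotientGroup.mk'_surjective A)
  have hPb : (Pb : Subgroup (G ⧸ A)) = (P : Subgroup G).map (QuotientGroup.mk' A) := rfl
  have h1 : (QuotientGroup.mk' A x) ∈ ⁅(Pb : Subgroup (G ⧸ A)), (Pb : Subgroup (G ⧸ A))⁆ := by
    apply mem_commutator_of_ker p Pb
    · exact Subgroup.mem_map_of_mem _ hxP
    · intro χ hχ
      exact hx ⟨_, Helper80.isIrrCharacter_inflate A χ.2⟩ (by
        intro a ha
        show (χ : G ⧸ A → ℂ) (a : G ⧸ A) = (χ : G ⧸ A → ℂ) ((1 : G) : G ⧸ A)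
        rw [(QuotientGroup.eq_one_iff a).2 ha]
        rfl) hχ
  rw [hPb, ← Subgroup.map_commutator] at h1
  obtain ⟨y, hy, hyx⟩ := h1
  have hyP : y ∈ (P : Subgroup G) := by
    have hle : ⁅(P : Subgroup G), (P : Subgroup G)⁆ ≤ (P : Subgroup G) := by
      rw [← Subgroup.map_subtype_commutator]
      exact Subgroup.map_subtype_le _
    exact hle hy
  have h2 : y⁻¹ * x ∈ A := by
    rw [← QuotientGroup.eq]
    exact hyx
  have h3 : y⁻¹ * x = 1 := by
    have := map_eq_one_of_coprime p (MonoidHom.id G) A hA (P : Subgroup G) P.2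
      ((P : Subgroup G).mul_mem ((P : Subgroup G).inv_mem hyP) hxP) h2
    exact this
  have h4 : x = y := by
    rw [inv_mul_eq_one] at h3
    exact h3.symm
  rw [h4]
  exact hy

/-- Tate: a normal subgroup meeting `P` inside `P'` is `O_{p'}` times its intersection with `P` -/
theorem le_sup_of_inf_le_commutator {G : Type*} [Group G] [Finite G] (p : ℕ) [Fact p.Prime]
    (P : Sylow p G) (K : Subgroup G) [hKn : K.Normal]
    (hKP : K ⊓ (P : Subgroup G) ≤ ⁅(P : Subgroup G), (P : Subgroup G)⁆) :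
    K ≤ pPrimeCore p G ⊔ (K ⊓ (P : Subgroup G)) := by
  have hT : HasNormalPComplement p K := Cfsg.Agent.S0081.result P K (hKP.trans (by
    rw [← Subgroup.map_subtype_commutator]
    exact Subgroup.map_mono (Helper2.commutator_le_frattini P.2)))
  rw [Helper2.hasNormalPComplement_iff] at hT
  let L : Subgroup G := (pResidual p K).map K.subtype
  have hLn : L.Normal := ConjAct.normal_of_characteristic_of_normal
  have hLcard : Nat.card L = Nat.card (pResidual p K) :=
    Subgroup.card_map_of_injective K.subtype_injective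
  have hLp : (Nat.card L).Coprime p := by rw [hLcard]; exact hT
  have hLN : L ≤ pPrimeCore p G := Lead.le_pPrimeCore hLn hLp
  obtain ⟨PK⟩ : Nonempty (Sylow p K) := inferInstance
  have hsup := Helper2.pResidual_sup_sylow PK
  set Q : Subgroup G := (PK : Subgroup K).map K.subtype with hQ
  have hLQ : L ⊔ Q = K := by
    rw [← Subgroup.map_sup, hsup, ← MonoidHom.range_eq_map, Subgroup.range_subtype]
  obtain ⟨g, hg⟩ := S4591.exists_conj_le_sylow P Q (PK.2.map _)
  have hW : K ≤ (pPrimeCore p G ⊔ (K ⊓ (P : Subgroup G))).comap (MulAut.conj g).toMonoidHom := by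
    conv_lhs => rw [← hLQ]
    apply sup_le
    · intro l hl
      rw [Subgroup.mem_comap]
      exact le_sup_left (a := pPrimeCore p G) (hLN (hLn.conj_mem l hl g))
    · intro x hx
      rw [Subgroup.mem_comap]
      apply le_sup_right (a := pPrimeCore p G)
      exact Subgroup.mem_inf.2 ⟨hKn.conj_mem x (Subgroup.map_subtype_le _ hx) g, hg x hx⟩
  intro k hk
  have h1 := hW (hKn.conj_mem k hk g⁻¹)
  rw [Subgroup.mem_comap] at h1
  simpa [MulAut.conj_apply, mul_assoc] using h1

/-- the `p`-half of the group theoretic argument -/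
theorem half {G : Type*} [Group G] [Finite G] (p : ℕ) [Fact p.Prime] (P : Sylow p G)
    (C : Subgroup G) [hCn : C.Normal]
    (hCP : C ⊓ (P : Subgroup G) ≤ ⁅(P : Subgroup G), (P : Subgroup G)⁆)
    (U : Subgroup G) [hUn : U.Normal] (hU : U = pPrimeCore p G ⊔ C) :
    U ⊓ (P : Subgroup G) ≤ ⁅(P : Subgroup G), (P : Subgroup G)⁆ ∧ pPrimeCore p (G ⧸ U) = ⊥ := by
  have hUC : U ⊓ (P : Subgroup G) ≤ C := by
    intro x hx
    obtain ⟨hxU, hxP⟩ := Subgroup.mem_inf.1 hx
    have h1 : QuotientGroup.mk' C x ∈ (pPrimeCore p G).map (QuotientGroup.mk' C) := by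
      have : QuotientGroup.mk' C x ∈ U.map (QuotientGroup.mk' C) := Subgroup.mem_map_of_mem _ hxU
      rwa [hU, Subgroup.map_sup, QuotientGroup.map_mk'_self, sup_bot_eq] at this
    have h2 := map_eq_one_of_coprime p (QuotientGroup.mk' C) _
      (Nat.Coprime.coprime_dvd_left (Subgroup.card_map_dvd _ _) (Lead.card_pPrimeCore_coprime p))
      (P : Subgroup G) P.2 hxP h1
    exact (QuotientGroup.eq_one_iff x).1 h2
  have hUP : U ⊓ (P : Subgroup G) ≤ C ⊓ (P : Subgroup G) := le_inf hUC inf_le_right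
  refine ⟨hUP.trans hCP, ?_⟩
  set D : Subgroup G := (pPrimeCore p (G ⧸ U)).comap (QuotientGroup.mk' U) with hD
  have hDn : D.Normal := Subgroup.Normal.comap inferInstance _
  have hDU : D ⊓ (P : Subgroup G) ≤ U := by
    intro x hx
    obtain ⟨hxD, hxP⟩ := Subgroup.mem_inf.1 hx
    have h2 := map_eq_one_of_coprime p (QuotientGroup.mk' U) _
      (Lead.card_pPrimeCore_coprime p) (P : Subgroup G) P.2 hxP hxD
    exact (QuotientGroup.eq_one_iff x).1 h2
  have hDP : D ⊓ (P : Subgroup G) ≤ C ⊓ (P : Subgroup G) :=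
    (le_inf hDU inf_le_right).trans hUP
  have h3 := le_sup_of_inf_le_commutator p P D (hDP.trans hCP)
  have h4 : D ≤ U := by
    rw [hU]
    exact h3.trans (sup_le_sup_left (hDP.trans inf_le_left) _)
  rw [eq_bot_iff]
  intro y hy
  obtain ⟨x, rfl⟩ := QuotientGroup.mk'_surjective U y
  have : x ∈ D := hy
  exact (QuotientGroup.eq_one_iff x).2 (h4 this)

/-- Let p and q be primes dividing the order of the finite group G, and suppose G is p-solvable and q-solvable. Fix maximal ideals of the algebraic integers containing p and q, defining the principal p-block and the principal q-block. If the irreducible characters of degree prime to p in the principal p-block are exactly the irreducible characters of degree prime to q in the principal q-block, then p = q. -/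
theorem result {G : Type*} [Group G] [Finite G] (p q : ℕ) [Fact p.Prime] [Fact q.Prime] (hp : p ∣ Nat.card G) (hq : q ∣ Nat.card G) (hps : Cfsg.IsPSolvable p G) (hqs : Cfsg.IsPSolvable q G) (Mp Mq : Ideal Cfsg.AlgInt) (hMp : Cfsg.IsPModular p Mp) (hMq : Cfsg.IsPModular q Mq) (h : ∀ χ : Cfsg.IrrCharacter G, (χ ∈ Cfsg.principalBlock Mp G ∧ ¬ p ∣ Cfsg.charDegree (χ : G → ℂ)) ↔ (χ ∈ Cfsg.principalBlock Mq G ∧ ¬ q ∣ Cfsg.charDegree (χ : G → ℂ))) : p = q := by
  by_contra hpq
  have hpp : p.Prime := Fact.out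
  have hqp : q.Prime := Fact.out
  obtain ⟨P⟩ : Nonempty (Sylow p G) := inferInstance
  obtain ⟨Q⟩ : Nonempty (Sylow q G) := inferInstance
  set A := pPrimeCore p G with hA
  set C := pPrimeCore q G with hC
  have hbp := Helper82.mem_principalBlock_iff_of_isPSolvable p hMp hps
  have hbq := Helper82.mem_principalBlock_iff_of_isPSolvable q hMq hqs
  have hCP : C ⊓ (P : Subgroup G) ≤ ⁅(P : Subgroup G), (P : Subgroup G)⁆ := by
    intro x hx
    obtain ⟨hxC, hxP⟩ := Subgroup.mem_inf.1 hx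
    apply mem_commutator_of_ker_quot p A (Lead.card_pPrimeCore_coprime p) P hxP
    intro χ h1 h2
    have h3 := (h χ).1 ⟨(hbp χ).2 h1, h2⟩
    exact (hbq χ).1 h3.1 x hxC
  have hAQ : A ⊓ (Q : Subgroup G) ≤ ⁅(Q : Subgroup G), (Q : Subgroup G)⁆ := by
    intro x hx
    obtain ⟨hxC, hxP⟩ := Subgroup.mem_inf.1 hx
    apply mem_commutator_of_ker_quot q C (Lead.card_pPrimeCore_coprime q) Q hxP
    intro χ h1 h2
    have h3 := (h χ).2 ⟨(hbq χ).2 h1, h2⟩
    exact (hbp χ).1 h3.1 x hxC
  obtain ⟨h1, h2⟩ := half p P C hCP (A ⊔ C) rfl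
  obtain ⟨-, h3⟩ := half q Q A hAQ (A ⊔ C) (sup_comm _ _)
  have h4 : pCore p (G ⧸ (A ⊔ C)) = ⊥ := by
    rw [eq_bot_iff, ← h3]
    apply Lead.le_pPrimeCore inferInstance
    obtain ⟨k, hk⟩ := IsPGroup.iff_card.mp (Lead.pCore_isPGroup p (G ⧸ (A ⊔ C)))
    rw [hk]
    exact Nat.Coprime.pow_left k ((Nat.coprime_primes hpp hqp).2 hpq)
  have h5 := Helper76.centralizer_pCore_le (Helper76.isPSolvable_quotient (A ⊔ C) hps) h2
  rw [h4] at h5
  have h6 : A ⊔ C = ⊤ := by
    rw [eq_top_iff]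
    intro x _
    have : (QuotientGroup.mk' (A ⊔ C) x) ∈ (⊥ : Subgroup (G ⧸ (A ⊔ C))) := by
      apply h5
      rw [Subgroup.mem_centralizer_iff]
      intro y hy
      have hy' : y = 1 := hy
      rw [hy']
      simp
    exact (QuotientGroup.eq_one_iff x).1 this
  rw [h6, top_inf_eq] at h1
  have hne : (P : Subgroup G) ≠ ⊥ := P.ne_bot_of_dvd_card hp
  have hnt : Nontrivial (P : Subgroup G) := (Subgroup.nontrivial_iff_ne_bot _).2 hne
  have hsolv : Group.IsSolvable (P : Subgroup G) := by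
    have := P.2.isNilpotent
    infer_instance
  have h7 := Group.IsSolvable.commutator_lt_top_of_nontrivial (P : Subgroup G)
  apply h7.ne
  rw [eq_top_iff]
  intro x _
  have h8 := h1 x.2
  rw [← Subgroup.map_subtype_commutator] at h8
  obtain ⟨y, hy, hyx⟩ := h8
  have : y = x := Subtype.ext hyx
  rw [← this]
  exact hy

end Cfsg.Agent.S4885
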