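import Cfsg.Statements.S4892
import Cfsg.Agent.Lib.Helper16.PRatExt
-- import your own Cfsg.Agent.* helpers here

set_option autoImplicit false
open Cfsg Cfsg.Agent.Lib.Helper78 Cfsg.Agent.Lib.Helper16 Cfsg.Agent.Lib

namespace Cfsg.Agent.S4892

/-- Let p be an odd prime, M a maximal ideal of the algebraic integers containing p, N a normal subgroup of the finite group G, and θ an irreducible character of N that is G-invariant, of degree prime to p, p-rational (values in the field generated over ℚ by a root of unity of order prime to p) and lies in the principal p-block of N. Let Q be a Sylow p-subgroup of N and suppose the index of N·C_G(Q) in G is a power of p. Then θ extends to a p-rational irreducible character of G lying in the principal p-block of G. -/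
theorem result {G : Type*} [Group G] [Finite G] (p : ℕ) [Fact p.Prime] (hp : p ≠ 2) (M : Ideal Cfsg.AlgInt) (hM : Cfsg.IsPModular p M) (N : Subgroup G) [N.Normal] (θ : Cfsg.IrrCharacter ↥N) (hinv : ∀ g : G, ∀ n n' : ↥N, (n' : G) = g * (n : G) * g⁻¹ → (θ : ↥N → ℂ) n' = (θ : ↥N → ℂ) n) (hdeg : ¬ p ∣ Cfsg.charDegree (θ : ↥N → ℂ)) (hrat : ∃ m : ℕ, ¬ p ∣ m ∧ ∀ n : ↥N, (θ : ↥N → ℂ) n ∈ IntermediateField.adjoin ℚ ({Complex.exp (2 * Real.pi * Complex.I / m)} : Set ℂ)) (hB : θ ∈ Cfsg.principalBlock M ↥N) (Q : Sylow p ↥N) (hidx : ∃ a : ℕ, (N ⊔ Subgroup.centralizer (((Q : Subgroup ↥N).map N.subtype : Subgroup G) : Set G)).index = p ^ a) : ∃ χ : Cfsg.IrrCharacter G, χ ∈ (Cfsg.principalBlock M G) ∧ (∃ n : ℕ, ¬ p ∣ n ∧ ∀ g : G, (χ : G → ℂ) g ∈ IntermediateField.adjoin ℚ ({Complex.exp (2 * Real.pi * Complex.I / n)} : Set ℂ)) ∧ ∀ n : ↥N, (χ : G → ℂ) n = (θ : ↥N → ℂ) n := by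
  classical
  haveI : Fintype G := Fintype.ofFinite G
  haveI : Fintype N := Fintype.ofFinite N
  haveI hMm : M.IsMaximal := hM.2.1
  have hpp : p.Prime := Fact.out
  obtain ⟨r, hr, hrat⟩ := hrat
  obtain ⟨a, hidx⟩ := hidx
  haveI := sup_centralizer_normal p N Q
  obtain ⟨e, m, hpm, hcard⟩ := Nat.exists_eq_pow_mul_and_not_dvd (n := Nat.card G)
    Nat.card_pos.ne' p hpp.one_lt.ne'
  have hθc : IsCharacter N (θ : N → ℂ) := Helper74.IrrCharacter.isCharacter θ
  have hθinv : ∀ k : ℕ, k ≡ 1 [MOD m] → ¬ p ∣ k → ∀ x : N, (θ : N → ℂ) (x ^ k) = (θ : N → ℂ) x :=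
    fun k hk1 hk2 x => pow_inv_of_rational hpp hpm (hcard ▸ Subgroup.card_subgroup_dvd_card N) hr
      hθc hrat hk1 hk2 x
  obtain ⟨m1, hm1, hdet⟩ := det_pow_eq_one_of_pow_inv hpp hp hpm hθc hθinv
  have hcj : ∀ g : G, Helper15.cj N g (θ : N → ℂ) = θ := fun g => funext fun n =>
    hinv g n _ rfl
  obtain ⟨χ, hχ⟩ := exists_isNormExt (m := m) hM Q θ hB hcj hdeg hm1 hdet hidx hpm hcard
  refine ⟨⟨χ, hχ.irr⟩, hχ.mem_principalBlock hM Q θ.2 hdeg hB hidx, ⟨m, hpm, ?_⟩, hχ.res⟩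
  refine rational_of_pow_inv hpp hpm hcard (Helper15.irr_char hχ.irr) ?_
  intro k hk1 hk2 x
  have hk : k.Coprime (Nat.card G) := by
    rw [hcard]
    refine Nat.Coprime.mul_right (Nat.Coprime.pow_right e
      ((Nat.Prime.coprime_iff_not_dvd hpp).2 hk2).symm) ?_
    have := hk1.gcd_eq
    rw [Nat.gcd_one_left] at this
    exact this
  exact congrFun (IsNormExt.unique hM hpm θ.2 hdeg hidx hχ (hχ.pow hk (hθinv k hk1 hk2))) x


end Cfsg.Agent.S4892
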