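import Cfsg.Statements.S4914
import Cfsg.Agent.Lib.Helper15.RelGl5

set_option autoImplicit false
open Cfsg
open Cfsg.Agent.Lib Cfsg.Agent.Lib.Helper15

namespace Cfsg.Agent.S4914

/-- Let P and K be subgroups of a finite group G with P a p-group normalizing K, and suppose K has a normal Sylow p-subgroup Q. Let C be the subgroup of those k ∈ K whose commutator with every element of P lies in Q (so that C/Q is the fixed-point subgroup of P on K/Q). Then there is a bijection f from the P-invariant irreducible complex characters of K onto the P-invariant irreducible complex characters of C such that, for every P-invariant irreducible character χ of K, the multiplicity of f(χ) in the restriction of χ to C is a natural number congruent to 1 or to −1 modulo p, every other P-invariant irreducible character of C occurs in that restriction with multiplicity divisible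 by p, and the degrees of χ and f(χ) are congruent modulo p up to sign. -/
theorem result {G : Type*} [Group G] [Finite G] (p : ℕ) [Fact p.Prime] (P K Q C : Subgroup G) (hP : IsPGroup p ↥P) (hPK : P ≤ Subgroup.normalizer (K : Set G)) (hQK : Q ≤ K) (hQn : ∀ k ∈ K, ∀ q ∈ Q, k * q * k⁻¹ ∈ Q) (hQp : ∃ a : ℕ, Nat.card ↥Q = p ^ a) (hQsyl : ¬ p ∣ Q.relIndex K) (hCK : C ≤ K) (hC : ∀ k : G, k ∈ C ↔ (k ∈ K ∧ ∀ x ∈ P, x * k * x⁻¹ * k⁻¹ ∈ Q)) : ∃ f : {χ : Cfsg.IrrCharacter ↥K // (∀ x ∈ P, ∀ k k' : ↥K, (k' : G) = x * (k : G) * x⁻¹ → (χ : ↥K → ℂ) k' = (χ : ↥K → ℂ) k)} → {ξ : Cfsg.IrrCharacter ↥C // (∀ x ∈ P, ∀ k k' : ↥C, (k' : G) = x * (k : G) * x⁻¹ → (ξ : ↥C → ℂ) k' = (ξ : ↥C → ℂ) k)}, Function.Bijective f ∧ ∀ χ, (∀ ξ : {ξ : Cfsg.IrrCharacter ↥C // (∀ x ∈ P, ∀ k k' : ↥C, (k' : G) = x * (k : G) * x⁻¹ → (ξ : ↥C → ℂ) k' = (ξ : ↥C → ℂ) k)}, ∃ m : ℕ, (Nat.card ↥C : ℂ)⁻¹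 * ∑ᶠ c : ↥C, (χ.1 : ↥K → ℂ) (Subgroup.inclusion hCK c) * (starRingEnd ℂ) ((ξ.1 : ↥C → ℂ) c) = (m : ℂ) ∧ (ξ = f χ → ((m : ZMod p) = 1 ∨ (m : ZMod p) = -1)) ∧ (ξ ≠ f χ → p ∣ m)) ∧ ((Cfsg.charDegree ((f χ).1 : ↥C → ℂ) : ZMod p) = (Cfsg.charDegree (χ.1 : ↥K → ℂ) : ZMod p) ∨ (Cfsg.charDegree ((f χ).1 : ↥C → ℂ) : ZMod p) = -(Cfsg.charDegree (χ.1 : ↥K → ℂ) : ZMod p)) := by
  classical
  have := Fintype.ofFinite G
  have hp : p.Prime := Fact.out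
  have hnK : ∀ s ∈ P, ∀ g ∈ K, s * g * s⁻¹ ∈ K :=
    fun s hs g hg => (Subgroup.mem_normalizer_iff.1 (hPK hs) g).1 hg
  have hQp' : IsPGroup p Q := IsPGroup.of_card hQp.choose_spec
  obtain ⟨H1, H2, H3⟩ := rel_glauberman_general p P K Q C hP hnK hQK hQn hQp' hQsyl hCK hC
  have hinner : ∀ (χ : K → ℂ) (ξ : C → ℂ), (Nat.card ↥C : ℂ)⁻¹ * ∑ᶠ c : ↥C,
      χ (Subgroup.inclusion hCK c) * (starRingEnd ℂ) (ξ c) = classInner (resFun hCK χ) ξ := by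
    intro χ ξ
    rw [finsum_eq_sum_of_fintype]
    rfl
  have hunit : ∀ m : ℕ, ((m : ZMod p) = 1 ∨ (m : ZMod p) = -1) → ¬ p ∣ m := by
    intro m hm hd
    rw [(ZMod.natCast_eq_zero_iff _ _).2 hd] at hm
    rcases hm with h | h
    · exact zero_ne_one h
    · exact zero_ne_one (neg_eq_zero.1 h.symm).symm
  choose F hF using H1
  refine ⟨fun χ => ⟨F χ.1 χ.2, (hF χ.1 χ.2).1⟩, ⟨?_, ?_⟩, ?_⟩
  · intro χ₁ χ₂ h
    have h' : F χ₁.1 χ₁.2 = F χ₂.1 χ₂.2 := congrArg Subtype.val h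
    obtain ⟨m₁, hm₁, hu₁⟩ := (hF χ₁.1 χ₁.2).2.1
    obtain ⟨m₂, hm₂, hu₂⟩ := (hF χ₂.1 χ₂.2).2.1
    rw [← h'] at hm₂
    apply Subtype.ext
    exact H2 χ₁.1 χ₂.1 χ₁.2 χ₂.2 _ (hF χ₁.1 χ₁.2).1 m₁ m₂ hm₁ (hunit _ hu₁) hm₂ (hunit _ hu₂)
  · rintro ⟨ξ, hξ⟩
    obtain ⟨χ, hχ, m, hm, hpm⟩ := H3 ξ hξ
    refine ⟨⟨χ, hχ⟩, ?_⟩
    apply Subtype.ext
    by_contra hne
    obtain ⟨m', hm', hpm'⟩ := (hF χ hχ).2.2.1 ξ hξ (fun h => hne h.symm)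
    have : m = m' := by
      have := hm.symm.trans hm'
      exact_mod_cast this
    exact hpm (this ▸ hpm')
  · intro χ
    refine ⟨?_, (hF χ.1 χ.2).2.2.2⟩
    intro ξ
    by_cases hξ : ξ = ⟨F χ.1 χ.2, (hF χ.1 χ.2).1⟩
    · obtain ⟨m, hm, hu⟩ := (hF χ.1 χ.2).2.1
      refine ⟨m, ?_, fun _ => hu, fun h => absurd hξ h⟩
      rw [hinner, hξ]
      exact hm
    · obtain ⟨m, hm, hpm⟩ := (hF χ.1 χ.2).2.2.1 ξ.1 ξ.2 (fun h => hξ (Subtype.ext h))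
      refine ⟨m, ?_, fun h => absurd h hξ, fun _ => hpm⟩
      rw [hinner]
      exact hm

end Cfsg.Agent.S4914
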