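import Cfsg.Statements.S4937
import Cfsg.Agent.Lib.Helper16.RelMain
-- import your own Cfsg.Agent.* helpers here

set_option autoImplicit false
open Cfsg Cfsg.Agent.Lib.Helper78 Cfsg.Agent.Lib.Helper16 Cfsg.Agent.Lib

namespace Cfsg.Agent.S4937

/-- Let G be a finite group, p a prime, M a maximal ideal of the algebraic integers containing p, N a normal subgroup of G and P a Sylow p-subgroup of N such that G = N·C_G(P). Let θ be an irreducible character in the principal p-block of N that is the restriction of some irreducible character of G. Then θ is the restriction of an irreducible character χ of G lying in the principal p-block of G such that, for every subgroup J of G containing N, the restriction of χ to J is an irreducible character of J lying in the principal p-block of J. -/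
theorem result {G : Type*} [Group G] [Finite G] (p : ℕ) [Fact p.Prime] (M : Ideal Cfsg.AlgInt) (hM : Cfsg.IsPModular p M) (N : Subgroup G) [N.Normal] (P : Sylow p ↥N)
    (hcov : N ⊔ Subgroup.centralizer (((P : Subgroup ↥N).map N.subtype : Subgroup G) : Set G) = ⊤)
    (θ : Cfsg.IrrCharacter ↥N) (hθ : θ ∈ Cfsg.principalBlock M ↥N)
    (hext : ∃ ψ : Cfsg.IrrCharacter G, ∀ x : ↥N, (ψ : G → ℂ) x = (θ : ↥N → ℂ) x) :
    ∃ χ : Cfsg.IrrCharacter G, χ ∈ Cfsg.principalBlock M G ∧ (∀ x : ↥N, (χ : G → ℂ) x = (θ : ↥N → ℂ) x) ∧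
      ∀ J : Subgroup G, N ≤ J → ∃ ξ : Cfsg.IrrCharacter ↥J, ξ ∈ Cfsg.principalBlock M ↥J ∧ ∀ y : ↥J, (ξ : ↥J → ℂ) y = (χ : G → ℂ) y := by
  classical
  haveI : Fintype G := Fintype.ofFinite G
  haveI : Fintype N := Fintype.ofFinite N
  haveI hMm : M.IsMaximal := hM.2.1
  obtain ⟨ψ, hψ⟩ := hext
  have hψc : IsCharacter G (ψ : G → ℂ) := Helper74.IrrCharacter.isCharacter ψ
  have hfun : (fun n : N => (ψ : G → ℂ) n) = (θ : N → ℂ) := funext hψ
  have hres : IsIrrCharacter N (fun n : N => (ψ : G → ℂ) n) := hfun ▸ θ.2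
  have hpr : SameBlock M (fun _ : N => (1 : ℂ)) (fun n : N => (ψ : G → ℂ) n) := by
    rw [hfun]; exact hθ
  have hgood := good_of_cover (M := M) hM P hcov
  obtain ⟨l, hlN, -, hk⟩ := exists_normalised hψc hres hpr hgood hM
  have hχc : IsCharacter G (fun g => (l g : ℂ) * (ψ : G → ℂ) g) :=
    Helper74.IsCharacter.mul (Helper15.char_toFn l) hψc
  have hfun' : (fun n : N => (fun g => (l g : ℂ) * (ψ : G → ℂ) g) n) = (θ : N → ℂ) := by
    funext n
    simp only [hlN n n.2, Units.val_one, one_mul]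
    exact hψ n
  have hres' : IsIrrCharacter N (fun n : N => (fun g => (l g : ℂ) * (ψ : G → ℂ) g) n) :=
    hfun' ▸ θ.2
  refine ⟨⟨_, Helper15.irr_of_restrict_irr N hχc hres'⟩, ?_, fun x => congrFun hfun' x, ?_⟩
  · exact sameBlock_top_of_kappa_one hχc hres' hk
  · intro J hNJ
    exact ⟨⟨_, Helper76.isIrrCharacter_restrict_of_le hNJ hχc hres'⟩,
      sameBlock_of_kappa_one hχc hres' hk J hNJ, fun y => rfl⟩

end Cfsg.Agent.S4937
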