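import Cfsg.Statements.S5103
import Cfsg.Agent.Lib.Helper85.FusRealized
import Cfsg.Agent.Lib.Helper47.PCore

set_option autoImplicit false
open Cfsg

namespace Cfsg.Agent.S5103

open Cfsg.FusionSystem Cfsg.Agent.Lib.Helper85

/-- A fusion system over a finite p-group that has a model (a finite group realizing it on a Sylow p-subgroup with self-centralizing largest normal p-subgroup) is constrained. -/
theorem result {Ω : Type*} [Group Ω] {S : Subgroup Ω} [Finite S] (p : ℕ) [Fact p.Prime] (hS : IsPGroup p S) (F : Cfsg.FusionSystem S) {G : Type*} [Group G] (ι : S →* G) (hG : F.IsModel p G ι) : F.IsConstrained p := by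
  obtain ⟨hfin, hr, hT, hC⟩ := hG
  have hOn : (pCore p G).Normal := Cfsg.Agent.Lib.Helper47.pCore_normal
  have hOr : pCore p G ≤ ι.range := by
    obtain ⟨T, hT'⟩ := hT
    rw [← hT']; exact Cfsg.Agent.Lib.Helper47.pCore_le_sylow T
  set O := pCore p G with hO
  set Q := preimageAlong ι O with hQ
  have hQS : Q ≤ S := preimageAlong_le ι O
  have hconjO : ∀ (g : G) (y : G), y ∈ O → g * y * g⁻¹ ∈ O := fun g y hy => hOn.conj_mem y hy g
  -- pulling back an element of `O`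
  have hpull : ∀ y ∈ O, ∃ s : S, (s : Ω) ∈ Q ∧ ι s = y := by
    intro y hy
    obtain ⟨s, rfl⟩ := hOr hy
    exact ⟨s, mem_preimageAlong.mpr ⟨s.2, hy⟩, rfl⟩
  refine ⟨saturated_of_realized hr hT, Q, ⟨hQS, ?_⟩, ⟨hQS, ?_⟩⟩
  · intro P φ hφ
    obtain ⟨g, hg⟩ := realized_exists_elt hr hφ
    have hPS : P ≤ S := (F.le_of_mem hφ).1
    have hW : P ⊔ Q ≤ ((ι.range).comap ((MulAut.conj g).toMonoidHom.comp ι)).map S.subtype := by
      refine sup_le ?_ ?_
      · intro x hx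
        refine ⟨⟨x, hPS hx⟩, ?_, rfl⟩
        show g * ι ⟨x, hPS hx⟩ * g⁻¹ ∈ ι.range
        rw [← hg ⟨x, hx⟩]; exact ⟨_, rfl⟩
      · intro x hx
        refine ⟨⟨x, hQS hx⟩, ?_, rfl⟩
        show g * ι ⟨x, hQS hx⟩ * g⁻¹ ∈ ι.range
        exact hOr (hconjO g _ (mem_preimageAlong.mp hx).2)
    obtain ⟨ψ, hψ, hψS, h⟩ := realized_exists_hom hr (sup_le hPS hQS) g (by
      intro x
      obtain ⟨s, hs, hsx⟩ := hW x.2
      have : s = ⟨x, sup_le hPS hQS x.2⟩ := Subtype.ext hsx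
      rw [← this]; exact hs)
    refine ⟨ψ, hψ, fun x => ?_, ?_⟩
    · have h1 := h (Subgroup.inclusion le_sup_left x)
      have h2 := hg x
      exact congrArg Subtype.val (hr.1 (h1.trans h2.symm))
    · rw [map_subgroupOf_eq_iff]
      constructor
      · intro x hx
        refine mem_preimageAlong.mpr ⟨hψS x, ?_⟩
        rw [h x]
        exact hconjO g _ (mem_preimageAlong.mp hx).2
      · intro y hy
        have hy' := (mem_preimageAlong.mp hy).2
        obtain ⟨s, hsQ, hs⟩ := hpull _ (hconjO g⁻¹ _ hy')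
        refine ⟨⟨s, le_sup_right (a := P) hsQ⟩, hsQ, ?_⟩
        have h1 := h ⟨s, le_sup_right (a := P) hsQ⟩
        have h2 : ι ⟨(s : Ω), sup_le hPS hQS (le_sup_right (a := P) hsQ)⟩ = ι s := rfl
        rw [h2, hs] at h1
        have h3 : g * (g⁻¹ * ι ⟨y, hQS hy⟩ * g⁻¹⁻¹) * g⁻¹ = ι ⟨y, hQS hy⟩ := by
          simp [mul_assoc]
        rw [h3] at h1
        exact congrArg Subtype.val (hr.1 h1)
  · rintro Q₂ ⟨φ, hφ, rfl⟩
    obtain ⟨g, hg⟩ := realized_exists_elt hr hφ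
    have hrange : φ.range = Q := by
      apply le_antisymm
      · rintro _ ⟨x, rfl⟩
        refine mem_preimageAlong.mpr ⟨(F.le_of_mem hφ).2 x, ?_⟩
        rw [hg x]
        exact hconjO g _ (mem_preimageAlong.mp x.2).2
      · intro y hy
        have hy' := (mem_preimageAlong.mp hy).2
        obtain ⟨s, hsQ, hs⟩ := hpull _ (hconjO g⁻¹ _ hy')
        refine ⟨⟨s, hsQ⟩, ?_⟩
        have h1 := hg ⟨s, hsQ⟩
        have h2 : ι ⟨((⟨s, hsQ⟩ : Q) : Ω), (F.le_of_mem hφ).1 hsQ⟩ = ι s := rfl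
        rw [h2, hs] at h1
        have h3 : g * (g⁻¹ * ι ⟨y, hQS hy⟩ * g⁻¹⁻¹) * g⁻¹ = ι ⟨y, hQS hy⟩ := by
          simp [mul_assoc]
        rw [h3] at h1
        exact congrArg Subtype.val (hr.1 h1)
    rw [hrange]
    intro z hz
    refine mem_preimageAlong.mpr ⟨hz.1, hC ?_⟩
    rw [Subgroup.mem_centralizer_iff]
    intro y hy
    obtain ⟨s, hsQ, rfl⟩ := hpull y hy
    rw [← map_mul, ← map_mul]
    congr 1
    apply Subtype.ext
    exact Subgroup.mem_centralizer_iff.mp hz.2 s hsQ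

end Cfsg.Agent.S5103
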