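import Cfsg.Statements.S5121
import Cfsg.Agent.Lib.Helper85.FusNormModel3
import Cfsg.Agent.Lib.Helper85.FusConstr3

set_option autoImplicit false
open Cfsg

namespace Cfsg.Agent.S5121

open Cfsg.FusionSystem Cfsg.Agent.Lib.Helper84 Cfsg.Agent.Lib.Helper85

theorem fusSub_isNormal_of_normal {G : Type*} [Group G] {H T R : Subgroup G} (hTH : T ≤ H)
    [hR : R.Normal] (hRT : R ≤ T) : (fusionSystemOfSubgroup H T hTH).IsNormal R := by
  refine ⟨hRT, ?_⟩
  rintro P φ ⟨hP, hφT, g, hgH, hg⟩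
  have hle : P ⊔ R ≤ T.comap (MulAut.conj g).toMonoidHom := by
    refine sup_le ?_ ?_
    · intro x hx
      have := hφT ⟨x, hx⟩
      rw [hg] at this
      exact this
    · intro x hx
      exact hRT (hR.conj_mem x hx g)
  refine ⟨conjHom (P ⊔ R) g, ⟨sup_le hP hRT, fun x => hle x.2, g, hgH, fun _ => rfl⟩,
    fun x => (hg x).symm, ?_⟩
  rw [map_subgroupOf_eq_iff]
  constructor
  · intro x hx
    exact hR.conj_mem _ hx g
  · intro y hy
    have h1 : g⁻¹ * y * g ∈ R := by
      have := hR.conj_mem _ hy g⁻¹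
      simpa using this
    exact ⟨⟨_, le_sup_right (a := P) h1⟩, h1, by simp [Lib.Helper84.conjHom_apply, mul_assoc]⟩

theorem fusSub_saturated {G : Type*} [Group G] [Finite G] {p : ℕ} [Fact p.Prime]
    {H T : Subgroup G} (hTH : T ≤ H) (hsyl : ∃ R : Sylow p H, (R : Subgroup H) = T.subgroupOf H) :
    (fusionSystemOfSubgroup H T hTH).IsSaturated p := by
  obtain ⟨R, hR⟩ := hsyl
  refine saturated_of_realized (fusSub_realized hTH) ⟨R, ?_⟩
  rw [hR, Subgroup.inclusion_range]

/-- Let G be a finite group with Sylow p-subgroup S and C_G(O_p(G)) ≤ O_p(G). For every subgroup T ≤ S and every normal subsystem E over T of the fusion system of G on S there is exactly one normal subgroup H of G containing T as a Sylow p-subgroup whose fusion system on T is E. -/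
theorem result {G : Type*} [Group G] [Finite G] (p : ℕ) [Fact p.Prime] (S : Sylow p G) (hG : Subgroup.centralizer ((Cfsg.pCore p G : Subgroup G) : Set G) ≤ Cfsg.pCore p G) (T : Subgroup G) (hTS : T ≤ S) (E : Cfsg.FusionSystem T) (hE : E.IsNormalIn (Cfsg.groupFusionSystem (S : Subgroup G)) p) : ∃ H : Subgroup G, (∃ hTH : T ≤ H, H.Normal ∧ (∃ R : Sylow p H, (R : Subgroup H) = T.subgroupOf H) ∧ ∀ P : Subgroup G, E.Hom P = (Cfsg.fusionSystemOfSubgroup H T hTH).Hom P) ∧ ∀ H' : Subgroup G, (∃ hTH' : T ≤ H', H'.Normal ∧ (∃ R : Sylow p H', (R : Subgroup H') = T.subgroupOf H') ∧ ∀ P : Subgroup G, E.Hom P = (Cfsg.fusionSystemOfSubgroup H' T hTH').Hom P) → H' = H := by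
  have hinv := hE.1.2.2
  have hEsat := hE.1.1
  have hFsat := hE.1.2.1
  have hsub := hinv.1
  have hTsc := hinv.2.1
  have hsc := sc_group_of_sc hTsc
  haveI hN : (pCore p G ⊓ T).Normal := inf_normal_of_sc S hsc
  have d := nmData_of_normalIn S hG E hE
  have hTp : IsPGroup p T := S.isPGroup'.to_le hTS
  have hQ₀T : pCore p G ⊓ T ≤ T := inf_le_right
  have hQ₀n : E.IsNormal (pCore p G ⊓ T) :=
    isNormal_inf_of_subsystem S.isPGroup' _ hFsat E hEsat hsub hTsc
      (groupFus_isNormal_of_normal p S (pCore p G) (Cfsg.Agent.Lib.Lead.pCore_isPGroup p G))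
  have hC := centralizerIn_le_of_sc S hTS hsc hG
  refine ⟨modH T (E.autGroup (pCore p G ⊓ T)), ⟨d.le_modH, d.modH_normal, d.sylIn_modH, ?_⟩, ?_⟩
  · have hE'sat := fusSub_saturated d.le_modH d.sylIn_modH
    have hQ₀n' : (fusionSystemOfSubgroup _ T d.le_modH).IsNormal (pCore p G ⊓ T) :=
      fusSub_isNormal_of_normal d.le_modH hQ₀T
    have h1 : E ≤ fusionSystemOfSubgroup _ T d.le_modH := by
      apply le_of_autGroup_normal_le hTp E _ hEsat hE'sat hQ₀n hQ₀n' hC
      · intro a ha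
        obtain ⟨h, hh, rfl⟩ := d.exists_modH ha
        exact (mem_autGroup_fusSub_iff d.le_modH hQ₀T _).mpr ⟨h, hh, fun _ => rfl⟩
      · intro P hPT γ hγ ε hε
        have hγF : γ ∈ (groupFusionSystem (S : Subgroup G)).autGroup P :=
          (mem_autGroup_iff _ (hPT.trans hTS) γ).mpr (hsub _ ((mem_autGroup_iff E hPT γ).mp hγ))
        obtain ⟨g, hg⟩ := (mem_autGroup_groupFus_iff (hPT.trans hTS) γ).mp hγF
        obtain ⟨h, hh, hh'⟩ := (mem_autGroup_fusSub_iff d.le_modH hPT ε).mp hε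
        refine (mem_autGroup_fusSub_iff d.le_modH hPT _).mpr
          ⟨g * h * g⁻¹, d.modH_normal.conj_mem h hh g, fun x => ?_⟩
        rw [MulAut.mul_apply, MulAut.mul_apply, hg, hh', inv_apply_of_induces hg]
        group
    have h2 : fusionSystemOfSubgroup _ T d.le_modH ≤ E := by
      apply le_of_autGroup_normal_le hTp _ E hE'sat hEsat hQ₀n' hQ₀n hC
      · intro a ha
        obtain ⟨h, hh, hh'⟩ := (mem_autGroup_fusSub_iff d.le_modH hQ₀T a).mp ha
        have : a = rho p T h := by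
          ext x
          exact hh' x
        rw [this]
        exact d.rho_modH_mem hh
      · intro P hPT γ hγ ε hε
        obtain ⟨g, -, hg⟩ := (mem_autGroup_fusSub_iff d.le_modH hPT γ).mp hγ
        exact autGroup_conj_mem_of_invariant hinv hPT
          ((mem_autGroup_groupFus_iff (hPT.trans hTS) γ).mpr ⟨g, hg⟩) hε
    intro P
    exact Set.Subset.antisymm (h1 P) (h2 P)
  · rintro H' ⟨hTH', hn, hsyl, hHom⟩
    have hiff : ∀ a : MulAut ↥(pCore p G ⊓ T), a ∈ E.autGroup (pCore p G ⊓ T) ↔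
        ∃ g ∈ H', ∀ x, ((a x : ↥(pCore p G ⊓ T)) : G) = g * x * g⁻¹ := by
      intro a
      rw [← mem_autGroup_fusSub_iff hTH' hQ₀T, mem_autGroup_iff E hQ₀T, mem_autGroup_iff _ hQ₀T]
      unfold Mor
      rw [hHom]
    apply d.unique H' hn hTH' hsyl
    · intro h hh
      exact (hiff _).mpr ⟨h, hh, fun _ => rfl⟩
    · intro a ha
      obtain ⟨h, hh, hh'⟩ := (hiff a).mp ha
      refine ⟨h, hh, ?_⟩
      ext x
      exact (hh' x).symm

end Cfsg.Agent.S5121
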