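import Cfsg.Statements.S5178
import Cfsg.Agent.Lib.Helper88.ExtraEss2
import Cfsg.Agent.Lib.Helper87.CenIdxFin

set_option autoImplicit false
universe u
open Cfsg

namespace Cfsg.Agent.S5178

open Cfsg.FusionSystem Cfsg.Agent.Lib.Helper84 Cfsg.Agent.Lib.Helper88 Cfsg.Agent.Lib.Helper63
  Cfsg.Agent.Lib.Helper87

/-- Let p be an odd prime, S a finite p-group containing an extraspecial subgroup Q of index p, and F a saturated fusion system over S whose largest subgroup normal in F is trivial. Then the centre of S equals the centre of Q. -/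
theorem result {Ω : Type u} [Group Ω] {S : Subgroup Ω} [Finite S] (p : ℕ) [Fact p.Prime] (hp : Odd p) (hS : IsPGroup p S)
    (Q : Subgroup Ω) (hQS : Q ≤ S) (hQ : Cfsg.IsExtraspecial p ↥Q) (hQi : (Q.subgroupOf S).index = p)
    (F : Cfsg.FusionSystem S) (hF : F.IsSaturated p) (hO : F.core = ⊥) :
    S ⊓ Subgroup.centralizer (S : Set Ω) = Q ⊓ Subgroup.centralizer (Q : Set Ω) := by
  have hpp : p.Prime := Fact.out
  have hp2 : p ≠ 2 := by
    rintro rfl
    exact absurd hp (by decide)
  have hfinQ : Finite Q := finite_of_le hQS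
  have hCC := centralComm_of_isExtraspecial hQ
  show ZS S = ZS Q
  have hZcard : Nat.card (ZS Q) = p := by
    rw [← map_center_eq_ZS, Subgroup.card_map_of_injective (Subgroup.subtype_injective _)]
    exact hQ.2
  have hfinZ : Finite (ZS Q) := finite_of_le ((ZS_le Q).trans hQS)
  have hfinZS : Finite (ZS S) := finite_of_le (ZS_le S)
  have hS1 : S ≠ ⊥ := by
    rintro rfl
    have h1 : ZS Q = ⊥ := le_bot_iff.1 ((ZS_le Q).trans hQS)
    rw [h1, Subgroup.card_bot] at hZcard
    exact hpp.one_lt.ne hZcard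
  have hZSne : ZS S ≠ ⊥ := by
    have hnt : Nontrivial S := (Subgroup.nontrivial_iff_ne_bot S).2 hS1
    have := hS.center_nontrivial
    rw [Subgroup.nontrivial_iff_ne_bot] at this
    intro hh
    apply this
    rw [← map_center_eq_ZS, Subgroup.map_eq_bot_iff_of_injective _ S.subtype_injective] at hh
    exact hh
  by_cases hle : ZS S ≤ Q
  · -- the centre of `S` lies in `Q`
    have h1 : ZS S ≤ ZS Q := by
      intro x hx
      rw [mem_ZS]
      exact ⟨hle hx, fun y hy => (mem_ZS.1 hx).2 y (hQS hy)⟩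
    apply Subgroup.eq_of_le_of_card_ge h1
    rw [hZcard]
    have h2 := Subgroup.card_dvd_of_le h1
    rw [hZcard] at h2
    rcases (Nat.dvd_prime hpp).1 h2 with h3 | h3
    · exact absurd (Subgroup.card_eq_one.1 h3) hZSne
    · exact h3.ge
  · exfalso
    obtain ⟨c, hcZ, hcQ⟩ := SetLike.not_le_iff_exists.1 hle
    have hcS : c ∈ S := ZS_le S hcZ
    have hcardS : Nat.card S = p * Nat.card Q := by
      have h1 := Subgroup.card_mul_index (Q.subgroupOf S)
      rw [hQi, Nat.card_congr (Subgroup.subgroupOfEquivOfLe hQS).toEquiv] at h1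
      rw [← h1, mul_comm]
    have hsup : Q ⊔ Subgroup.zpowers c = S := by
      apply eq_of_lt_of_card hpp _ (sup_le hQS ((Subgroup.zpowers_le).2 hcS)) hcardS
      refine lt_of_le_of_ne le_sup_left ?_
      intro h
      apply hcQ
      rw [h]
      exact (le_sup_right : Subgroup.zpowers c ≤ Q ⊔ Subgroup.zpowers c) (Subgroup.mem_zpowers c)
    have hdec : ∀ s ∈ S, ∃ q ∈ Q, ∃ z ∈ ZS S, s = q * z := by
      intro s hs
      rw [← hsup] at hs
      have hN : Q ≤ Subgroup.normalizer (Subgroup.zpowers c : Set Ω) := by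
        intro q hq
        apply mem_normalizer_of_conj_mem
        · intro h hh
          have h1 : h ∈ ZS S := (Subgroup.zpowers_le.2 hcZ) hh
          rw [(mem_ZS.1 h1).2 q (hQS hq), mul_inv_cancel_right]
          exact hh
        · intro h hh
          have h1 : h ∈ ZS S := (Subgroup.zpowers_le.2 hcZ) hh
          rw [mul_assoc, ← (mem_ZS.1 h1).2 q (hQS hq), inv_mul_cancel_left]
          exact hh
      obtain ⟨q, hq, z, hz, rfl⟩ := mem_sup_of_le_normalizer hN hs
      exact ⟨q, hq, z, (Subgroup.zpowers_le.2 hcZ) hz, rfl⟩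
    have hZmemQ : ∀ a ∈ Q, ∀ b ∈ Q, a * b * a⁻¹ * b⁻¹ ∈ ZS Q := by
      intro a ha b hb
      rw [← map_center_eq_ZS]
      exact ⟨_, hCC.comm ⟨a, ha⟩ ⟨b, hb⟩, rfl⟩
    have hZmem : ∀ a ∈ S, ∀ b ∈ S, a * b * a⁻¹ * b⁻¹ ∈ ZS Q := by
      intro a ha b hb
      obtain ⟨q, hq, z, hz, rfl⟩ := hdec a ha
      obtain ⟨q', hq', z', hz', rfl⟩ := hdec b hb
      have e1 : z * (q' * z') * z⁻¹ = q' * z' := by
        rw [← (mem_ZS.1 hz).2 _ hb, mul_inv_cancel_right]
      have e2 : z' * q⁻¹ * z'⁻¹ = q⁻¹ := by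
        rw [← (mem_ZS.1 hz').2 _ (S.inv_mem (hQS hq)), mul_inv_cancel_right]
      have e3 : q * z * (q' * z') * (q * z)⁻¹ * (q' * z')⁻¹ = q * q' * q⁻¹ * q'⁻¹ := by
        calc q * z * (q' * z') * (q * z)⁻¹ * (q' * z')⁻¹
            = q * (z * (q' * z') * z⁻¹) * q⁻¹ * (q' * z')⁻¹ := by group
          _ = q * (q' * z') * q⁻¹ * (q' * z')⁻¹ := by rw [e1]
          _ = q * q' * (z' * q⁻¹ * z'⁻¹) * q'⁻¹ := by group
          _ = q * q' * q⁻¹ * q'⁻¹ := by rw [e2]
      rw [e3]
      exact hZmemQ q hq q' hq'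
    have hZc : ∀ z ∈ ZS Q, ∀ a ∈ S, a * z = z * a := by
      intro z hz a ha
      obtain ⟨q, hq, w, hw, rfl⟩ := hdec a ha
      have hzS : z ∈ S := hQS (ZS_le Q hz)
      rw [mul_assoc, ← (mem_ZS.1 hw).2 z hzS, ← mul_assoc, (mem_ZS.1 hz).2 q hq, mul_assoc]
    have hZZ : ZS Q ≤ ZS S := by
      intro z hz
      rw [mem_ZS]
      exact ⟨hQS (ZS_le Q hz), fun y hy => hZc z hz y hy⟩
    obtain ⟨E, hE⟩ := exists_essential hS hF hS1 hO
    have hlt := ess_lt hS hF hE
    obtain ⟨hab, e, he, hCe⟩ := ess_in_classTwo hS F hF S (ZS Q) le_rfl ((ZS_le Q).trans hQS)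
      hZcard hZmem hZc E hlt.le hlt.ne hE
    have hCCS : CentralComm ((ZS Q).subgroupOf S) := by
      constructor
      · intro z hz
        rw [Subgroup.mem_center_iff]
        intro g
        exact Subtype.ext (hZc z hz g g.2)
      · intro a b
        exact hZmem a a.2 b b.2
    have hcardZ' : Nat.card ((ZS Q).subgroupOf S) = p := by
      rw [Nat.card_congr (Subgroup.subgroupOfEquivOfLe ((ZS_le Q).trans hQS)).toEquiv]
      exact hZcard
    have hcard := card_eq_of_no_commuting_outside hCCS hcardZ' (E.subgroupOf S)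
      (fun a ha b hb => Subtype.ext (hab a ha b hb))
      (fun h => absurd (Subgroup.subgroupOf_eq_top.1 h) (not_le_of_gt hlt))
      ⟨e, hlt.le he⟩ he (fun x hx => hCe x x.2 (congrArg Subtype.val hx))
    have hcen : CenIdx p S := by
      refine ⟨fun a ha b hb => hZZ (hZmem a ha b hb), ?_⟩
      rw [hcard, ← map_center_eq_ZS S, Subgroup.card_map_of_injective (Subgroup.subtype_injective _)]
      ring
    obtain ⟨e₁, e₂, D, hd⟩ := exists_essData hS hF hcen hE
    have hD := hd.D_eq_bot hS hF hcen hO hp2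
    subst hD
    have hz := hd.zData
    rw [Subgroup.bot_subgroupOf] at hz
    have h5 := hz.card_center
    have h6 : Nat.card (ZS S) = p := by
      rw [← map_center_eq_ZS S, Subgroup.card_map_of_injective (Subgroup.subtype_injective _)]
      exact h5
    have h7 : ZS Q = ZS S := Subgroup.eq_of_le_of_card_ge hZZ (by rw [h6, hZcard])
    apply hcQ
    apply ZS_le Q
    rw [h7]
    exact hcZ

end Cfsg.Agent.S5178
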