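import Cfsg.Statements.S5179
import Cfsg.Agent.Lib.Helper88.ExtraEss

set_option autoImplicit false
universe u
open Cfsg

namespace Cfsg.Agent.S5179

open Cfsg.FusionSystem Cfsg.Agent.Lib.Helper84 Cfsg.Agent.Lib.Helper88 Cfsg.Agent.Lib.Helper63

/-- Let p be an odd prime, S a finite p-group of order at least p⁶ containing an extraspecial subgroup Q of index p, and F a saturated fusion system over S whose largest subgroup normal in F is trivial. Then no proper subgroup of Q is essential in F: an essential subgroup of F contained in Q equals Q. -/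
theorem result {Ω : Type u} [Group Ω] {S : Subgroup Ω} [Finite S] (p : ℕ) [Fact p.Prime] (hp : Odd p) (hS : IsPGroup p S)
    (Q : Subgroup Ω) (hQS : Q ≤ S) (hQ : Cfsg.IsExtraspecial p ↥Q) (hQi : (Q.subgroupOf S).index = p)
    (h6 : p ^ 6 ≤ Nat.card S)
    (F : Cfsg.FusionSystem S) (hF : F.IsSaturated p) (hO : F.core = ⊥)
    (E : Subgroup Ω) (hEQ : E ≤ Q) (hE : F.IsEssential p E) : E = Q := by
  have hpp : p.Prime := Fact.out
  have hES : E ≤ S := hEQ.trans hQS
  have hfinQ : Finite Q := finite_of_le hQS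
  have hfinE : Finite E := finite_of_le hES
  have hcen' : centralizerIn S E ≤ E := hE.1.2 E (isConj_refl F hES)
  have hrad := essential_radical hS F hE
  have hCC := centralComm_of_isExtraspecial hQ
  set Z : Subgroup Ω := (Subgroup.center Q).map Q.subtype with hZdef
  have hZmem : ∀ a ∈ Q, ∀ b ∈ Q, a * b * a⁻¹ * b⁻¹ ∈ Z := fun a ha b hb =>
    ⟨_, hCC.comm ⟨a, ha⟩ ⟨b, hb⟩, rfl⟩
  have hZc : ∀ z ∈ Z, ∀ a ∈ Q, a * z = z * a := by
    rintro _ ⟨z, hz, rfl⟩ a ha
    exact congrArg Subtype.val (Subgroup.mem_center_iff.1 hz ⟨a, ha⟩)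
  have hZQ : Z ≤ Q := by
    rintro _ ⟨z, -, rfl⟩
    exact z.2
  have hZcard : Nat.card Z = p := by
    rw [hZdef, Subgroup.card_map_of_injective (Subgroup.subtype_injective _)]
    exact hQ.2
  have hZE : Z ≤ E := by
    intro z hz
    apply hcen'
    refine ⟨hQS (hZQ hz), ?_⟩
    show z ∈ Subgroup.centralizer (E : Set Ω)
    rw [Subgroup.mem_centralizer_iff]
    intro e he
    exact hZc z hz e (hEQ he)
  have hconj : ∀ x ∈ Q, ∀ e ∈ E, x * e * x⁻¹ ∈ E := by
    intro x hx e he
    have h1 := E.mul_mem (hZE (hZmem x hx e (hEQ he))) he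
    simpa using h1
  have hQN : ∀ x ∈ Q, x ∈ Subgroup.normalizer (E : Set Ω) := by
    intro x hx
    apply mem_normalizer_of_conj_mem (hconj x hx)
    intro e he
    simpa using hconj x⁻¹ (Q.inv_mem hx) e he
  have hgen : ∀ c ∈ Z, c ≠ 1 → ∀ u ∈ Z, ∃ k : ℤ, c ^ k = u := by
    intro c hc hc1 u hu
    have h1 : (⟨u, hu⟩ : Z) ∈ Subgroup.zpowers (⟨c, hc⟩ : Z) :=
      mem_zpowers_of_prime_card hZcard (fun h => hc1 (congrArg Subtype.val h))
    obtain ⟨k, hk⟩ := h1
    exact ⟨k, by simpa using congrArg Subtype.val hk⟩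
  -- conjugation by elements of `Q` stabilises `1 ≤ W ≤ E` as soon as it fixes `W ≥ Z` pointwise
  have hcomm2 : ∀ (x : Ω) (hx : x ∈ Q) (e : E),
      ((e⁻¹ * conjAut E x (hQN x hx) e : E) : Ω) ∈ Z := by
    intro x hx e
    have h1 := hZmem (e : Ω)⁻¹ (Q.inv_mem (hEQ e.2)) x hx
    have h2 : ((e⁻¹ * conjAut E x (hQN x hx) e : E) : Ω) = (e : Ω)⁻¹ * x * ((e : Ω)⁻¹)⁻¹ * x⁻¹ := by
      rw [Subgroup.coe_mul, conjAut_apply, Subgroup.coe_inv]
      group
    rw [h2]
    exact h1
  by_cases hab : ∀ a ∈ E, ∀ b ∈ E, a * b = b * a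
  · -- abelian case
    by_contra hne
    have hcardQ : p ^ 4 ≤ Nat.card Q := by
      have h1 := Subgroup.card_mul_index (Q.subgroupOf S)
      rw [hQi, Nat.card_congr (Subgroup.subgroupOfEquivOfLe hQS).toEquiv] at h1
      rw [← h1] at h6
      have h2 : p ^ 6 = p ^ 5 * p := by ring
      rw [h2] at h6
      have h3 := Nat.le_of_mul_le_mul_right h6 hpp.pos
      exact (Nat.pow_le_pow_right hpp.pos (by norm_num)).trans h3
    have hout : ∀ e : E, ∃ x ∈ Q, x ∉ E ∧ x * (e : Ω) = e * x := by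
      intro e
      obtain ⟨x, hx, hxe⟩ := exists_commuting_outside hCC hQ.2 hcardQ (E.subgroupOf Q)
        (fun a ha b hb => Subtype.ext (hab a ha b hb))
        (fun h => hne (le_antisymm hEQ (Subgroup.subgroupOf_eq_top.1 h)))
        ⟨e, hEQ e.2⟩ e.2
      exact ⟨x, x.2, hx, congrArg Subtype.val hxe⟩
    obtain ⟨z, hzZ, hz1⟩ : ∃ z ∈ Z, z ≠ 1 := by
      have : Finite Z := finite_of_le (hZQ.trans hQS)
      have : Nontrivial Z := by
        rw [← Finite.one_lt_card_iff_nontrivial, hZcard]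
        exact hpp.one_lt
      obtain ⟨z, hz⟩ := exists_ne (1 : Z)
      exact ⟨z, z.2, fun h => hz (Subtype.ext h)⟩
    apply not_essential_of_pairs hS F hF hE
    intro g hg
    set ze : E := ⟨z, hZE hzZ⟩ with hze
    obtain ⟨x, hxQ, hxE, hxc⟩ := hout (g ze)
    obtain ⟨y, hyQ, hyE, hyc⟩ := hout (g⁻¹ ze)
    set W : Subgroup E := Subgroup.closure {ze, g ze} with hW
    have hzeW : ze ∈ W := Subgroup.subset_closure (by simp)
    have hgzeW : g ze ∈ W := Subgroup.subset_closure (by simp)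
    have hZpow : ∀ e : E, (e : Ω) ∈ Z → ∃ k : ℤ, ze ^ k = e := by
      intro e he
      obtain ⟨k, hk⟩ := hgen z hzZ hz1 e he
      exact ⟨k, Subtype.ext (by simpa using hk)⟩
    have hZW : ∀ e : E, (e : Ω) ∈ Z → e ∈ W := by
      intro e he
      obtain ⟨k, rfl⟩ := hZpow e he
      exact W.zpow_mem hzeW k
    have hgZW : ∀ e : E, (e : Ω) ∈ Z → g e ∈ W := by
      intro e he
      obtain ⟨k, rfl⟩ := hZpow e he
      rw [map_zpow]
      exact W.zpow_mem hgzeW k
    have hfix : ∀ α : MulAut E, α ze = ze → α (g ze) = g ze → ∀ w ∈ W, α w = w := by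
      intro α h1 h2
      have : W ≤ MonoidHom.eqLocus α.toMonoidHom (MonoidHom.id E) := by
        rw [hW, Subgroup.closure_le]
        rintro w (rfl | rfl)
        · exact h1
        · exact h2
      intro w hw
      exact this hw
    have hfixc : ∀ (x : Ω) (hx : x ∈ Q) (e : E), x * (e : Ω) = e * x →
        conjAut E x (hQN x hx) e = e := by
      intro x hx e h
      apply Subtype.ext
      rw [conjAut_apply, h, mul_inv_cancel_right]
    refine ⟨conjAut E x (hQN x hxQ), conjAut_mem_autInducedBy _ (hQS hxQ),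
      fun h => hxE (mem_of_conjAut_mem_inn hcen' (hQS hxQ) hES _ h),
      conjAut E y (hQN y hyQ), conjAut_mem_autInducedBy _ (hQS hyQ),
      fun h => hyE (mem_of_conjAut_mem_inn hcen' (hQS hyQ) hES _ h),
      chainStab (chainTwo W) (chainTwo_mono W), isPGroup_chainStab_chainTwo (hS.to_le hES) W,
      ?_, ?_⟩
    · apply mem_chainStab_chainTwo
      · apply hfix
        · exact hfixc x hxQ ze (hZc z hzZ x hxQ)
        · exact hfixc x hxQ _ hxc
      · intro e
        exact hZW _ (hcomm2 x hxQ e)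
    · apply mem_chainStab_chainTwo
      · apply hfix
        · rw [MulAut.mul_apply, MulAut.mul_apply, hfixc y hyQ _ hyc, MulAut.apply_inv_self]
        · rw [MulAut.mul_apply, MulAut.mul_apply, MulAut.inv_apply_self,
            hfixc y hyQ ze (hZc z hzZ y hyQ)]
      · intro e
        have h1 := hgZW _ (hcomm2 y hyQ (g⁻¹ e))
        rw [map_mul, map_inv, MulAut.apply_inv_self] at h1
        exact h1
  · -- nonabelian case
    push Not at hab
    obtain ⟨a, ha, b, hb, hab⟩ := hab
    apply le_antisymm hEQ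
    set ce : E := ⟨a, ha⟩ * ⟨b, hb⟩ * ⟨a, ha⟩⁻¹ * ⟨b, hb⟩⁻¹ with hce
    have hceZ : (ce : Ω) ∈ Z := hZmem a (hEQ ha) b (hEQ hb)
    have hce1 : (ce : Ω) ≠ 1 := by
      intro h
      apply hab
      have h1 : a * b * a⁻¹ * b⁻¹ = 1 := h
      have h2 : a * b * a⁻¹ = b := mul_inv_eq_one.mp h1
      exact mul_inv_eq_iff_eq_mul.mp h2
    set W : Subgroup E := Z.subgroupOf E with hW
    have hinvW : ∀ α : MulAut E, ∀ w ∈ W, α w ∈ W := by
      intro α w hw
      obtain ⟨k, hk⟩ := hgen ce hceZ hce1 w hw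
      have hk' : ce ^ k = w := Subtype.ext (by simpa using hk)
      rw [← hk', map_zpow]
      apply W.zpow_mem
      rw [hce, map_mul, map_mul, map_mul, map_inv, map_inv]
      exact hZmem _ (hEQ (α ⟨a, ha⟩).2) _ (hEQ (α ⟨b, hb⟩).2)
    have hinv : ∀ α ∈ F.autGroup E, ∀ i, ∀ x ∈ chainTwo W i, α x ∈ chainTwo W i := by
      intro α _ i x hx
      match i with
      | 0 =>
        have : x = 1 := Subgroup.mem_bot.1 hx
        rw [this, map_one]
        exact Subgroup.one_mem _
      | 1 => exact hinvW α x hx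
      | (k + 2) => trivial
    have hnormal := chainStab_normal (chainTwo W) (chainTwo_mono W) (F.autGroup E) hinv
    have hDp := isPGroup_chainStab_chainTwo (hS.to_le hES) W
    have hDcore : (chainStab (chainTwo W) (chainTwo_mono W)).subgroupOf (F.autGroup E) ≤
        pCore p (F.autGroup E) :=
      le_sSup ⟨hnormal, hDp.comap_of_injective _ (Subgroup.subtype_injective _)⟩
    intro x hxQ
    apply mem_of_conjAut_mem_inn hcen' (hQS hxQ) hES (hQN x hxQ)
    rw [← hrad.2]
    refine ⟨⟨conjAut E x (hQN x hxQ), autInducedBy_le_autGroup F hES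
      (conjAut_mem_autInducedBy _ (hQS hxQ))⟩, hDcore ?_, rfl⟩
    rw [Subgroup.mem_subgroupOf]
    apply mem_chainStab_chainTwo
    · intro w hw
      apply Subtype.ext
      rw [conjAut_apply, hZc w hw x hxQ, mul_inv_cancel_right]
    · intro e
      exact hcomm2 x hxQ e

end Cfsg.Agent.S5179
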