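import Mathlib
import Cfsg.Statements.S5186
import Cfsg.Agent.Lib.Helper64.EssCube

set_option autoImplicit false

universe u

namespace Cfsg.Agent.S5186

open Cfsg.Agent.Lib.Helper64

/-- Let F be a saturated fusion system over a finite p-group S and H an essential subgroup of order p³. Then H is elementary abelian, or p is odd and H is extraspecial of exponent p, or p = 2 and H is the quaternion group of order 8. -/
theorem result {Ω : Type u} [Group Ω] {S : Subgroup Ω} [Finite S] (p : ℕ) [Fact p.Prime] (hS : IsPGroup p S)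
    (F : Cfsg.FusionSystem S) (hF : F.IsSaturated p) (H : Subgroup Ω) (hH : F.IsEssential p H) (hcard : Nat.card H = p ^ 3) :
    Cfsg.IsElementaryAbelian p H ∨ (Odd p ∧ Cfsg.IsExtraspecial p ↥H ∧ ∀ x ∈ H, x ^ p = 1) ∨
      (p = 2 ∧ Nonempty (↥H ≃* QuaternionGroup 2)) := by
  have hp : p.Prime := Fact.out
  have hfinH : Finite H := Nat.finite_of_card_ne_zero (by rw [hcard]; exact (pow_pos hp.pos 3).ne')
  have hP : IsPGroup p H := IsPGroup.of_card hcard
  have hno := noChain_of_essential p F H hH hP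
  have hexp : (∀ x : H, x ^ p = 1) → ∀ x ∈ H, x ^ p = 1 := by
    intro h x hx
    exact congrArg Subtype.val (h ⟨x, hx⟩)
  rcases cube_cases hno hcard with ⟨h1, h2⟩ | ⟨h1, h2, h3⟩ | ⟨h1, h2⟩
  · exact Or.inl ⟨⟨⟨h1⟩⟩, hexp h2⟩
  · exact Or.inr (Or.inl ⟨h1, h2, hexp h3⟩)
  · exact Or.inr (Or.inr ⟨h1, h2⟩)

end Cfsg.Agent.S5186
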