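import Mathlib
import Cfsg.Statements.S5187
import Cfsg.Agent.Lib.Helper64.EssRankTwo
import Cfsg.Agent.Lib.Helper84.FusionEssential

set_option autoImplicit false

universe u

namespace Cfsg.Agent.S5187

open Cfsg.Agent.Lib.Helper64
open scoped IsMulCommutative

/-- Let F be a saturated fusion system over a finite p-group S and H an abelian essential subgroup that can be generated by two elements (its Frattini quotient has order at most p²). Then H is elementary abelian of order p², or p ≤ 3 and H is homocyclic of rank two, that is isomorphic to C_{pᵏ} × C_{pᵏ} for some k. -/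
theorem result {Ω : Type u} [Group Ω] {S : Subgroup Ω} [Finite S] (p : ℕ) [Fact p.Prime] (hS : IsPGroup p S)
    (F : Cfsg.FusionSystem S) (hF : F.IsSaturated p) (H : Subgroup Ω) (hH : F.IsEssential p H) (hab : IsMulCommutative ↥H) (hrk : (frattini ↥H).index ≤ p ^ 2) :
    (Cfsg.IsElementaryAbelian p H ∧ Nat.card H = p ^ 2) ∨
      (p ≤ 3 ∧ ∃ k : ℕ, Nonempty (↥H ≃* Multiplicative (ZMod (p ^ k) × ZMod (p ^ k)))) := by
  have hp : p.Prime := Fact.out
  have hHS : H ≤ S := hH.1.1
  have hfinH : Finite H :=
    Finite.of_injective (Subgroup.inclusion hHS) (Subgroup.inclusion_injective hHS)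
  have hP : IsPGroup p H := hS.to_le hHS
  have hno := noChain_of_essential p F H hH hP
  obtain ⟨e, hidx, hM, hexp⟩ := rankTwo_structure hP hno hrk
  obtain ⟨E⟩ := rankTwo_homocyclic hP hidx hM hexp
  by_cases he : e = 0
  · left
    subst he
    refine ⟨⟨hab, ?_⟩, ?_⟩
    · intro a ha
      have := hexp ⟨a, ha⟩
      rw [zero_add, pow_one] at this
      exact congrArg Subtype.val this
    · have hbot : frattini ↥H = ⊥ := by
        rw [eq_bot_iff]
        intro x hx
        have := (hM x).1 hx
        rw [pow_zero, pow_one] at this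
        exact Subgroup.mem_bot.2 this
      rw [hbot, Subgroup.index_bot] at hidx
      exact hidx
  · right
    refine ⟨?_, e + 1, ⟨E⟩⟩
    by_contra h3
    have h3' : 3 < p := by omega
    have hfinAut : Finite (MulAut H) :=
      Finite.of_injective (fun e : MulAut H => (e : H → H)) DFunLike.coe_injective
    have hrad := (Cfsg.Agent.Lib.Helper84.essential_radical hS F hH).2
    have hInn : Cfsg.Inn ↥H = ⊥ := by
      rw [eq_bot_iff]
      rintro _ ⟨g, rfl⟩
      rw [Subgroup.mem_bot]
      ext x
      simp [MulAut.conj_apply, mul_comm' g x]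
    rw [hInn] at hrad
    obtain ⟨Q⟩ : Nonempty (Sylow p (F.autGroup H)) := Sylow.nonempty
    have hQn := not_normal_sylow_of_essential p F H hH Q
    have hQ1 : (Q : Subgroup (F.autGroup H)) ≠ ⊥ := by
      intro h
      apply hQn
      rw [h]
      infer_instance
    have hdvd : p ∣ Nat.card (Q : Subgroup (F.autGroup H)) := by
      obtain ⟨n, hn⟩ := IsPGroup.iff_card.1 Q.2
      rcases n with _ | n
      · exfalso
        rw [pow_zero, Subgroup.card_eq_one] at hn
        exact hQ1 hn
      · rw [hn]
        exact ⟨p ^ n, by ring⟩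
    obtain ⟨q, hq⟩ := exists_prime_orderOf_dvd_card' p hdvd
    have hqp : ((q : F.autGroup H) : MulAut H) ^ p = 1 := by
      have h1 : q ^ p = 1 := orderOf_dvd_iff_pow_eq_one.1 (by rw [hq])
      have := congrArg Subtype.val (congrArg Subtype.val h1)
      simpa using this
    have hmem := mem_frattiniKer_of_order_p hP h3' (Nat.pos_of_ne_zero he) hidx hM _ hqp
    have hK : (frattiniKer ↥H).subgroupOf (F.autGroup H) ≤ Cfsg.pCore p (F.autGroup H) := by
      apply Cfsg.Agent.Lib.Lead.le_pCore inferInstance
      exact (isPGroup_frattiniKer hP).comap_of_injective _ (Subgroup.subtype_injective _)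
    have h4 : ((q : F.autGroup H) : MulAut H) ∈
        (Cfsg.pCore p (F.autGroup H)).map (F.autGroup H).subtype :=
      ⟨q, hK (Subgroup.mem_subgroupOf.2 hmem), rfl⟩
    rw [hrad, Subgroup.mem_bot] at h4
    have hq1 : q = 1 := by
      ext1
      ext1
      exact h4
    rw [hq1, orderOf_one] at hq
    exact hp.one_lt.ne hq

end Cfsg.Agent.S5187
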