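import Cfsg.Statements.S5191

set_option autoImplicit false
open Cfsg

namespace Cfsg.Agent.S5191

open scoped Pointwise in
theorem result {G : Type*} [Group G] [Finite G] {p : ℕ} [Fact p.Prime]
    [hN : (Cfsg.pPrimeCore p G).Normal] (S : Sylow p G) (P : Subgroup G) (hP : P ≤ (S : Subgroup G))
    (γ : G ⧸ Cfsg.pPrimeCore p G)
    (hγ : ∀ x ∈ P, γ * QuotientGroup.mk x * γ⁻¹ ∈ ((S : Subgroup G).map (QuotientGroup.mk' (Cfsg.pPrimeCore p G)))) :
    ∃ g : G, ∀ x ∈ P, g * x * g⁻¹ ∈ S ∧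
      (QuotientGroup.mk (g * x * g⁻¹) : G ⧸ Cfsg.pPrimeCore p G) = γ * QuotientGroup.mk x * γ⁻¹ := by
  classical
  obtain ⟨h, hh⟩ := QuotientGroup.mk_surjective γ
  subst hh
  generalize Cfsg.pPrimeCore p G = N at *
  -- K = S ⊔ N
  set K : Subgroup G := (S : Subgroup G) ⊔ N with hK
  have hSK : (S : Subgroup G) ≤ K := le_sup_left
  have hNK : N ≤ K := le_sup_right
  -- the conjugate of P by h lies in K
  have hconjK : ∀ x ∈ P, h * x * h⁻¹ ∈ K := by
    intro x hx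
    obtain ⟨s, hs, hse⟩ := hγ x hx
    have h1 : (QuotientGroup.mk s : G ⧸ N) = QuotientGroup.mk (h * x * h⁻¹) := by
      simpa using hse
    have h2 : s⁻¹ * (h * x * h⁻¹) ∈ N := QuotientGroup.eq.mp h1
    have h3 : h * x * h⁻¹ = s * (s⁻¹ * (h * x * h⁻¹)) := by group
    rw [h3]
    exact K.mul_mem (hSK hs) (hNK h2)
  -- the conjugate subgroup
  let Q : Subgroup G := P.map (MulAut.conj h).toMonoidHom
  have hQK : Q ≤ K := by
    rintro _ ⟨x, hx, rfl⟩
    exact hconjK x hx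
  have hPp : IsPGroup p P := S.isPGroup'.to_le hP
  have hQp : IsPGroup p Q := hPp.map _
  have hQ'p : IsPGroup p (Q.subgroupOf K) := by
    exact hQp.comap_of_injective K.subtype K.subtype_injective
  obtain ⟨R, hR⟩ := hQ'p.exists_le_sylow
  obtain ⟨y, hy⟩ := MulAction.exists_smul_eq K R (S.subtype hSK)
  -- decompose y = s * n
  have hymem : (y : G) ∈ (S : Subgroup G) ⊔ N := y.2
  rw [Subgroup.mem_sup_of_normal_right] at hymem
  obtain ⟨s, hs, n, hn, hsn⟩ := hymem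
  refine ⟨n * h, fun x hx => ?_⟩
  have hxQ : (⟨h * x * h⁻¹, hconjK x hx⟩ : K) ∈ Q.subgroupOf K := by
    rw [Subgroup.mem_subgroupOf]
    exact ⟨x, hx, rfl⟩
  have hxR : (⟨h * x * h⁻¹, hconjK x hx⟩ : K) ∈ (R : Subgroup K) := hR hxQ
  have hyx : y * (⟨h * x * h⁻¹, hconjK x hx⟩ : K) * y⁻¹ ∈ ((S.subtype hSK : Sylow p K) : Subgroup K) := by
    rw [← hy, Sylow.coe_subgroup_smul]
    have := Subgroup.smul_mem_pointwise_smul _ (MulAut.conj y) (R : Subgroup K) hxR
    simpa using this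
  have hyx' : (y : G) * (h * x * h⁻¹) * (y : G)⁻¹ ∈ (S : Subgroup G) := by
    have := hyx
    rw [Sylow.coe_subtype, Subgroup.mem_subgroupOf] at this
    simpa using this
  constructor
  · have h4 : n * h * x * (n * h)⁻¹ = s⁻¹ * ((y : G) * (h * x * h⁻¹) * (y : G)⁻¹) * s := by
      rw [← hsn]; group
    rw [h4]
    exact (S : Subgroup G).mul_mem ((S : Subgroup G).mul_mem ((S : Subgroup G).inv_mem hs) hyx') hs
  · have hn1 : (QuotientGroup.mk n : G ⧸ N) = 1 := (QuotientGroup.eq_one_iff n).mpr hn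
    simp [hn1]

end Cfsg.Agent.S5191
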