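import Cfsg.Statements.S5192
import Cfsg.Agent.Lib.Helper85.FusSignCount
import Cfsg.Agent.Lib.Helper88.FusCharBiset

set_option autoImplicit false
open Cfsg

namespace Cfsg.Agent.S5192

open Cfsg.FusionSystem Cfsg.Agent.Lib.Helper84 Cfsg.Agent.Lib.Helper85 Cfsg.Agent.Lib.Helper88 MulAction

theorem count_in {Ω : Type*} [Group Ω] {S : Subgroup Ω} [Finite S] {X : Type*} [MulAction (S × S) X]
    [Finite X] {F : FusionSystem S} (h : IsFBiset F X) (hS : IsPGroup 2 S) (T : Subgroup Ω)
    (hTn : ∀ s ∈ S, ∀ t ∈ T, s * t * s⁻¹ ∈ T) (i : S) (hi : orderOf i = 2)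
    (hyp : ∀ j : Ω, F.IsConjElt i j → F.IsFullyNormalized (Subgroup.zpowers j) → j ∉ T) :
    2 * Nat.card S ∣ {y : X | ∃ t : S, (t : Ω) ∈ T ∧ (i, (1 : S)) • y = ((1 : S), t) • y}.ncard := by
  classical
  -- orders of conjugates
  have hord : ∀ t : S, F.IsConjElt (i : Ω) t → orderOf t = 2 := by
    intro t ht
    obtain ⟨φ, hφ, hφt⟩ := ht
    have h1 : orderOf (φ ⟨i, Subgroup.mem_zpowers _⟩) = orderOf (⟨i, Subgroup.mem_zpowers _⟩ : Subgroup.zpowers (i : Ω)) :=
      orderOf_injective φ (F.injective_of_mem hφ) _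
    rw [hφt, Subgroup.orderOf_coe, ← Subgroup.orderOf_coe (⟨i, Subgroup.mem_zpowers _⟩ : Subgroup.zpowers (i : Ω))] at h1
    rw [h1]
    show orderOf (i : Ω) = 2
    rw [Subgroup.orderOf_coe, hi]
  -- a fully normalized conjugate
  obtain ⟨Q₀, ⟨φ₀, hφ₀, hQ₀⟩, hfn⟩ := exists_fullyNormalized F
    (P := Subgroup.zpowers (i : Ω)) ((Subgroup.zpowers_le).2 i.2)
  set j₀ : S := ⟨φ₀ ⟨i, Subgroup.mem_zpowers _⟩, (F.le_of_mem hφ₀).2 _⟩ with hj₀
  have hij₀ : F.IsConjElt (i : Ω) j₀ := ⟨φ₀, hφ₀, rfl⟩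
  have hQ₀' : Q₀ = Subgroup.zpowers (j₀ : Ω) := by rw [← hQ₀, range_of_zpowers]
  rw [hQ₀'] at hfn
  -- the sets
  set W : Set S := {t | (t : Ω) ∈ T ∧ F.IsConjElt (i : Ω) t} with hW
  set c := {y : X | ((i, j₀) : S × S) • y = y}.ncard with hc
  have hfix : ∀ t : S, F.IsConjElt (i : Ω) t → {y : X | ((i, t) : S × S) • y = y}.ncard = c := by
    intro t ht
    rw [hc, ← mark_zpowers, ← mark_zpowers]
    exact mark_zpowers_eq h ht hij₀
  -- rewriting the set
  have hset : {y : X | ∃ t : S, (t : Ω) ∈ T ∧ (i, (1 : S)) • y = ((1 : S), t) • y} =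
      (fun y : X => {t : S | ((i, t) : S × S) • y = y}) ⁻¹' ((fun t : S => ({t} : Set S)) '' W) := by
    ext y
    simp only [Set.mem_setOf_eq, Set.mem_preimage, Set.mem_image]
    constructor
    · rintro ⟨t, ht, hy⟩
      have hy' : ((i, t⁻¹) : S × S) • y = y := by
        have e : ((i, t⁻¹) : S × S) = ((1 : S), t⁻¹) * (i, (1 : S)) := by simp
        rw [e, mul_smul, hy, ← mul_smul]
        simp only [Prod.mk_mul_mk, mul_one, inv_mul_cancel]
        exact one_smul (S × S) y
      refine ⟨t⁻¹, ⟨T.inv_mem ht, ?_⟩, ?_⟩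
      · obtain ⟨Q, θ, hθ, hQ⟩ := h.stab y
        have hm : ((i, t⁻¹) : S × S) ∈ gr S Q θ := by rw [← hQ]; exact hy'
        obtain ⟨h1, h2⟩ := hm
        have := isConjElt_of_mem F hθ ⟨_, h1⟩
        rw [h2] at this
        exact isConjElt_symm this
      · ext u
        simp only [Set.mem_singleton_iff, Set.mem_setOf_eq]
        constructor
        · rintro rfl; exact hy'
        · intro hu
          have e1 : (((1 : S), u⁻¹) : S × S) • y = (i, (1 : S)) • y := by
            have e : ((i, (1 : S)) : S × S) = ((1 : S), u⁻¹) * (i, u) := by simp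
            rw [e, mul_smul, hu]
          have e2 : (((1 : S), t) : S × S) • y = (i, (1 : S)) • y := hy.symm
          have := right_cancel h y _ _ (e1.trans e2.symm)
          rw [← this, inv_inv]
    · rintro ⟨t, ⟨ht, -⟩, hy⟩
      have hy' : ((i, t) : S × S) • y = y := by
        have : t ∈ {t : S | ((i, t) : S × S) • y = y} := by rw [← hy]; rfl
        exact this
      refine ⟨t⁻¹, T.inv_mem ht, ?_⟩
      have e : ((i, (1 : S)) : S × S) = ((1 : S), t⁻¹) * (i, t) := by simp
      rw [e, mul_smul, hy']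
  have hcount : {y : X | ∃ t : S, (t : Ω) ∈ T ∧ (i, (1 : S)) • y = ((1 : S), t) • y}.ncard
      = c * W.ncard := by
    rw [hset, ncard_preimage_of_fibers _ c, Set.ncard_image_of_injective _ Set.singleton_injective]
    rintro _ ⟨t, ⟨-, ht⟩, rfl⟩
    rw [← hfix t ht]
    congr 1
    ext y
    simp only [Set.mem_setOf_eq]
    constructor
    · intro hy
      have : t ∈ {t : S | ((i, t) : S × S) • y = y} := by rw [hy]; rfl
      exact this
    · intro hy
      ext u
      simp only [Set.mem_singleton_iff, Set.mem_setOf_eq]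
      constructor
      · intro hu
        have e1 : (((1 : S), u⁻¹) : S × S) • y = (i, (1 : S)) • y := by
          have e : ((i, (1 : S)) : S × S) = ((1 : S), u⁻¹) * (i, u) := by simp
          rw [e, mul_smul, hu]
        have e2 : (((1 : S), t⁻¹) : S × S) • y = (i, (1 : S)) • y := by
          have e : ((i, (1 : S)) : S × S) = ((1 : S), t⁻¹) * (i, t) := by simp
          rw [e, mul_smul, hy]
        exact inv_injective (right_cancel h y _ _ (e1.trans e2.symm))
      · rintro rfl; exact hy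
  rw [hcount]
  -- orders
  obtain ⟨n, hn⟩ := IsPGroup.iff_card.1 hS
  obtain ⟨α, hα⟩ := IsPGroup.iff_card.1 (hS.to_subgroup (Subgroup.centralizer ({j₀} : Set S)))
  have hαn : α ≤ n := by
    have := Subgroup.card_subgroup_dvd_card (Subgroup.centralizer ({j₀} : Set S))
    rw [hα, hn] at this
    exact (Nat.pow_dvd_pow_iff_le_right (by norm_num)).1 this
  have hc1 : 2 ^ α ∣ c := by
    rw [← hα]; exact card_centralizer_dvd h i j₀
  have hW1 : 2 ^ (n + 1 - α) ∣ W.ncard := by
    apply dvd_ncard_of_orbits (G := ConjAct S) _ _ _ rfl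
    · rintro g t ⟨ht, hit⟩
      rw [ConjAct.smul_def]
      refine ⟨hTn _ (ConjAct.ofConjAct g).2 _ ht, ?_⟩
      have := isConjElt_of_mem F (F.conj_mem (P := Subgroup.zpowers (t : Ω))
        ((Subgroup.zpowers_le).2 t.2) (ConjAct.ofConjAct g).2) ⟨t, Subgroup.mem_zpowers _⟩
      exact isConjElt_trans hit this
    · rintro t ⟨ht, hit⟩
      obtain ⟨β, hβ⟩ := IsPGroup.iff_card.1 (hS.to_subgroup (Subgroup.centralizer ({t} : Set S)))
      have h1 := ncard_conj_orbit t
      rw [hβ, hn] at h1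
      have hβα : β < α := by
        have hnf : ¬ F.IsFullyNormalized (Subgroup.zpowers (t : Ω)) := fun hf => hyp t hit hf ht
        have h2 : ∃ Q, F.IsConj (Subgroup.zpowers (t : Ω)) Q ∧
            Nat.card (normalizerIn S (Subgroup.zpowers (t : Ω))) < Nat.card (normalizerIn S Q) := by
          by_contra hcon
          push_neg at hcon
          exact hnf ⟨(Subgroup.zpowers_le).2 t.2, hcon⟩
        obtain ⟨Q, hQ, hlt⟩ := h2
        have h3 := hfn.2 Q (isConj_trans (isConj_zpowers (isConjElt_trans (isConjElt_symm hij₀) hit)) hQ)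
        rw [← card_centralizer_eq t (hord t hit), hβ] at hlt
        rw [← card_centralizer_eq j₀ (hord j₀ hij₀), hα] at h3
        exact (Nat.pow_lt_pow_iff_right (by norm_num)).1 (lt_of_lt_of_le hlt h3)
      have hβn : β ≤ n := by omega
      have h4 : (orbit (ConjAct S) t).ncard = 2 ^ (n - β) := by
        have : (2 : ℕ) ^ n = 2 ^ (n - β) * 2 ^ β := by rw [← pow_add]; congr 1; omega
        rw [this] at h1
        exact Nat.eq_of_mul_eq_mul_right (by positivity) h1
      rw [h4]
      exact pow_dvd_pow 2 (by omega)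
  have : 2 * Nat.card S = 2 ^ α * 2 ^ (n + 1 - α) := by
    rw [hn, ← pow_add, ← pow_succ']
    congr 1; omega
  rw [this]
  exact mul_dvd_mul hc1 hW1

/-- A Thompson-type transfer for saturated fusion systems. Let F be a saturated fusion system on a finite 2-group S, T a subgroup of S of index 2, and i an involution of S such that every fully normalized F-conjugate of i lies in S but outside T. Then i does not lie in the hyperfocal subgroup of F (the Sylow group of the 2-residual subsystem). -/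
theorem result {Ω : Type*} [Group Ω] [Finite Ω] {S : Subgroup Ω}
    (hS : IsPGroup 2 ↥S) (F : Cfsg.FusionSystem S) (hF : F.IsSaturated 2)
    (T : Subgroup Ω) (hTS : T ≤ S) (hT : T.relIndex S = 2)
    (i : Ω) (hi : i ∈ S) (hi2 : orderOf i = 2)
    (h : ∀ j : Ω, F.IsConjElt i j → F.IsFullyNormalized (Subgroup.zpowers j) → j ∉ T) :
    i ∉ F.hyperfocalSubgroup 2 := by
  have hfinS : Finite S := inferInstance
  intro hmem
  obtain ⟨L, hL, hst, hpos, m, hm, hpm⟩ := exists_char_list 2 hS F hF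
  have hb := isFBiset_XL F L hL hst hpos
  have hX : Nat.card (XL L) = Nat.card S * m := by
    rw [← mark_bot (G := S × S) (XL L), mark_XL, hm]
  obtain ⟨V, hV1, hV2⟩ := exists_sign_hom hb hTS
  -- `V` kills the hyperfocal subgroup
  have hker : F.hyperfocalSubgroup 2 ≤ V.ker.map S.subtype := by
    unfold FusionSystem.hyperfocalSubgroup
    rw [Subgroup.closure_le]
    rintro _ ⟨P, α, x, hP, -, rfl⟩
    have hα := (mem_autGroup_iff F hP (α : MulAut P)).1 α.2
    have h1 := hV1 P _ hα x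
    refine ⟨(⟨x, hP x.2⟩ : S)⁻¹ * ⟨((α : MulAut P) x : P), hP ((α : MulAut P) x).2⟩, ?_, rfl⟩
    show V _ = 1
    rw [map_mul, map_inv, inv_mul_eq_one]
    exact h1.symm
  obtain ⟨i', hi'k, hi'⟩ := hker hmem
  have hi'e : i' = ⟨i, hi⟩ := Subtype.ext hi'
  have hVi : V ⟨i, hi⟩ = 1 := by rw [← hi'e]; exact hi'k
  -- index two
  have hcard : Nat.card S = 2 * Nat.card T := by
    have h1 := Subgroup.card_mul_index (T.subgroupOf S)
    have h2 : (T.subgroupOf S).index = 2 := hT
    have h3 : Nat.card (T.subgroupOf S) = Nat.card T :=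
      Nat.card_congr (Subgroup.subgroupOfEquivOfLe hTS).toEquiv
    rw [h2, h3] at h1
    omega
  have hTnorm : (T.subgroupOf S).Normal := Subgroup.normal_of_index_eq_two hT
  have hTn : ∀ s ∈ S, ∀ t ∈ T, s * t * s⁻¹ ∈ T := by
    intro s hs t ht
    have := hTnorm.conj_mem ⟨t, hTS ht⟩ (Subgroup.mem_subgroupOf.2 ht) ⟨s, hs⟩
    exact Subgroup.mem_subgroupOf.1 this
  have hio : orderOf (⟨i, hi⟩ : S) = 2 := by rw [← Subgroup.orderOf_coe]; exact hi2
  obtain ⟨e, he⟩ := count_in hb hS T hTn ⟨i, hi⟩ hio h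
  have hsum := Set.ncard_add_ncard_compl
    {y : XL L | ∃ t : S, (t : Ω) ∈ T ∧ ((⟨i, hi⟩ : S), (1 : S)) • y = ((1 : S), t) • y}
  rw [he, hX] at hsum
  have hTpos : 0 < Nat.card T := by
    have : Finite T := finite_of_le hTS
    exact Nat.card_pos
  have hle : 2 * e ≤ m := by
    have h1 : 2 * Nat.card S * e ≤ Nat.card S * m := by omega
    have h2 : Nat.card S * (2 * e) ≤ Nat.card S * m := by
      calc Nat.card S * (2 * e) = 2 * Nat.card S * e := by ring
        _ ≤ _ := h1
    exact Nat.le_of_mul_le_mul_left h2 (by omega)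
  have hcompl : ({y : XL L | ∃ t : S, (t : Ω) ∈ T ∧
      ((⟨i, hi⟩ : S), (1 : S)) • y = ((1 : S), t) • y}ᶜ).ncard = Nat.card T * (2 * (m - 2 * e)) := by
    obtain ⟨d, rfl⟩ := Nat.exists_eq_add_of_le hle
    have : 2 * e + d - 2 * e = d := by omega
    rw [this]
    have h3 : 2 * Nat.card S * e + Nat.card T * (2 * d) = Nat.card S * (2 * e + d) := by
      rw [hcard]; ring
    omega
  have hsq : (⟨i, hi⟩ : S) ^ 2 = 1 := by rw [← hio]; exact pow_orderOf_eq_one _
  have hfin := hV2 ⟨i, hi⟩ hsq (m - 2 * e) hcompl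
  rw [hVi] at hfin
  have hodd : Odd (m - 2 * e) := by
    have : ¬ 2 ∣ m - 2 * e := by
      intro hd
      apply hpm
      have : m = (m - 2 * e) + 2 * e := by omega
      rw [this]
      exact dvd_add hd (dvd_mul_right 2 e)
    exact Nat.odd_iff.2 (by omega)
  rw [hodd.neg_one_pow] at hfin
  exact absurd hfin (by decide)

end Cfsg.Agent.S5192
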