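import Cfsg.Statements.S5193
import Cfsg.Agent.Lib.Helper87.FunctorLoc2
import Cfsg.Agent.Lib.Helper87.QuadCenter
import Cfsg.Agent.Lib.Helper87.ThompsonQuad
import Cfsg.Agent.Lib.Helper84.FusionKNorm4
import Cfsg.Agent.S2799

set_option autoImplicit false
open Cfsg

namespace Cfsg.Agent.S5193

/-- Glauberman's Theorem for fusion systems. Let F be a saturated fusion system over a finite p-group S, let J(S) be the subgroup generated by the abelian subgroups of S of largest order, and let N be the normalizer fusion system of J(S) in F (a fusion system over N_S(J(S)) = S). Then every p-th power of an element of Z(S) that lies in the centre of N lies in the centre of F; and if p is odd, or if the symmetric group of degree 4 is not involved in any model of the normalizer system of a fully normalized F-centric subgroup (F is S₄-free), then the centre of N equals the centre of F. -/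
theorem result {Ω : Type*} [Group Ω] {S : Subgroup Ω} [Finite S] (p : ℕ) [Fact p.Prime] (hS : IsPGroup p S) (F : Cfsg.FusionSystem S) (hF : F.IsSaturated p) (N : Cfsg.FusionSystem (Cfsg.FusionSystem.normalizerIn S (Cfsg.thompsonSubgroupAOf S))) (hN : F.IsNormalizerSystem (Cfsg.thompsonSubgroupAOf S) N) : Subgroup.closure ((fun z : Ω => z ^ p) '' ((S ⊓ Subgroup.centralizer (S : Set Ω) : Subgroup Ω) : Set Ω)) ⊓ N.center ≤ F.center ∧ (p ≠ 2 ∨ F.IsSectionFree p (Equiv.Perm (Fin 4)) → N.center = F.center) := by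
  have hW2 : ∀ (Q R : Type _) [Group Q] [Group R] [Finite Q], IsPGroup p Q → ∀ φ : Q ≃* R,
      (Cfsg.thompsonSubgroupA Q).map φ.toMonoidHom = Cfsg.thompsonSubgroupA R :=
    fun Q R _ _ _ _ φ => Cfsg.Agent.Lib.Helper87.thompsonA_map φ
  have hWZ : ∀ (Q : Type _) [Group Q] [Finite Q], IsPGroup p Q →
      Subgroup.center Q ≤ Cfsg.thompsonSubgroupA Q :=
    fun Q _ _ _ => Cfsg.Agent.Lib.Helper87.center_le_thompsonA Q
  constructor
  · have hG := Cfsg.Agent.Lib.Helper87.groupHyp_of_quadratic (p := p)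
      (fun Q _ => Cfsg.thompsonSubgroupA Q) hW2
      (fun G _ _ P hn => Cfsg.Agent.Lib.Helper87.thompsonA_quadratic G P hn)
    apply le_sSup
    apply Cfsg.Agent.Lib.Helper87.functor_central (fun Q _ => Cfsg.thompsonSubgroupA Q) hW2 p hWZ hG
      hS F hF N hN _ inf_le_right
    intro y hy
    have key : ∀ y ∈ Subgroup.closure ((fun z => z ^ p) ''
        ((S ⊓ Subgroup.centralizer (S : Set Ω) : Subgroup Ω) : Set Ω)),
        ∃ z ∈ S ⊓ Subgroup.centralizer (S : Set Ω), y = z ^ p := by
      intro y hy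
      induction hy using Subgroup.closure_induction with
      | mem x hx =>
        obtain ⟨z, hz, rfl⟩ := hx
        exact ⟨z, hz, rfl⟩
      | one => exact ⟨1, Subgroup.one_mem _, (one_pow p).symm⟩
      | mul a b _ _ ha hb =>
        obtain ⟨z₁, hz₁, rfl⟩ := ha
        obtain ⟨z₂, hz₂, rfl⟩ := hb
        refine ⟨z₁ * z₂, Subgroup.mul_mem _ hz₁ hz₂, ?_⟩
        have hc : Commute z₁ z₂ := (Subgroup.mem_centralizer_iff.1 hz₂.2) z₁ hz₁.1
        exact (hc.mul_pow p).symm
      | inv a _ ha =>
        obtain ⟨z, hz, rfl⟩ := ha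
        exact ⟨z⁻¹, Subgroup.inv_mem _ hz, (inv_pow z p).symm⟩
    obtain ⟨z, hz, rfl⟩ := key y hy.1
    exact ⟨z, hz.1, fun s hs => (Subgroup.mem_centralizer_iff.1 hz.2) s hs, rfl⟩
  · intro hp
    have hW₀ : Cfsg.thompsonSubgroupAOf S ≤ S := Subgroup.map_subtype_le _
    have hSN : S ≤ Subgroup.normalizer ((Cfsg.thompsonSubgroupAOf S : Subgroup Ω) : Set Ω) :=
      Subgroup.le_normalizer.trans (Cfsg.Agent.Lib.Helper87.functor_normalizer
        (fun Q _ => Cfsg.thompsonSubgroupA Q) hW2 hS)
    have hfinT : Finite (Cfsg.FusionSystem.normalizerIn S (Cfsg.thompsonSubgroupAOf S)) :=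
      Cfsg.Agent.Lib.Helper84.finite_of_le (Cfsg.Agent.Lib.Helper84.normalizerIn_le S _)
    have hTp : IsPGroup p (Cfsg.FusionSystem.normalizerIn S (Cfsg.thompsonSubgroupAOf S)) :=
      hS.to_le (Cfsg.Agent.Lib.Helper84.normalizerIn_le S _)
    have hNc := Cfsg.Agent.Lib.Helper85.isCentral_center N
    have hFc := Cfsg.Agent.Lib.Helper85.isCentral_center F
    apply le_antisymm
    · apply le_sSup
      apply Cfsg.Agent.Lib.Helper87.functor_central' (fun Q _ => Cfsg.thompsonSubgroupA Q) hW2 1 hWZ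
        (fun L _ => p ≠ 2 ∨ ¬ Cfsg.Involves (Equiv.Perm (Fin 4)) L) ?_ hS F hF N hN
        (fun Q hQn hQc E hE L _ ι hM => hp.imp id (fun h => h Q hQn hQc E hE L ι hM)) _ le_rfl
      · intro y hy
        refine ⟨y, (hNc.1 hy).1, fun s hs => ?_, (pow_one y).symm⟩
        have h1 := N.conj_mem hNc.1 (⟨hs, hSN hs⟩ : s ∈ Cfsg.FusionSystem.normalizerIn S _)
        have h2 := Cfsg.Agent.Lib.Helper85.apply_eq_of_isCentral N hNc h1 ⟨y, hy⟩ hy
        have h3 : s * y * s⁻¹ = y := h2
        rw [mul_inv_eq_iff_eq_mul] at h3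
        exact h3
      · intro L _ _ hΦ P hCL z hz hzZ hnorm g
        rw [pow_one]
        have hzO : z ∈ Cfsg.pCore p L := by
          apply hCL
          rw [Subgroup.mem_centralizer_iff]
          intro u hu
          exact hzZ u (Cfsg.Agent.Lib.Lead.pCore_le_sylow P hu)
        have hzN : z ∈ Subgroup.normalizer
            ((Cfsg.thompsonSubgroupAOf (P : Subgroup L) : Subgroup L) : Set L) :=
          Cfsg.Agent.Lib.Helper87.functor_normalizer (fun Q _ => Cfsg.thompsonSubgroupA Q) hW2 P.2
            (Subgroup.le_normalizer hz)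
        have h1 := Cfsg.Agent.S2799.result P z hz (by
          refine ⟨⟨z, hzN⟩, ?_, rfl⟩
          rw [SetLike.mem_coe, Subgroup.mem_center_iff]
          intro t
          have := hnorm t t.2
          rw [pow_one] at this
          exact Subtype.ext this) (hΦ.imp id Or.inr) g
          (Cfsg.Agent.Lib.Lead.pCore_le_sylow P
            ((Cfsg.Agent.Lib.Lead.pCore_normal' p L).conj_mem z hzO g))
        rw [mul_inv_eq_iff_eq_mul] at h1
        exact h1
    · apply le_sSup
      have hsat := Cfsg.Agent.Lib.Helper84.normalizerSystem_saturated hS hF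
        (Cfsg.Agent.Lib.Helper87.fullyNormalized_of_normal F hW₀ hSN) N hN
      show N.IsCentral F.center
      rw [Cfsg.Agent.Lib.Helper84.central_iff hTp N hsat]
      refine ⟨fun x hx => ⟨hFc.1 hx, hSN (hFc.1 hx)⟩, ?_⟩
      rintro x hx y ⟨φ, hφ, rfl⟩
      rw [hN] at hφ
      exact Cfsg.Agent.Lib.Helper85.apply_eq_of_isCentral F hFc hφ.1 _ hx

end Cfsg.Agent.S5193
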