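import Cfsg.Statements.S5194
import Cfsg.Agent.Lib.Helper87.ClimbNF
import Cfsg.Agent.Lib.Helper87.ThompsonQuad
import Cfsg.Agent.Lib.Helper88.FusNilp5
import Cfsg.Agent.S2800
import Cfsg.Agent.S5097

set_option autoImplicit false
open Cfsg Cfsg.FusionSystem Cfsg.Agent.Lib.Helper84 Cfsg.Agent.Lib.Helper87

namespace Cfsg.Agent.S5194

/-- Thompson's normal p-complement Theorem for fusion systems. Let F be a saturated fusion system over a finite p-group S such that p is odd or F is S₄-free (the symmetric group of degree 4 is not involved in any model of the normalizer system of a fully normalized F-centric subgroup), and let J(S) be the subgroup generated by the abelian subgroups of S of largest order. If the centralizer fusion system of Z(S) in F is the inner fusion system of C_S(Z(S)) = S and the normalizer fusion system of J(S) in F is the inner fusion system of N_S(J(S)) = S, then F is the inner fusion system of S. -/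
theorem result {Ω : Type*} [Group Ω] {S : Subgroup Ω} [Finite S] (p : ℕ) [Fact p.Prime] (hS : IsPGroup p S) (F : Cfsg.FusionSystem S) (hF : F.IsSaturated p) (hp : p ≠ 2 ∨ F.IsSectionFree p (Equiv.Perm (Fin 4))) (hC : ∀ C : Cfsg.FusionSystem (Cfsg.FusionSystem.centralizerIn S (S ⊓ Subgroup.centralizer (S : Set Ω))), F.IsCentralizerSystem (S ⊓ Subgroup.centralizer (S : Set Ω)) C → ∀ P : Subgroup Ω, C.Hom P = (Cfsg.innerFusionSystem (Cfsg.FusionSystem.centralizerIn S (S ⊓ Subgroup.centralizer (S : Set Ω)))).Hom P) (hN : ∀ N : Cfsg.FusionSystem (Cfsg.FusionSystem.normalizerIn S (Cfsg.thompsonSubgroupAOf S)), F.IsNormalizerSystem (Cfsg.thompsonSubgroupAOf S) N → ∀ P : Subgroup Ω, N.Hom P = (Cfsg.innerFusionSystem (Cfsg.FusionSystem.normalizerIn S (Cfsg.thompsonSubgroupAOf S))).Hom P) : ∀ P : Subgroup Ω, F.Hom P = (Cfsg.innerFusionSystem S).Hom P := by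
  have hle : F ≤ innerFusionSystem S := by
    apply climbN_functor (p := p) (fun Q _ => Cfsg.thompsonSubgroupA Q)
      (fun Q R _ _ _ _ φ => thompsonA_map φ)
      (fun Q _ _ _ => centralizer_thompsonA_le Q) hS F _ hF
    · intro P φ hφ hVP hPV hφV
      obtain ⟨N, hN'⟩ := Cfsg.Agent.S5096.result F (Cfsg.thompsonSubgroupAOf S)
        (Subgroup.map_subtype_le _)
      have h1 : φ ∈ N.Hom P := by
        rw [hN']
        refine ⟨hφ, fun x hx => ⟨(F.le_of_mem hφ).1 hx, hPV hx⟩,
          fun x => map_mem_normalizerIn F hφ hφV x (hPV x.2),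
          φ.comp (Subgroup.inclusion (sup_le le_rfl hVP)), restrict_mem F hφ _, fun x => rfl, ?_⟩
        refine Eq.trans ?_ hφV
        ext y
        constructor
        · rintro ⟨x, hx, rfl⟩
          exact ⟨_, hx, rfl⟩
        · rintro ⟨x, hx, rfl⟩
          exact ⟨Subgroup.inclusion le_sup_left x, hx, rfl⟩
      rw [hN N hN'] at h1
      obtain ⟨-, g, hg, h⟩ := h1
      exact ⟨(F.le_of_mem hφ).1, g, hg.1, h⟩
    · intro Q hQn hQc hflag
      have hQS : Q ≤ S := hQc.1
      obtain ⟨EQ, hE⟩ := Cfsg.Agent.S5096.result F Q hQS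
      have hcon := constrained_normalizerSystem hS hF hQn hQc hE
      have hfinT : Finite (normalizerIn S Q) := finite_of_le (normalizerIn_le S Q)
      have hTp : IsPGroup p (normalizerIn S Q) := hS.to_le (normalizerIn_le S Q)
      obtain ⟨L, _, ι, hM⟩ := Cfsg.Agent.S5090.result p hTp EQ hcon
      have hfree : p ≠ 2 ∨ ¬ Cfsg.Involves (Equiv.Perm (Fin 4)) L :=
        hp.imp id (fun h => h Q hQn hQc EQ hE L ι hM)
      have hQnorm := model_map_normal (normal_normalizerSystem hQS hE) (fun t ht => ht.2) ι hM
      obtain ⟨hfinL, hr, ⟨P₀, hP₀⟩, hCL⟩ := hM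
      have hWP := functor_map_injective (p := p) (fun Q _ => Cfsg.thompsonSubgroupA Q)
        (fun Q R _ _ _ _ φ => thompsonA_map φ) hTp ι hr.1 (P₀ : Subgroup L) hP₀
      have hWT : (Cfsg.thompsonSubgroupA ↥(normalizerIn S Q)).map (normalizerIn S Q).subtype ≤
          normalizerIn S Q := Subgroup.map_subtype_le _
      have hQT : Q ≤ normalizerIn S Q := le_normalizerIn hQS
      have hEF : ∀ (A : Subgroup Ω) (ψ : A →* Ω), ψ ∈ EQ.Hom A → ψ ∈ F.Hom A := by
        intro A ψ hψ
        rw [hE] at hψ
        exact hψ.1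
      have hpS : ∀ s ∈ S, ∃ k : ℕ, s ^ (p ^ k) = 1 := by
        intro s hs
        obtain ⟨k, hk⟩ := hS ⟨s, hs⟩
        exact ⟨k, congrArg Subtype.val hk⟩
      have hN' : Cfsg.HasNormalPComplement p ↥(Subgroup.normalizer
          ((Cfsg.thompsonSubgroupAOf (P₀ : Subgroup L)) : Set L)) := by
        apply Cfsg.Agent.Lib.Helper88.hasNormalPComplement_normalizer_of_frob P₀
          (Cfsg.thompsonSubgroupAOf (P₀ : Subgroup L)) (Subgroup.map_subtype_le _)
          (Subgroup.le_normalizer.trans (functor_normalizer (p := p)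
            (fun Q _ => Cfsg.thompsonSubgroupA Q) (fun Q R _ _ _ _ φ => thompsonA_map φ) P₀.2))
        intro U hVU hUT g hgU hgV hgo
        have hgQ : g ∈ Subgroup.normalizer
            (((Q.subgroupOf (normalizerIn S Q)).map ι : Subgroup L) : Set L) := by
          rw [Subgroup.normalizer_eq_top]; trivial
        have hsub : ((Cfsg.thompsonSubgroupA ↥(normalizerIn S Q)).map
            (normalizerIn S Q).subtype).subgroupOf (normalizerIn S Q) =
            Cfsg.thompsonSubgroupA ↥(normalizerIn S Q) :=
          Subgroup.comap_map_eq_self_of_injective (Subgroup.subtype_injective _) _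
        have hgW : g ∈ Subgroup.normalizer
            ((((((Cfsg.thompsonSubgroupA ↥(normalizerIn S Q)).map
              (normalizerIn S Q).subtype).subgroupOf
              (normalizerIn S Q)).map ι : Subgroup L)) : Set L) := by
          rw [hsub, ← hWP]
          exact hgV
        apply centralizes_of_induced hr (hP₀ ▸ hUT) hQT hgU hgQ hgo
        intro hB ψ hψT hψ hψ'
        have hWB : (Cfsg.thompsonSubgroupA ↥(normalizerIn S Q)).map (normalizerIn S Q).subtype ≤
            (U.comap ι).map (normalizerIn S Q).subtype ⊔ Q := by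
          refine le_trans ?_ le_sup_left
          apply Subgroup.map_mono
          intro w hw
          apply hVU
          show ι w ∈ (Cfsg.thompsonSubgroupA ↥(P₀ : Subgroup L)).map (P₀ : Subgroup L).subtype
          rw [hWP]
          exact ⟨w, hw, rfl⟩
        obtain ⟨-, s, hs, hψs⟩ := hflag _ ψ (hEF _ _ hψ) le_sup_right hWB hB hψT
          (realized_map_eq hr.1 hB le_sup_right ψ hψT g hψ' hgQ)
          (realized_map_eq hr.1 hB hWB ψ hψT g hψ' hgW)
        obtain ⟨k, hk⟩ := hpS s hs
        exact ⟨s, k, hk, hψs⟩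
      have hZT : S ⊓ Subgroup.centralizer (S : Set Ω) ≤ normalizerIn S Q := by
        intro z hz
        refine centralizerIn_le_normalizerIn S Q ⟨hz.1, ?_⟩
        exact Subgroup.centralizer_le (SetLike.coe_subset_coe.2 hQS) hz.2
      have hC' : Cfsg.HasNormalPComplement p ↥(Subgroup.centralizer
          (((P₀ : Subgroup L) ⊓ Subgroup.centralizer ((P₀ : Subgroup L) : Set L) : Subgroup L) :
            Set L)) := by
        apply hasNormalPComplement_of_frob P₀
        · intro s hs
          rw [Subgroup.mem_centralizer_iff]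
          intro z hz
          exact ((Subgroup.mem_centralizer_iff.1 hz.2) s hs).symm
        intro U hUT g hgU hgX hgo
        have hgz : ∀ z : normalizerIn S Q, (z : Ω) ∈ S ⊓ Subgroup.centralizer (S : Set Ω) →
            g * ι z * g⁻¹ = ι z := by
          intro z hz
          have h1 : ι z ∈ (P₀ : Subgroup L) ⊓ Subgroup.centralizer ((P₀ : Subgroup L) : Set L) := by
            refine ⟨by rw [hP₀]; exact ⟨z, rfl⟩, ?_⟩
            show ι z ∈ Subgroup.centralizer ((P₀ : Subgroup L) : Set L)
            rw [Subgroup.mem_centralizer_iff]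
            intro y hy
            rw [SetLike.mem_coe, hP₀] at hy
            obtain ⟨t, rfl⟩ := hy
            rw [← map_mul, ← map_mul]
            congr 1
            exact Subtype.ext ((Subgroup.mem_centralizer_iff.1 hz.2) t t.2.1)
          rw [← (Subgroup.mem_centralizer_iff.1 hgX) _ h1, mul_inv_cancel_right]
        have hgZ : g ∈ Subgroup.normalizer
            ((((S ⊓ Subgroup.centralizer (S : Set Ω)).subgroupOf (normalizerIn S Q)).map ι :
              Subgroup L) : Set L) := by
          apply mem_normalizer_of_conj_mem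
          · rintro _ ⟨z, hz, rfl⟩
            rw [hgz z hz]
            exact ⟨z, hz, rfl⟩
          · rintro _ ⟨z, hz, rfl⟩
            have h1 := hgz z hz
            have h2 : g⁻¹ * ι z * g = ι z := by
              nth_rewrite 1 [← h1]
              group
            rw [h2]
            exact ⟨z, hz, rfl⟩
        apply centralizes_of_induced hr (hP₀ ▸ hUT) hZT hgU hgZ hgo
        intro hB ψ hψT hψ hψ'
        obtain ⟨C, hC₀⟩ := Cfsg.Agent.S5097.result F (S ⊓ Subgroup.centralizer (S : Set Ω))
          inf_le_left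
        have hSC : S ≤ centralizerIn S (S ⊓ Subgroup.centralizer (S : Set Ω)) := by
          intro a ha
          refine ⟨ha, ?_⟩
          show a ∈ Subgroup.centralizer _
          rw [Subgroup.mem_centralizer_iff]
          intro x hx
          exact ((Subgroup.mem_centralizer_iff.1 hx.2) a ha).symm
        have hψF := hEF _ _ hψ
        have h1 : ψ ∈ C.Hom _ := by
          rw [hC₀]
          refine ⟨hψF, fun x hx => hSC ((F.le_of_mem hψF).1 hx),
            fun x => hSC ((F.le_of_mem hψF).2 x),
            ψ.comp (Subgroup.inclusion (sup_le le_rfl le_sup_right)), restrict_mem F hψF _,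
            fun x => rfl, fun z => ?_⟩
          have h2 := hψ' ⟨z, (le_sup_right : _ ≤ (U.comap ι).map (normalizerIn S Q).subtype ⊔
            (S ⊓ Subgroup.centralizer (S : Set Ω))) z.2⟩
          have h3 := hgz ⟨z, hZT z.2⟩ z.2
          exact congrArg Subtype.val (hr.1 (h2.trans h3))
        rw [hC C hC₀] at h1
        obtain ⟨-, s, hs, hψs⟩ := h1
        obtain ⟨k, hk⟩ := hpS s hs.1
        exact ⟨s, k, hk, hψs⟩
      have htop : (P₀ : Subgroup L) = ⊤ :=
        Cfsg.Agent.Lib.Helper88.sylow_eq_top_of_hasNormalPComplement hCL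
          (Cfsg.Agent.S2800.result P₀ hfree hC' hN') P₀
      intro P φ hφ hQP hPQ hφQ
      have hPS : P ≤ S := (F.le_of_mem hφ).1
      have hPT : P ≤ normalizerIn S Q := fun x hx => ⟨hPS hx, hPQ hx⟩
      have hφT : ∀ x, φ x ∈ normalizerIn S Q := fun x =>
        map_mem_normalizerIn F hφ hφQ x (hPQ x.2)
      have hφE : φ ∈ EQ.Hom P := by
        rw [hE]
        refine ⟨hφ, hPT, hφT, φ.comp (Subgroup.inclusion (sup_le le_rfl hQP)),
          restrict_mem F hφ _, fun x => rfl, ?_⟩
        refine Eq.trans ?_ hφQ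
        ext y
        constructor
        · rintro ⟨x, hx, rfl⟩
          exact ⟨_, hx, rfl⟩
        · rintro ⟨x, hx, rfl⟩
          exact ⟨Subgroup.inclusion le_sup_left x, hx, rfl⟩
      obtain ⟨g, hg⟩ := Cfsg.Agent.Lib.Helper85.realized_exists_elt hr hφE
      have hgr : g ∈ ι.range := by rw [← hP₀, htop]; trivial
      obtain ⟨t, rfl⟩ := hgr
      refine ⟨hPS, t, t.2.1, fun x => ?_⟩
      have h1 := hg x
      rw [← map_inv, ← map_mul, ← map_mul] at h1
      exact congrArg Subtype.val (hr.1 h1)
  intro P
  exact Set.Subset.antisymm (hle P) (inner_le F P)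

end Cfsg.Agent.S5194
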