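import Cfsg.Statements.S5196
import Cfsg.Agent.Lib.Helper87.FunctorLoc
import Cfsg.Agent.Lib.Helper84.FusionKNorm4

set_option autoImplicit false
universe u
open Cfsg

namespace Cfsg.Agent.S5196

/-- Let p be an odd prime and W a positive characteristic p-functor: W assigns to every finite p-group Q (in a fixed universe) a subgroup W(Q), nontrivial when Q is, carried to W(R) by every isomorphism Q ≅ R; assume also Z(Q) ≤ W(Q) for every finite p-group Q. Suppose W satisfies the local condition: for every finite group G with Sylow p-subgroup P, O_p(G) ∩ Z(G) = O_p(G) ∩ Z(N_G(W(P))). Then W controls weak closure of elements in every saturated fusion system F over a finite p-group S: the centre of the normalizer fusion system of W(S) in F equals the centre of F. (For p = 2 no functor satisfies the local condition, so p is taken odd.) -/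
theorem result {p : ℕ} [Fact p.Prime] (hp : p ≠ 2) (W : ∀ (Q : Type u) [Group Q], Subgroup Q) (hW1 : ∀ (Q : Type u) [Group Q] [Finite Q], IsPGroup p Q → Nontrivial Q → W Q ≠ ⊥) (hW2 : ∀ (Q R : Type u) [Group Q] [Group R] [Finite Q], IsPGroup p Q → ∀ φ : Q ≃* R, (W Q).map φ.toMonoidHom = W R) (hWZ : ∀ (Q : Type u) [Group Q] [Finite Q], IsPGroup p Q → Subgroup.center Q ≤ W Q) (hC : ∀ (G : Type u) [Group G] [Finite G] (P : Sylow p G), Cfsg.pCore p G ⊓ Subgroup.center G = Cfsg.pCore p G ⊓ (Subgroup.center ↥(Subgroup.normalizer (((W ↥(P : Subgroup G)).map (P : Subgroup G).subtype : Subgroup G) : Set G))).map (Subgroup.normalizer (((W ↥(P : Subgroup G)).map (P : Subgroup G).subtype : Subgroup G) : Set G)).subtype) {Ω : Type u} [Group Ω] {S : Subgroup Ω} [Finite S] (hS : IsPGroup p S) (F : Cfsg.FusionSystem S) (hF : F.IsSaturated p) (N : Cfsg.FusionSystem (Cfsg.FusionSystem.normalizerIn S ((W ↥S).map S.subtype))) (hN : F.IsNormalizerSystem ((W ↥S).map S.subtype) N) : N.center = F.center := by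
  have hW₀ : (W ↥S).map S.subtype ≤ S := Subgroup.map_subtype_le _
  have hSN : S ≤ Subgroup.normalizer (((W ↥S).map S.subtype : Subgroup Ω) : Set Ω) :=
    Subgroup.le_normalizer.trans (Cfsg.Agent.Lib.Helper87.functor_normalizer W hW2 hS)
  have hfinT : Finite (Cfsg.FusionSystem.normalizerIn S ((W ↥S).map S.subtype)) :=
    Cfsg.Agent.Lib.Helper84.finite_of_le (Cfsg.Agent.Lib.Helper84.normalizerIn_le S _)
  have hTp : IsPGroup p (Cfsg.FusionSystem.normalizerIn S ((W ↥S).map S.subtype)) :=
    hS.to_le (Cfsg.Agent.Lib.Helper84.normalizerIn_le S _)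
  have hNc := Cfsg.Agent.Lib.Helper85.isCentral_center N
  have hFc := Cfsg.Agent.Lib.Helper85.isCentral_center F
  have hG : Cfsg.Agent.Lib.Helper87.GroupHyp p 1 W := by
    intro L _ _ P hCL z hz hzZ hnorm g
    have hzO : z ∈ Cfsg.pCore p L := by
      apply hCL
      rw [Subgroup.mem_centralizer_iff]
      intro u hu
      exact hzZ u (Cfsg.Agent.Lib.Lead.pCore_le_sylow P hu)
    have hzN : z ∈ Subgroup.normalizer
        (((W ↥(P : Subgroup L)).map (P : Subgroup L).subtype : Subgroup L) : Set L) :=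
      Cfsg.Agent.Lib.Helper87.functor_normalizer W hW2 P.2 (Subgroup.le_normalizer hz)
    have h1 : z ∈ Cfsg.pCore p L ⊓ (Subgroup.center ↥(Subgroup.normalizer
        (((W ↥(P : Subgroup L)).map (P : Subgroup L).subtype : Subgroup L) : Set L))).map
        (Subgroup.normalizer
        (((W ↥(P : Subgroup L)).map (P : Subgroup L).subtype : Subgroup L) : Set L)).subtype := by
      refine ⟨hzO, ⟨z, hzN⟩, ?_, rfl⟩
      rw [SetLike.mem_coe, Subgroup.mem_center_iff]
      intro t
      have := hnorm t t.2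
      rw [pow_one] at this
      exact Subtype.ext this
    rw [← hC L P] at h1
    rw [pow_one]
    exact Subgroup.mem_center_iff.1 h1.2 g
  apply le_antisymm
  · apply le_sSup
    apply Cfsg.Agent.Lib.Helper87.functor_central W hW2 1 hWZ hG hS F hF N hN _ le_rfl
    intro y hy
    refine ⟨y, (hNc.1 hy).1, fun s hs => ?_, (pow_one y).symm⟩
    have h1 := N.conj_mem hNc.1 (⟨hs, hSN hs⟩ : s ∈ Cfsg.FusionSystem.normalizerIn S _)
    have h2 := Cfsg.Agent.Lib.Helper85.apply_eq_of_isCentral N hNc h1 ⟨y, hy⟩ hy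
    have h3 : s * y * s⁻¹ = y := h2
    rw [mul_inv_eq_iff_eq_mul] at h3
    exact h3
  · apply le_sSup
    have hsat := Cfsg.Agent.Lib.Helper84.normalizerSystem_saturated hS hF
      (Cfsg.Agent.Lib.Helper87.fullyNormalized_of_normal F hW₀ hSN) N hN
    rw [Set.mem_setOf_eq, Cfsg.Agent.Lib.Helper84.central_iff hTp N hsat]
    refine ⟨fun x hx => ⟨hFc.1 hx, hSN (hFc.1 hx)⟩, ?_⟩
    rintro x hx y ⟨φ, hφ, rfl⟩
    rw [hN] at hφ
    exact Cfsg.Agent.Lib.Helper85.apply_eq_of_isCentral F hFc hφ.1 _ hx

end Cfsg.Agent.S5196
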