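import Cfsg.Statements.S5198
import Cfsg.Agent.Lib.Helper86.LiftAut

set_option autoImplicit false
open Cfsg

namespace Cfsg.Agent.S5198

open Cfsg.FusionSystem Cfsg.Agent.Lib.Helper84 Cfsg.Agent.Lib.Helper85 Cfsg.Agent.Lib.Helper86
  Cfsg.Agent.Lib.Helper87

/-- Let F be a saturated fusion system over a finite p-group S and T a subgroup of S strongly closed in F (so T is normal in S). Then every element x of the hyperfocal subgroup of F acts on T by conjugation as an element of O^p(Aut_F(T))·Inn(T): there is an automorphism of T in the subgroup generated by the elements of Aut_F(T) of order prime to p together with the inner automorphisms of T that agrees with conjugation by x. -/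
theorem result {Ω : Type*} [Group Ω] {S : Subgroup Ω} [Finite S] (p : ℕ) [Fact p.Prime] (hS : IsPGroup p S) (F : Cfsg.FusionSystem S) (hF : F.IsSaturated p) (T : Subgroup Ω) (hT : F.StronglyClosed T) : ∀ x ∈ F.hyperfocalSubgroup p, ∃ α ∈ ((Cfsg.pResidual p ↥(F.autGroup T)).map (F.autGroup T).subtype ⊔ Cfsg.Inn ↥T : Subgroup (MulAut ↥T)), ∀ t : ↥T, ((α t : ↥T) : Ω) = x * (t : Ω) * x⁻¹ := by
  intro x hx
  unfold hyperfocalSubgroup at hx
  induction hx using Subgroup.closure_induction with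
  | one => exact ⟨1, Subgroup.one_mem _, fun t => by simp⟩
  | mul a b _ _ iha ihb =>
    obtain ⟨α, hα, hα'⟩ := iha
    obtain ⟨β, hβ, hβ'⟩ := ihb
    refine ⟨α * β, Subgroup.mul_mem _ hα hβ, fun t => ?_⟩
    rw [MulAut.mul_apply, hα', hβ']
    group
  | inv a _ iha =>
    obtain ⟨α, hα, hα'⟩ := iha
    refine ⟨α⁻¹, Subgroup.inv_mem _ hα, fun t => ?_⟩
    have h1 := hα' (α⁻¹ t)
    have h2 : α (α⁻¹ t) = t := by simp
    rw [h2] at h1
    rw [h1]
    group
  | mem y hy =>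
    obtain ⟨P, α, u, hPS, hα, rfl⟩ := hy
    obtain ⟨β, hβ, γ, hγ, hαβ, hβγ⟩ := exists_lift_pResidual hS F hF hT hPS hα
    have huS : (u : Ω) ∈ S := hPS u.2
    have huN : (u : Ω) ∈ Subgroup.normalizer (T : Set Ω) := sc_le_normalizer hT huS
    have hcu : conjAut T u huN ∈ F.autGroup T :=
      autInducedBy_le_autGroup F hT.1 (conjAut_mem_autInducedBy huN huS)
    set cu : ↥(F.autGroup T) := ⟨conjAut T u huN, hcu⟩ with hcu_def
    set û : ↥(P ⊔ T) := Subgroup.inclusion le_sup_left u with hû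
    set t₀ : Ω := (((α : MulAut P) u : P) : Ω)⁻¹ * (((β : MulAut ↥(P ⊔ T)) û : ↥(P ⊔ T)) : Ω) with ht₀
    have ht₀T : t₀ ∈ T := hαβ u
    have hg : cu⁻¹ * γ * cu * γ⁻¹ ∈ pResidual p ↥(F.autGroup T) := by
      apply Subgroup.mul_mem _ _ (Subgroup.inv_mem _ hγ)
      have := (Cfsg.Agent.Lib.Lead.pResidual_normal p ↥(F.autGroup T)).conj_mem γ hγ cu⁻¹
      rwa [inv_inv] at this
    refine ⟨((cu⁻¹ * γ * cu * γ⁻¹ : ↥(F.autGroup T)) : MulAut T) * (MulAut.conj (⟨t₀, ht₀T⟩ : T))⁻¹,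
      Subgroup.mul_mem _ (Subgroup.mem_sup_left ⟨_, hg, rfl⟩)
        (Subgroup.inv_mem _ (Subgroup.mem_sup_right ⟨_, rfl⟩)), fun t => ?_⟩
    set s : T := (MulAut.conj (⟨t₀, ht₀T⟩ : T))⁻¹ t with hs
    have hsval : (s : Ω) = t₀⁻¹ * t * t₀ := by
      rw [hs, ← map_inv, MulAut.conj_apply]
      simp
    set r : T := (γ : MulAut T)⁻¹ s with hr
    have hγr : (γ : MulAut T) r = s := by rw [hr]; simp
    have h1 : (((β : MulAut ↥(P ⊔ T)) (Subgroup.inclusion le_sup_right r) : ↥(P ⊔ T)) : Ω) = s := by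
      rw [← hβγ r, hγr]
    have h2 : Subgroup.inclusion (le_sup_right : T ≤ P ⊔ T) (conjAut T u huN r) =
        û * Subgroup.inclusion le_sup_right r * û⁻¹ := by
      apply Subtype.ext
      rfl
    have h3 : (((γ : MulAut T) (conjAut T u huN r) : T) : Ω) =
        (((β : MulAut ↥(P ⊔ T)) û : ↥(P ⊔ T)) : Ω) * s *
          (((β : MulAut ↥(P ⊔ T)) û : ↥(P ⊔ T)) : Ω)⁻¹ := by
      rw [hβγ, h2, map_mul, map_mul, map_inv, Subgroup.coe_mul, Subgroup.coe_mul, Subgroup.coe_inv, h1]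
    have h4 : ∀ z : T, (((conjAut T u huN)⁻¹ z : T) : Ω) = (u : Ω)⁻¹ * z * u := fun z => rfl
    show (((conjAut T u huN)⁻¹ ((γ : MulAut T) (conjAut T u huN ((γ : MulAut T)⁻¹ s))) : T) : Ω) = _
    rw [h4, ← hr, h3, hsval]
    have h5 : (((α : MulAut P) u : P) : Ω) = (((β : MulAut ↥(P ⊔ T)) û : ↥(P ⊔ T)) : Ω) * t₀⁻¹ := by
      rw [ht₀]; group
    rw [h5]
    group

end Cfsg.Agent.S5198
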