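import Cfsg.Statements.S5202
import Cfsg.Agent.Lib.Helper85.RedMain
import Cfsg.Agent.Lib.Helper60.RedC

set_option autoImplicit false
open Cfsg Cfsg.FusionSystem Cfsg.Agent.Lib.Helper84 Cfsg.Agent.Lib.Helper85

namespace Cfsg.Agent.S5202

/-- Let F be a saturated fusion system over a finite p-group S and E a normal subsystem of F over T such that Aut_F(T)/Aut_E(T) is p-solvable. Then there is a normal subsystem F₀ of F over T·C_S(T) containing E, with Aut_{F₀}(T) = Aut_E(T), containing every residual limit of F, and whose residual limits have the same maps as those of F. -/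
theorem result {Ω : Type*} [Group Ω] {S : Subgroup Ω} [Finite S] (p : ℕ) [Fact p.Prime] (hS : IsPGroup p S) (F : Cfsg.FusionSystem S) (hF : F.IsSaturated p) {T : Subgroup Ω} (E : Cfsg.FusionSystem T) (hE : E.IsNormalIn F p) [hn : ((E.autGroup T).subgroupOf (F.autGroup T)).Normal] (hsolv : Cfsg.IsPSolvable p (↥(F.autGroup T) ⧸ (E.autGroup T).subgroupOf (F.autGroup T))) : ∃ F₀ : Cfsg.FusionSystem (T ⊔ Cfsg.FusionSystem.centralizerIn S T), F₀.IsNormalIn F p ∧ E.IsSubsystemOf F₀ ∧ F₀.autGroup T = E.autGroup T ∧ ∀ {U : Subgroup Ω} (Finf : Cfsg.FusionSystem U), Finf.IsResidualLimitOf F p → Finf.IsSubsystemOf F₀ ∧ ∀ {V : Subgroup Ω} (L : Cfsg.FusionSystem V), L.IsResidualLimitOf F₀ p → ∀ P : Subgroup Ω, L.Hom P = Finf.Hom P := by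
  classical
  have hEw := hE.1
  have hF' : F.IsSaturated p := hF
  have hT : F.StronglyClosed T := hEw.2.2.2.1
  have hle : E.autGroup T ≤ F.autGroup T := autGroup_le_of_subsystem hEw.2.2.1 le_rfl
  have hfin : Finite (MulAut T) := finite_mulAut_of_le hT.1
  obtain ⟨n, 𝒜, h0, hn', hA₀, hnorm, hstep⟩ :=
    Cfsg.Agent.Lib.Helper60.RedC.exists_chain p (F.autGroup T) (E.autGroup T) hle hsolv
  obtain ⟨S', F₀, hF₀, hEF₀, hC, hA, hlim⟩ := red_main hS F E hEw n 𝒜 hn' hA₀ hnorm hstep n le_rfl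
  rw [Nat.sub_self, h0] at hA
  have hS'S : S' ≤ S := hF₀.2.2.2.1.1
  have hfinS' : Finite S' := finite_of_le hS'S
  have hS'p : IsPGroup p S' := hS.to_le hS'S
  have hTS' : T ≤ S' := le_sup_left.trans hC
  have hS' : S' = T ⊔ centralizerIn S T := by
    refine le_antisymm ?_ hC
    have hfinT : Finite T := finite_of_le hT.1
    have hsyl : SylIn p (autInducedBy T T) (E.autGroup T) :=
      (Cfsg.Agent.Lib.Helper88.fullyAutomized_top p E hEw.1).2
    have hKle : autInducedBy T T ≤ E.autGroup T := autInducedBy_le_autGroup E le_rfl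
    have hH : autInducedBy S' T ≤ E.autGroup T := (autInducedBy_le_autGroup F₀ hTS').trans hA
    have hKH : autInducedBy T T ≤ autInducedBy S' T := by
      intro α hα
      obtain ⟨g, hg, h⟩ := (Cfsg.Agent.Lib.Helper84.mem_autInducedBy_iff _ _ _).1 hα
      exact (Cfsg.Agent.Lib.Helper84.mem_autInducedBy_iff _ _ _).2 ⟨g, hTS' hg, h⟩
    have heq : autInducedBy T T = autInducedBy S' T := by
      apply Subgroup.eq_of_le_of_card_ge hKH
      rw [(sylIn_iff_card hKle).mp hsyl]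
      exact card_le_of_isPGroup hH (isPGroup_autInducedBy hS'p T)
    intro x hx
    have hxn : x ∈ Subgroup.normalizer (T : Set Ω) :=
      Cfsg.Agent.Lib.Helper87.sc_le_normalizer hT (hS'S hx)
    have h1 : conjAut T x hxn ∈ autInducedBy T T := by
      rw [heq]
      exact conjAut_mem_autInducedBy hxn hx
    obtain ⟨t, ht, h2⟩ := (Cfsg.Agent.Lib.Helper84.mem_autInducedBy_iff _ _ _).1 h1
    have e : x = t * (t⁻¹ * x) := by group
    rw [e]
    refine Subgroup.mul_mem _ ((le_sup_left : T ≤ T ⊔ centralizerIn S T) ht)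
      ((le_sup_right : centralizerIn S T ≤ T ⊔ centralizerIn S T) ⟨?_, ?_⟩)
    · exact S.mul_mem (S.inv_mem (hT.1 ht)) (hS'S hx)
    · apply Subgroup.mem_centralizer_iff.2
      intro u hu
      have h3 := h2 ⟨u, hu⟩
      rw [conjAut_apply] at h3
      have h4 : x * u = t * u * t⁻¹ * x := by
        rw [← h3]; group
      calc u * (t⁻¹ * x) = t⁻¹ * (t * u * t⁻¹ * x) := by group
        _ = t⁻¹ * (x * u) := by rw [h4]
        _ = t⁻¹ * x * u := by group
  subst hS'
  refine ⟨F₀, ⟨hF₀, ?_⟩, hEF₀, le_antisymm hA (autGroup_le_of_subsystem hEF₀ le_rfl), ?_⟩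
  · intro α hα
    have hαF' := autGroup_le_of_subsystem hF₀.2.2.1 le_rfl hα
    have hαF := (mem_autGroup_iff F hS'S α).1 hαF'
    have hcle : centralizerIn S (T ⊔ centralizerIn S T) ≤ T ⊔ centralizerIn S T := by
      intro z hz
      refine (le_sup_right : centralizerIn S T ≤ T ⊔ centralizerIn S T) ⟨hz.1, ?_⟩
      apply Subgroup.mem_centralizer_iff.2
      intro u hu
      exact Subgroup.mem_centralizer_iff.1 hz.2 u
        ((le_sup_left : T ≤ T ⊔ centralizerIn S T) hu)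
    have hSC : (T ⊔ centralizerIn S T) ⊔ centralizerIn S (T ⊔ centralizerIn S T) =
        T ⊔ centralizerIn S T := sup_eq_left.mpr hcle
    refine ⟨MulAut.congr (MulEquiv.subgroupCongr hSC).symm α, ?_, fun x => rfl, ?_⟩
    · rw [mem_autGroup_iff F (hSC.le.trans hS'S)]
      exact mem_of_eq_on F hαF hSC.le (fun x => rfl)
    · intro z hz
      have hzS : (z : Ω) ∈ T ⊔ centralizerIn S T := hcle hz
      show (z : Ω)⁻¹ * ((α ⟨z, _⟩ : ↥(T ⊔ centralizerIn S T)) : Ω) ∈ _
      refine ⟨Subgroup.mul_mem _ (Subgroup.inv_mem _ hzS) (α _).2, ?_⟩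
      apply Subgroup.mul_mem _ (Subgroup.inv_mem _ hz.2)
      apply Subgroup.mem_centralizer_iff.2
      intro s hs
      have h1 : (α⁻¹ ⟨s, hs⟩ : ↥(T ⊔ centralizerIn S T)) * ⟨z, hzS⟩ = ⟨z, hzS⟩ * α⁻¹ ⟨s, hs⟩ :=
        Subtype.ext (Subgroup.mem_centralizer_iff.1 hz.2 _ (α⁻¹ ⟨s, hs⟩).2)
      have h2 := congrArg (fun w => ((α w : ↥(T ⊔ centralizerIn S T)) : Ω)) h1
      simp only [map_mul, MulAut.apply_inv_self] at h2
      exact h2
  · intro U Finf hFinf
    obtain ⟨W, L₀, hL₀⟩ := exists_limit hS'p F₀ hF₀.1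
    have h1 := hlim Finf L₀ hFinf hL₀
    refine ⟨fun P φ hφ => limit_sub hL₀ P ?_, fun L hL P => ((hlim Finf L hFinf hL) P).symm⟩
    rw [← h1 P]
    exact hφ

end Cfsg.Agent.S5202
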