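import Cfsg.Statements.S5201
import Cfsg.Agent.Lib.Helper84.CenRed
import Cfsg.Agent.Lib.Helper84.RedL1
import Cfsg.Agent.S5202
import Cfsg.Agent.S5203
import Cfsg.Agent.S5120

set_option autoImplicit false
open Cfsg

namespace Cfsg.Agent.S5201

/-- A reduction to normal subsystems. Let F be a saturated fusion system over a finite p-group S and E a normal subsystem of F over T whose centralizer in S lies in T (every subgroup Y of C_S(T) with E contained in the centralizer fusion system of Y in F satisfies Y ≤ T), and suppose Aut_F(T)/Aut_E(T) is p-solvable. Then F and E have the same residual limit: if F∞ is the residual limit of F (reached by alternately passing to the p-residual and the p'-residual subsystem until nothing changes) and E∞ that of E, then F∞ and E∞ have the same maps. -/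
theorem result {Ω : Type*} [Group Ω] {S : Subgroup Ω} [Finite S] (p : ℕ) [Fact p.Prime] (hS : IsPGroup p S) (F : Cfsg.FusionSystem S) (hF : F.IsSaturated p) {T : Subgroup Ω} (E : Cfsg.FusionSystem T) (hE : E.IsNormalIn F p) (hCE : ∀ Y : Subgroup Ω, Y ≤ Cfsg.FusionSystem.centralizerIn S T → (∀ C : Cfsg.FusionSystem (Cfsg.FusionSystem.centralizerIn S Y), F.IsCentralizerSystem Y C → E.IsSubsystemOf C) → Y ≤ T) [hn : ((E.autGroup T).subgroupOf (F.autGroup T)).Normal] (hsolv : Cfsg.IsPSolvable p (↥(F.autGroup T) ⧸ (E.autGroup T).subgroupOf (F.autGroup T))) {U V : Subgroup Ω} (Finf : Cfsg.FusionSystem U) (hFinf : Finf.IsResidualLimitOf F p) (Einf : Cfsg.FusionSystem V) (hEinf : Einf.IsResidualLimitOf E p) : ∀ P : Subgroup Ω, Finf.Hom P = Einf.Hom P := by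
  classical
  have hT : F.StronglyClosed T := hE.1.2.2.2.1
  have hWS : T ⊔ Cfsg.FusionSystem.centralizerIn S T ≤ S :=
    sup_le hT.1 (Cfsg.Agent.Lib.Helper84.centralizerIn_le _ _)
  have hfinW : Finite ↥(T ⊔ Cfsg.FusionSystem.centralizerIn S T) :=
    Cfsg.Agent.Lib.Helper84.finite_of_le hWS
  have hWp : IsPGroup p ↥(T ⊔ Cfsg.FusionSystem.centralizerIn S T) := hS.to_le hWS
  obtain ⟨F₀, hF₀, hEF₀, hAut, hlim⟩ := Cfsg.Agent.S5202.result p hS F hF E hE hsolv
  have hF₀sat : F₀.IsSaturated p := hF₀.1.1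
  have hsub : F₀.IsSubsystemOf F := hF₀.1.2.2.1
  obtain ⟨D, hD⟩ := Cfsg.Agent.S5097.result F T hT.1
  have hXT : D.focalSubgroup ≤ T := by
    apply hCE _ (Cfsg.Agent.Lib.Helper84.focal_le D)
    intro C hC P
    rw [hC P]
    exact Cfsg.Agent.Lib.Helper84.cen_main hS F hF E hE D hD P
  have hmod : ∀ (P : Subgroup Ω) (φ : P →* Ω), φ ∈ F₀.Hom P → ∀ x : P, (x : Ω)⁻¹ * φ x ∈ T :=
    fun P φ hφ x => Cfsg.Agent.Lib.Helper84.inv_mul_mem_of_sub hS E hE D hD hXT F₀ hF₀sat hsub hAut hφ x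
  have hinv₀ : E.IsInvariantIn F₀ :=
    Cfsg.Agent.Lib.Helper85.invariant_of_le hS hF hE.1.2.2 hWS hF₀sat hsub hEF₀ le_sup_left
  have hhyp : F₀.hyperfocalSubgroup p ≤ T := by
    unfold Cfsg.FusionSystem.hyperfocalSubgroup
    rw [Subgroup.closure_le]
    rintro _ ⟨P, α, x, hPS, -, rfl⟩
    exact hmod P _ ((Cfsg.Agent.Lib.Helper84.mem_autGroup_iff F₀ hPS α.1).1 α.2) x
  have hidx : E.HasPPowerIndexIn F₀ p := by
    refine ⟨hEF₀, hhyp, fun P hPT => ?_⟩
    refine (Subgroup.map_subtype_le _).trans ?_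
    intro α hα
    have hPW : P ≤ T ⊔ Cfsg.FusionSystem.centralizerIn S T := hPT.trans le_sup_left
    have hαF := (Cfsg.Agent.Lib.Helper84.mem_autGroup_iff F₀ hPW α).1 hα
    obtain ⟨a, ha, φ₀, hφ₀, h⟩ := hinv₀.2.2.2 P hPT _ hαF
    rw [hAut] at ha
    have haE := (Cfsg.Agent.Lib.Helper84.mem_autGroup_iff E le_rfl a).1 ha
    have h1 := E.comp_mem hφ₀ haE (E.le_of_mem hφ₀).2
    rw [Cfsg.Agent.Lib.Helper84.mem_autGroup_iff E hPT]
    have e : P.subtype.comp α.toMonoidHom =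
        (T.subtype.comp a.toMonoidHom).comp (φ₀.codRestrict T (E.le_of_mem hφ₀).2) := by
      ext x
      exact h x _
    unfold Cfsg.Agent.Lib.Helper84.Mor
    rw [e]
    exact h1
  have hTn : (T.subgroupOf (T ⊔ Cfsg.FusionSystem.centralizerIn S T)).Normal := by
    rw [Subgroup.normal_subgroupOf_iff_le_normalizer le_sup_left]
    exact hWS.trans (Cfsg.Agent.Lib.Helper87.sc_le_normalizer hT)
  have hEn₀ : E.IsNormalIn F₀ p :=
    Cfsg.Agent.S5120.result p hWp F₀ hF₀sat T le_sup_left hTn hhyp E hE.1.1 hidx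
  obtain ⟨U', L, hL⟩ := Cfsg.Agent.Lib.Helper84.exists_limit hWp F₀ hF₀sat
  intro P
  rw [← (hlim Finf hFinf).2 L hL P]
  exact Cfsg.Agent.S5203.result p hWp F₀ hF₀sat E hEn₀ hidx L hL Einf hEinf P

end Cfsg.Agent.S5201
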