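import Cfsg.Statements.S5206
import Cfsg.Agent.Lib.Helper34.FusLocalModel
import Cfsg.Agent.Lib.Helper34.QdLocal
import Cfsg.Agent.Lib.Helper88.FusModelUnique

set_option autoImplicit false
universe u
open Cfsg

namespace Cfsg.Agent.S5206

open Cfsg.FusionSystem Cfsg.Agent.Lib.Helper34 Cfsg.Agent.Lib.Helper85 Cfsg.Agent.Lib.Helper33

/-- transport of involvement along an isomorphism of the big group -/
theorem involves_congr' {H : Type*} [Group H] {L M : Type*} [Group L] [Group M] (e : L ≃* M)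
    (h : Involves H L) : Involves H M :=
  involves_trans h (involves_of_equiv e.symm (involves_self M))

/-- a `p`-centric `p`-subgroup can be conjugated to a fully normalized centric subgroup of `F_P(G)`. -/
theorem exists_conj_fn_centric {G : Type u} [Group G] [Finite G] {p : ℕ} [Fact p.Prime] (P : Sylow p G)
    {X : Type*} [Group X]
    (T : Subgroup G) (hTp : IsPGroup p T)
    (hTc : ∀ D : Subgroup G, IsPGroup p D → D ≤ Subgroup.centralizer (T : Set G) → D ≤ T)
    (hinv : Involves X ↥(Subgroup.normalizer (T : Set G))) :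
    ∃ Q : Subgroup G, (groupFusionSystem (P : Subgroup G)).IsFullyNormalized Q ∧
      (groupFusionSystem (P : Subgroup G)).IsCentric Q ∧
      Involves X ↥(Subgroup.normalizer (Q : Set G)) := by
  obtain ⟨S₁, hTS₁, hS₁N, hS₁⟩ := exists_sylIn_ge (Subgroup.le_normalizer : T ≤ Subgroup.normalizer (T : Set G)) hTp
  obtain ⟨g, hg⟩ := Sylow.exists_conj_le' P (hS₁.isPGroup hS₁N)
  set Q := T.map (MulAut.conj g).toMonoidHom with hQ
  have hQP : Q ≤ P := (Subgroup.map_mono hTS₁).trans hg
  have hNQ : Subgroup.normalizer (Q : Set G) =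
      (Subgroup.normalizer (T : Set G)).map (MulAut.conj g).toMonoidHom :=
    Cfsg.Agent.Lib.Helper85.normalizer_map_conj T g
  refine ⟨Q, ?_, ?_, ?_⟩
  · rw [groupFus_fullyNormalized_iff p P Q hQP]
    apply sylIn_of_card_le inf_le_right (P.isPGroup'.to_le inf_le_left)
    have h1 : S₁.map (MulAut.conj g).toMonoidHom ≤ normalizerIn (P : Subgroup G) Q := by
      refine le_inf hg ?_
      rw [hNQ]
      exact Subgroup.map_mono hS₁N
    have h2 := Subgroup.card_le_of_le h1
    rw [Cfsg.Agent.Lib.Helper85.card_map_conj, (sylIn_iff_card hS₁N).mp hS₁] at h2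
    have h3 : Nat.card ↥(Subgroup.normalizer (Q : Set G)) = Nat.card ↥(Subgroup.normalizer (T : Set G)) := by
      rw [hNQ, Cfsg.Agent.Lib.Helper85.card_map_conj]
    rw [h3]
    exact h2
  · refine ⟨hQP, fun Q' hQ' => ?_⟩
    obtain ⟨-, hQ'P, x, rfl⟩ := groupFus_isConj_iff.mp hQ'
    intro d hd
    set D := (centralizerIn (P : Subgroup G) (Q.map (MulAut.conj x).toMonoidHom)).map
      (MulAut.conj (x * g)⁻¹).toMonoidHom with hD
    have hDp : IsPGroup p D := (P.isPGroup'.to_le inf_le_left).map _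
    have hDT : D ≤ Subgroup.centralizer (T : Set G) := by
      rintro _ ⟨e, he, rfl⟩
      rw [Subgroup.mem_centralizer_iff]
      intro t ht
      have h1 : x * (g * t * g⁻¹) * x⁻¹ ∈ Q.map (MulAut.conj x).toMonoidHom :=
        ⟨g * t * g⁻¹, ⟨t, ht, rfl⟩, rfl⟩
      have h2 := Subgroup.mem_centralizer_iff.mp he.2 _ h1
      show t * ((x * g)⁻¹ * e * (x * g)⁻¹⁻¹) = (x * g)⁻¹ * e * (x * g)⁻¹⁻¹ * t
      calc t * ((x * g)⁻¹ * e * (x * g)⁻¹⁻¹) = (x * g)⁻¹ * ((x * (g * t * g⁻¹) * x⁻¹) * e) * (x * g) := by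
            group
        _ = (x * g)⁻¹ * (e * (x * (g * t * g⁻¹) * x⁻¹)) * (x * g) := by rw [h2]
        _ = (x * g)⁻¹ * e * (x * g)⁻¹⁻¹ * t := by group
    have h3 : (x * g)⁻¹ * d * (x * g)⁻¹⁻¹ ∈ T := hTc D hDp hDT ⟨d, hd, rfl⟩
    refine ⟨g * ((x * g)⁻¹ * d * (x * g)⁻¹⁻¹) * g⁻¹, ⟨_, h3, rfl⟩, ?_⟩
    show x * (g * ((x * g)⁻¹ * d * (x * g)⁻¹⁻¹) * g⁻¹) * x⁻¹ = d
    group
  · rw [hNQ]
    exact involves_congr' ((Subgroup.normalizer (T : Set G)).equivMapOfInjective _
      (MulAut.conj g).injective) hinv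

/-- Let p be an odd prime, G a finite group and P a Sylow p-subgroup of G. Then the fusion system of G on P is Qd(p)-free (Qd(p), the natural semidirect product of an elementary abelian group of order p² by SL₂(p), is not involved in any model of the normalizer system of a fully normalized centric subgroup) if and only if Qd(p) is not involved in G. -/
theorem result {G : Type u} [Group G] [Finite G] {p : ℕ} [Fact p.Prime] (hp : p ≠ 2) (P : Sylow p G) : (Cfsg.groupFusionSystem (P : Subgroup G)).IsSectionFree p ↥(Cfsg.qd p) ↔ ¬ Cfsg.Involves ↥(Cfsg.qd p) G := by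
  constructor
  · intro hfree hinv
    obtain ⟨T, hTp, hTc, hTinv⟩ := exists_centric_involves_qd hp hinv
    obtain ⟨Q, hfn, hc, hQinv⟩ := exists_conj_fn_centric P T hTp hTc hTinv
    let E : FusionSystem (normalizerIn (P : Subgroup G) Q) :=
      fusionSystemOfSubgroup (Subgroup.normalizer (Q : Set G)) (normalizerIn (P : Subgroup G) Q) inf_le_right
    have hE : (groupFusionSystem (P : Subgroup G)).IsNormalizerSystem Q E := by
      intro R
      ext φ
      rw [normalizerHom_groupFus_iff hfn.1]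
      exact Iff.rfl
    obtain ⟨K, hKn, hKcop, hmodel⟩ := exists_local_model P hfn hc E hE
    exact hfree Q hfn hc E hE _ _ hmodel (involves_qd_quotient K hKcop hQinv)
  · intro hG Q hfn hc N hN L _ ι hL hinv
    obtain ⟨K, hKn, hKcop, hmodel⟩ := exists_local_model P hfn hc N hN
    obtain ⟨e, -⟩ := Cfsg.Agent.Lib.Helper88.model_unique (P.isPGroup'.to_le inf_le_left) hL hmodel
    exact hG (involves_subgroup _ (involves_quotient K (involves_congr' e hinv)))

end Cfsg.Agent.S5206
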