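import Cfsg.Statements.S5235
import Cfsg.Agent.S1896
import Cfsg.Agent.S4399
import Cfsg.Agent.Lib.Helper64.StabRes
import Cfsg.Agent.Lib.Helper64.Meta2Inv
import Cfsg.Agent.Lib.Helper64.Meta2Sq
import Cfsg.Agent.Lib.Helper64.FratAut
import Cfsg.Agent.Lib.Helper84.FusionNormal
import Cfsg.Agent.Lib.Helper87.FusUtil

set_option autoImplicit false
open Cfsg

namespace Cfsg.Agent.S5235

open Subgroup Cfsg.FusionSystem Cfsg.Agent.Lib.Helper64 Cfsg.Agent.Lib.Helper84
  Cfsg.Agent.Lib.Helper87 Cfsg.Agent.Lib.Helper2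

/-- An element of the strongly closed subgroup `P` normalizing the centric radical subgroup `R` and
acting on `P ∩ R` as an element of a normal `p`-subgroup of `Aut(P ∩ R)` lies in `R`. -/
theorem mem_of_res {Ω : Type*} [Group Ω] {S : Subgroup Ω} [Finite S] {p : ℕ} [Fact p.Prime]
    (hS : IsPGroup p S) {F : FusionSystem S} {P R : Subgroup Ω} (hP : F.StronglyClosed P)
    (hc : F.IsCentric R) (hr : F.IsRadical p R) (T : Subgroup (MulAut ↥(P.subgroupOf R)))
    [T.Normal] (hT : IsPGroup p T) {y : Ω} (hyP : y ∈ P) (hyN : y ∈ normalizer (R : Set Ω))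
    (hτ : ∀ τ : MulAut ↥(P.subgroupOf R),
      (∀ d, (((τ d : ↥(P.subgroupOf R)) : R) : Ω) = y * d * y⁻¹) → τ ∈ T) : y ∈ R := by
  have hRS : R ≤ S := hc.1
  have hfR : Finite R := finite_of_le hRS
  have hinv : ∀ α ∈ F.autGroup R, ∀ d ∈ P.subgroupOf R, α d ∈ P.subgroupOf R := by
    intro α hα d hd
    exact sc_map_mem hP ((mem_autGroup_iff F hRS α).1 hα) d hd
  have hα : conjAut R y hyN ∈ F.autGroup R :=
    autInducedBy_le_autGroup F hRS (conjAut_mem_autInducedBy hyN (hP.1 hyP))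
  have h1 : ∀ r : R, r⁻¹ * conjAut R y hyN r ∈ P.subgroupOf R := by
    intro r
    rw [mem_subgroupOf]
    have h2 := sc_conj_mem hP (S.inv_mem (hRS r.2)) hyP
    have h3 : ((r⁻¹ * conjAut R y hyN r : R) : Ω) = ((r : Ω)⁻¹ * y * (r : Ω)⁻¹⁻¹) * y⁻¹ := by
      rw [Subgroup.coe_mul, conjAut_apply, Subgroup.coe_inv]; group
    rw [h3]
    exact P.mul_mem h2 (P.inv_mem hyP)
  have h2 := mem_pCore_of_res (F.autGroup R) (P.subgroupOf R) hinv T hT (hS.to_le hRS)
    (conjAut R y hyN) hα h1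
    ⟨resAut (P.subgroupOf R) (conjAut R y hyN) (hinv _ hα) (hinv _ (Subgroup.inv_mem _ hα)),
      hτ _ (fun d => rfl), fun d => rfl⟩
  rw [hr.2] at h2
  exact mem_of_conjAut_mem_inn (hc.2 R (isConj_refl F hRS)) (hP.1 hyP) hRS hyN h2

/-- Let F be a saturated fusion system over a finite 2-group S (p = 2) and P a metacyclic subgroup of S strongly closed in F that is not dihedral, not semidihedral and not generalized quaternion (here the group of order 2, the Klein four-group and the cyclic group of order 4 also count as excluded). Then P is normal in F. -/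
theorem result {Ω : Type*} [Group Ω] {S : Subgroup Ω} [Finite S] (p : ℕ) [Fact p.Prime] (hS : IsPGroup p S) (F : Cfsg.FusionSystem S) (hF : F.IsSaturated p) (P : Subgroup Ω) (hP : F.StronglyClosed P) (hp : p = 2) (hm : Cfsg.IsMetacyclic ↥P) (hd : ¬ ∃ m : ℕ, Nonempty (↥P ≃* DihedralGroup m)) (hq : ¬ ∃ m : ℕ, Nonempty (↥P ≃* QuaternionGroup m)) (hsd : ¬ Cfsg.IsQuasiDihedral ↥P) : F.IsNormal P := by
  subst hp
  rw [normal_iff_stronglyClosed hS F hF]
  refine ⟨hP, fun R hc hr => ?_⟩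
  by_contra hPR
  have hRS : R ≤ S := hc.1
  have hPS : P ≤ S := hP.1
  have hfP : Finite P := finite_of_le hPS
  have hfR : Finite R := finite_of_le hRS
  have hP2 : IsPGroup 2 P := hS.to_le hPS
  -- the final contradiction
  have hfinal : ¬ ((commutator ↥P).index = 4 ∧ Nat.card ↥P ≠ 4) := by
    rintro ⟨h1, h2⟩
    rcases Cfsg.Agent.S4399.taussky hP2 h1 h2 with ⟨k, hk⟩ | ⟨k, hc, a, b, ha, hb, hab⟩ | ⟨k, hk⟩
    · exact hd ⟨_, hk⟩
    · exact hsd ⟨k + 3, by omega, hc, a, b, ha, hb, hab⟩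
    · exact hq ⟨_, hk⟩
  obtain ⟨u₀, hu₀P, hu₀N, hu₀R⟩ := exists_mem_normalizing_not_mem hS hPS hRS
    (hRS.trans (sc_le_normalizer hP)) hPR
  -- the group `D' = P ∩ R` inside `R`
  let f : ↥(P.subgroupOf R) →* ↥P :=
    (R.subtype.comp (P.subgroupOf R).subtype).codRestrict P (fun d => d.2)
  have hf : Function.Injective f := by
    intro x y hxy
    have : ((x : R) : Ω) = ((y : R) : Ω) := congrArg (fun z : ↥P => (z : Ω)) hxy
    exact Subtype.ext (Subtype.ext this)
  have hD2 : IsPGroup 2 ↥(P.subgroupOf R) := (hS.to_le hRS).to_subgroup _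
  have hDm : Cfsg.IsMetacyclic ↥(P.subgroupOf R) := isMetacyclic_of_injective f hf hm
  let eD : ↥(P ⊓ R) ≃* ↥(P.subgroupOf R) :=
    { toFun := fun d => ⟨⟨d, d.2.2⟩, d.2.1⟩
      invFun := fun d => ⟨d, d.2, d.1.2⟩
      left_inv := fun d => rfl
      right_inv := fun d => rfl
      map_mul' := fun x y => rfl }
  have hA : ¬ IsPGroup 2 (MulAut ↥(P.subgroupOf R)) := by
    intro h
    exact hu₀R (mem_of_res hS hP hc hr ⊤ (h.to_subgroup ⊤) hu₀P hu₀N (fun τ _ => mem_top τ))
  have C2 : ∀ y ∈ P, y ∈ normalizer (R : Set Ω) →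
      (∀ d ∈ P ⊓ R, ∃ e ∈ P ⊓ R, y * d * y⁻¹ * d⁻¹ = e ^ 2) → y ∈ R := by
    intro y hyP hyN h
    refine mem_of_res hS hP hc hr (frattiniKer _) (isPGroup_frattiniKer hD2) hyP hyN ?_
    intro τ hτ d
    obtain ⟨e, he, h1⟩ := h d ⟨d.2, d.1.2⟩
    have h2 : τ d * d⁻¹ = (eD ⟨e, he⟩) ^ 2 := by
      apply Subtype.ext
      apply Subtype.ext
      show (((τ d : ↥(P.subgroupOf R)) : R) : Ω) * ((d : R) : Ω)⁻¹ = e ^ 2
      rw [hτ, h1]
    rw [h2]
    exact pow_p_mem_frattini hD2 _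
  rcases Cfsg.Agent.S1896.result hD2 hDm hA with ⟨⟨e⟩⟩ | ⟨n, ⟨e⟩⟩
  · -- quaternion case
    apply hfinal
    let g : QuaternionGroup 2 →* ↥P := f.comp e.symm.toMonoidHom
    have hg : Function.Injective g := hf.comp e.symm.injective
    apply index_commutator_of_dq hP2 hm (u := g (QuaternionGroup.a 1))
      (v := g (QuaternionGroup.xa 0))
    · rw [← map_pow]
      intro h
      have := hg (h.trans (map_one g).symm)
      revert this
      decide
    · rw [← map_pow]
      have : (QuaternionGroup.a 1 : QuaternionGroup 2) ^ 4 = 1 := by decide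
      rw [this, map_one]
    · rw [← map_inv, ← map_inv, ← map_mul, ← map_mul]
      congr 1
    · right
      rw [← map_pow, ← map_pow]
      congr 1
  · -- homocyclic case: choose `x`
    have hex : ∃ j : ℕ, u₀ ^ 2 ^ j ∈ R := by
      obtain ⟨j, hj⟩ := hP2 ⟨u₀, hu₀P⟩
      refine ⟨j, ?_⟩
      have : u₀ ^ 2 ^ j = 1 := congrArg Subtype.val hj
      rw [this]; exact R.one_mem
    classical
    obtain ⟨j, hj⟩ : ∃ j, Nat.find hex = j + 1 := by
      rcases h : Nat.find hex with _ | j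
      · exfalso
        have := Nat.find_spec hex
        rw [h] at this
        exact hu₀R (by simpa using this)
      · exact ⟨j, rfl⟩
    obtain ⟨x, hx⟩ : ∃ x, x = u₀ ^ 2 ^ j := ⟨_, rfl⟩
    have hxP : x ∈ P := hx ▸ P.pow_mem hu₀P _
    have hxNR : x ∈ normalizer (R : Set Ω) := hx ▸ Subgroup.pow_mem _ hu₀N _
    have hxR : x ∉ R := by
      rw [hx]
      exact Nat.find_min hex (by omega)
    have hx2R : x ^ 2 ∈ R := by
      have := Nat.find_spec hex
      rw [hj, pow_succ, pow_mul] at this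
      rw [hx]; exact this
    have hxD : x ∉ P ⊓ R := fun h => hxR h.2
    have hx2 : x ^ 2 ∈ P ⊓ R := ⟨P.pow_mem hxP 2, hx2R⟩
    have hconj : ∀ d ∈ P ⊓ R, x * d * x⁻¹ ∈ P ⊓ R := by
      intro d hd
      exact ⟨P.mul_mem (P.mul_mem hxP hd.1) (P.inv_mem hxP),
        (Subgroup.mem_normalizer_iff.1 hxNR d).1 hd.2⟩
    have hxN : x ∈ normalizer ((P ⊓ R : Subgroup Ω) : Set Ω) := by
      apply mem_normalizer_of_conj_mem hconj
      intro d hd
      refine ⟨P.mul_mem (P.mul_mem (P.inv_mem hxP) hd.1) hxP, ?_⟩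
      have := (Subgroup.mem_normalizer_iff.1 (Subgroup.inv_mem _ hxNR) d).1 hd.2
      simpa using this
    have hab : ∀ u ∈ P ⊓ R, ∀ v ∈ P ⊓ R, u * v = v * u := by
      intro u hu v hv
      exact congrArg Subtype.val (homocyclic_comm (eD.trans e) ⟨u, hu⟩ ⟨v, hv⟩)
    by_cases hn : n = 1
    · subst hn
      obtain ⟨h2, h4⟩ := homocyclic_one (eD.trans e)
      have hne : ∃ d₁ ∈ P ⊓ R, x * d₁ * x⁻¹ ≠ d₁ := by
        by_contra hcon
        push Not at hcon
        apply hxR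
        apply C2 x hxP hxNR
        intro d hd
        exact ⟨1, one_mem _, by rw [hcon d hd]; simp⟩
      obtain ⟨d₁, hd₁, hne⟩ := hne
      obtain ⟨u, v, hu, hv, h5, h6, h7, h8⟩ := exists_dq_of_four (P ⊓ R)
        (fun d hd => congrArg Subtype.val (h2 ⟨d, hd⟩)) h4 hconj hx2 hd₁ hne
      have huP : u ∈ P := by
        rcases hu with rfl | rfl
        · exact P.mul_mem hxP hd₁.1
        · exact hxP
      have hvP : v ∈ P := hv ▸ hd₁.1
      apply hfinal
      apply index_commutator_of_dq hP2 hm (u := ⟨u, huP⟩) (v := ⟨v, hvP⟩)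
      · intro h
        exact h5 (congrArg Subtype.val h)
      · exact Subtype.ext h6
      · exact Subtype.ext h7
      · rcases h8 with h | h
        · exact Or.inl (Subtype.ext h)
        · exact Or.inr (Subtype.ext h)
    · apply hxR
      apply C2 x hxP hxNR
      apply comm_mem_sq' hP2 hm inf_le_left hxP hxD hx2 hxN hab
      intro w hw hw2
      obtain ⟨v, hv⟩ := homocyclic_sq hn (eD.trans e) ⟨w, hw⟩ (Subtype.ext hw2)
      exact ⟨v, v.2, congrArg Subtype.val hv⟩

end Cfsg.Agent.S5235
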