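import Cfsg.Statements.S5212
import Cfsg.Agent.S5235
import Cfsg.Agent.S5083
import Cfsg.Agent.S5106

set_option autoImplicit false
open Cfsg

namespace Cfsg.Agent.S5212

open Subgroup Cfsg.FusionSystem Cfsg.Agent.Lib.Helper84

/-- the product of two copies as a function space on `Fin 2`. -/
def prodEquivFinTwo (A : Type*) [AddGroup A] :
    Multiplicative A × Multiplicative A ≃* Multiplicative (Fin 2 → A) where
  toFun z := Multiplicative.ofAdd ![Multiplicative.toAdd z.1, Multiplicative.toAdd z.2]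
  invFun w := (Multiplicative.ofAdd (Multiplicative.toAdd w 0),
    Multiplicative.ofAdd (Multiplicative.toAdd w 1))
  left_inv z := rfl
  right_inv w := by
    apply Multiplicative.toAdd.injective
    funext i
    fin_cases i <;> rfl
  map_mul' x y := by
    apply Multiplicative.toAdd.injective
    funext i
    fin_cases i <;> rfl

/-- Let S be a finite metacyclic 2-group that is not homocyclic abelian (a direct product of cyclic groups of one common order), not dihedral, not semidihedral and not generalized quaternion. Then every saturated fusion system over S is the inner fusion system of S. -/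
theorem result {Ω : Type*} [Group Ω] {S : Subgroup Ω} [Finite S] (hS : IsPGroup 2 S) (F : Cfsg.FusionSystem S) (hF : F.IsSaturated 2) (hm : Cfsg.IsMetacyclic ↥S) (hh : ¬ ∃ n k : ℕ, Nonempty (↥S ≃* Multiplicative (Fin k → ZMod (2 ^ n)))) (hd : ¬ ∃ m : ℕ, Nonempty (↥S ≃* DihedralGroup m)) (hq : ¬ ∃ m : ℕ, Nonempty (↥S ≃* QuaternionGroup m)) (hsd : ¬ Cfsg.IsQuasiDihedral ↥S) : ∀ P : Subgroup Ω, F.Hom P = (Cfsg.innerFusionSystem S).Hom P := by
  have : Fact (Nat.Prime 2) := ⟨Nat.prime_two⟩
  have hsc : F.StronglyClosed S := ⟨le_rfl, fun R _ φ hφ x => (F.le_of_mem hφ).2 x⟩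
  have hn : F.IsNormal S := Cfsg.Agent.S5235.result 2 hS F hF S hsc rfl hm hd hq hsd
  have hA : IsPGroup 2 (MulAut ↥S) := by
    by_contra hA
    rcases Cfsg.Agent.S1896.result hS hm hA with ⟨⟨e⟩⟩ | ⟨n, ⟨e⟩⟩
    · exact hq ⟨2, ⟨e⟩⟩
    · exact hh ⟨n, 2, ⟨e.trans (prodEquivFinTwo _)⟩⟩
  have hext := (Cfsg.Agent.S5106.result 2 hS F hF S le_rfl).1 hn
  have hF' : F = Cfsg.innerFusionSystem S := by
    apply Cfsg.Agent.S5083.result 2 hS F hF
    intro Q hQ
    rintro ⟨β, hβ⟩
    obtain ⟨α, -, hα⟩ := hext Q hQ _ ((mem_autGroup_iff F hQ β).1 hβ)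
    obtain ⟨k, hk⟩ := hA α
    refine ⟨k, ?_⟩
    have hpow : ∀ (t : ℕ) (x : Q), (((α ^ t) (Subgroup.inclusion hQ x) : S) : Ω) = ((β ^ t) x : Q) := by
      intro t
      induction t with
      | zero => intro x; rfl
      | succ t ih =>
        intro x
        rw [pow_succ, pow_succ, MulAut.mul_apply, MulAut.mul_apply, ← ih]
        congr 2
        apply Subtype.ext
        exact hα x
    ext1
    show β ^ 2 ^ k = 1
    ext1 x
    apply Subtype.ext
    rw [← hpow, hk]
    rfl
  intro P
  rw [hF']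

end Cfsg.Agent.S5212
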