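import Cfsg.Statements.S5220
import Cfsg.Agent.Lib.Helper87.FunctorGen
import Cfsg.Agent.Lib.Helper87.ThompsonQuad

set_option autoImplicit false
open Cfsg

namespace Cfsg.Agent.S5220

/-- Let F be a saturated fusion system over a nontrivial finite p-group S, let J(S) be the subgroup generated by the abelian subgroups of S of largest order, and let V be the subgroup generated by the p-th powers of the elements of Z(S). Then F is generated by the centralizer fusion system of V and the normalizer fusion system of J(S): every fusion system over S containing the maps of both contains every map of F. -/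
theorem result {Ω : Type*} [Group Ω] {S : Subgroup Ω} [Finite S] (p : ℕ) [Fact p.Prime] (hS : IsPGroup p S) (F : Cfsg.FusionSystem S) (hF : F.IsSaturated p) (hS1 : S ≠ ⊥) (C : Cfsg.FusionSystem (Cfsg.FusionSystem.centralizerIn S (Cfsg.powerClosure p 1 (S ⊓ Subgroup.centralizer (S : Set Ω))))) (hC : F.IsCentralizerSystem (Cfsg.powerClosure p 1 (S ⊓ Subgroup.centralizer (S : Set Ω))) C) (N : Cfsg.FusionSystem (Cfsg.FusionSystem.normalizerIn S (Cfsg.thompsonSubgroupAOf S))) (hN : F.IsNormalizerSystem (Cfsg.thompsonSubgroupAOf S) N) (E : Cfsg.FusionSystem S) (hCE : C.IsSubsystemOf E) (hNE : N.IsSubsystemOf E) : F.IsSubsystemOf E := by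
  have hXZ : Cfsg.powerClosure p 1 (S ⊓ Subgroup.centralizer (S : Set Ω)) ≤
      S ⊓ Subgroup.centralizer (S : Set Ω) := by
    unfold Cfsg.powerClosure
    rw [Subgroup.closure_le]
    rintro _ ⟨x, hx, rfl⟩
    exact Subgroup.pow_mem _ hx _
  have hSC : S ≤ Cfsg.FusionSystem.centralizerIn S
      (Cfsg.powerClosure p 1 (S ⊓ Subgroup.centralizer (S : Set Ω))) := by
    intro a ha
    refine ⟨ha, ?_⟩
    show a ∈ Subgroup.centralizer _
    rw [Subgroup.mem_centralizer_iff]
    intro x hx
    exact ((Subgroup.mem_centralizer_iff.1 (hXZ hx).2) a ha).symm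
  have main : F ≤ E := by
    apply Cfsg.Agent.Lib.Helper87.functor_generation (p := p) (fun Q _ => Cfsg.thompsonSubgroupA Q)
      (fun Q R _ _ _ _ φ => Cfsg.Agent.Lib.Helper87.thompsonA_map φ)
      (fun G _ _ P hn => Cfsg.Agent.Lib.Helper87.thompsonA_quadratic G P hn)
      (fun Q _ _ _ => Cfsg.Agent.Lib.Helper87.centralizer_thompsonA_le Q) hS F E hF
    · intro P φ hφ hVP hPV hφV
      apply hNE P
      rw [hN]
      refine ⟨hφ, fun x hx => ⟨(F.le_of_mem hφ).1 hx, hPV hx⟩,
        fun x => Cfsg.Agent.Lib.Helper84.map_mem_normalizerIn F hφ hφV x (hPV x.2),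
        φ.comp (Subgroup.inclusion (sup_le le_rfl hVP)),
        Cfsg.Agent.Lib.Helper84.restrict_mem F hφ _, fun x => rfl, ?_⟩
      refine Eq.trans ?_ hφV
      ext y
      constructor
      · rintro ⟨x, hx, rfl⟩
        exact ⟨_, hx, rfl⟩
      · rintro ⟨x, hx, rfl⟩
        exact ⟨Subgroup.inclusion le_sup_left x, hx, rfl⟩
    · intro A ψ hψ hfix
      have hfix' : ∀ x ∈ S ⊓ Subgroup.centralizer (S : Set Ω),
          ∃ hz : x ^ p ∈ A, ψ ⟨x ^ p, hz⟩ = x ^ p := fun x hx =>
        hfix x hx.1 (fun s hs => (Subgroup.mem_centralizer_iff.1 hx.2) s hs)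
      have hXA : Cfsg.powerClosure p 1 (S ⊓ Subgroup.centralizer (S : Set Ω)) ≤ A := by
        unfold Cfsg.powerClosure
        rw [Subgroup.closure_le]
        rintro _ ⟨x, hx, rfl⟩
        rw [pow_one]
        exact (hfix' x hx).1
      have hfixX : ∀ y ∈ Cfsg.powerClosure p 1 (S ⊓ Subgroup.centralizer (S : Set Ω)),
          ∀ hA : y ∈ A, ψ ⟨y, hA⟩ = y := by
        intro y hy
        unfold Cfsg.powerClosure at hy
        induction hy using Subgroup.closure_induction with
        | mem y hy =>
          obtain ⟨x, hx, rfl⟩ := hy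
          intro hA
          obtain ⟨hz, h⟩ := hfix' x hx
          have : (⟨x ^ p ^ 1, hA⟩ : A) = ⟨x ^ p, hz⟩ := Subtype.ext (by show x ^ p ^ 1 = x ^ p; rw [pow_one])
          rw [this, h, pow_one]
        | one =>
          intro hA
          exact map_one ψ
        | mul a b ha hb iha ihb =>
          intro hA
          have haA : a ∈ A := hXA ha
          have hbA : b ∈ A := hXA hb
          have : (⟨a * b, hA⟩ : A) = ⟨a, haA⟩ * ⟨b, hbA⟩ := rfl
          rw [this, map_mul, iha haA, ihb hbA]
        | inv a ha iha =>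
          intro hA
          have haA : a ∈ A := hXA ha
          have : (⟨a⁻¹, hA⟩ : A) = ⟨a, haA⟩⁻¹ := rfl
          rw [this, map_inv, iha haA]
      apply hCE A
      rw [hC]
      exact ⟨hψ, fun x hx => hSC ((F.le_of_mem hψ).1 hx), fun x => hSC ((F.le_of_mem hψ).2 x),
        ψ.comp (Subgroup.inclusion (sup_le le_rfl hXA)),
        Cfsg.Agent.Lib.Helper84.restrict_mem F hψ _, fun x => rfl,
        fun x => hfixX x x.2 (hXA x.2)⟩
  exact main

end Cfsg.Agent.S5220
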