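import Cfsg.Statements.S5222
import Cfsg.Agent.Lib.Helper84.FusionTate3
import Cfsg.Agent.S5096

set_option autoImplicit false
open Cfsg

namespace Cfsg.Agent.S5222

/-- Let F be a saturated fusion system over a finite p-group S whose normalizer fusion system of S is the inner fusion system of S (Aut_F(S) is a p-group). Then for every subgroup Q of S with [S, S] ≤ Q ≤ Φ(S), the normalizer fusion system of Q in F is the inner fusion system of N_S(Q) = S. -/
theorem result {Ω : Type*} [Group Ω] {S : Subgroup Ω} [Finite S] (p : ℕ) [Fact p.Prime] (hS : IsPGroup p S) (F : Cfsg.FusionSystem S) (hF : F.IsSaturated p) (hN : ∀ N : Cfsg.FusionSystem (Cfsg.FusionSystem.normalizerIn S S), F.IsNormalizerSystem S N → ∀ P : Subgroup Ω, N.Hom P = (Cfsg.innerFusionSystem (Cfsg.FusionSystem.normalizerIn S S)).Hom P) (Q : Subgroup Ω) (h1 : (commutator ↥S).map S.subtype ≤ Q) (h2 : Q ≤ (frattini ↥S).map S.subtype) : ∀ N : Cfsg.FusionSystem (Cfsg.FusionSystem.normalizerIn S Q), F.IsNormalizerSystem Q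 N → ∀ P : Subgroup Ω, N.Hom P = (Cfsg.innerFusionSystem (Cfsg.FusionSystem.normalizerIn S Q)).Hom P := by
  intro N hNQ
  have hQS : Q ≤ S := h2.trans (Subgroup.map_subtype_le _)
  have hSS : ⁅S, S⁆ ≤ Q := by
    rw [← Subgroup.map_subtype_commutator]; exact h1
  -- maps of `F` on `S` are inner
  have htop : ∀ P : Subgroup Ω, P = S → ∀ φ ∈ F.Hom P, ∃ g ∈ S, ∀ x : P, φ x = g * x * g⁻¹ := by
    rintro P rfl φ hφ
    obtain ⟨N', hN'⟩ := Cfsg.Agent.S5096.result F P le_rfl
    have hNi := hN N' hN'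
    have hrange := Cfsg.Agent.Lib.Helper84.range_eq_of_card F hφ
    have he := Cfsg.Agent.Lib.Helper84.mor_equivOfRange F hφ hrange
    have hα := (Cfsg.Agent.Lib.Helper84.mem_autGroup_iff F le_rfl _).2 he
    rw [← Cfsg.Agent.Lib.Helper84.autGroup_normalizerSystem le_rfl hN',
      Cfsg.Agent.Lib.Helper84.mem_autGroup_iff N'
        (Cfsg.Agent.Lib.Helper84.le_normalizerIn le_rfl)] at hα
    have h3 : P.subtype.comp (Cfsg.Agent.Lib.Helper84.equivOfRange φ
        (F.injective_of_mem hφ) hrange).toMonoidHom ∈ N'.Hom P := hα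
    rw [hNi] at h3
    obtain ⟨-, g, hg, hgx⟩ := h3
    exact ⟨g, hg.1, fun x => hgx x⟩
  have hnorm : S ≤ Subgroup.normalizer (Q : Set Ω) := by
    have key : ∀ g ∈ S, ∀ q ∈ Q, g * q * g⁻¹ ∈ Q := by
      intro g hg q hq
      have h3 := hSS (Subgroup.commutator_mem_commutator hg (hQS hq))
      have h4 := Q.mul_mem h3 hq
      rw [commutatorElement_def] at h4
      simpa [mul_assoc] using h4
    intro g hg
    rw [Subgroup.mem_normalizer_iff]
    intro q
    refine ⟨key g hg q, fun h => ?_⟩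
    have := key g⁻¹ (S.inv_mem hg) _ h
    simpa [mul_assoc] using this
  have hS1 : Cfsg.FusionSystem.normalizerIn S Q = S := inf_eq_left.2 hnorm
  have hfn : F.IsFullyNormalized Q := by
    refine ⟨hQS, fun Q' _ => ?_⟩
    rw [hS1]
    exact Subgroup.card_le_of_le inf_le_left
  have hfin : Finite (Cfsg.FusionSystem.normalizerIn S Q) :=
    Cfsg.Agent.Lib.Helper84.finite_of_le inf_le_left
  have hp1 : IsPGroup p (Cfsg.FusionSystem.normalizerIn S Q) := hS.to_le inf_le_left
  have hsat := Cfsg.Agent.Lib.Helper84.normalizerSystem_saturated hS hF hfn N hNQ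
  have hsc := Cfsg.Agent.Lib.Helper84.normal_stronglyClosed
    (Cfsg.Agent.Lib.Helper84.normal_normalizerSystem hQS hNQ)
  have hfoc := Cfsg.Agent.Lib.Helper84.focal_le_of_stronglyClosed hp1 N hsat hsc
    ((Subgroup.commutator_mono inf_le_left inf_le_left).trans hSS) (by
      intro α hα x
      rw [Cfsg.Agent.Lib.Helper84.mem_autGroup_iff N le_rfl] at hα
      have h3 : (Cfsg.FusionSystem.normalizerIn S Q).subtype.comp α.toMonoidHom ∈
          N.Hom (Cfsg.FusionSystem.normalizerIn S Q) := hα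
      rw [hNQ] at h3
      obtain ⟨g, hg, hgx⟩ := htop _ hS1 _ h3.1
      have h4 : ((α x : Cfsg.FusionSystem.normalizerIn S Q) : Ω) = g * x * g⁻¹ := hgx x
      rw [h4]
      apply hSS
      have := Subgroup.commutator_mem_commutator (S.inv_mem x.2.1) hg
      rw [commutatorElement_def] at this
      simpa [mul_assoc] using this)
  have hfr : ∀ S₁ : Subgroup Ω, S₁ = S →
      (frattini ↥S).map S.subtype = (frattini ↥S₁).map S₁.subtype := by
    rintro _ rfl; rfl
  have := Cfsg.Agent.Lib.Helper84.eq_inner_of_focal_le_frattini hp1 N hsat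
    (hfoc.trans (h2.trans (hfr _ hS1).le))
  intro P
  rw [this]

end Cfsg.Agent.S5222
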