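import Cfsg.Statements.S5233
import Cfsg.Agent.Lib.Helper87.GenExtra2
import Cfsg.Agent.Lib.Helper87.GenExtra3
import Cfsg.Agent.Lib.Helper84.FusionSeries2
import Cfsg.Agent.Lib.Helper86.LiftAut

set_option autoImplicit false
open Cfsg

namespace Cfsg.Agent.S5233

open Cfsg.FusionSystem Cfsg.Agent.Lib.Helper84 Cfsg.Agent.Lib.Helper87

/-- Let F be a saturated fusion system over a finite p-group S and P a subgroup of S strongly closed in F that is generalized extraspecial (its Frattini subgroup equals its commutator subgroup and has order p) and not isomorphic to E × A with A elementary abelian and E dihedral of order 8 (p = 2) or extraspecial of order p³ and exponent p (p odd). Then P is normal in F. -/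
theorem result {Ω : Type*} [Group Ω] {S : Subgroup Ω} [Finite S] (p : ℕ) [Fact p.Prime] (hS : IsPGroup p S) (F : Cfsg.FusionSystem S) (hF : F.IsSaturated p) (P : Subgroup Ω) (hP : F.StronglyClosed P) (hge : frattini ↥P = commutator ↥P ∧ Nat.card ↥(commutator ↥P) = p) (h2 : p = 2 → ¬ ∃ (A : Type) (_ : CommGroup A), (∀ a : A, a ^ 2 = 1) ∧ Nonempty (↥P ≃* DihedralGroup 4 × A)) (hodd : p ≠ 2 → ¬ ∃ (E : Type) (_ : Group E) (A : Type) (_ : CommGroup A), Cfsg.IsExtraspecial p E ∧ Nat.card E = p ^ 3 ∧ Monoid.exponent E = p ∧ (∀ a : A, a ^ p = 1) ∧ Nonempty (↥P ≃* E × A)) : F.IsNormal P := by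
  have hp : p.Prime := Fact.out
  have hPS := hP.1
  have hfP : Finite P := finite_of_le hPS
  obtain ⟨Z, hZ⟩ : ∃ Z : Subgroup Ω, Z = (commutator ↥P).map P.subtype := ⟨_, rfl⟩
  have h : GE p P Z := hZ ▸ ge_of_hyp (hS.to_le hPS) hge.1 hge.2
  clear hZ
  have hZS : Z ≤ S := h.le.trans hPS
  have hfZ : Finite Z := finite_of_le hZS
  suffices hZsc : F.StronglyClosed Z by
    rw [normal_iff_series hS F hF P]
    refine ⟨2, ![⊥, Z, P], rfl, rfl, ?_, ?_⟩
    · rw [Fin.monotone_iff_le_succ]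
      intro i
      fin_cases i
      · exact bot_le
      · exact h.le
    · intro i
      fin_cases i
      · refine ⟨hZsc, ?_⟩
        show ⁅P, Z⁆ ≤ ⊥
        rw [Subgroup.commutator_le]
        intro a ha z hz
        rw [Subgroup.mem_bot, commutatorElement_eq_one_iff_mul_comm]
        exact (h.central z hz a ha).symm
      · refine ⟨hP, ?_⟩
        show ⁅P, P⁆ ≤ Z
        rw [Subgroup.commutator_le]
        intro a ha b hb
        exact h.comm_mem a ha b hb
  obtain ⟨a₀, ha₀, b₀, hb₀, hne₀⟩ := h.ne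
  have hconjZ : ∀ s ∈ S, ∀ z ∈ Z, s * z * s⁻¹ ∈ Z := by
    intro s hs z hz
    obtain ⟨k, rfl⟩ := h.exists_pow (h.comm_mem a₀ ha₀ b₀ hb₀) hne₀ hz
    rw [← conj_pow]
    apply Z.pow_mem
    have h1 := h.comm_mem _ (sc_conj_mem hP hs ha₀) _ (sc_conj_mem hP hs hb₀)
    have h3 : s * (a₀ * b₀ * a₀⁻¹ * b₀⁻¹) * s⁻¹ =
        s * a₀ * s⁻¹ * (s * b₀ * s⁻¹) * (s * a₀ * s⁻¹)⁻¹ * (s * b₀ * s⁻¹)⁻¹ := by group
    rw [h3]
    exact h1
  have hZN : S ≤ Subgroup.normalizer (Z : Set Ω) := by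
    intro s hs
    apply mem_normalizer_of_conj_mem (hconjZ s hs)
    intro z hz
    have := hconjZ s⁻¹ (S.inv_mem hs) z hz
    rwa [inv_inv] at this
  refine ⟨hZS, fun R hR φ hφ x => ?_⟩
  by_contra hx
  have hx1 : (x : Ω) ≠ 1 := by
    intro hh
    apply hx
    have : x = 1 := Subtype.ext hh
    rw [this, map_one]
    exact Z.one_mem
  have hRZ : R = Z := by
    apply Subgroup.eq_of_le_of_card_ge hR
    have hdvd := Subgroup.card_dvd_of_le hR
    rw [h.card] at hdvd ⊢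
    rcases (Nat.dvd_prime hp).1 hdvd with h1 | h1
    · exfalso
      rw [Subgroup.card_eq_one] at h1
      have h3 : ∀ w ∈ R, w = 1 := fun w hw => by
        rw [h1, Subgroup.mem_bot] at hw
        exact hw
      exact hx1 (h3 x x.2)
    · exact h1.ge
  subst hRZ
  obtain ⟨y, hy⟩ : ∃ y : Ω, y = φ x := ⟨_, rfl⟩
  have hyP : y ∈ P := hy ▸ hP.2 R h.le φ hφ x
  have hyZ : y ∉ R := hy ▸ hx
  obtain ⟨ψ, hψ, hψ'⟩ := exists_inverse_extension hS hF hZS hZN hφ
  obtain ⟨M, hM⟩ : ∃ M : Subgroup Ω, M = P ⊓ Subgroup.centralizer {y} := ⟨_, rfl⟩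
  have hMmem : ∀ m, m ∈ M ↔ m ∈ P ∧ m * y = y * m := by
    intro m
    rw [hM, Subgroup.mem_inf, Subgroup.mem_centralizer_singleton_iff]
  have hMP : M ≤ P := fun m hm => ((hMmem m).1 hm).1
  have hyM : y ∈ M := (hMmem y).2 ⟨hyP, rfl⟩
  have hMle : M ≤ centralizerIn S φ.range := by
    intro m hm
    refine ⟨hPS (hMP hm), ?_⟩
    show m ∈ Subgroup.centralizer (φ.range : Set Ω)
    rw [Subgroup.mem_centralizer_iff]
    rintro _ ⟨x', rfl⟩
    obtain ⟨k, hk⟩ := h.exists_pow x.2 hx1 x'.2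
    have h1 : x' = x ^ k := Subtype.ext hk
    rw [h1, map_pow, ← hy]
    exact ((show Commute m y from ((hMmem m).1 hm).2).pow_right k).symm
  have hψ₀ := restrict_mem F hψ hMle
  obtain ⟨hMab, hMexp⟩ := h.sigma hyZ hMmem _ (F.injective_of_mem hψ₀)
    (fun m => hP.2 M hMP _ hψ₀ m) (fun hyM' => by
      have h1 : (ψ.comp (Subgroup.inclusion hMle)) ⟨y, hyM'⟩ = x := by
        subst hy
        exact hψ' x (hMle hyM')
      rw [h1]
      exact x.2) hyM
  have hab' : ∀ a ∈ P, ∀ b ∈ P, a * y = y * a → b * y = y * b → a * b = b * a :=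
    fun a ha b hb hay hby => hMab a ((hMmem a).2 ⟨ha, hay⟩) b ((hMmem b).2 ⟨hb, hby⟩)
  have hexp' : ∀ a ∈ P, a * y = y * a → a ^ p = 1 :=
    fun a ha hay => hMexp a ((hMmem a).2 ⟨ha, hay⟩)
  obtain ⟨g, hg, hgM⟩ : ∃ g ∈ P, g ∉ M := by
    by_contra hcon
    push Not at hcon
    apply hne₀
    have := hMab a₀ (hcon a₀ ha₀) b₀ (hcon b₀ hb₀)
    rw [this]
    group
  have hgy : ∀ g ∈ P, g ∉ M → g * y ≠ y * g := fun g hg hgM hh => hgM ((hMmem g).2 ⟨hg, hh⟩)
  by_cases hA : ∃ g ∈ P, g ∉ M ∧ g ^ p = 1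
  · obtain ⟨g, hg, hgM, hgp⟩ := hA
    by_cases hp2 : p = 2
    · subst hp2
      exact h2 rfl (h.caseA_two hyP hg (hgy g hg hgM) hab' hexp' hgp)
    · exact hodd hp2 (h.caseA_odd hp2 hyP hg (hgy g hg hgM) hab' hexp' hgp)
  · push Not at hA
    have hp2 : p ≠ 2 := by
      rintro rfl
      have hc := h.comm_mem y hyP g hg
      have hc1 : y * g * y⁻¹ * g⁻¹ ≠ 1 := by
        intro hh
        have := comm_eq' y g
        rw [hh, one_mul] at this
        exact hgy g hg hgM this.symm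
      have hg2 := hA g hg hgM
      obtain ⟨k, hk⟩ := h.exists_pow hc hc1 (h.pow_mem g hg)
      have hcc := h.pow_p hc
      have hgc : g ^ 2 = y * g * y⁻¹ * g⁻¹ := by
        rcases Nat.even_or_odd' k with ⟨m, rfl | rfl⟩
        · rw [pow_mul, hcc, one_pow] at hk
          exact absurd hk hg2
        · rw [pow_succ (y * g * y⁻¹ * g⁻¹), pow_mul, hcc, one_pow, one_mul] at hk
          exact hk
      have h3 : (g * y) ^ 2 = 1 := by
        rw [h.mul_sq hg hyP, hexp' y hyP rfl, mul_one, hgc, ← sq, hcc]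
      refine hA (g * y) (P.mul_mem hg hyP) (fun hh => hgM ?_) h3
      have h4 : g = g * y * y⁻¹ := by group
      rw [h4]
      exact M.mul_mem hh (M.inv_mem hyM)
    have hb : GEB p P R M y := ⟨h, hMmem, hyP, hyZ, hMab, hMexp,
      fun a ha hap => by_contra (fun hn => hA a ha hn hap)⟩
    obtain ⟨α, hα, hα'⟩ := Cfsg.Agent.Lib.Helper86.exists_aut_of_hom_self F hψ₀
      (fun m => (hb.stronglyClosed hP).2 M le_rfl _ hψ₀ m)
    refine hb.false hS hF hP hp2 hg hgM hα ?_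
    rw [hα']
    have h1 : (ψ.comp (Subgroup.inclusion hMle)) ⟨y, hb.y_mem⟩ = x := by
      subst hy
      exact hψ' x (hMle hyM)
    rw [h1]
    exact x.2

end Cfsg.Agent.S5233
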