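import Cfsg.Statements.S5234
import Cfsg.Agent.Lib.Helper84.FusionOmega
import Cfsg.Agent.Lib.Helper64.OmegaData

set_option autoImplicit false
open Cfsg

namespace Cfsg.Agent.S5234

open Cfsg.FusionSystem Cfsg.Agent.Lib.Helper84 Cfsg.Agent.Lib.Helper64

section aux

variable {Ω : Type*} [Group Ω] {S : Subgroup Ω}

/-- a subgroup of `S` normalized by `S` is fully normalized. -/
theorem fullyNormalized_of_normal [Finite S] (F : FusionSystem S) {Q : Subgroup Ω} (hQ : Q ≤ S)
    (hn : S ≤ Subgroup.normalizer (Q : Set Ω)) : F.IsFullyNormalized Q := by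
  refine ⟨hQ, fun R _ => ?_⟩
  have h1 : normalizerIn S Q = S := inf_eq_left.2 hn
  rw [h1]
  exact Subgroup.card_le_of_le inf_le_left

/-- a map of the system from `Q` into `Q` is an element of `Aut_F(Q)`. -/
theorem exists_aut_of_hom [Finite S] (F : FusionSystem S) {Q : Subgroup Ω} {χ : Q →* Ω}
    (hχ : χ ∈ F.Hom Q) (h : ∀ x, χ x ∈ Q) :
    ∃ β : MulAut Q, β ∈ F.autGroup Q ∧ ∀ x, ((β x : Q) : Ω) = χ x := by
  have hQS : Q ≤ S := (F.le_of_mem hχ).1
  have := finite_of_le hQS
  have hinj : Function.Injective (χ.codRestrict Q h) := by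
    intro a b hab
    exact F.injective_of_mem hχ (congrArg Subtype.val hab)
  refine ⟨MulEquiv.ofBijective (χ.codRestrict Q h) ⟨hinj, Finite.surjective_of_injective hinj⟩,
    ?_, fun x => rfl⟩
  rw [mem_autGroup_iff F hQS]
  exact mor_of_mem F hχ h

theorem stronglyClosed_bot (F : FusionSystem S) : F.StronglyClosed (⊥ : Subgroup Ω) := by
  refine ⟨bot_le, fun R hR φ _ x => ?_⟩
  have : x = 1 := Subtype.ext (by simpa using hR x.2)
  rw [this, map_one]; exact Subgroup.one_mem _

theorem le_normalizer_of_stronglyClosed {F : FusionSystem S} {Q : Subgroup Ω}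
    (hQ : F.StronglyClosed Q) : S ≤ Subgroup.normalizer (Q : Set Ω) := by
  have key : ∀ s ∈ S, ∀ x ∈ Q, s * x * s⁻¹ ∈ Q := fun s hs x hx =>
    hQ.2 Q le_rfl (conjHom Q s) (F.conj_mem hQ.1 hs) ⟨x, hx⟩
  intro s hs
  apply mem_normalizer_of_conj_mem (key s hs)
  intro x hx
  simpa using key s⁻¹ (S.inv_mem hs) x hx

end aux

/-- Let p be an odd prime, F a saturated fusion system over a finite p-group S and P a metacyclic subgroup of S strongly closed in F. Then P is normal in F. -/
theorem result {Ω : Type*} [Group Ω] {S : Subgroup Ω} [Finite S] (p : ℕ) [Fact p.Prime] (hS : IsPGroup p S) (F : Cfsg.FusionSystem S) (hF : F.IsSaturated p) (P : Subgroup Ω) (hP : F.StronglyClosed P) (hp : p ≠ 2) (hm : Cfsg.IsMetacyclic ↥P) : F.IsNormal P := by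
  have hPS : P ≤ S := hP.1
  have hfinP : Finite P := finite_of_le hPS
  have hPp : IsPGroup p P := hS.to_le hPS
  obtain ⟨E, Z, D⟩ := exists_omegaData hp P hPp hm
  rw [normal_iff_omega_series hS F hF hp P hP, D.omegaOne_eq]
  have hES : E ≤ S := D.E_le.trans hPS
  have hEsc : F.StronglyClosed E := by
    refine ⟨hES, fun R hR φ hφ x => ?_⟩
    rw [D.mem_E]
    refine ⟨hP.2 R (hR.trans D.E_le) φ hφ x, ?_⟩
    rw [← map_pow]
    have : x ^ p = 1 := Subtype.ext (by simpa using D.pow_eq_one (hR x.2))
    rw [this, map_one]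
  have hEn := le_normalizer_of_stronglyClosed hEsc
  have hPn := le_normalizer_of_stronglyClosed hP
  obtain ⟨Q1, hQ1E, hQ1sc, hQ1c, hEQ1⟩ : ∃ Q1 : Subgroup Ω, Q1 ≤ E ∧ F.StronglyClosed Q1 ∧
      ⁅Q1, P⁆ ≤ ⊥ ∧ ⁅E, P⁆ ≤ Q1 := by
    by_cases hcen : ∀ w ∈ E, ∀ g ∈ P, w * g * w⁻¹ * g⁻¹ = 1
    · refine ⟨⊥, bot_le, stronglyClosed_bot F, by simp, ?_⟩
      rw [Subgroup.commutator_le]
      intro w hw g hg
      rw [commutatorElement_def, hcen w hw g hg]
      exact Subgroup.one_mem _
    · push Not at hcen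
      obtain ⟨w, hw, g, hg, hne⟩ := hcen
      refine ⟨Z, D.Z_le, ?_, ?_, ?_⟩
      · refine ⟨D.Z_le.trans hES, fun R hR φ hφ x => ?_⟩
        by_contra hx
        have hx1 : (x : Ω) ≠ 1 := by
          intro h
          apply hx
          have : x = 1 := Subtype.ext h
          rw [this, map_one]; exact Z.one_mem
        have hRZ : R = Z := le_antisymm hR (fun v hv => by
          obtain ⟨i, hi⟩ := D.mem_zpowers_of_mem_Z (hR x.2) hx1 hv
          rw [← hi]; exact R.zpow_mem x.2 i)
        subst hRZ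
        have hz0 : w * g * w⁻¹ * g⁻¹ ∈ R := D.comm_mem w hw g hg
        -- `Z` is normalized by `S`
        have hZn : S ≤ Subgroup.normalizer (R : Set Ω) := by
          have key : ∀ s ∈ S, ∀ v ∈ R, s * v * s⁻¹ ∈ R := by
            intro s hs v hv
            obtain ⟨i, hi⟩ := D.mem_zpowers_of_mem_Z hz0 hne hv
            have h1 : s * (w * g * w⁻¹ * g⁻¹) * s⁻¹ ∈ R := by
              have h2 := D.comm_mem _ (conj_mem_of_mem_normalizer (hEn hs) hw) _
                (conj_mem_of_mem_normalizer (hPn hs) hg)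
              have h3 : s * (w * g * w⁻¹ * g⁻¹) * s⁻¹ =
                  s * w * s⁻¹ * (s * g * s⁻¹) * (s * w * s⁻¹)⁻¹ * (s * g * s⁻¹)⁻¹ := by group
              rw [h3]; exact h2
            have h4 : s * v * s⁻¹ = (s * (w * g * w⁻¹ * g⁻¹) * s⁻¹) ^ i := by
              rw [conj_zpow]; rw [← hi]
            rw [h4]; exact R.zpow_mem h1 i
          intro s hs
          apply mem_normalizer_of_conj_mem (key s hs)
          intro v hv
          simpa using key s⁻¹ (S.inv_mem hs) v hv
        have hZrec := (sat_fullyNormalized hS hF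
          (fullyNormalized_of_normal F (D.Z_le.trans hES) hZn)).2.2
        have hErec := (sat_fullyNormalized hS hF (fullyNormalized_of_normal F hES hEn)).2.2
        have hyE : φ x ∈ E := hEsc.2 R D.Z_le φ hφ x
        obtain ⟨hcomm, -⟩ := D.comm_and_gen hz0 hne hyE hx
        have hcE : ∀ a ∈ E, ∀ b ∈ E, a * b * a⁻¹ = b := by
          intro a ha b hb
          have := congrArg Subtype.val (hcomm ⟨a, ha⟩ ⟨b, hb⟩)
          have h2 : a * b = b * a := this
          rw [h2]; group
        let e0 : R ≃* φ.range := equivOfRange φ (F.injective_of_mem hφ) rfl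
        have he0 : Mor F e0.toMonoidHom := mor_equivOfRange F hφ rfl
        have hrE : φ.range ≤ E := by
          rintro _ ⟨v, rfl⟩
          exact hEsc.2 R D.Z_le φ hφ v
        obtain ⟨χ, hχ, hχ'⟩ := exists_extension_of_receptive F hZrec e0.symm he0.symm (N := E)
          (by
            intro a ha
            refine ⟨hES ha, mem_normalizer_of_conj_mem ?_ ?_⟩
            · intro h hh
              rw [hcE a ha h (hrE hh)]; exact hh
            · intro h hh
              have := hcE a⁻¹ (E.inv_mem ha) h (hrE hh)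
              rw [inv_inv] at this
              rw [this]; exact hh)
          (by
            intro a ha
            refine ⟨1, S.one_mem, fun v hv => ?_⟩
            have : (⟨a * (v : Ω) * a⁻¹, hv⟩ : φ.range) = v := Subtype.ext (hcE a ha v (hrE v.2))
            rw [this]; simp)
        obtain ⟨β, hβ, hβ'⟩ := exists_aut_of_hom F hχ (fun v => hEsc.2 E le_rfl χ hχ v)
        have hβy : ((β ⟨φ x, hyE⟩ : E) : Ω) ∈ R := by
          rw [hβ', hχ' (φ x) ⟨x, rfl⟩ hyE]
          exact (e0.symm _).2
        obtain ⟨δ, hδ, hδ'⟩ := D.exists_inv (F.autGroup E) (conjAut E g (hEn (hPS hg))) β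
          (autInducedBy_le_autGroup F hES (conjAut_mem_autInducedBy _ (hPS hg))) hβ hw hg hne
          (fun e => rfl) ⟨φ x, hyE⟩ hx hβy
        obtain ⟨χ2, hχ2, hχ2'⟩ := exists_extension_of_receptive F hErec δ
          ((mem_autGroup_iff F hES δ).1 hδ) (N := P)
          (fun a ha => ⟨hPS ha, hEn (hPS ha)⟩)
          (by
            intro a ha
            refine ⟨a, hPS ha, fun v hv => ?_⟩
            rw [hδ', hδ']
            simp only [Subgroup.coe_inv]
            group)
        obtain ⟨α, -, hα'⟩ := exists_aut_of_hom F hχ2 (fun v => hP.2 P le_rfl χ2 hχ2 v)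
        refine D.false_of_inverting hp hPp hw hg hne α (fun e he => Subtype.ext ?_)
        rw [hα', hχ2' e he e.2, hδ']
        rfl
      · rw [Subgroup.commutator_le]
        intro z hz g hg
        rw [commutatorElement_def, Subgroup.mem_bot]
        have := D.central z hz g hg
        calc z * g * z⁻¹ * g⁻¹ = z * (g * z * g⁻¹)⁻¹ := by group
          _ = 1 := by rw [this]; group
      · rw [Subgroup.commutator_le]
        intro e he g hg
        exact D.comm_mem e he g hg
  refine ⟨2, ![⊥, Q1, E], rfl, rfl, ?_, ?_, ?_⟩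
  · rw [Fin.monotone_iff_le_succ]
    intro i
    fin_cases i
    · exact bot_le
    · exact hQ1E
  · intro i
    fin_cases i
    · exact stronglyClosed_bot F
    · exact hQ1sc
    · exact hEsc
  · intro i
    fin_cases i
    · exact hQ1c
    · exact hEQ1

end Cfsg.Agent.S5234
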