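import Cfsg.Statements.S5243
import Cfsg.Agent.Lib.Helper85.PIdxF0b
import Cfsg.Agent.S5110

set_option autoImplicit false
open Cfsg Cfsg.FusionSystem Cfsg.Agent.Lib.Helper84 Cfsg.Agent.Lib.Helper85

namespace Cfsg.Agent.S5243

/-- Let F be a saturated fusion system over a finite p-group S, E a normal subsystem of F over T ≤ S, and χ a surjective homomorphism from Aut_F(T) onto a nontrivial finite group Δ of order prime to p whose kernel contains Aut_E(T). Then there is a proper normal subsystem F₀ of F over S containing E such that Aut_{F₀}(S) consists of those α ∈ Aut_F(S) whose restriction to T is an element of Aut_F(T) in the kernel of χ; moreover every p'-residual subsystem O^{p'}(F) of F is contained in F₀. -/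
theorem result {Ω : Type*} [Group Ω] {S : Subgroup Ω} [Finite S] (p : ℕ) [Fact p.Prime] (hS : IsPGroup p S) (F : Cfsg.FusionSystem S) (hF : F.IsSaturated p) {T : Subgroup Ω} (hTS : T ≤ S) (E : Cfsg.FusionSystem T) (hE : E.IsNormalIn F p) {Δ : Type*} [Group Δ] [Finite Δ] [Nontrivial Δ] (hΔ : (Nat.card Δ).Coprime p) (χ : ↥(F.autGroup T) →* Δ) (hχ : Function.Surjective χ) (hker : (E.autGroup T).subgroupOf (F.autGroup T) ≤ χ.ker) : ∃ F₀ : Cfsg.FusionSystem S, F₀.IsNormalIn F p ∧ ¬ (∀ P : Subgroup Ω, F₀.Hom P = F.Hom P) ∧ E.IsSubsystemOf F₀ ∧ (∀ α : MulAut ↥S, α ∈ F₀.autGroup S ↔ α ∈ F.autGroup S ∧ ∃ β : ↥(F.autGroup T), χ β = 1 ∧ ∀ t : ↥T, (((β : MulAut ↥T) t : ↥T) : Ω) = ((α ⟨(t : Ω), hTS t.2⟩ : ↥S) : Ω)) ∧ ∀ R : Cfsg.FusionSystem S, F.IsPPrimeResidual p R → R.IsSubsystemOf F₀ := by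
  classical
  obtain ⟨⟨hEsat, -, hsub, hT, hinv', hfrat⟩, -⟩ := hE
  have c : ChiCtx p F T E (χ.ker.map (F.autGroup T).subtype) :=
    { hF := hF
      hE := hEsat
      hsub := hsub
      hT := hT
      hinv := autInv_of_autInv' hinv'
      hfrat := hfrat
      hKle := Subgroup.map_subtype_le _
      hKn := by
        rintro a ha _ ⟨k, hk, rfl⟩
        exact ⟨⟨a, ha⟩ * k * ⟨a, ha⟩⁻¹, (χ.normal_ker).conj_mem k hk ⟨a, ha⟩, rfl⟩
      hKE := by
        intro ε hε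
        have h1 := autGroup_le_of_subsystem hsub le_rfl hε
        exact ⟨⟨ε, h1⟩, hker (show (⟨ε, h1⟩ : F.autGroup T) ∈
          (E.autGroup T).subgroupOf (F.autGroup T) from hε), rfl⟩
      hKp := by
        rintro a ha ⟨k, hk⟩
        refine ⟨⟨a, ha⟩, ?_, rfl⟩
        rw [SetLike.mem_coe, MonoidHom.mem_ker]
        have h0 : (⟨a, ha⟩ : F.autGroup T) ^ p ^ k = 1 := Subtype.ext hk
        have h1 : (χ ⟨a, ha⟩) ^ p ^ k = 1 := by rw [← map_pow, h0, map_one]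
        have h2 : orderOf (χ ⟨a, ha⟩) ∣ p ^ k := orderOf_dvd_of_pow_eq_one h1
        have h3 : orderOf (χ ⟨a, ha⟩) ∣ Nat.card Δ := orderOf_dvd_natCard _
        have h4 : orderOf (χ ⟨a, ha⟩) = 1 :=
          Nat.Coprime.eq_one_of_dvd ((hΔ.pow_right k).coprime_dvd_left h3) h2
        exact orderOf_eq_one_iff.mp h4 }
  have hsat0 : (c.F0 hS).IsSaturated p :=
    Cfsg.Agent.S5110.result p hS (c.F0 hS) c.HH (fun P hP => hP.1.1) (c.F0_HH_conj hS)
      (c.F0_sat_HH hS) (c.F0_gen hS) (c.F0_star hS)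
  refine ⟨c.F0 hS, c.F0_normal hS hsat0, ?_, c.E_sub_F0 hS, ?_, ?_⟩
  · intro hall
    obtain ⟨d, hd⟩ := exists_ne (1 : Δ)
    obtain ⟨γ, hγ⟩ := hχ d
    apply hd
    rw [← hγ]
    have hγF : T.subtype.comp (γ : MulAut T).toMonoidHom ∈ F.Hom T :=
      (mem_autGroup_iff F hT.1 _).1 γ.2
    obtain ⟨α, hα, φ₁, hφ₁, h1⟩ := c.F0_frat hS T _ hγF
    have hφ₁S := ((c.F0 hS).le_of_mem hφ₁).2
    obtain ⟨β₁, hβ₁, h2⟩ := c.D_top
      (mem_of_eq_on c.D (overSystem_restrict (c.F0_le_K hS _ hφ₁) le_rfl le_rfl) le_rfl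
        (φ' := φ₁) (fun _ => rfl))
    have hα0 : α ∈ (c.F0 hS).autGroup S := by
      rw [mem_autGroup_iff _ le_rfl]
      unfold Mor
      rw [hall S]
      exact (mem_autGroup_iff F le_rfl α).1 hα
    obtain ⟨-, β, hβ, h3⟩ := (c.mem_F0_aut_iff hS α).1 hα0
    have h4 : (γ : MulAut T) = β * β₁ := by
      ext t
      rw [MulAut.mul_apply, h3]
      refine (h1 t (hφ₁S t)).trans ?_
      congr 2
      exact Subtype.ext (h2 t)
    have hγK : (γ : MulAut T) ∈ χ.ker.map (F.autGroup T).subtype := h4 ▸ mul_mem hβ hβ₁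
    obtain ⟨γ', hγ', hγγ'⟩ := hγK
    have h5 : γ' = γ := Subtype.ext hγγ'
    rw [← h5]
    exact hγ'
  · intro α
    rw [c.mem_F0_aut_iff hS α]
    constructor
    · rintro ⟨h1, β, ⟨β', hβ', rfl⟩, h2⟩
      exact ⟨h1, β', hβ', h2⟩
    · rintro ⟨h1, β, hβ, h2⟩
      exact ⟨h1, β, ⟨β, hβ, rfl⟩, h2⟩
  · intro R hR
    exact hR.2.2 _ hsat0 (c.F0_primeIdx hS)

end Cfsg.Agent.S5243
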