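import Cfsg.Statements.S5247
import Cfsg.Agent.Lib.Helper85.FusPStable
import Cfsg.Agent.S5096

set_option autoImplicit false
open Cfsg

namespace Cfsg.Agent.S5247

open Cfsg.FusionSystem Cfsg.Agent.Lib.Helper84 Cfsg.Agent.Lib.Helper85

/-- Let p be an odd prime and F a saturated fusion system over a finite p-group S. Call a fusion system E (over any subgroup) p-stable when, for every fully E-normalized subgroup Q and every χ ∈ Aut_E(Q) with χ(a⁻¹)·a·χ(a⁻¹)·χ(χ(a)) = 1 for all a ∈ Q (χ acts quadratically), χ lies in O_p(Aut_E(Q)). Then F is p-stable if and only if every normalizer fusion system N_F(R) of every non-cyclic fully F-normalized subgroup R of S is p-stable. -/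
theorem result {Ω : Type*} [Group Ω] {S : Subgroup Ω} [Finite S] (p : ℕ) [Fact p.Prime] (hS : IsPGroup p S) (F : Cfsg.FusionSystem S) (hF : F.IsSaturated p) (hp : p ≠ 2) : (∀ Q : Subgroup Ω, F.IsFullyNormalized Q → ∀ χ : MulAut ↥Q, χ ∈ F.autGroup Q → (∀ a : ↥Q, (χ a⁻¹) * a * (χ a⁻¹) * (χ (χ a)) = 1) → χ ∈ ((Cfsg.pCore p ↥(F.autGroup Q)).map (F.autGroup Q).subtype : Subgroup (MulAut ↥Q))) ↔ ∀ R : Subgroup Ω, F.IsFullyNormalized R → ¬ IsCyclic ↥R → ∀ N : Cfsg.FusionSystem (Cfsg.FusionSystem.normalizerIn S R), F.IsNormalizerSystem R N → (∀ Q : Subgroup Ω, N.IsFullyNormalized Q → ∀ χ : MulAut ↥Q, χ ∈ N.autGroup Q → (∀ a : ↥Q, (χ a⁻¹) * a * (χ a⁻¹) * (χ (χ a)) = 1) → χ ∈ ((Cfsg.pCore p ↥(N.autGroup Q)).map (N.autGroup Q).subtype : Subgroup (MulAut ↥Q))) := by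
  constructor
  · intro h R hR _ N hN Q hQ
    have hsub : N.IsSubsystemOf F := fun P φ hφ => by rw [hN P] at hφ; exact hφ.1
    have h1 : PS p (F.autGroup Q) :=
      PS.of_fullyNormalized (F := F) h (hQ.1.trans (normalizerIn_le S R))
    exact h1.mono (autGroup_le_of_subsystem hsub hQ.1)
  · intro h Q hQ
    have hQS : Q ≤ S := hQ.1
    have hfinQ : Finite Q := finite_of_le hQS
    by_cases hcyc : IsCyclic Q
    · intro χ hχ hq
      refine (mem_pCore_map_iff _ χ).2 ⟨Subgroup.zpowers χ, (Subgroup.zpowers_le).2 hχ, ?_, ?_,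
        Subgroup.mem_zpowers χ⟩
      · obtain ⟨k, hk⟩ := IsPGroup.iff_card.1 (hS.to_le hQS)
        have h1 : χ ^ (p ^ k) = 1 := by rw [← hk]; exact Quad.pow_card hq
        rintro ⟨g, hg⟩
        obtain ⟨m, rfl⟩ := Subgroup.mem_zpowers_iff.1 hg
        refine ⟨k, Subtype.ext ?_⟩
        show (χ ^ m) ^ (p ^ k) = 1
        rw [← zpow_natCast, ← zpow_mul, mul_comm, zpow_mul, zpow_natCast, h1, one_zpow]
      · intro a _ n hn
        have hcomm : a * n = n * a := by
          ext x
          obtain ⟨m, hm⟩ := MonoidHom.map_cyclic a.toMonoidHom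
          have hm' : ∀ g : Q, a g = g ^ m := hm
          rw [MulAut.mul_apply, MulAut.mul_apply, hm', hm', map_zpow]
        rw [hcomm, mul_inv_cancel_right]
        exact hn
    · obtain ⟨N, hN⟩ := Cfsg.Agent.S5096.result F Q hQS
      have hfn : N.IsFullyNormalized Q := by
        refine ⟨Lib.Helper84.le_normalizerIn hQS, fun Q' _ => ?_⟩
        have hfin : Finite (normalizerIn S Q) := finite_of_le (normalizerIn_le S Q)
        have e : normalizerIn (normalizerIn S Q) Q = normalizerIn S Q :=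
          inf_eq_left.2 inf_le_right
        rw [e]
        exact Subgroup.card_le_of_le inf_le_left
      have := h Q hQ hcyc N hN Q hfn
      rw [autGroup_normalizerSystem hQS hN] at this
      exact this

end Cfsg.Agent.S5247
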