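import Cfsg.Statements.S5252
import Cfsg.Agent.Lib.Helper2.FusCtl8
import Cfsg.Agent.Lib.Helper33.Transfer
import Cfsg.Agent.Lib.Helper33.Induced
import Cfsg.Agent.Lib.Helper9.KInfChar
import Cfsg.Agent.S1984

set_option autoImplicit false
open Cfsg

namespace Cfsg.Agent.S5252

universe u

open Cfsg.Agent.Lib.Helper33 Cfsg.Agent.Lib.Helper9 in
theorem kInf_local {p : ℕ} [Fact p.Prime] (hp : 5 ≤ p) (G : Type u) [Group G] [Finite G]
    (P : Sylow p G) :
    pCore p G ⊓ commutator G = pCore p G ⊓
      (commutator ↥(Subgroup.normalizer ((inducedFunctor kInfLower (P : Subgroup G) : Subgroup G) : Set G))).map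
        (Subgroup.normalizer ((inducedFunctor kInfLower (P : Subgroup G) : Subgroup G) : Set G)).subtype := by
  have h := Cfsg.Agent.S1984.result (G := G) (p := p) hp
  rw [controlsTransferIn_iff_family] at h
  have hconj : ∀ W ∈ ({inducedFunctor kInfLower} : Set (Subgroup G → Subgroup G)),
      IsConjugacyFunctor p W := by
    rintro W rfl
    exact isConjugacyFunctor_induced (isCharPFunctor_kInfLower p)
  have hrel : RelSyl p (P : Subgroup G) ⊤ :=
    ⟨le_top, P.2, by rw [Subgroup.relIndex_top_right]; exact P.not_dvd_index⟩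
  have h1 := FamilyControlsTransferIn.eq hconj h hrel
  unfold FD at h1
  simp only [Set.mem_singleton_iff, iSup_iSup_eq_left, top_inf_eq] at h1
  rw [Subgroup.map_subtype_commutator, commutator_def]
  have hle : pCore p G ≤ P := Cfsg.Agent.Lib.Lead.pCore_le_sylow P
  rw [← inf_eq_left.2 hle, inf_assoc, inf_assoc, h1]

/-- Let p ≥ 5 be a prime and F a saturated fusion system over a nontrivial finite p-group S such that Aut_F(S) is a p-group. Then the focal subgroup of F is a proper subgroup of S. -/
theorem result {Ω : Type*} [Group Ω] {S : Subgroup Ω} [Finite S] (p : ℕ) [Fact p.Prime] (hS : IsPGroup p S) (F : Cfsg.FusionSystem S) (hF : F.IsSaturated p) (hp : 5 ≤ p) (hS1 : S ≠ ⊥) (haut : IsPGroup p ↥(F.autGroup S)) : F.focalSubgroup < S :=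
  Cfsg.Agent.Lib.Helper2.focal_lt_of_functor kInfLower
    (Cfsg.Agent.Lib.Helper9.isCharPFunctor_kInfLower p)
    (fun G _ _ P _ => kInf_local hp G P) hS hS1 F hF haut

end Cfsg.Agent.S5252
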