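import Cfsg.Statements.S5255
import Cfsg.Agent.Lib.Helper87.FusUtil

set_option autoImplicit false
open Cfsg

namespace Cfsg.Agent.S5255

open Cfsg.FusionSystem Cfsg.Agent.Lib.Helper84 Cfsg.Agent.Lib.Helper87

variable {Ω : Type*} [Group Ω] {S : Subgroup Ω}

/-- the elements of `S` inducing on `T` an inner automorphism of `T`. -/
def innOn (S T : Subgroup Ω) : Subgroup Ω where
  carrier := {g | g ∈ S ∧ ∃ t ∈ T, ∀ x ∈ T, g * x * g⁻¹ = t * x * t⁻¹}
  one_mem' := ⟨S.one_mem, 1, T.one_mem, fun x _ => rfl⟩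
  mul_mem' := by
    rintro a b ⟨ha, t, ht, hta⟩ ⟨hb, u, hu, hub⟩
    refine ⟨S.mul_mem ha hb, t * u, T.mul_mem ht hu, fun x hx => ?_⟩
    have h1 : u * x * u⁻¹ ∈ T := T.mul_mem (T.mul_mem hu hx) (T.inv_mem hu)
    calc a * b * x * (a * b)⁻¹ = a * (b * x * b⁻¹) * a⁻¹ := by group
      _ = a * (u * x * u⁻¹) * a⁻¹ := by rw [hub x hx]
      _ = t * (u * x * u⁻¹) * t⁻¹ := hta _ h1
      _ = t * u * x * (t * u)⁻¹ := by group
  inv_mem' := by
    rintro a ⟨ha, t, ht, hta⟩
    refine ⟨S.inv_mem ha, t⁻¹, T.inv_mem ht, fun x hx => ?_⟩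
    have h1 : t⁻¹ * x * t ∈ T := T.mul_mem (T.mul_mem (T.inv_mem ht) hx) ht
    have h2 := hta _ h1
    have h3 : t * (t⁻¹ * x * t) * t⁻¹ = x := by group
    rw [h3] at h2
    calc a⁻¹ * x * a⁻¹⁻¹ = a⁻¹ * (a * (t⁻¹ * x * t) * a⁻¹) * a := by rw [h2, inv_inv]
      _ = t⁻¹ * x * t⁻¹⁻¹ := by group

theorem sup_eq_innOn {T : Subgroup Ω} (hT : T ≤ S) : T ⊔ centralizerIn S T = innOn S T := by
  apply le_antisymm
  · refine sup_le ?_ ?_
    · intro t ht
      exact ⟨hT ht, t, ht, fun x _ => rfl⟩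
    · intro c hc
      refine ⟨hc.1, 1, T.one_mem, fun x hx => ?_⟩
      have := (Subgroup.mem_centralizer_iff.1 hc.2) x hx
      rw [← this]; group
  · rintro g ⟨hg, t, ht, hgt⟩
    have h1 : g = t * (t⁻¹ * g) := by group
    rw [h1]
    refine Subgroup.mul_mem _ (Subgroup.mem_sup_left ht) (Subgroup.mem_sup_right ⟨?_, ?_⟩)
    · exact S.mul_mem (S.inv_mem (hT ht)) hg
    · show t⁻¹ * g ∈ Subgroup.centralizer (T : Set Ω)
      rw [Subgroup.mem_centralizer_iff]
      intro x hx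
      have h2 := hgt x hx
      have h3 : g * x = t * x * t⁻¹ * g := by rw [← h2]; group
      calc x * (t⁻¹ * g) = t⁻¹ * (t * x * t⁻¹ * g) := by group
        _ = t⁻¹ * (g * x) := by rw [h3]
        _ = t⁻¹ * g * x := by group

theorem main [Finite S] (p : ℕ) [Fact p.Prime] (hS : IsPGroup p S) (F : FusionSystem S)
    (hF : F.IsSaturated p) (T : Subgroup Ω) (hT : F.StronglyClosed T) (n : ℕ) :
    ∀ (Q R : Subgroup Ω) (e : Q ≃* R), Mor F e.toMonoidHom → Q ≤ innOn S T →
      Nat.card S - Nat.card Q = n → R ≤ innOn S T := by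
  induction n using Nat.strong_induction_on with
  | _ n ih =>
  intro Q R e he hQW hn
  have hQS : Q ≤ S := he.le_left
  have hRS : R ≤ S := he.symm.le_left
  have hTW : T ≤ innOn S T := fun t ht => ⟨hT.1 ht, t, ht, fun x _ => rfl⟩
  have hcardQR : Nat.card Q = Nat.card R := Nat.card_congr e.toEquiv
  by_cases hTQ : T ≤ Q
  · -- direct computation
    intro r hr
    obtain ⟨hqS, t, ht, hqt⟩ := hQW (e.symm ⟨r, hr⟩).2
    refine ⟨hRS hr, (e ⟨t, hTQ ht⟩ : R), sc_map_mem hT he _ ht, fun y hy => ?_⟩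
    obtain ⟨x, hxT, hxy⟩ := sc_exists_preimage hT he hTQ hy
    have hxy' : ((e x : R) : Ω) = y := hxy
    have h1 : (e.symm ⟨r, hr⟩ * x * (e.symm ⟨r, hr⟩)⁻¹ : Q) = ⟨t, hTQ ht⟩ * x * (⟨t, hTQ ht⟩ : Q)⁻¹ := by
      ext
      exact hqt x hxT
    have h2 := congrArg (fun z : Q => ((e z : R) : Ω)) h1
    simp only [map_mul, map_inv, MulEquiv.apply_symm_apply, Subgroup.coe_mul, Subgroup.coe_inv] at h2
    rw [hxy'] at h2
    exact h2
  · -- pass to a fully automized receptive conjugate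
    obtain ⟨Qs, hconj, hauto, hrec⟩ := hF Q hQS
    have hfinS : Finite S := inferInstance
    -- general step: a map on the normalizer
    have step : ∀ (A : Subgroup Ω), A ≤ S → ¬ T ≤ A → Nat.card A = Nat.card Q → F.IsConj A Qs →
        ∃ (A₁ M : Subgroup Ω) (e₁ : A₁ ≃* M), Mor F e₁.toMonoidHom ∧ A < A₁ ∧ A₁ ≤ A ⊔ T ∧
          Qs ≤ M ∧ M ≤ Qs ⊔ T := by
      intro A hAS hTA hcard hAconj
      obtain ⟨χ, hχ, hχN, hχmap⟩ := exists_normalizer_hom hS F hauto hrec hAconj
      obtain ⟨u, huT, huN, huA⟩ := exists_mem_normalizing_not_mem hS hT.1 hAS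
        (hAS.trans (sc_le_normalizer hT)) hTA
      have hA₁N : A ⊔ Subgroup.zpowers u ≤ normalizerIn S A := by
        refine sup_le (le_normalizerIn hAS) ?_
        rw [Subgroup.zpowers_le]
        exact ⟨hT.1 huT, huN⟩
      have hχ₁ := restrict_mem F hχ hA₁N
      refine ⟨A ⊔ Subgroup.zpowers u, _, rangeEquiv F hχ₁, mor_rangeEquiv F hχ₁, ?_, ?_, ?_, ?_⟩
      · refine lt_of_le_of_ne le_sup_left ?_
        intro h
        apply huA
        rw [h]
        exact Subgroup.mem_sup_right (Subgroup.mem_zpowers u)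
      · refine sup_le_sup_left ?_ A
        rw [Subgroup.zpowers_le]
        exact huT
      · intro y hy
        rw [← hχmap] at hy
        obtain ⟨x, hx, rfl⟩ := hy
        exact ⟨⟨x, Subgroup.mem_sup_left hx⟩, rfl⟩
      · -- image of A ⊔ ⟨u⟩ lies in Qs ⊔ T
        have hle : A ⊔ Subgroup.zpowers u ≤
            ((Qs ⊔ T).comap χ).map (normalizerIn S A).subtype := by
          refine sup_le ?_ ?_
          · intro a ha
            refine ⟨⟨a, le_normalizerIn hAS ha⟩, ?_, rfl⟩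
            show χ _ ∈ Qs ⊔ T
            apply Subgroup.mem_sup_left
            rw [← hχmap]
            exact ⟨_, ha, rfl⟩
          · rw [Subgroup.zpowers_le]
            refine ⟨⟨u, hT.1 huT, huN⟩, ?_, rfl⟩
            show χ _ ∈ Qs ⊔ T
            exact Subgroup.mem_sup_right (sc_map_mem hT hχ _ huT)
        rintro _ ⟨x, rfl⟩
        obtain ⟨y, hy, hyx⟩ := hle x.2
        have : χ.comp (Subgroup.inclusion hA₁N) x = χ y := by
          show χ _ = χ y
          congr 1
          ext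
          exact hyx.symm
        rw [this]
        exact hy
    -- step 1 : Qs ≤ W
    have hQsW : Qs ≤ innOn S T := by
      obtain ⟨A₁, M, e₁, he₁, hlt, hle, hQsM, -⟩ := step Q hQS hTQ rfl hconj
      have hA₁S : A₁ ≤ S := he₁.le_left
      have : Finite A₁ := finite_of_le hA₁S
      have hc := card_lt_of_lt hlt
      have hc2 : Nat.card A₁ ≤ Nat.card S := Subgroup.card_le_of_le hA₁S
      have := ih (Nat.card S - Nat.card A₁) (by omega) A₁ M e₁ he₁
        (hle.trans (sup_le hQW hTW)) rfl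
      exact hQsM.trans this
    -- step 2
    have hTR : ¬ T ≤ R := by
      intro hTR
      apply hTQ
      intro t ht
      obtain ⟨x, hxT, hxy⟩ := sc_exists_preimage hT he.symm hTR ht
      have : ((e.symm x : Q) : Ω) = t := hxy
      rw [← this]
      exact (e.symm x).2
    have hRconj : F.IsConj R Qs :=
      isConj_trans ((isConj_iff F).2 ⟨e.symm, he.symm⟩) hconj
    obtain ⟨A₁, M, e₁, he₁, hlt, -, -, hM⟩ := step R hRS hTR hcardQR.symm hRconj
    have hA₁S : A₁ ≤ S := he₁.le_left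
    have : Finite A₁ := finite_of_le hA₁S
    have hc := card_lt_of_lt hlt
    have hc2 : Nat.card A₁ ≤ Nat.card S := Subgroup.card_le_of_le hA₁S
    have hc3 : Nat.card A₁ = Nat.card M := Nat.card_congr e₁.toEquiv
    have := ih (Nat.card S - Nat.card M) (by omega) M A₁ e₁.symm he₁.symm
      (hM.trans (sup_le hQsW hTW)) rfl
    exact hlt.le.trans this

/-- Let F be a saturated fusion system over a finite p-group S and T a subgroup of S strongly closed in F. Then T·C_S(T) is strongly closed in F. -/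
theorem result {Ω : Type*} [Group Ω] {S : Subgroup Ω} [Finite S] (p : ℕ) [Fact p.Prime] (hS : IsPGroup p S) (F : Cfsg.FusionSystem S) (hF : F.IsSaturated p) (T : Subgroup Ω) (hT : F.StronglyClosed T) : F.StronglyClosed (T ⊔ Cfsg.FusionSystem.centralizerIn S T) := by
  rw [sup_eq_innOn hT.1]
  refine ⟨fun g hg => hg.1, fun R hR φ hφ x => ?_⟩
  have := main p hS F hF T hT _ R φ.range (rangeEquiv F hφ) (mor_rangeEquiv F hφ) hR rfl
  exact this ⟨x, rfl⟩

end Cfsg.Agent.S5255
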