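import Cfsg.Statements.S5265
import Cfsg.Agent.Lib.Helper87.CenIdxTwo3
import Cfsg.Agent.Lib.Helper73.DihedralRec

set_option autoImplicit false
open Cfsg

namespace Cfsg.Agent.S5265

open Cfsg.FusionSystem Cfsg.Agent.Lib.Helper84 Cfsg.Agent.Lib.Helper87

variable {Ω : Type*} [Group Ω] {S : Subgroup Ω}

theorem index_eq [Finite S] {p : ℕ} [hp : Fact p.Prime] (hS : IsPGroup p ↥S)
    (F : Cfsg.FusionSystem S) (hF : F.IsSaturated p) (hS1 : S ≠ ⊥) (hcore : F.core = ⊥)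
    (hZ : (Subgroup.center ↥S).index ≤ p ^ 2) : (Subgroup.center ↥S).index = p ^ 2 := by
  obtain ⟨n, hn⟩ := hS.exists_card_eq
  have hdvd : (Subgroup.center ↥S).index ∣ p ^ n := hn ▸ Subgroup.index_dvd_card _
  obtain ⟨k, -, hk⟩ := (Nat.dvd_prime_pow hp.out).1 hdvd
  have hk2 : k ≤ 2 := by
    rw [hk] at hZ
    exact (Nat.pow_le_pow_iff_right hp.out.one_lt).1 hZ
  interval_cases k
  · exfalso
    rw [pow_zero, Subgroup.index_eq_one] at hk
    have hsc : F.StronglyClosed S := ⟨le_rfl, fun R _ φ hφ x => (F.le_of_mem hφ).2 x⟩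
    have hab : IsMulCommutative S := by
      refine ⟨⟨fun a b => ?_⟩⟩
      have : b ∈ Subgroup.center ↥S := hk ▸ Subgroup.mem_top b
      exact Subgroup.mem_center_iff.1 this a
    exact (core_ne_bot_iff hS F hF).2 ⟨_, hS1, hab, hsc⟩ hcore
  · exfalso
    rw [pow_one, ← Subgroup.upperCentralSeries_one] at hk
    exact index_ucs_succ_ne_prime hp.out 0 hk
  · exact hk

theorem dihedral [Finite S] {F : FusionSystem S} (hc : CenIdx 2 S) {E : Subgroup Ω}
    {e₁ x₁ x₂ : Ω} (hmid : CenIdx.Mid S E) (hd : EssData F 2 E e₁ x₁ ⊥) (hx₂S : x₂ ∈ S)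
    (hx₂E : x₂ ∉ E) (hx₂ : x₂ ^ 2 = 1) (hcard : Nat.card S = 2 ^ 3) :
    Nonempty (↥S ≃* DihedralGroup 4) := by
  have hp : Fact (Nat.Prime 2) := ⟨Nat.prime_two⟩
  have hx₁S : x₁ ∈ S := hmid.ES.le hd.e2E
  have hnc : x₂ * x₁ ≠ x₁ * x₂ := hmid.not_comm hc hd.e2E hd.e2Z hx₂S hx₂E
  have hi₁ := inv_eq_self_of_sq hd.e2_pow
  have hi₂ := inv_eq_self_of_sq hx₂
  have hsq : x₁ * x₂ * x₁ * x₂ = e₁ := by
    obtain ⟨i, hi⟩ := hd.comm x₁ hx₁S x₂ hx₂S
    rcases pow_cases_two hd.e1_pow i with h1 | h1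
    · exfalso
      rw [h1] at hi
      apply hnc
      have : x₁ * x₂ * x₁⁻¹ = x₂ := mul_inv_eq_one.1 hi
      exact (mul_inv_eq_iff_eq_mul.1 this).symm
    · rw [h1, hi₁, hi₂] at hi
      exact hi
  apply Cfsg.Agent.Lib.Helper73.nonempty_mulEquiv_dihedralGroup 4
    ((⟨x₁, hx₁S⟩ : S) * ⟨x₂, hx₂S⟩) (⟨x₁, hx₁S⟩ : S)
  · have h1 : ((⟨x₁, hx₁S⟩ : S) * ⟨x₂, hx₂S⟩) ^ 2 = ⟨e₁, ZS_le S hd.e1Z⟩ := by
      ext
      show (x₁ * x₂) ^ 2 = e₁
      rw [sq, ← hsq]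
      simp only [mul_assoc]
    have := orderOf_eq_prime_pow (p := 2) (n := 1) (x := (⟨x₁, hx₁S⟩ : S) * ⟨x₂, hx₂S⟩) ?_ ?_
    · simpa using this
    · rw [pow_one, h1]
      intro hh
      exact hd.e1_ne (congrArg (fun z : S => (z : Ω)) hh)
    · have : (2 : ℕ) ^ (1 + 1) = 2 * 2 := by norm_num
      rw [this, pow_mul, h1]
      ext
      exact hd.e1_pow
  · ext
    exact hd.e2_pow
  · ext
    show x₁ * (x₁ * x₂) * x₁⁻¹ = (x₁ * x₂)⁻¹
    rw [mul_inv_rev, hi₁, hi₂, ← mul_assoc, ← sq, hd.e2_pow, one_mul]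
  · intro hmem
    obtain ⟨k, hk⟩ := Subgroup.mem_zpowers_iff.1 hmem
    have hcm : Commute ((⟨x₁, hx₁S⟩ : S) * ⟨x₂, hx₂S⟩) (⟨x₁, hx₁S⟩ : S) := by
      have h0 := (Commute.refl ((⟨x₁, hx₁S⟩ : S) * ⟨x₂, hx₂S⟩)).zpow_right k
      rwa [hk] at h0
    have h1 : x₁ * x₂ * x₁ = x₁ * (x₁ * x₂) := congrArg (fun z : S => (z : Ω)) hcm.eq
    apply hnc
    rw [mul_assoc] at h1
    exact mul_left_cancel h1
  · rw [hcard]; norm_num

/-- Let p be a prime, S a nontrivial finite p-group whose centre has index at most p², and F a saturated fusion system over S with no nontrivial normal subgroup and with hyperfocal subgroup equal to S. Then S is extraspecial of order p³; for odd p it has exponent p, and for p = 2 it is dihedral of order 8. -/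
theorem result {Ω : Type*} [Group Ω] {S : Subgroup Ω} [Finite S] (p : ℕ) [Fact p.Prime] (hS : IsPGroup p ↥S) (F : Cfsg.FusionSystem S) (hF : F.IsSaturated p) (hS1 : S ≠ ⊥) (hcore : F.core = ⊥) (hhyp : F.hyperfocalSubgroup p = S) (hZ : (Subgroup.center ↥S).index ≤ p ^ 2) : Cfsg.IsExtraspecial p ↥S ∧ Nat.card S = p ^ 3 ∧ (p ≠ 2 → Monoid.exponent ↥S = p) ∧ (p = 2 → Nonempty (↥S ≃* DihedralGroup 4)) := by
  have hc := cenIdx_of_index (index_eq hS F hF hS1 hcore hZ)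
  by_cases hp2 : p = 2
  · subst hp2
    obtain ⟨E, e₁, x₁, x₂, hmid, hd, hx₂S, hx₂E, hx₂⟩ := two_main hS hF hc hS1 hcore hhyp
    have hz := hd.zData
    rw [Subgroup.bot_subgroupOf] at hz
    have hcard := hc.card_of_zData hz
    exact ⟨hz.isExtraspecial hS, hcard, fun h => absurd rfl h,
      fun _ => dihedral hc hmid hd hx₂S hx₂E hx₂ hcard⟩
  · obtain ⟨E, hE⟩ := exists_essential hS hF hS1 hcore
    obtain ⟨e₁, e₂, D, hd⟩ := exists_essData hS hF hc hE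
    have hD := hd.D_eq_bot hS hF hc hcore hp2
    subst hD
    have hz := hd.zData
    rw [Subgroup.bot_subgroupOf] at hz
    refine ⟨hz.isExtraspecial hS, hc.card_of_zData hz, fun _ => ?_, fun h => absurd h hp2⟩
    have hpow := pow_eq_one_odd hS hF hc hS1 hcore hp2
    have hdvd : Monoid.exponent ↥S ∣ p := by
      apply Monoid.exponent_dvd_of_forall_pow_eq_one
      intro g
      ext
      exact hpow g g.2
    rcases (Nat.dvd_prime (Fact.out : p.Prime)).1 hdvd with h1 | h1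
    · exfalso
      rw [Monoid.exp_eq_one_iff] at h1
      apply hS1
      rw [eq_bot_iff]
      intro x hx
      have : (⟨x, hx⟩ : S) = 1 := Subsingleton.elim _ _
      exact Subgroup.mem_bot.2 (congrArg (fun z : S => (z : Ω)) this)
    · exact h1

end Cfsg.Agent.S5265
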