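import Cfsg.Statements.S5270
import Cfsg.Agent.Lib.Helper84.FusionAlperin2
import Cfsg.Agent.Lib.Helper87.FusUtil
import Cfsg.Agent.Lib.Helper87.MaxClass

set_option autoImplicit false
open Cfsg

namespace Cfsg.Agent.S5270

open Cfsg.FusionSystem Cfsg.Agent.Lib.Helper84 Cfsg.Agent.Lib.Helper87

variable {Ω : Type*} [Group Ω] {S : Subgroup Ω}

theorem fullyNormalized_of_normal [Finite S] (F : FusionSystem S) {R : Subgroup Ω}
    (hR : R ≤ S) (hN : S ≤ Subgroup.normalizer (R : Set Ω)) : F.IsFullyNormalized R := by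
  refine ⟨hR, fun Q _ => ?_⟩
  have h1 : normalizerIn S R = S := inf_eq_left.2 hN
  rw [h1]
  exact Subgroup.card_le_of_le (normalizerIn_le S Q)

theorem mem_mapCenter_iff {x : Ω} :
    x ∈ (Subgroup.center ↥S).map S.subtype ↔ x ∈ S ∧ ∀ y ∈ S, y * x = x * y := by
  constructor
  · rintro ⟨z, hz, rfl⟩
    refine ⟨z.2, fun y hy => ?_⟩
    have := Subgroup.mem_center_iff.1 hz ⟨y, hy⟩
    exact congrArg (fun w : S => (w : Ω)) this
  · rintro ⟨hx, h⟩
    refine ⟨⟨x, hx⟩, ?_, rfl⟩
    rw [SetLike.mem_coe, Subgroup.mem_center_iff]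
    intro y
    ext
    exact h y y.2

theorem map_centralizer_eq (Z : Subgroup S) :
    (Subgroup.centralizer (Z : Set S)).map S.subtype =
      S ⊓ Subgroup.centralizer ((Z.map S.subtype : Subgroup Ω) : Set Ω) := by
  ext x
  constructor
  · rintro ⟨c, hc, rfl⟩
    refine ⟨c.2, ?_⟩
    show (c : Ω) ∈ Subgroup.centralizer _
    rw [Subgroup.mem_centralizer_iff]
    rintro _ ⟨z, hz, rfl⟩
    exact congrArg (fun w : S => (w : Ω)) (Subgroup.mem_centralizer_iff.1 hc z hz)
  · rintro ⟨hx, hc⟩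
    refine ⟨⟨x, hx⟩, ?_, rfl⟩
    rw [SetLike.mem_coe, Subgroup.mem_centralizer_iff]
    intro z hz
    ext
    exact Subgroup.mem_centralizer_iff.1 hc z ⟨z, hz, rfl⟩

theorem le_normalizer_map_of_normal (Z : Subgroup S) [hZ : Z.Normal] :
    S ≤ Subgroup.normalizer ((Z.map S.subtype : Subgroup Ω) : Set Ω) := by
  intro s hs
  apply mem_normalizer_of_conj_mem
  · rintro _ ⟨z, hz, rfl⟩
    exact ⟨⟨s, hs⟩ * z * ⟨s, hs⟩⁻¹, hZ.conj_mem z hz _, rfl⟩
  · rintro _ ⟨z, hz, rfl⟩
    refine ⟨⟨s, hs⟩⁻¹ * z * ⟨s, hs⟩, ?_, rfl⟩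
    have := hZ.conj_mem z hz ⟨s, hs⟩⁻¹
    simpa using this

/-- Let p ≥ 5 be a prime, S a finite p-group of maximal class of order p^n with n ≥ 4, and F a saturated fusion system over S. If some map of F defined on the second centre Z₂(S) with image Z₂(S) does not carry Z(S) into itself, then the centralizer C_S(Z₂(S)) is an F-essential subgroup. -/
theorem result {Ω : Type*} [Group Ω] {S : Subgroup Ω} [Finite S] (p : ℕ) [Fact p.Prime] (hS : IsPGroup p ↥S) (n : ℕ) (hn : Nat.card S = p ^ n) (h4 : 4 ≤ n) (hmax : Subgroup.lowerCentralSeries S (n - 2) ≠ ⊥) (F : Cfsg.FusionSystem S) (hF : F.IsSaturated p) (hp : 5 ≤ p) (φ : ↥((Subgroup.upperCentralSeries ↥S 2).map S.subtype) →* Ω) (hφ : φ ∈ F.Hom ((Subgroup.upperCentralSeries ↥S 2).map S.subtype)) (hφZ : φ.range = ((Subgroup.upperCentralSeries ↥S 2).map S.subtype)) (hmove : ∃ (z : Ω) (hz : z ∈ ((Subgroup.upperCentralSeries ↥S 2).map S.subtype)), z ∈ ((Subgroup.center ↥S).map S.subtype) ∧ φ ⟨z, hz⟩ ∉ ((Subgroup.center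 ↥S).map S.subtype)) : F.IsEssential p (S ⊓ Subgroup.centralizer (((Subgroup.upperCentralSeries ↥S 2).map S.subtype) : Set Ω)) := by
  have hmax' : Subgroup.upperCentralSeries ↥S (n - 2) ≠ ⊤ := by
    intro h
    apply hmax
    rw [← Subgroup.top_subtype_lowerCentralSeries,
      Subgroup.lowerCentralSeries_eq_bot_iff_upperCentralSeries_eq_top.2 h, Subgroup.map_bot]
  have hc1 : Nat.card (Subgroup.center ↥S) = p := by
    have := card_ucs_of_maxClass hn (by omega) hmax' (i := 1) (by omega)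
    rwa [Subgroup.upperCentralSeries_one, pow_one] at this
  have hc2 : Nat.card (Subgroup.upperCentralSeries ↥S 2) = p ^ 2 :=
    card_ucs_of_maxClass hn (by omega) hmax' (by omega)
  obtain ⟨hidx, hZC⟩ := centralizer_ucs_two hc1 hc2
  have hCmap := map_centralizer_eq (Subgroup.upperCentralSeries ↥S 2)
  have hZ1Z2' : Subgroup.center ↥S ≤ Subgroup.upperCentralSeries ↥S 2 := by
    rw [← Subgroup.upperCentralSeries_one]
    exact Subgroup.upperCentralSeries_mono _ (by norm_num)
  have hNZ2 := le_normalizer_map_of_normal (Subgroup.upperCentralSeries ↥S 2)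
  have hNC := le_normalizer_map_of_normal
    (Subgroup.centralizer (Subgroup.upperCentralSeries ↥S 2 : Set S))
  have hZ1Z2 := Subgroup.map_mono (f := S.subtype) hZ1Z2'
  have hZ2C := Subgroup.map_mono (f := S.subtype) hZC
  have hcardC : Nat.card ((Subgroup.centralizer (Subgroup.upperCentralSeries ↥S 2 : Set S)).map
      S.subtype) * p = Nat.card S := by
    rw [Subgroup.card_map_of_injective S.subtype_injective, ← hidx, Subgroup.card_mul_index]
  rw [hCmap] at hNC hZ2C hcardC
  generalize hZ2 : (Subgroup.upperCentralSeries ↥S 2).map S.subtype = Z2 at *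
  generalize hC : S ⊓ Subgroup.centralizer (Z2 : Set Ω) = C at *
  have hCS : C ≤ S := hC ▸ inf_le_left
  have hZ2S : Z2 ≤ S := hZ2C.trans hCS
  have hp1 : 1 < p := by omega
  have hClt : C < S := by
    refine lt_of_le_of_ne hCS (fun h => ?_)
    rw [h] at hcardC
    have := Nat.card_pos (α := S)
    nlinarith
  have hmaxC : ∀ Q : Subgroup Ω, C < Q → Q ≤ S → Q = S := by
    intro Q hCQ hQS
    have : Finite Q := finite_of_le hQS
    apply Subgroup.eq_of_le_of_card_ge hQS
    obtain ⟨d, hd⟩ := Subgroup.card_dvd_of_le hCQ.le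
    obtain ⟨e, he⟩ := Subgroup.card_dvd_of_le hQS
    have hlt := card_lt_of_lt hCQ
    have : Finite C := finite_of_le hCS
    have hpos : 0 < Nat.card C := Nat.card_pos
    have hde : d * e = p := by
      have : Nat.card C * (d * e) = Nat.card C * p := by
        rw [hcardC, he, hd, mul_assoc]
      exact Nat.eq_of_mul_eq_mul_left hpos this
    have hd1 : d ≠ 1 := by
      intro h
      rw [hd, h, mul_one] at hlt
      exact lt_irrefl _ hlt
    have hdp : d = p := by
      rcases (Nat.dvd_prime (Fact.out : p.Prime)).1 ⟨e, hde.symm⟩ with h | h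
      · exact absurd h hd1
      · exact h
    rw [← hcardC, hd, hdp]
  have hCn := fullyNormalized_of_normal F hCS hNC
  rcases extendable_dichotomy hS F hF hClt hCn with ⟨-, hcl⟩ | ⟨h, -⟩
  swap
  · exact h
  exfalso
  have hpres : ∀ α ∈ F.autGroup C, ∀ x : C,
      (x : Ω) ∈ (Subgroup.center ↥S).map S.subtype ↔
        ((α x : C) : Ω) ∈ (Subgroup.center ↥S).map S.subtype := by
    intro α hα
    rw [← hcl] at hα
    induction hα using Subgroup.closure_induction with
    | mem α hα =>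
      obtain ⟨Q, hCQ, ψ, hψ, hext⟩ := hα
      have hQS := hmaxC Q hCQ (F.le_of_mem hψ).1
      subst hQS
      intro x
      rw [← hext, mem_mapCenter_iff, mem_mapCenter_iff]
      have hrange := range_eq_of_card F hψ
      constructor
      · rintro ⟨hx, h⟩
        refine ⟨(F.le_of_mem hψ).2 _, fun y hy => ?_⟩
        rw [← hrange] at hy
        obtain ⟨y', rfl⟩ := hy
        rw [← map_mul, ← map_mul]
        congr 1
        ext
        exact h y' y'.2
      · rintro ⟨-, h⟩
        refine ⟨hCS x.2, fun y hy => ?_⟩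
        have h1 := h (ψ ⟨y, hy⟩) ((F.le_of_mem hψ).2 _)
        rw [← map_mul, ← map_mul] at h1
        exact congrArg (fun w : Q => (w : Ω)) (F.injective_of_mem hψ h1)
    | one => intro x; rfl
    | mul α β _ _ hα hβ => intro x; exact (hβ x).trans (hα (β x))
    | inv α _ hα =>
      intro x
      have := hα (α⁻¹ x)
      rw [MulAut.apply_inv_self] at this
      exact this.symm
  have hrec : F.IsReceptive Z2 :=
    (sat_fullyNormalized hS hF (fullyNormalized_of_normal F hZ2S hNZ2)).2.2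
  obtain ⟨ψ, hψ, hψ'⟩ := hrec.2 Z2 φ hφ hφZ
  have hCle : C ≤ extender S Z2 φ := hC ▸ centralizerIn_le_extender φ
  have hZ2ext : Z2 ≤ extender S Z2 φ := hZ2C.trans hCle
  have hmap : (Z2.subgroupOf (extender S Z2 φ)).map ψ = Z2 := by
    ext y
    constructor
    · rintro ⟨x, hx, rfl⟩
      have h1 : ψ x = φ ⟨x, hx⟩ := hψ' x hx x.2
      rw [h1]
      have h2 : φ ⟨x, hx⟩ ∈ φ.range := ⟨_, rfl⟩
      rwa [hφZ] at h2
    · intro hy
      have hy' : y ∈ φ.range := by rw [hφZ]; exact hy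
      obtain ⟨x, rfl⟩ := hy'
      exact ⟨⟨x, hZ2ext x.2⟩, x.2, hψ' x x.2 _⟩
  have hCmapC : (C.subgroupOf (extender S Z2 φ)).map ψ = C := by
    have : Finite C := finite_of_le hCS
    apply Subgroup.eq_of_le_of_card_ge
    · rintro _ ⟨c, hc, rfl⟩
      have hc' : (c : Ω) ∈ C := hc
      rw [← hC] at hc' ⊢
      exact map_mem_centralizerIn F hψ hmap c hc'.2
    · rw [Subgroup.card_map_of_injective (F.injective_of_mem hψ)]
      exact (Nat.card_congr (Subgroup.subgroupOfEquivOfLe hCle).toEquiv).ge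
  let α : MulAut C := restrictEquiv ψ (F.injective_of_mem hψ) hCle hCmapC
  have hα : α ∈ F.autGroup C := (mem_autGroup_iff F hCS α).2 (mor_restrictEquiv F hψ hCle hCmapC)
  obtain ⟨z, hz, hz1, hz2⟩ := hmove
  have h5 := (hpres α hα ⟨z, hZ2C hz⟩).1 hz1
  apply hz2
  have h3 : ((α ⟨z, hZ2C hz⟩ : C) : Ω) = φ ⟨z, hz⟩ := hψ' z hz _
  rwa [h3] at h5

end Cfsg.Agent.S5270
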