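import Cfsg.Statements.S5274
import Cfsg.Agent.S5255
import Cfsg.Agent.Lib.Helper84.FusionSat2
import Cfsg.Agent.Lib.Helper88.FusAbelian

set_option autoImplicit false
open Cfsg

namespace Cfsg.Agent.S5274

open Cfsg.FusionSystem Cfsg.Agent.Lib.Helper84 Cfsg.Agent.Lib.Helper87 Cfsg.Agent.Lib.Helper88

variable {Ω : Type*} [Group Ω] {S : Subgroup Ω}

theorem comm_of_mem_Z {z : Ω} (hz : z ∈ S ⊓ Subgroup.centralizer (S : Set Ω)) {s : Ω} (hs : s ∈ S) :
    s * z = z * s := (Subgroup.mem_centralizer_iff.1 hz.2) s hs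

theorem le_centralizerIn_of_le_Z {R : Subgroup Ω} (hR : R ≤ S ⊓ Subgroup.centralizer (S : Set Ω)) :
    S ≤ centralizerIn S R := by
  intro s hs
  refine ⟨hs, Subgroup.mem_centralizer_iff.2 fun r hr => ?_⟩
  exact (comm_of_mem_Z (hR hr) hs).symm

theorem fullyCentralized_of_le_Z [Finite S] (F : FusionSystem S) {R : Subgroup Ω}
    (hR : R ≤ S ⊓ Subgroup.centralizer (S : Set Ω)) : F.IsFullyCentralized R := by
  refine ⟨hR.trans inf_le_left, fun Q _ => ?_⟩
  have : Finite (centralizerIn S R) := finite_of_le (centralizerIn_le S R)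
  exact Subgroup.card_le_of_le ((centralizerIn_le S Q).trans (le_centralizerIn_of_le_Z hR))

theorem fullyNormalized_of_le_Z [Finite S] (F : FusionSystem S) {R : Subgroup Ω}
    (hR : R ≤ S ⊓ Subgroup.centralizer (S : Set Ω)) : F.IsFullyNormalized R := by
  refine ⟨hR.trans inf_le_left, fun Q _ => ?_⟩
  have : Finite (normalizerIn S R) := finite_of_le (normalizerIn_le S R)
  exact Subgroup.card_le_of_le ((normalizerIn_le S Q).trans
    ((le_centralizerIn_of_le_Z hR).trans (centralizerIn_le_normalizerIn S R)))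

/-- maps between central subgroups extend to automorphisms of `S`. -/
theorem exists_aut_extending [Finite S] {p : ℕ} [Fact p.Prime] (hS : IsPGroup p S)
    (F : FusionSystem S) (hF : F.IsSaturated p) {P : Subgroup Ω}
    (hP : P ≤ S ⊓ Subgroup.centralizer (S : Set Ω)) {φ : P →* Ω} (hφ : φ ∈ F.Hom P)
    (hr : φ.range ≤ S ⊓ Subgroup.centralizer (S : Set Ω)) :
    ∃ α : MulAut S, α ∈ F.autGroup S ∧ ∀ (x : Ω) (hx : x ∈ P) (hxS : x ∈ S),
      ((α ⟨x, hxS⟩ : S) : Ω) = φ ⟨x, hx⟩ := by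
  have hrec := sat_fullyCentralized hS hF (fullyCentralized_of_le_Z F hr)
  obtain ⟨ψ, hψ, hψ'⟩ := hrec.2 P φ hφ rfl
  have hle : S ≤ extender S P φ := (le_centralizerIn_of_le_Z hP).trans (centralizerIn_le_extender φ)
  obtain ⟨α, hα, hα'⟩ := exists_aut_of_hom_top F (restrict_mem F hψ hle)
  refine ⟨α, hα, fun x hx hxS => ?_⟩
  rw [hα']
  exact hψ' x hx (hle hxS)

/-- an element of `S` inverted by an element of `S` has order at most two. -/
theorem sq_eq_one_of_inverted [Finite S] (hS : IsPGroup 2 S) (F : FusionSystem S)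
    (hF : F.IsSaturated 2)
    (h : ∀ x ∈ S, ∃ z ∈ S ⊓ Subgroup.centralizer (S : Set Ω), F.IsConjElt x z)
    {x g : Ω} (hx : x ∈ S) (hg : g ∈ S) (hgx : g * x * g⁻¹ = x⁻¹) : x * x = 1 := by
  obtain ⟨z, hz, φ, hφ, hφx⟩ := h x hx
  have hxS : Subgroup.zpowers x ≤ S := by rwa [Subgroup.zpowers_le]
  -- the range of φ is central
  have hr : φ.range ≤ S ⊓ Subgroup.centralizer (S : Set Ω) := by
    rintro _ ⟨⟨y, n, rfl⟩, rfl⟩
    have : φ ⟨x ^ n, ⟨n, rfl⟩⟩ = z ^ n := by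
      rw [← hφx, ← map_zpow]
      rfl
    show φ ⟨x ^ n, _⟩ ∈ _
    rw [this]
    exact Subgroup.zpow_mem _ hz n
  obtain ⟨-, ⟨hRS, R, hR⟩, -⟩ := sat_fullyNormalized hS hF (fullyNormalized_of_le_Z F hr)
  -- g normalizes ⟨x⟩
  have hconj : ∀ n : ℤ, g * x ^ n * g⁻¹ = (x ^ n)⁻¹ := by
    intro n
    have : g * x ^ n * g⁻¹ = (g * x * g⁻¹) ^ n := by
      rw [conj_zpow]
    rw [this, hgx, inv_zpow]
  have hconj' : ∀ n : ℤ, g⁻¹ * x ^ n * g = (x ^ n)⁻¹ := by
    intro n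
    have h1 := hconj (-n)
    rw [zpow_neg, inv_inv] at h1
    calc g⁻¹ * x ^ n * g = g⁻¹ * (g * (x ^ n)⁻¹ * g⁻¹) * g := by rw [h1]
      _ = (x ^ n)⁻¹ := by group
  have hgN : g ∈ Subgroup.normalizer ((Subgroup.zpowers x : Subgroup Ω) : Set Ω) := by
    apply mem_normalizer_of_conj_mem
    · rintro _ ⟨n, rfl⟩
      show g * x ^ n * g⁻¹ ∈ _
      rw [hconj]
      exact Subgroup.inv_mem _ ⟨n, rfl⟩
    · rintro _ ⟨n, rfl⟩
      show g⁻¹ * x ^ n * g ∈ _
      rw [hconj']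
      exact Subgroup.inv_mem _ ⟨n, rfl⟩
  set c := conjAut (Subgroup.zpowers x) g hgN with hc
  have hcF : c ∈ F.autGroup (Subgroup.zpowers x) :=
    autInducedBy_le_autGroup F hxS (conjAut_mem_autInducedBy hgN hg)
  set e := rangeEquiv F hφ with he
  have heM : Mor F e.toMonoidHom := mor_rangeEquiv F hφ
  have hβ : MulAut.congr e c ∈ F.autGroup φ.range := congr_mem_autGroup heM hcF
  have hcc : c * c = 1 := by
    ext ⟨y, n, rfl⟩
    show g * (g * x ^ n * g⁻¹) * g⁻¹ = x ^ n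
    rw [hconj, ← zpow_neg, hconj, zpow_neg, inv_inv]
  have hββ : MulAut.congr e c * MulAut.congr e c = 1 := by
    rw [← map_mul, hcc, map_one]
  have hfin : Finite (F.autGroup φ.range) := finite_autGroup F hRS
  have hU : Subgroup.zpowers (MulAut.congr e c) ≤ F.autGroup φ.range := by
    rwa [Subgroup.zpowers_le]
  have hUp : IsPGroup 2 (Subgroup.zpowers (MulAut.congr e c)) := by
    rintro ⟨_, n, rfl⟩
    refine ⟨1, ?_⟩
    ext1
    show ((MulAut.congr e c) ^ n) ^ 2 ^ 1 = 1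
    rw [pow_one, ← zpow_natCast, ← zpow_mul, mul_comm, zpow_mul, zpow_natCast, pow_two, hββ, one_zpow]
  obtain ⟨a, ha, hconjT⟩ := exists_conj_le_of_sylow R hR hU hUp
  obtain ⟨s, hs, hs'⟩ := (mem_autInducedBy_iff S φ.range _).1
    (hconjT _ (Subgroup.mem_zpowers _))
  have h1 : a * MulAut.congr e c * a⁻¹ = 1 := by
    ext y
    rw [hs' y]
    have := comm_of_mem_Z (hr y.2) hs
    rw [this]
    simp
  have h2 : MulAut.congr e c = 1 := by
    have : MulAut.congr e c = a⁻¹ * (a * MulAut.congr e c * a⁻¹) * a := by group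
    rw [this, h1]; group
  have h3 : c = 1 := by
    have := (MulAut.congr e).injective (h2.trans (map_one _).symm)
    exact this
  have h4 := congrArg (fun t : MulAut (Subgroup.zpowers x) =>
    ((t ⟨x, Subgroup.mem_zpowers x⟩ : Subgroup.zpowers x) : Ω)) h3
  have h5 : g * x * g⁻¹ = x := h4
  rw [hgx] at h5
  calc x * x = x * x⁻¹ := by rw [h5]
    _ = 1 := mul_inv_cancel x

/-- the involutions of `S` together with the identity. -/
def invol [Finite S] (hS : IsPGroup 2 S) (F : FusionSystem S)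
    (hF : F.IsSaturated 2)
    (h : ∀ x ∈ S, ∃ z ∈ S ⊓ Subgroup.centralizer (S : Set Ω), F.IsConjElt x z) : Subgroup Ω where
  carrier := {x | x ∈ S ∧ x * x = 1}
  one_mem' := ⟨S.one_mem, by simp⟩
  mul_mem' := by
    rintro a b ⟨ha, ha2⟩ ⟨hb, hb2⟩
    refine ⟨S.mul_mem ha hb, ?_⟩
    apply sq_eq_one_of_inverted hS F hF h (S.mul_mem ha hb) ha
    have ha' : a⁻¹ = a := inv_eq_of_mul_eq_one_left ha2
    have hb' : b⁻¹ = b := inv_eq_of_mul_eq_one_left hb2
    rw [mul_inv_rev, ha', hb']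
    calc a * (a * b) * a = (a * a) * b * a := by group
      _ = b * a := by rw [ha2, one_mul]
  inv_mem' := by
    rintro a ⟨ha, ha2⟩
    have ha' : a⁻¹ = a := inv_eq_of_mul_eq_one_left ha2
    show a⁻¹ ∈ S ∧ a⁻¹ * a⁻¹ = 1
    rw [ha']
    exact ⟨ha, ha2⟩

theorem invol_le_Z [Finite S] (hS : IsPGroup 2 S) (F : FusionSystem S)
    (hF : F.IsSaturated 2)
    (h : ∀ x ∈ S, ∃ z ∈ S ⊓ Subgroup.centralizer (S : Set Ω), F.IsConjElt x z) :
    invol hS F hF h ≤ S ⊓ Subgroup.centralizer (S : Set Ω) := by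
  set E := invol hS F hF h with hE
  have hES : E ≤ S := fun x hx => hx.1
  have hsc : F.StronglyClosed E := by
    refine ⟨hES, fun R hR φ hφ x => ⟨(F.le_of_mem hφ).2 x, ?_⟩⟩
    rw [← map_mul]
    have : x * x = 1 := by
      ext
      exact (hR x.2).2
    rw [this, map_one]
  have hcomm : ∀ a ∈ E, ∀ b ∈ E, a * b = b * a := by
    intro a ha b hb
    have hab := (E.mul_mem ha hb).2
    have ha' : a⁻¹ = a := inv_eq_of_mul_eq_one_left ha.2
    have hb' : b⁻¹ = b := inv_eq_of_mul_eq_one_left hb.2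
    have : a * b = (a * b)⁻¹ := (inv_eq_of_mul_eq_one_left hab).symm
    rw [this, mul_inv_rev, ha', hb']
  have hW := Cfsg.Agent.S5255.result 2 hS F hF E hsc
  have hEC : E ≤ centralizerIn S E := by
    intro a ha
    exact ⟨hES ha, Subgroup.mem_centralizer_iff.2 fun b hb => hcomm b hb a ha⟩
  rw [sup_eq_right.2 hEC] at hW
  -- every element of S lies in C_S(E)
  have hall : S ≤ centralizerIn S E := by
    intro x hx
    obtain ⟨z, hz, φ, hφ, hφx⟩ := h x hx
    have hzC : z ∈ centralizerIn S E :=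
      ⟨hz.1, Subgroup.mem_centralizer_iff.2 fun b hb => comm_of_mem_Z hz (hES hb)⟩
    have hM := (mor_rangeEquiv F hφ).symm
    have hzr : z ∈ φ.range := ⟨_, hφx⟩
    have h1 := sc_map_mem hW hM ⟨z, hzr⟩ hzC
    have h2 : (rangeEquiv F hφ).symm ⟨z, hzr⟩ = ⟨x, Subgroup.mem_zpowers x⟩ := by
      rw [MulEquiv.symm_apply_eq]
      ext
      exact hφx.symm
    have h3 : (((rangeEquiv F hφ).symm ⟨z, hzr⟩ : Subgroup.zpowers x) : Ω) ∈ centralizerIn S E := h1
    rw [h2] at h3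
    exact h3
  intro a ha
  refine ⟨hES ha, Subgroup.mem_centralizer_iff.2 fun s hs => ?_⟩
  exact ((Subgroup.mem_centralizer_iff.1 (hall hs).2) a ha).symm

theorem all_central [Finite S] (hS : IsPGroup 2 S) (F : FusionSystem S)
    (hF : F.IsSaturated 2)
    (h : ∀ x ∈ S, ∃ z ∈ S ⊓ Subgroup.centralizer (S : Set Ω), F.IsConjElt x z) (k : ℕ) :
    ∀ x ∈ S, x ^ 2 ^ k = 1 → x ∈ S ⊓ Subgroup.centralizer (S : Set Ω) := by
  induction k with
  | zero =>
    intro x _ hxk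
    rw [pow_zero, pow_one] at hxk
    rw [hxk]
    exact Subgroup.one_mem _
  | succ k ih =>
    intro x hx hxk
    have hy : x * x ∈ S ⊓ Subgroup.centralizer (S : Set Ω) := by
      apply ih _ (S.mul_mem hx hx)
      rw [← pow_two, ← pow_mul, ← pow_succ']
      exact hxk
    obtain ⟨z, hz, φ, hφ, hφx⟩ := h x hx
    have hle : Subgroup.zpowers (x * x) ≤ Subgroup.zpowers x := by
      rw [Subgroup.zpowers_le]
      exact Subgroup.mul_mem _ (Subgroup.mem_zpowers x) (Subgroup.mem_zpowers x)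
    have hφ' := restrict_mem F hφ hle
    have hP : Subgroup.zpowers (x * x) ≤ S ⊓ Subgroup.centralizer (S : Set Ω) := by
      rwa [Subgroup.zpowers_le]
    have hφz : ∀ w : Subgroup.zpowers x, φ w ∈ S ⊓ Subgroup.centralizer (S : Set Ω) := by
      rintro ⟨_, n, rfl⟩
      have : φ ⟨x ^ n, ⟨n, rfl⟩⟩ = z ^ n := by
        rw [← hφx, ← map_zpow]
        rfl
      show φ ⟨x ^ n, _⟩ ∈ _
      rw [this]
      exact Subgroup.zpow_mem _ hz n
    have hr : (φ.comp (Subgroup.inclusion hle)).range ≤ S ⊓ Subgroup.centralizer (S : Set Ω) := by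
      rintro _ ⟨w, rfl⟩
      exact hφz _
    obtain ⟨α, hα, hα'⟩ := exists_aut_extending hS F hF hP hφ' hr
    have hαy : ((α ⟨x * x, S.mul_mem hx hx⟩ : S) : Ω) = z * z := by
      rw [hα' (x * x) (Subgroup.mem_zpowers _) (S.mul_mem hx hx)]
      show φ ⟨x * x, _⟩ = z * z
      rw [← hφx, ← map_mul]
      rfl
    -- z₁ = α⁻¹ z
    set z₁ : S := α.symm ⟨z, hz.1⟩ with hz₁
    have hz₁c : ∀ s : S, s * z₁ = z₁ * s := by
      intro s
      apply α.injective
      rw [map_mul, map_mul, hz₁, MulEquiv.apply_symm_apply]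
      ext
      exact comm_of_mem_Z hz (α s).2
    have hz₁2 : z₁ * z₁ = ⟨x * x, S.mul_mem hx hx⟩ := by
      apply α.injective
      rw [map_mul, hz₁, MulEquiv.apply_symm_apply]
      ext
      exact hαy.symm
    have hz₁Z : (z₁ : Ω) ∈ S ⊓ Subgroup.centralizer (S : Set Ω) := by
      refine ⟨z₁.2, Subgroup.mem_centralizer_iff.2 fun s hs => ?_⟩
      exact congrArg Subtype.val (hz₁c ⟨s, hs⟩)
    have hw : x * (z₁ : Ω)⁻¹ ∈ invol hS F hF h := by
      refine ⟨S.mul_mem hx (S.inv_mem z₁.2), ?_⟩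
      have h1 : x * (z₁ : Ω) = z₁ * x := congrArg Subtype.val (hz₁c ⟨x, hx⟩)
      have h2 : (z₁ : Ω) * z₁ = x * x := congrArg Subtype.val hz₁2
      have h3 : (z₁ : Ω)⁻¹ * x = x * (z₁ : Ω)⁻¹ := by
        calc (z₁ : Ω)⁻¹ * x = (z₁ : Ω)⁻¹ * (x * z₁) * (z₁ : Ω)⁻¹ := by group
          _ = (z₁ : Ω)⁻¹ * (z₁ * x) * (z₁ : Ω)⁻¹ := by rw [h1]
          _ = x * (z₁ : Ω)⁻¹ := by group
      calc x * (z₁ : Ω)⁻¹ * (x * (z₁ : Ω)⁻¹) = x * ((z₁ : Ω)⁻¹ * x) * (z₁ : Ω)⁻¹ := by group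
        _ = x * (x * (z₁ : Ω)⁻¹) * (z₁ : Ω)⁻¹ := by rw [h3]
        _ = (x * x) * ((z₁ : Ω) * z₁)⁻¹ := by group
        _ = 1 := by rw [h2, mul_inv_cancel]
    have : x = (x * (z₁ : Ω)⁻¹) * z₁ := by group
    rw [this]
    exact Subgroup.mul_mem _ (invol_le_Z hS F hF h hw) hz₁Z

/-- Let F be a saturated fusion system over a finite 2-group S. Suppose that every element of S is F-conjugate to an element of the centre Z(S) (some map of F defined on the cyclic subgroup it generates sends it into Z(S)). Then S is abelian. -/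
theorem result {Ω : Type*} [Group Ω] {S : Subgroup Ω} [Finite S] (hS : IsPGroup 2 ↥S) (F : Cfsg.FusionSystem S) (hF : F.IsSaturated 2) (h : ∀ x ∈ S, ∃ z ∈ S ⊓ Subgroup.centralizer (S : Set Ω), F.IsConjElt x z) : IsMulCommutative ↥S := by
  refine ⟨⟨fun a b => ?_⟩⟩
  obtain ⟨k, hk⟩ := hS b
  have hb := all_central hS F hF h k b b.2 (by simpa using congrArg Subtype.val hk)
  ext
  exact comm_of_mem_Z hb a.2

end Cfsg.Agent.S5274
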