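import Cfsg.Statements.S5276
import Cfsg.Agent.Lib.Helper84.FusionTate3
import Cfsg.Agent.S5096

set_option autoImplicit false
open Cfsg

namespace Cfsg.Agent.S5276

/-- Let p be a prime and F a saturated fusion system over a finite p-group S. Then F is the inner fusion system of S if and only if the normalizer fusion system of S itself in F is the inner fusion system (equivalently, Aut_F(S) is induced by S) and the Frattini subgroup Φ(S) is strongly closed in F. -/
theorem result {Ω : Type*} [Group Ω] {S : Subgroup Ω} [Finite S] (p : ℕ) [Fact p.Prime] (hS : IsPGroup p ↥S) (F : Cfsg.FusionSystem S) (hF : F.IsSaturated p) : (∀ P : Subgroup Ω, F.Hom P = (Cfsg.innerFusionSystem S).Hom P) ↔ (∀ N : Cfsg.FusionSystem (Cfsg.FusionSystem.normalizerIn S S), F.IsNormalizerSystem S N → ∀ P : Subgroup Ω, N.Hom P = (Cfsg.innerFusionSystem (Cfsg.FusionSystem.normalizerIn S S)).Hom P) ∧ F.StronglyClosed ((frattini ↥S).map S.subtype) := by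
  have hcf : ⁅S, S⁆ ≤ (frattini ↥S).map S.subtype := by
    rw [← Subgroup.map_subtype_commutator]
    exact Subgroup.map_mono (Cfsg.Agent.Lib.Helper2.commutator_le_frattini hS)
  constructor
  · intro h
    refine ⟨fun N hN P => ?_, Subgroup.map_subtype_le _, fun R hR φ hφ x => ?_⟩
    · ext φ
      constructor
      · intro hφ
        have hP := (N.le_of_mem hφ).1
        rw [hN P] at hφ
        have h1 := hφ.1
        rw [h] at h1
        obtain ⟨-, g, hg, hgx⟩ := h1
        exact ⟨hP, g, ⟨hg, Subgroup.le_normalizer hg⟩, hgx⟩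
      · intro hφ
        exact Cfsg.Agent.Lib.Helper84.inner_le N P hφ
    · rw [h] at hφ
      obtain ⟨-, g, hg, hgx⟩ := hφ
      rw [hgx]
      obtain ⟨y, hy, hyx⟩ := hR x.2
      have hn : (frattini ↥S).Normal := inferInstance
      refine ⟨⟨g, hg⟩ * y * ⟨g, hg⟩⁻¹, hn.conj_mem y hy _, ?_⟩
      rw [← hyx]
      rfl
  · rintro ⟨hN, hsc⟩
    obtain ⟨N, hNs⟩ := Cfsg.Agent.S5096.result F S le_rfl
    have hNi := hN N hNs
    have hfoc := Cfsg.Agent.Lib.Helper84.focal_le_of_stronglyClosed hS F hF hsc hcf (by
      intro α hα x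
      rw [← Cfsg.Agent.Lib.Helper84.autGroup_normalizerSystem le_rfl hNs,
        Cfsg.Agent.Lib.Helper84.mem_autGroup_iff N
          (Cfsg.Agent.Lib.Helper84.le_normalizerIn le_rfl)] at hα
      have h1 : S.subtype.comp α.toMonoidHom ∈ N.Hom S := hα
      rw [hNi] at h1
      obtain ⟨-, g, hg, hgx⟩ := h1
      have h2 : ((α x : S) : Ω) = g * x * g⁻¹ := hgx x
      rw [h2]
      apply hcf
      have := Subgroup.commutator_mem_commutator (S.inv_mem x.2) hg.1
      rw [commutatorElement_def] at this
      simpa [mul_assoc] using this)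
    have := Cfsg.Agent.Lib.Helper84.eq_inner_of_focal_le_frattini hS F hF hfoc
    intro P
    rw [this]

end Cfsg.Agent.S5276
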