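import Cfsg.Statements.S5292
import Cfsg.Agent.Lib.Helper85.FusModelAut
import Cfsg.Agent.Lib.Helper63.PLength2
import Cfsg.Agent.Lib.Helper11.Solv
import Cfsg.Agent.S5090
import Cfsg.Agent.S5103

set_option autoImplicit false
universe u
open Cfsg

namespace Cfsg.Agent.S5292

open Cfsg.Agent.Lib.Helper85

/-- Let F be a saturated fusion system over a finite p-group S. Then F is the fusion system of some finite p-solvable group on a Sylow p-subgroup if and only if F is constrained (some subgroup normal in F is centric in F) and the group of automorphisms that F induces on its largest normal subgroup O_p(F) is p-solvable. -/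
theorem result {Ω : Type u} [Group Ω] {S : Subgroup Ω} [Finite S] (p : ℕ) [Fact p.Prime] (hS : IsPGroup p S)
    (F : Cfsg.FusionSystem S) (hF : F.IsSaturated p) :
    (∃ (G : Type u) (_ : Group G) (_ : Finite G) (ι : S →* G), Cfsg.IsPSolvable p G ∧ F.IsRealizedBy ι ∧
        ∃ T : Sylow p G, (T : Subgroup G) = ι.range) ↔
      (F.IsConstrained p ∧ Cfsg.IsPSolvable p ↥(F.autGroup F.core)) := by
  have hp : p.Prime := Fact.out
  constructor
  · rintro ⟨G, _, _, ι, hsol, hr, T, hT⟩
    have hK : ¬ p ∣ Nat.card (Cfsg.Agent.Lib.Helper63.ups p G 1) := by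
      rw [Cfsg.Agent.Lib.Helper63.ups_one_eq hp]
      intro h
      have := Cfsg.Agent.Lib.Helper1.pPrimeCore_coprime (G := G) hp
      exact hp.one_lt.ne' (Nat.eq_one_of_dvd_coprimes this h dvd_rfl)
    obtain ⟨hr', hT'⟩ := realized_quotient hr T hT (Cfsg.Agent.Lib.Helper63.ups p G 1) hK
    have hsol' := Cfsg.Agent.Lib.Helper76.isPSolvable_quotient (Cfsg.Agent.Lib.Helper63.ups p G 1) hsol
    have hmod : F.IsModel p (G ⧸ Cfsg.Agent.Lib.Helper63.ups p G 1)
        ((QuotientGroup.mk' (Cfsg.Agent.Lib.Helper63.ups p G 1)).comp ι) :=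
      ⟨inferInstance, hr', hT', Cfsg.Agent.Lib.Helper76.centralizer_pCore_le hsol'
        (Cfsg.Agent.Lib.Helper63.pPrimeCore_quotient_ups_one hp)⟩
    obtain ⟨f, hf, -⟩ := model_exists_hom hmod
    exact ⟨Cfsg.Agent.S5103.result p hS F _ hmod,
      Cfsg.Agent.Lib.Helper76.isPSolvable_of_surjective f hf hsol'⟩
  · rintro ⟨hc, hsol⟩
    obtain ⟨G, _, ι, hG⟩ := Cfsg.Agent.S5090.result p hS F hc
    obtain ⟨f, hf, hk⟩ := model_exists_hom hG
    have := hG.1
    refine ⟨G, _, hG.1, ι, ?_, hG.2.1, hG.2.2.1⟩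
    apply Cfsg.Agent.Lib.Helper11.isPSolvable_of_extension f.ker (Or.inl (IsPGroup.iff_card.mp hk))
    exact Cfsg.Agent.Lib.Helper76.isPSolvable_of_surjective
      (QuotientGroup.quotientKerEquivOfSurjective f hf).symm.toMonoidHom
      (QuotientGroup.quotientKerEquivOfSurjective f hf).symm.surjective hsol

end Cfsg.Agent.S5292
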