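import Cfsg.Statements.S5295
import Cfsg.Agent.Lib.Helper9.FusFactor
import Cfsg.Agent.Lib.Helper9.KInfWeak
import Cfsg.Agent.S5096
import Cfsg.Agent.S5098
import Cfsg.Agent.S5196
import Cfsg.Agent.S1978

set_option autoImplicit false
universe u
open Cfsg

namespace Cfsg.Agent.S5295

/-- Let F be a saturated fusion system over a finite p-group S with p odd. Then the centre Z(F) of F is a direct factor of Z(S): there is a subgroup K of Z(S) with Z(F) ∩ K = 1 and Z(F)K = Z(S). (At the prime 2 this can fail.) -/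
theorem result {Ω : Type u} [Group Ω] {S : Subgroup Ω} [Finite S] (p : ℕ) [Fact p.Prime] (hp : p ≠ 2) (hS : IsPGroup p S)
    (F : Cfsg.FusionSystem S) (hF : F.IsSaturated p) :
    ∃ K : Subgroup Ω, K ≤ (S ⊓ Subgroup.centralizer (S : Set Ω)) ∧ F.center ⊓ K = ⊥ ∧ F.center ⊔ K = (S ⊓ Subgroup.centralizer (S : Set Ω)) := by
  have hchar := Cfsg.Agent.Lib.Helper9.isCharPFunctor_kInfLower.{u} p
  have hWZ : ∀ (Q : Type u) [Group Q] [Finite Q], IsPGroup p Q →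
      Subgroup.center Q ≤ Cfsg.kInfLower Q := fun Q _ _ hQ =>
    ((Cfsg.Agent.S1978.result hQ).2.1).trans (Cfsg.Agent.S1978.result hQ).1
  obtain ⟨Q₀, hQ₀⟩ : ∃ Q₀ : Subgroup Ω, Q₀ = (Cfsg.kInfLower ↥S).map S.subtype := ⟨_, rfl⟩
  have hQS : Q₀ ≤ S := hQ₀ ▸ Subgroup.map_subtype_le _
  have hnor : (Cfsg.kInfLower ↥S).Normal := ⟨fun n hn g => by
    have := hchar.2 ↥S ↥S hS (MulAut.conj g)
    rw [← this]
    exact ⟨n, hn, rfl⟩⟩
  have hSN : S ≤ Subgroup.normalizer (Q₀ : Set Ω) := by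
    intro s hs
    rw [Subgroup.mem_normalizer_iff]
    intro h
    rw [hQ₀]
    constructor
    · rintro ⟨y, hy, rfl⟩
      exact ⟨⟨s, hs⟩ * y * ⟨s, hs⟩⁻¹, hnor.conj_mem y hy _, rfl⟩
    · rintro ⟨y, hy, hyh⟩
      refine ⟨⟨s, hs⟩⁻¹ * y * ⟨s, hs⟩⁻¹⁻¹, hnor.conj_mem y hy _, ?_⟩
      have : (S.subtype y : Ω) = s * h * s⁻¹ := hyh
      simp only [map_mul, map_inv, this]
      simp [mul_assoc]
  have hnS : Cfsg.FusionSystem.normalizerIn S Q₀ = S := inf_eq_left.2 hSN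
  have hfn : F.IsFullyNormalized Q₀ := ⟨hQS, fun Q' _ => by
    rw [hnS]
    exact Subgroup.card_le_of_le inf_le_left⟩
  obtain ⟨N, hN⟩ := Cfsg.Agent.S5096.result F Q₀ hQS
  have hfin : Finite ↥(Cfsg.FusionSystem.normalizerIn S Q₀) := by rw [hnS]; infer_instance
  have hNsat := Cfsg.Agent.S5098.result p hS F hF Q₀ hfn N hN
  have hnorm := Cfsg.Agent.Lib.Helper84.normal_normalizerSystem hQS hN
  have hcen : N.center = F.center := by
    subst hQ₀
    exact Cfsg.Agent.S5196.result hp (fun Q _ => Cfsg.kInfLower Q) hchar.1 hchar.2 hWZ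
      (fun G _ _ P => Cfsg.Agent.Lib.Helper9.local_center_kInfLower hp G P) hS F hF N hN
  have hZ' : Cfsg.FusionSystem.normalizerIn S Q₀ ⊓
      Subgroup.centralizer (Cfsg.FusionSystem.normalizerIn S Q₀ : Set Ω) ≤ Q₀ := by
    rw [hnS, hQ₀]
    rintro z ⟨hz1, hz2⟩
    refine ⟨⟨z, hz1⟩, hWZ ↥S hS ?_, rfl⟩
    rw [Subgroup.mem_center_iff]
    intro s
    apply Subtype.ext
    exact (Subgroup.mem_centralizer_iff.1 hz2) s s.2
  have hSp : IsPGroup p ↥(Cfsg.FusionSystem.normalizerIn S Q₀) :=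
    hS.to_le (inf_le_left : Cfsg.FusionSystem.normalizerIn S Q₀ ≤ S)
  obtain ⟨K, hK1, hK2, hK3⟩ := Cfsg.Agent.Lib.Helper9.fus_direct_factor p hSp N hNsat Q₀ hnorm hZ'
  rw [hcen] at hK2 hK3
  rw [hnS] at hK1 hK3
  exact ⟨K, hK1, hK2, hK3⟩

end Cfsg.Agent.S5295
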