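import Cfsg.Statements.S5296
import Cfsg.Agent.Lib.Helper84.FusionSmallAb3

set_option autoImplicit false
universe u
open Cfsg

namespace Cfsg.Agent.S5296

/-- Small-exponent abelian subgroups of the hyperfocal subgroup control fusion. Let E and F be saturated fusion systems over the same finite p-group S with E contained in F. Suppose that E and F have the same maps between A and B for all subgroups A, B of the hyperfocal subgroup of F that are elementary abelian when p is odd, respectively abelian of exponent dividing 4 when p = 2. Then E = F. -/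
theorem result {Ω : Type u} [Group Ω] {S : Subgroup Ω} [Finite S] (p : ℕ) [Fact p.Prime] (hS : IsPGroup p S)
    (E F : Cfsg.FusionSystem S) (hE : E.IsSaturated p) (hF : F.IsSaturated p) (hEF : E.IsSubsystemOf F)
    (hodd : p ≠ 2 → ∀ A B : Subgroup Ω, A ≤ (F.hyperfocalSubgroup p) → B ≤ (F.hyperfocalSubgroup p) →
      Cfsg.IsElementaryAbelian p A → Cfsg.IsElementaryAbelian p B → E.homSet A B = F.homSet A B)
    (htwo : p = 2 → ∀ A B : Subgroup Ω, A ≤ (F.hyperfocalSubgroup p) → B ≤ (F.hyperfocalSubgroup p) →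
      IsMulCommutative ↥A → IsMulCommutative ↥B → (∀ a ∈ A, a ^ 4 = 1) → (∀ b ∈ B, b ^ 4 = 1) → E.homSet A B = F.homSet A B) :
    ∀ P : Subgroup Ω, E.Hom P = F.Hom P := by
  have hsc := Cfsg.Agent.S5124.result p hS F hF
  intro P
  apply Set.Subset.antisymm (hEF P)
  apply Cfsg.Agent.Lib.Helper84.hom_subset_of_small_abelian p hS E F hE hF hEF
  intro A hAH hcomm hsmall φ hφ
  have hBH : φ.range ≤ F.hyperfocalSubgroup p := by
    rintro _ ⟨a, rfl⟩
    exact hsc.2 A hAH φ hφ a
  have hAc : IsMulCommutative ↥A := ⟨⟨fun a b => Subtype.ext (hcomm a a.2 b b.2)⟩⟩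
  have hBc : IsMulCommutative ↥φ.range := by
    refine ⟨⟨?_⟩⟩
    rintro ⟨_, a, rfl⟩ ⟨_, b, rfl⟩
    apply Subtype.ext
    show φ a * φ b = φ b * φ a
    rw [← map_mul, ← map_mul]
    congr 1
    exact Subtype.ext (hcomm a a.2 b b.2)
  have hmem : φ ∈ F.homSet A φ.range := ⟨hφ, fun x => ⟨x, rfl⟩⟩
  by_cases hp : p = 2
  · have hA4 : ∀ a ∈ A, a ^ 4 = 1 := by
      intro a ha
      rcases hsmall a ha with h1 | ⟨-, h1⟩
      · rw [hp] at h1
        rw [show 4 = 2 * 2 by norm_num, pow_mul, h1, one_pow]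
      · exact h1
    have hB4 : ∀ b ∈ φ.range, b ^ 4 = 1 := by
      rintro _ ⟨a, rfl⟩
      rw [← map_pow]
      have : a ^ 4 = 1 := Subtype.ext (hA4 a a.2)
      rw [this, map_one]
    rw [← htwo hp A φ.range hAH hBH hAc hBc hA4 hB4] at hmem
    exact hmem.1
  · have hAp : ∀ a ∈ A, a ^ p = 1 := by
      intro a ha
      rcases hsmall a ha with h1 | ⟨h2, -⟩
      · exact h1
      · exact absurd h2 hp
    have hBp : ∀ b ∈ φ.range, b ^ p = 1 := by
      rintro _ ⟨a, rfl⟩
      rw [← map_pow]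
      have : a ^ p = 1 := Subtype.ext (hAp a a.2)
      rw [this, map_one]
    rw [← hodd hp A φ.range hAH hBH ⟨hAc, hAp⟩ ⟨hBc, hBp⟩] at hmem
    exact hmem.1

end Cfsg.Agent.S5296
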