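import Cfsg.Statements.S5297
import Cfsg.Agent.Lib.Helper84.FusionSmallCyclic2

set_option autoImplicit false
universe u
open Cfsg

namespace Cfsg.Agent.S5297

/-- Let F be a saturated fusion system over a finite p-group S. If every map of F between cyclic subgroups of the hyperfocal subgroup of F of order p or 4 is a map of the normalizer system of S (it extends to a map of F defined on all of S), then S is normal in F. -/
theorem result {Ω : Type u} [Group Ω] {S : Subgroup Ω} [Finite S] (p : ℕ) [Fact p.Prime] (hS : IsPGroup p S)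
    (F : Cfsg.FusionSystem S) (hF : F.IsSaturated p)
    (h : ∀ A B : Subgroup Ω, A ≤ (F.hyperfocalSubgroup p) → B ≤ (F.hyperfocalSubgroup p) → IsCyclic ↥A → (Nat.card ↥A = p ∨ Nat.card ↥A = 4) → IsCyclic ↥B → (Nat.card ↥B = p ∨ Nat.card ↥B = 4) →
      F.homSet A B ⊆ F.normalizerHom S A) :
    F.IsNormal S := by
  apply Cfsg.Agent.Lib.Helper84.normal_of_small_lcs p hS F hF
  intro P hPS α hα i x hs hxH hαH hxi
  by_cases hx1 : x = 1
  · rw [hx1]; simp
  have hx1' : (x : Ω) ≠ 1 := fun h0 => hx1 (by ext; exact h0)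
  have hαx1 : ((α x : P) : Ω) ≠ 1 := by
    intro h0
    apply hx1
    have : α x = 1 := by ext; exact h0
    exact (map_eq_one_iff α α.injective).1 this
  have hs' : (x : Ω) ^ p = 1 ∨ (p = 2 ∧ (x : Ω) ^ 4 = 1) := by
    rcases hs with hs | ⟨h2, hs⟩
    · left; exact_mod_cast congrArg Subtype.val hs
    · right; exact ⟨h2, by exact_mod_cast congrArg Subtype.val hs⟩
  have hs'' : ((α x : P) : Ω) ^ p = 1 ∨ (p = 2 ∧ ((α x : P) : Ω) ^ 4 = 1) := by
    rcases hs with hs | ⟨h2, hs⟩
    · left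
      have : (α x) ^ p = 1 := by rw [← map_pow, hs, map_one]
      exact_mod_cast congrArg Subtype.val this
    · right
      have : (α x) ^ 4 = 1 := by rw [← map_pow, hs, map_one]
      exact ⟨h2, by exact_mod_cast congrArg Subtype.val this⟩
  have hmem := h (Subgroup.zpowers (x : Ω)) (Subgroup.zpowers ((α x : P) : Ω))
    ((Subgroup.zpowers_le).2 hxH) ((Subgroup.zpowers_le).2 hαH) inferInstance
    (Cfsg.Agent.Lib.Helper84.small_card p hs' hx1') inferInstance
    (Cfsg.Agent.Lib.Helper84.small_card p hs'' hαx1)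
    (Cfsg.Agent.Lib.Helper84.restrict_zpowers_mem F hPS hα x)
  obtain ⟨-, -, -, ψ, -, hψ1, hψ2⟩ := hmem
  have h1 := hψ1 ⟨(x : Ω), Subgroup.mem_zpowers _⟩
  have h2 : ((α x : P) : Ω) = ψ ⟨(x : Ω), (le_sup_left : Subgroup.zpowers (x : Ω) ≤ Subgroup.zpowers (x : Ω) ⊔ S) (Subgroup.mem_zpowers _)⟩ := h1.symm
  rw [h2]
  exact Cfsg.Agent.Lib.Helper84.map_mem_lcs le_sup_right ψ hψ2 i hxi _

end Cfsg.Agent.S5297
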