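import Cfsg.Statements.S5299

set_option autoImplicit false
universe u
open Cfsg

namespace Cfsg.Agent.S5299

/-- an injective map into `B` and a surjective map onto `Q` from the same group: `Q` is involved in `B` -/
theorem involves_of_inj_surj {A B Q : Type*} [Group A] [Group B] [Group Q]
    (j : A →* B) (hj : Function.Injective j) (f : A →* Q) (hf : Function.Surjective f) :
    Involves Q B := by
  let e : A ≃* j.range := MonoidHom.ofInjective hj
  let f' : j.range →* Q := f.comp e.symm.toMonoidHom
  have hf' : Function.Surjective f' := hf.comp e.symm.surjective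
  have hker : (f'.ker.map j.range.subtype).subgroupOf j.range = f'.ker :=
    Subgroup.comap_map_eq_self_of_injective j.range.subtype_injective _
  have hn : ((f'.ker.map j.range.subtype).subgroupOf j.range).Normal := by
    rw [hker]; infer_instance
  refine ⟨j.range, f'.ker.map j.range.subtype, hn, ?_⟩
  have : Nonempty (j.range ⧸ f'.ker ≃* Q) := ⟨QuotientGroup.quotientKerEquivOfSurjective f' hf'⟩
  obtain ⟨e2⟩ := this
  exact ⟨(QuotientGroup.quotientMulEquivOfEq hker).trans e2⟩

theorem result {Ω : Type u} [Group Ω] {S : Subgroup Ω} [Finite S] (p : ℕ) [Fact p.Prime] (hS : IsPGroup p S)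
    (F : Cfsg.FusionSystem S) (hF : F.IsSaturated p) (H : Type*) [Group H] [Finite H] (Q : Subgroup H) (hQ : IsPGroup p Q)
    (hfree : ¬ Cfsg.Involves (↥Q) (↥S)) : F.IsSectionFree p H := by
  intro Q' _ _ N _ L _ ι hmod hinv
  apply hfree
  obtain ⟨hfin, ⟨hι, -⟩, ⟨T, hT⟩, -⟩ := hmod
  obtain ⟨K, R, hR, ⟨e⟩⟩ := hinv
  -- the surjection K → H
  let f : K →* H := e.toMonoidHom.comp (QuotientGroup.mk' (R.subgroupOf K))
  have hf : Function.Surjective f := e.surjective.comp (QuotientGroup.mk'_surjective _)
  -- K1 = preimage of Q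
  let K1 : Subgroup K := Q.comap f
  let f1 : K1 →* Q := (f.comp K1.subtype).codRestrict Q (fun x => x.2)
  have hf1 : Function.Surjective f1 := by
    rintro ⟨y, hy⟩
    obtain ⟨x, rfl⟩ := hf y
    exact ⟨⟨x, hy⟩, rfl⟩
  -- a Sylow p-subgroup of K1 maps onto Q
  obtain ⟨R1⟩ : Nonempty (Sylow p K1) := inferInstance
  have hR1 : (R1 : Subgroup K1).map f1 = ⊤ := by
    have h1 := Sylow.coe_mapSurjective hf1 R1
    rw [← h1]
    have h2 : IsPGroup p (⊤ : Subgroup Q) := hQ.to_subgroup _
    exact ((R1.mapSurjective hf1).3 h2 le_top).symm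
  let f2 : R1 →* Q := f1.comp (R1 : Subgroup K1).subtype
  have hf2 : Function.Surjective f2 := by
    intro y
    have : y ∈ (R1 : Subgroup K1).map f1 := by rw [hR1]; trivial
    obtain ⟨x, hx, rfl⟩ := this
    exact ⟨⟨x, hx⟩, rfl⟩
  -- embedding of R1 into L
  let i1 : R1 →* L := K.subtype.comp (K1.subtype.comp (R1 : Subgroup K1).subtype)
  have hi1 : Function.Injective i1 :=
    K.subtype_injective.comp (K1.subtype_injective.comp (R1 : Subgroup K1).subtype_injective)
  have hp : IsPGroup p i1.range := by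
    have := R1.2
    exact IsPGroup.of_surjective this i1.rangeRestrict i1.rangeRestrict_surjective
  obtain ⟨P', hP'⟩ := hp.exists_le_sylow
  obtain ⟨g, hg⟩ := MulAction.exists_smul_eq L P' T
  let i2 : R1 →* L := (MulAut.conj g).toMonoidHom.comp i1
  have hi2 : Function.Injective i2 := (MulAut.conj g).injective.comp hi1
  have hi2r : ∀ x, i2 x ∈ ι.range := by
    intro x
    rw [← hT, ← hg]
    exact ⟨i1 x, hP' ⟨x, rfl⟩, rfl⟩
  let i3 : R1 →* ι.range := i2.codRestrict ι.range hi2r
  have hi3 : Function.Injective i3 := by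
    intro a b hab
    apply hi2
    exact congrArg Subtype.val hab
  let e2 : ↥(FusionSystem.normalizerIn S Q') ≃* ι.range := MonoidHom.ofInjective hι
  let i4 : R1 →* S := (Subgroup.inclusion (inf_le_left : FusionSystem.normalizerIn S Q' ≤ S)).comp
    (e2.symm.toMonoidHom.comp i3)
  have hi4 : Function.Injective i4 :=
    (Subgroup.inclusion_injective (inf_le_left : FusionSystem.normalizerIn S Q' ≤ S)).comp
      (e2.symm.injective.comp hi3)
  exact involves_of_inj_surj i4 hi4 f2 hf2

end Cfsg.Agent.S5299
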