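import Cfsg.Statements.S5315
import Cfsg.Agent.Lib.Helper85.FusResRel
import Cfsg.Agent.Lib.Helper84.FusionCentral
import Cfsg.Agent.Lib.Helper84.FusionConseq

set_option autoImplicit false
open Cfsg

namespace Cfsg.Agent.S5315

open Cfsg.FusionSystem Cfsg.Agent.Lib.Helper85 Cfsg.Agent.Lib.Helper84 Cfsg.Agent.S5256

section aux

variable {Ω : Type*} [Group Ω] {S : Subgroup Ω} [Finite S] {p : ℕ} [Fact p.Prime]
  {Ω' : Type*} [Group Ω'] {S' : Subgroup Ω'} [Finite S']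

theorem fix_mod (F : FusionSystem S) (E : FusionSystem S') (θ : S →* Ω')
    (hm : F.IsMorphism E θ) (hker : ∀ s : S, θ s = 1 ↔ (s : Ω) ∈ F.center)
    {R : Subgroup Ω} {φ : R →* Ω} (hφ : φ ∈ F.Hom R) (w : R)
    (hw : (w : Ω) ∈ preimageAlong θ E.center) : (w : Ω)⁻¹ * φ w ∈ F.center := by
  obtain ⟨φ', hφ', h1, h2, h3, h4⟩ := hm.2 R φ hφ
  obtain ⟨hwS, hwZ⟩ := mem_preimageAlong.mp hw
  have h5 := apply_eq_of_isCentral E (isCentral_center E) hφ' ⟨θ ⟨w, h1 w.2⟩, h3 w⟩ hwZ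
  have h6 := h4 w
  have : θ (⟨w, h1 w.2⟩⁻¹ * ⟨φ w, h2 w⟩) = 1 := by
    rw [map_mul, map_inv, ← h6, h5]
    simp
  exact (hker _).mp this

theorem pRes_fix (hS : IsPGroup p S) (F : FusionSystem S) (E : FusionSystem S') (θ : S →* Ω')
    (hm : F.IsMorphism E θ) (hker : ∀ s : S, θ s = 1 ↔ (s : Ω) ∈ F.center)
    {Q : Subgroup Ω} (hQS : Q ≤ S) {ρ : F.autGroup Q} (hρ : ρ ∈ pResidual p (F.autGroup Q))
    (z : Q) (hz : (z : Ω) ∈ preimageAlong θ E.center) : (ρ : MulAut Q) z = z := by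
  have key : pResidual p (F.autGroup Q) ≤ MulAction.stabilizer (F.autGroup Q) z := by
    unfold pResidual
    rw [Subgroup.closure_le]
    intro g hg
    rw [SetLike.mem_coe, MulAction.mem_stabilizer_iff]
    show (g : MulAut Q) z = z
    have hgF : Q.subtype.comp (g : MulAut Q).toMonoidHom ∈ F.Hom Q :=
      (mem_autGroup_iff F hQS g).mp g.2
    obtain ⟨ζ, hζdef⟩ : ∃ ζ : Q, ζ = z⁻¹ * (g : MulAut Q) z := ⟨_, rfl⟩
    have hζ : (ζ : Ω) ∈ F.center := by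
      rw [hζdef]
      exact fix_mod F E θ hm hker hgF z hz
    have hgz : (g : MulAut Q) z = z * ζ := by rw [hζdef]; group
    have hgζ : (g : MulAut Q) ζ = ζ :=
      Subtype.ext (apply_eq_of_isCentral F (isCentral_center F) hgF ζ hζ)
    have hpow : ∀ k : ℕ, ((g : MulAut Q) ^ k) z = z * ζ ^ k := by
      intro k
      induction k with
      | zero => simp
      | succ k ih =>
        rw [pow_succ', MulAut.mul_apply, ih, map_mul, map_pow, hgζ, hgz, pow_succ', mul_assoc]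
    have h1 : ζ ^ orderOf g = 1 := by
      have := hpow (orderOf g)
      rw [← Subgroup.coe_pow, pow_orderOf_eq_one] at this
      simpa using this.symm
    obtain ⟨k, hk⟩ := (hS.to_le hQS) ζ
    have hc : Nat.gcd (orderOf g) (p ^ k) = 1 := Nat.Coprime.pow_right k hg
    have h2 := Nat.dvd_gcd (orderOf_dvd_of_pow_eq_one h1) (orderOf_dvd_of_pow_eq_one hk)
    rw [hc, Nat.dvd_one, orderOf_eq_one_iff] at h2
    rw [hgz, h2, mul_one]
  exact key hρ

theorem exists_big (F : FusionSystem S) (E : FusionSystem S') (θ : S →* Ω')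
    (hsm : F.IsSurjectiveMorphism E θ) (hker : ∀ s : S, θ s = 1 ↔ (s : Ω) ∈ F.center)
    {P : Subgroup Ω} (hPS : P ≤ S) {α : F.autGroup P} (hα : α ∈ pResidual p (F.autGroup P)) :
    ∃ (Q : Subgroup Ω) (hPQ : P ≤ Q), Q ≤ S ∧ preimageAlong θ E.center ≤ Q ∧
      ∃ ρ ∈ pResidual p (F.autGroup Q), ∀ x : P,
        (((α : MulAut P) x : P) : Ω)⁻¹ * ((ρ : MulAut Q) (Subgroup.inclusion hPQ x) : Q) ∈
          F.center := by
  obtain ⟨α', hα', h1⟩ := pRes_push p F E θ hsm.1 hPS hα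
  have hP'S' := imageAlong_le θ hsm.1.1 P
  obtain ⟨ρ', hρ', h2⟩ := pRes_extend_central p E (isCentral_center E) hP'S' hα'
  have hQ'S' : imageAlong θ P ⊔ E.center ≤ S' := sup_le hP'S' (isCentral_center E).1
  obtain ⟨ρ, hρ, h3⟩ := pRes_pull p F E θ hsm.2.2 hQ'S' hρ'
  have hPQ : P ≤ preimageAlong θ (imageAlong θ P ⊔ E.center) := fun x hx =>
    mem_preimageAlong.mpr ⟨hPS hx,
      (le_sup_left : imageAlong θ P ≤ _) ⟨⟨x, hPS hx⟩, hx, rfl⟩⟩
  have hQS := preimageAlong_le θ (imageAlong θ P ⊔ E.center)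
  refine ⟨_, hPQ, hQS, ?_, ρ, hρ, fun x => ?_⟩
  · intro x hx
    obtain ⟨h, h'⟩ := mem_preimageAlong.mp hx
    exact mem_preimageAlong.mpr ⟨h, (le_sup_right : E.center ≤ _) h'⟩
  · obtain ⟨b, hb⟩ : ∃ b, b = (ρ : MulAut ↥(preimageAlong θ (imageAlong θ P ⊔ E.center)))
        (Subgroup.inclusion hPQ x) := ⟨_, rfl⟩
    rw [← hb]
    apply (hker (⟨((α : MulAut P) x : P), hPS ((α : MulAut P) x).2⟩⁻¹ * ⟨b, hQS b.2⟩)).mp
    rw [map_mul, map_inv, inv_mul_eq_one, hb]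
    have e3 := congrArg Subtype.val (h3 (Subgroup.inclusion hPQ x))
    have e2 := congrArg Subtype.val (h2 (imageMap θ hPS x))
    have e0 : preimageMap θ (imageAlong θ P ⊔ E.center) (Subgroup.inclusion hPQ x) =
        Subgroup.inclusion le_sup_left (imageMap θ hPS x) := Subtype.ext rfl
    rw [e0] at e3
    rw [e2, h1 x] at e3
    exact e3

theorem center_commute (F : FusionSystem S) {ζ s : Ω} (hζ : ζ ∈ F.center) (hs : s ∈ S) :
    s * ζ = ζ * s := by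
  have hZ := isCentral_center F
  have h := apply_eq_of_isCentral F hZ (F.conj_mem hZ.1 hs) ⟨ζ, hζ⟩ hζ
  have h' : s * ζ * s⁻¹ = ζ := h
  calc s * ζ = s * ζ * s⁻¹ * s := by group
    _ = ζ * s := by rw [h']

theorem hyp_commute (hS : IsPGroup p S) (F : FusionSystem S) (E : FusionSystem S') (θ : S →* Ω')
    (hsm : F.IsSurjectiveMorphism E θ) (hker : ∀ s : S, θ s = 1 ↔ (s : Ω) ∈ F.center)
    {z : Ω} (hz : z ∈ preimageAlong θ E.center) :
    F.hyperfocalSubgroup p ≤ Subgroup.centralizer {z} := by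
  unfold hyperfocalSubgroup
  rw [Subgroup.closure_le]
  rintro _ ⟨P, α, x, hPS, hα, rfl⟩
  obtain ⟨Q, hPQ, hQS, hZQ, ρ, hρ, h⟩ := exists_big F E θ hsm hker hPS hα
  have hzS : z ∈ S := preimageAlong_le _ _ hz
  have hρz : (ρ : MulAut Q) ⟨z, hZQ hz⟩ = ⟨z, hZQ hz⟩ :=
    pRes_fix hS F E θ hsm.1 hker hQS hρ ⟨z, hZQ hz⟩ hz
  have hρF : Q.subtype.comp (ρ : MulAut Q).toMonoidHom ∈ F.Hom Q :=
    (mem_autGroup_iff F hQS ρ).mp ρ.2
  have hc : z⁻¹ * ((x : Ω) * z * (x : Ω)⁻¹) ∈ F.center :=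
    fix_mod F E θ hsm.1 hker (F.conj_mem hQS (hPS x.2)) ⟨z, hZQ hz⟩ hz
  have hρc := apply_eq_of_isCentral F (isCentral_center F) hρF
    ((⟨z, hZQ hz⟩ : Q)⁻¹ * (Subgroup.inclusion hPQ x * (⟨z, hZQ hz⟩ : Q) *
      (Subgroup.inclusion hPQ x)⁻¹)) hc
  have hρc' : (((ρ : MulAut Q) ((⟨z, hZQ hz⟩ : Q)⁻¹ *
      (Subgroup.inclusion hPQ x * (⟨z, hZQ hz⟩ : Q) * (Subgroup.inclusion hPQ x)⁻¹)) : Q) : Ω) =
      z⁻¹ * ((x : Ω) * z * (x : Ω)⁻¹) := hρc
  rw [map_mul, map_inv, map_mul, map_mul, map_inv, hρz] at hρc'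
  obtain ⟨b, hb⟩ : ∃ b : Q, b = (ρ : MulAut Q) (Subgroup.inclusion hPQ x) := ⟨_, rfl⟩
  rw [← hb] at hρc'
  have h1 : (b : Ω) * z * (b : Ω)⁻¹ = (x : Ω) * z * (x : Ω)⁻¹ := by
    have : z⁻¹ * ((b : Ω) * z * (b : Ω)⁻¹) = z⁻¹ * ((x : Ω) * z * (x : Ω)⁻¹) := hρc'
    exact mul_left_cancel this
  have h2 := h x
  rw [← hb] at h2
  have h3 := center_commute F h2 hzS
  rw [SetLike.mem_coe, Subgroup.mem_centralizer_singleton_iff]
  obtain ⟨a, ha⟩ : ∃ a : Ω, a = (((α : MulAut P) x : P) : Ω) := ⟨_, rfl⟩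
  rw [← ha] at h3 ⊢
  -- h1 : b z b⁻¹ = x z x⁻¹, h3 : z (a⁻¹ b) = (a⁻¹ b) z
  have h4 : (x : Ω)⁻¹ * (b : Ω) * z = z * ((x : Ω)⁻¹ * (b : Ω)) := by
    calc (x : Ω)⁻¹ * (b : Ω) * z = (x : Ω)⁻¹ * ((b : Ω) * z * (b : Ω)⁻¹) * (b : Ω) := by group
      _ = z * ((x : Ω)⁻¹ * (b : Ω)) := by rw [h1]; group
  have h5 : (b : Ω)⁻¹ * a * z = z * ((b : Ω)⁻¹ * a) := by
    calc (b : Ω)⁻¹ * a * z = (b : Ω)⁻¹ * a * (z * (a⁻¹ * (b : Ω))) * ((b : Ω)⁻¹ * a) := by group
      _ = z * ((b : Ω)⁻¹ * a) := by rw [h3]; group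
  calc (x : Ω)⁻¹ * a * z = (x : Ω)⁻¹ * (b : Ω) * ((b : Ω)⁻¹ * a * z) := by group
    _ = ((x : Ω)⁻¹ * (b : Ω) * z) * ((b : Ω)⁻¹ * a) := by rw [h5]; group
    _ = z * ((x : Ω)⁻¹ * a) := by rw [h4]; group

theorem fix_of_receptive (hS : IsPGroup p S) (F : FusionSystem S) (hF : F.IsSaturated p)
    (E : FusionSystem S') (θ : S →* Ω')
    (hm : F.IsMorphism E θ) (hker : ∀ s : S, θ s = 1 ↔ (s : Ω) ∈ F.center)
    (hcent : ∀ z ∈ preimageAlong θ E.center, ∀ s ∈ S, s * z = z * s)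
    {R : Subgroup Ω} (hR : R ≤ preimageAlong θ E.center) {χ : R →* Ω} (hχ : χ ∈ F.Hom R)
    (hrec : F.IsReceptive χ.range) (w : R) : χ w = w := by
  obtain ⟨ψ, hψ, hψe⟩ := hrec.2 R χ hχ rfl
  have hRS : R ≤ S := (F.le_of_mem hχ).1
  have hfinR : Finite R := finite_of_le hRS
  have hconj : ∀ g ∈ S, ∀ x ∈ R, g * x * g⁻¹ = x := by
    intro g hg x hx
    rw [hcent x (hR hx) g hg]
    group
  have hSle : S ≤ extender S R χ := by
    intro g hg
    refine Subgroup.subset_closure ⟨hg, ?_, 1, S.one_mem, fun x hx => ?_⟩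
    · apply Lib.Helper85.mem_normalizer_of_finite
      intro x hx
      rw [hconj g hg x hx]
      exact hx
    · have : (⟨g * (x : Ω) * g⁻¹, hx⟩ : R) = x := Subtype.ext (hconj g hg x x.2)
      rw [this]
      simp
  have hψ₁ := Lib.Helper85.restrict_mem F hψ hSle
  obtain ⟨β, hβ⟩ := exists_aut_of_hom F hψ₁ (fun x => (F.le_of_mem hψ₁).2 x)
  have hfa : F.IsFullyAutomized p S := (sat_fullyNormalized hS hF (fullyNormalized_self F)).2.1
  obtain ⟨τ, hτ, β₀, ⟨b₀, hb₀, rfl⟩, hβeq⟩ := exists_mul_of_fullyAutomized F hfa β.2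
  obtain ⟨g, hg, hgx⟩ := Lib.Helper85.mem_autInducedBy_iff.mp hτ
  have hwS : (w : Ω) ∈ S := hRS w.2
  have h1 : (b₀ : MulAut S) ⟨w, hwS⟩ = ⟨w, hwS⟩ :=
    pRes_fix hS F E θ hm hker le_rfl hb₀ ⟨w, hwS⟩ (hR w.2)
  have h2 := hβ ⟨w, hwS⟩
  rw [hβeq, MulAut.mul_apply] at h2
  have h1' : ((F.autGroup S).subtype b₀) ⟨w, hwS⟩ = ⟨w, hwS⟩ := h1
  rw [h1', hgx, hconj g hg w w.2] at h2
  have h3 := hψe w w.2 (hSle hwS)
  rw [← h3]
  exact h2.symm

end aux

/-- An analogue of Grün's lemma for fusion systems. Let F be a saturated fusion system over a finite p-group S that is perfect in the sense that its hyperfocal subgroup is all of S (F coincides with its p-residual subsystem). Then the second centre of F equals its centre: every fusion system over S/(Z(F) ∩ S) that is the factor system of F modulo its centre Z(F), read through the quotient map, has trivial centre. -/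
theorem result {Ω : Type*} [Group Ω] {S : Subgroup Ω} [Finite S] (p : ℕ) [Fact p.Prime] (hS : IsPGroup p S) (F : Cfsg.FusionSystem S) (hF : F.IsSaturated p)
    (hperf : F.hyperfocalSubgroup p = S)
    (E : Cfsg.FusionSystem (⊤ : Subgroup (↥S ⧸ (F.center).subgroupOf S)))
    (hE : F.IsFactorSystem F.center (QuotientGroup.mk' ((F.center).subgroupOf S)) E) : E.center = ⊥ := by
  have hZc := isCentral_center F
  have hsm := Cfsg.Agent.S5134.result p hS F hF F.center (stronglyClosed_of_isCentral F hZc) _ E hE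
  obtain ⟨-, hker, hrange, -⟩ := hE
  generalize QuotientGroup.mk' ((F.center).subgroupOf S) = θ at *
  have hcent : ∀ z ∈ preimageAlong θ E.center, ∀ s ∈ S, s * z = z * s := by
    intro z hz s hs
    have h1 := hyp_commute hS F E θ hsm hker hz
    rw [hperf] at h1
    exact Subgroup.mem_centralizer_singleton_iff.mp (h1 hs)
  have hZle : F.center ≤ preimageAlong θ E.center := by
    intro x hx
    refine mem_preimageAlong.mpr ⟨hZc.1 hx, ?_⟩
    rw [(hker ⟨x, hZc.1 hx⟩).mpr hx]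
    exact E.center.one_mem
  have hZ2c : F.IsCentral (preimageAlong θ E.center) := by
    refine (central_iff hS F hF _).mpr ⟨preimageAlong_le _ _, ?_⟩
    rintro x hx y ⟨φ, hφ, rfl⟩
    have hX : Subgroup.zpowers x ≤ preimageAlong θ E.center := (Subgroup.zpowers_le).2 hx
    obtain ⟨Q, ⟨χ, hχ, rfl⟩, -, hrec⟩ := hF _ (hX.trans (preimageAlong_le _ _))
    have hχw := fix_of_receptive hS F hF E θ hsm.1 hker hcent hX hχ hrec
    have hχr : χ.range = Subgroup.zpowers x := by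
      ext y
      constructor
      · rintro ⟨w, rfl⟩
        rw [hχw]
        exact w.2
      · intro hy
        exact ⟨⟨y, hy⟩, hχw _⟩
    rw [hχr] at hrec
    obtain ⟨ψ, hψ, hψe⟩ := F.inv_mem hφ
    have hψr : ψ.range = Subgroup.zpowers x := by
      ext y
      constructor
      · rintro ⟨⟨_, w, rfl⟩, rfl⟩
        rw [hψe]
        exact w.2
      · intro hy
        exact ⟨⟨φ ⟨y, hy⟩, ⟨_, rfl⟩⟩, hψe _⟩
    have hφr : φ.range ≤ preimageAlong θ E.center := by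
      rintro _ ⟨w, rfl⟩
      have h1 := hZle (fix_mod F E θ hsm.1 hker hφ w (hX w.2))
      have h2 := Subgroup.mul_mem _ (hX w.2) h1
      rwa [mul_inv_cancel_left] at h2
    have h3 := fix_of_receptive hS F hF E θ hsm.1 hker hcent hφr hψ (hψr.symm ▸ hrec)
      ⟨φ ⟨x, Subgroup.mem_zpowers x⟩, ⟨_, rfl⟩⟩
    rw [hψe] at h3
    exact h3.symm
  have hle : preimageAlong θ E.center ≤ F.center := le_sSup hZ2c
  rw [eq_bot_iff]
  intro z' hz'
  have : z' ∈ θ.range := by rw [hrange]; trivial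
  obtain ⟨s, rfl⟩ := this
  have hs : (s : Ω) ∈ F.center := hle (mem_preimageAlong.mpr ⟨s.2, hz'⟩)
  exact (hker s).mpr hs

end Cfsg.Agent.S5315
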