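import Cfsg.Statements.S5332
import Cfsg.Agent.Lib.Helper88.FusNilp5
import Cfsg.Agent.Lib.Lead.ZJFunctor
import Cfsg.Agent.S0659

set_option autoImplicit false
open Cfsg

namespace Cfsg.Agent.S5332

open Cfsg.FusionSystem Cfsg.Agent.Lib.Helper88 Cfsg.Agent.Lib.Helper84 Cfsg.Agent.Lib.Lead

theorem exists_cast {Ω : Type*} [Group Ω] {p : ℕ} {S₁ S : Subgroup Ω} (h : S₁ = S)
    (E₀ : FusionSystem S₁) (hc : E₀.IsConstrained p) (hpf : ¬ PF p E₀) :
    ∃ E : FusionSystem S, E.IsConstrained p ∧ ¬ PF p E ∧ ∀ P, E.Hom P = E₀.Hom P := by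
  subst h
  exact ⟨E₀, hc, hpf, fun _ => rfl⟩

/-- Let p be odd and F a saturated fusion system over a finite p-group S that is not the inner system of S. Then F contains a saturated constrained subsystem over S that is itself not the inner system. -/
theorem result {Ω : Type*} [Group Ω] {S : Subgroup Ω} [Finite S] (p : ℕ) [Fact p.Prime] (hS : IsPGroup p S) (F : Cfsg.FusionSystem S) (hF : F.IsSaturated p) (hp : p ≠ 2) (hne : ∃ P : Subgroup Ω, F.Hom P ≠ (Cfsg.innerFusionSystem S).Hom P) : ∃ E : Cfsg.FusionSystem S, E ≤ F ∧ E.IsConstrained p ∧ ∃ P : Subgroup Ω, E.Hom P ≠ (Cfsg.innerFusionSystem S).Hom P := by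
  have hpf : ¬ PF p F := by
    intro h
    obtain ⟨P, hP⟩ := hne
    apply hP
    rw [h.eq_inner hS hF]
  have hW : ∀ _ : Unit, IsCharPFunctor p zjA := fun _ => isCharPFunctor_zjA
  have crit := @pf_of_group_criterion p _ Unit (fun _ => zjA) hW
      (fun G _ _ P _ hN => Cfsg.Agent.S0659.result hp P (by
        have := hN ()
        rwa [inducedFunctor_zjA] at this))
  have h0 : ¬ NI p F (inducedFunctor zjA S) := fun h => hpf (crit hS F hF (fun _ => h))
  obtain ⟨P₀, hP₀S, hP₀ne, -⟩ := exists_not_ni_of_not_pf hpf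
  have hSne : S ≠ ⊥ := by
    rintro rfl
    exact hP₀ne (le_bot_iff.1 hP₀S)
  have hfinQ : {Q : Subgroup Ω | Q ≠ ⊥ ∧ Q ≤ S ∧ S ≤ Subgroup.normalizer (Q : Set Ω) ∧
      ¬ NI p F Q}.Finite := finite_subgroups_le.subset (fun Q hQ => hQ.2.1)
  obtain ⟨Q, ⟨hQne, hQS, hQn, hQni⟩, hQmax⟩ := Set.exists_max_image _
    (fun Q : Subgroup Ω => Nat.card Q) hfinQ
    ⟨inducedFunctor zjA S, inducedFunctor_ne_bot (hW ()) S hS hSne, inducedFunctor_le S,
      Subgroup.le_normalizer.trans (normalizer_le_normalizer_inducedFunctor (hW ()) S hS), h0⟩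
  have hR : normalizerIn S Q = S := le_antisymm (normalizerIn_le S Q) (fun s hs => ⟨hs, hQn hs⟩)
  have hQfn : F.IsFullyNormalized Q := by
    refine ⟨hQS, fun T' _ => ?_⟩
    rw [hR]
    exact Subgroup.card_le_of_le (normalizerIn_le S T')
  obtain ⟨E, hE⟩ := Cfsg.Agent.S5096.result F Q hQS
  have hEsat := normalizerSystem_saturated hS hF hQfn E hE
  have hEsub := normalizerSystem_subsystem hE
  have hfinN : Finite (normalizerIn S Q) := finite_of_le (normalizerIn_le S Q)
  have hpN : IsPGroup p (normalizerIn S Q) := hS.to_le (normalizerIn_le S Q)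
  have hEpf : ¬ PF p E := by
    intro h
    apply hQni
    intro P hQP hP α hα hαQ
    exact h P hP α (mem_autGroup_normalizerSystem hE hQP hP hα hαQ)
  have hQE : Q ≤ E.core := le_sSup (normal_normalizerSystem hQS hE)
  have hEcon : E.IsConstrained p := by
    apply constrained_of_max hpN (fun _ : Unit => zjA) hW E hEsat
    · intro Ω' _ S' _ _ hS' F' hF' h'
      exact crit hS' F' hF' h'
    · intro h
      apply hQne
      rw [eq_bot_iff, ← h]
      exact hQE
    · intro T hT hTS hTn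
      by_contra hTni
      have hTni' : ¬ NI p F T := fun h => hTni (h.mono hEsub)
      have hTS' : T ≤ S := hTS.trans (normalizerIn_le S Q)
      have h1 := hQmax T ⟨ne_bot_of_gt hT, hTS', fun s hs => hTn (hR.symm ▸ hs : s ∈ normalizerIn S Q),
        hTni'⟩
      have : Finite T := finite_of_le hTS'
      have h2 : Nat.card Q < Nat.card T := card_lt_card_of_lt (lt_of_le_of_lt hQE hT)
      omega
  obtain ⟨E', hE'c, hE'pf, hE'⟩ := exists_cast hR E hEcon hEpf
  refine ⟨E', fun P φ hφ => hEsub P (hE' P ▸ hφ), hE'c, ?_⟩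
  by_contra hcon
  push Not at hcon
  apply hE'pf
  rw [fusionSystem_ext hcon]
  exact pf_inner hS

end Cfsg.Agent.S5332
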