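import Cfsg.Statements.S5343
import Cfsg.Agent.Lib.Helper85.FusRealNormal2

set_option autoImplicit false
universe u
open Cfsg

namespace Cfsg.Agent.S5343

open Cfsg.FusionSystem Cfsg.Agent.Lib.Helper85

/-- Let F be a simple saturated fusion system over a finite p-group S that is realized by some finite group on a Sylow p-subgroup. Then F is realized by a finite simple group on a Sylow p-subgroup. -/
theorem result {Ω : Type u} [Group Ω] {S : Subgroup Ω} [Finite S] (p : ℕ) [Fact p.Prime] (hS : IsPGroup p S) (F : Cfsg.FusionSystem S) (hsimple : F.IsSimple p) (hreal : F.IsRealizable p) : ∃ (G : Type u) (_ : Group G) (_ : Finite G) (_ : IsSimpleGroup G) (ι : ↥S →* G), F.IsRealizedBy ι ∧ ∃ T : Sylow p G, (T : Subgroup G) = ι.range := by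
  classical
  obtain ⟨hsat, hSne, hsimp⟩ := hsimple
  let Pr : ℕ → Prop := fun n => ∃ (G : Type u) (_ : Group G) (_ : Finite G) (ι : ↥S →* G),
    (F.IsRealizedBy ι ∧ ∃ T : Sylow p G, (T : Subgroup G) = ι.range) ∧ Nat.card G = n
  have hex : ∃ n, Pr n := by
    obtain ⟨G, i1, i2, ι, h⟩ := hreal
    exact ⟨_, G, i1, i2, ι, h, rfl⟩
  obtain ⟨G, iG, iF, ι, ⟨hr, T₀, hT₀⟩, hcard⟩ := Nat.find_spec hex
  have hmin : ∀ (H : Type u) [Group H] [Finite H] (j : S →* H), F.IsRealizedBy j →
      (∃ T : Sylow p H, (T : Subgroup H) = j.range) → Nat.card G ≤ Nat.card H := by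
    intro H i1 i2 j h1 h2
    rw [hcard]
    exact Nat.find_min' hex ⟨H, i1, i2, j, ⟨h1, h2⟩, rfl⟩
  refine ⟨G, iG, iF, ?_, ι, hr, T₀, hT₀⟩
  have hnt : Nontrivial G := by
    obtain ⟨s, hs1⟩ := (Subgroup.ne_bot_iff_exists_ne_one).mp hSne
    refine ⟨ι s, 1, fun h => ?_⟩
    apply hs1
    exact (injective_iff_map_eq_one ι).mp hr.1 s h
  refine { exists_pair_ne := hnt.exists_pair_ne, eq_bot_or_eq_top_of_normal := ?_ }
  intro N hN
  by_cases hpN : p ∣ Nat.card N
  · right
    have hnorm := realSub_normal hr T₀ hT₀ N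
    obtain ⟨T₁, hT₁⟩ := realSub_sylow ι T₀ hT₀ N
    rcases hsimp _ _ hnorm with hbot | ⟨hTS, hHom⟩
    · exfalso
      apply T₁.ne_bot_of_dvd_card hpN
      rw [hT₁, eq_bot_iff]
      rintro _ ⟨x, rfl⟩
      have h1 : (x : Ω) ∈ (⊥ : Subgroup Ω) := hbot.le x.2
      have h2 : x = 1 := Subtype.ext h1
      rw [h2, map_one]
      exact Subgroup.one_mem _
    · have hιN : ∀ s : S, ι s ∈ N := fun s =>
        (mem_preimageAlong.mp (hTS.ge s.2 : (s : Ω) ∈ preimageAlong ι N)).2
      have hj : F.IsRealizedBy (ι.codRestrict N hιN) := by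
        refine ⟨fun a b hab => hr.1 (congrArg Subtype.val hab), fun P hP φ hφ => ?_⟩
        rw [← hHom P]
        constructor
        · rintro ⟨_, _, g, hg, h⟩
          exact ⟨⟨g, hg⟩, fun x => Subtype.ext (h x)⟩
        · rintro ⟨g, h⟩
          exact ⟨hP.trans hTS.ge, fun x => hTS.ge (hφ x), g, g.2,
            fun x => congrArg Subtype.val (h x)⟩
      have hjS : ∃ T : Sylow p N, (T : Subgroup N) = (ι.codRestrict N hιN).range := by
        refine ⟨T₁, ?_⟩
        rw [hT₁]
        ext y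
        constructor
        · rintro ⟨x, rfl⟩
          exact ⟨⟨x, hTS.le x.2⟩, rfl⟩
        · rintro ⟨s, rfl⟩
          exact ⟨⟨s, hTS.ge s.2⟩, rfl⟩
      have h1 := hmin N _ hj hjS
      exact Subgroup.eq_top_of_le_card N h1
  · left
    by_contra hne
    obtain ⟨h1, h2⟩ := realized_quotient hr T₀ hT₀ N hpN
    have h3 := hmin (G ⧸ N) _ h1 h2
    have h4 := Subgroup.card_eq_card_quotient_mul_card_subgroup N
    have h5 : 1 < Nat.card N := (Subgroup.one_lt_card_iff_ne_bot N).mpr hne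
    have h6 : 0 < Nat.card (G ⧸ N) := Nat.card_pos
    nlinarith

end Cfsg.Agent.S5343
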