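import Cfsg.Statements.S5396
import Cfsg.Agent.Lib.Helper90.ESModel

set_option autoImplicit false
open Cfsg

namespace Cfsg.Agent.S5396

open Cfsg.Agent.Lib.Helper90

theorem sSup_eq_of {E : Type} [Group E] {r : ℕ} (h1 : Cfsg.PRankLE 2 r E)
    (h2 : ∃ A : Subgroup E, Cfsg.IsElementaryAbelian 2 A ∧ Nat.card A = 2 ^ r) :
    sSup {k : ℕ | ∃ A : Subgroup E, Cfsg.IsElementaryAbelian 2 A ∧ Nat.card A = 2 ^ k} = r := by
  apply IsGreatest.csSup_eq
  refine ⟨h2, ?_⟩
  rintro k ⟨A, hA, hc⟩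
  have := h1 A hA.1 hA.2
  rw [hc] at this
  exact (Nat.pow_le_pow_iff_right (by norm_num)).1 this

/-- For every n ≥ 1 there exist finite extraspecial 2-groups of order 2^(2n+1) whose 2-rank (the largest rank of an elementary abelian subgroup) is n, and ones whose 2-rank is n + 1 (so for each such order there are two non-isomorphic extraspecial 2-groups, told apart by their 2-rank). -/
theorem result (n : ℕ) (hn : 1 ≤ n) : ∀ r ∈ ({n, n + 1} : Set ℕ), ∃ (E : Type) (_ : Group E) (_ : Finite E), Cfsg.IsExtraspecial 2 E ∧ Nat.card E = 2 ^ (2 * n + 1) ∧ sSup {k : ℕ | ∃ A : Subgroup E, Cfsg.IsElementaryAbelian 2 A ∧ Nat.card A = 2 ^ k} = r := by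
  have hpos : 0 < 2 ^ n := by positivity
  intro r hr
  rcases hr with rfl | rfl
  · obtain ⟨ε, hε⟩ : ∃ ε : Fin r → ZMod 2, ε = fun j => if j.val = 0 then 1 else 0 := ⟨_, rfl⟩
    have h0 : ε ⟨0, hn⟩ = 1 := by rw [hε]; simp
    have h1 : ∀ j : Fin r, 1 ≤ j.val → ε j = 0 := by
      intro j hj
      rw [hε]
      have : j.val ≠ 0 := by omega
      simp [this]
    refine ⟨HE ε, inferInstance, inferInstance, HE.isExtraspecial hn, HE.card_HE, ?_⟩
    have hc := HE.count_minus hn h0 h1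
    rcases rank_of_isExtraspecial (HE.isExtraspecial (ε := ε) hn) r HE.card_HE with
      ⟨h2, -, -⟩ | ⟨-, -, h3, h4⟩
    · omega
    · exact sSup_eq_of h3 h4
  · refine ⟨HE (fun _ : Fin n => 0), inferInstance, inferInstance, HE.isExtraspecial hn,
      HE.card_HE, ?_⟩
    have hc := HE.count_plus (ε := fun _ : Fin n => 0) (fun _ => rfl)
    rcases rank_of_isExtraspecial (HE.isExtraspecial (ε := fun _ : Fin n => 0) hn) n
      HE.card_HE with ⟨-, h3, h4⟩ | ⟨-, h2, -, -⟩
    · exact sSup_eq_of h3 h4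
    · omega

end Cfsg.Agent.S5396
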