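import Cfsg.Statements.S5522
import Cfsg.Agent.Lib.Helper92.M12Chain

set_option autoImplicit false
open Cfsg

namespace Cfsg.Agent.S5522

open Cfsg.Agent.Lib.Helper27 Cfsg.Agent.Lib.Helper92

/-- indices of the points outside the dodecad of squares. -/
def outD : List ℕ := [5, 7, 10, 11, 14, 15, 17, 19, 20, 21, 22, 23]

/-- the Boolean test: a fixed point outside the dodecad, or `g ^ 8 = 1` and `g ^ 2 ≠ 1`. -/
def test (c : ℕ) : Bool :=
  bor (anyList (fun i => Nat.beq (ent c i) i) outD)
    (band (isId (mulCode (mulCode (mulCode c c) (mulCode c c)) (mulCode (mulCode c c) (mulCode c c))))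
      (bnot (isId (mulCode c c))))

theorem test_all : allProd test [TD1, TD2, TD3, TD4] idCode = true := by decide +kernel

/-- The Mathieu group M₁₁, realised as the stabiliser of one point of the dodecad of squares inside the stabiliser M₁₂ of that dodecad in M₂₄, acts on the twelve coordinate positions outside the dodecad of squares (its 3-transitive action of degree 12); in this action every element of prime order fixes a point, i.e. the action is elusive. -/
theorem result (g : Equiv.Perm Cfsg.GolayPt) (hg : g ∈ Cfsg.Spor.M11) (hord : (orderOf g).Prime) :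
    ∃ x : Cfsg.GolayPt, x ∉ Cfsg.Spor.squareDodecad ∧ g x = x := by
  rw [M11_eq] at hg
  obtain ⟨c, hv, rfl, hf⟩ := forall_of_covers covers_LD1 test_all g hg
  unfold test at hf
  rw [bor_eq, Bool.or_eq_true, anyList_iff, band_eq, Bool.and_eq_true, bnot_eq_true] at hf
  rcases hf with ⟨i, hi, he⟩ | ⟨h8, h2⟩
  · rw [Nat.beq_eq] at he
    have hout : ∀ i ∈ outD, i < 24 ∧ pt i ∉ unmask maskD := by decide +kernel
    refine ⟨pt i, by rw [squareDodecad_eq]; exact (hout i hi).2, ?_⟩
    rw [permOf_pt hv (hout i hi).1, he]
  · exfalso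
    have hv2 := validCode_mulCode hv hv
    have hv4 := validCode_mulCode hv2 hv2
    have e8 : permOf c ^ 8 = 1 := by
      have := permOf_eq_one h8
      rw [permOf_mulCode hv4 hv4, permOf_mulCode hv2 hv2, permOf_mulCode hv hv] at this
      rw [← this]; simp only [pow_succ, pow_zero, one_mul, mul_assoc]
    have hd : orderOf (permOf c) ∣ 2 ^ 3 := orderOf_dvd_of_pow_eq_one e8
    have h2' : orderOf (permOf c) = 2 :=
      (Nat.prime_dvd_prime_iff_eq hord Nat.prime_two).1 (hord.dvd_of_dvd_pow hd)
    have e2 : permOf c ^ 2 = 1 := by rw [← h2']; exact pow_orderOf_eq_one _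
    have : isId (mulCode c c) = true := by
      apply isId_of_permOf_eq_one hv2
      rw [permOf_mulCode hv hv, ← e2, pow_two]
    rw [this] at h2
    exact absurd h2 (by simp)

end Cfsg.Agent.S5522
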