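import Cfsg.Statements.S5713
import Cfsg.Agent.S0734
import Cfsg.Agent.S3681
import Cfsg.Agent.Lib.Helper86.BabaiP2
import Cfsg.Agent.Lib.Helper86.BabaiP3
import Cfsg.Agent.Lib.Helper86.BabaiP4

set_option autoImplicit false
set_option linter.unusedSectionVars false
open Cfsg



namespace Cfsg.Agent.S5713

open Cfsg.Agent.Lib.Helper86.Babai

section basics

variable (G : Type*) {Ω : Type*} [Group G] [MulAction G Ω] [Fintype Ω] [DecidableEq Ω]

/-- points distinguishing `x` and `y` -/
noncomputable def DS (x y : Ω) : Finset Ω := by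
  classical exact Finset.univ.filter (fun z => ∀ k : G, k • z = z → k • x ≠ y)

/-- the orbital graph of the pair `{a, b}` -/
def OG (a b : Ω) : SimpleGraph Ω :=
  SimpleGraph.fromRel (fun x y => ∃ k : G, k • a = x ∧ k • b = y)

/-- neighbours in the orbital graph -/
noncomputable def NB (a b x : Ω) : Finset Ω := by
  classical exact Finset.univ.filter (fun u => (OG G a b).Adj x u)

variable {G}

theorem mem_DS {x y z : Ω} : z ∈ DS G x y ↔ ∀ k : G, k • z = z → k • x ≠ y := by
  classical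
  simp [DS]

theorem mem_NB {a b x u : Ω} : u ∈ NB G a b x ↔ (OG G a b).Adj x u := by
  classical
  simp [NB]

theorem OG_adj {a b x y : Ω} : (OG G a b).Adj x y ↔
    x ≠ y ∧ ((∃ k : G, k • a = x ∧ k • b = y) ∨ (∃ k : G, k • a = y ∧ k • b = x)) :=
  SimpleGraph.fromRel_adj _ _ _

theorem OG_inv (k : G) {a b x y : Ω} (h : (OG G a b).Adj x y) :
    (OG G a b).Adj (k • x) (k • y) := by
  rw [OG_adj] at h ⊢
  obtain ⟨hne, h⟩ := h
  refine ⟨fun e => hne (MulAction.injective k e), ?_⟩
  rcases h with ⟨l, rfl, rfl⟩ | ⟨l, rfl, rfl⟩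
  · exact Or.inl ⟨k * l, mul_smul _ _ _, mul_smul _ _ _⟩
  · exact Or.inr ⟨k * l, mul_smul _ _ _, mul_smul _ _ _⟩

theorem OG_inv' (k : G) {a b x y : Ω} (h : (OG G a b).Adj (k • x) (k • y)) :
    (OG G a b).Adj x y := by
  have := OG_inv k⁻¹ h
  rwa [inv_smul_smul, inv_smul_smul] at this

theorem DS_tri (x y w : Ω) : DS G x w ⊆ DS G x y ∪ DS G y w := by
  intro z hz
  by_contra hcon
  rw [Finset.mem_union, not_or, mem_DS, mem_DS] at hcon
  push Not at hcon
  obtain ⟨⟨k₁, h1, h1'⟩, ⟨k₂, h2, h2'⟩⟩ := hcon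
  rw [mem_DS] at hz
  apply hz (k₂ * k₁)
  · rw [mul_smul, h1, h2]
  · rw [mul_smul, h1', h2']

theorem DS_symm (x y : Ω) : DS G x y = DS G y x := by
  have key : ∀ x y : Ω, DS G x y ⊆ DS G y x := by
    intro x y z hz
    rw [mem_DS] at hz ⊢
    intro k hk hky
    apply hz k⁻¹
    · rw [inv_smul_eq_iff, hk]
    · rw [inv_smul_eq_iff, hky]
  exact Finset.Subset.antisymm (key x y) (key y x)

theorem DS_smul_le (k : G) (x y : Ω) : (DS G x y).card ≤ (DS G (k • x) (k • y)).card := by
  apply Finset.card_le_card_of_injOn (fun z => k • z)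
  · intro z hz
    have hz' := mem_DS.1 hz
    show k • z ∈ DS G (k • x) (k • y)
    rw [mem_DS]
    intro l hl hl'
    apply hz' (k⁻¹ * l * k)
    · rw [mul_smul, mul_smul, hl, inv_smul_smul]
    · rw [mul_smul, mul_smul, hl', inv_smul_smul]
  · intro z _ z' _ e
    exact MulAction.injective k e

theorem DS_smul_card (k : G) (x y : Ω) : (DS G (k • x) (k • y)).card = (DS G x y).card := by
  apply le_antisymm _ (DS_smul_le k x y)
  have := DS_smul_le k⁻¹ (k • x) (k • y)
  rwa [inv_smul_smul, inv_smul_smul] at this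

theorem DS_card_of_adj {a b x y : Ω} (h : (OG G a b).Adj x y) :
    (DS G x y).card = (DS G a b).card := by
  rw [OG_adj] at h
  rcases h.2 with ⟨l, rfl, rfl⟩ | ⟨l, rfl, rfl⟩
  · exact DS_smul_card l a b
  · rw [DS_symm]; exact DS_smul_card l a b

theorem sep {a b x w z : Ω} (h1 : (OG G a b).Adj x z) (h2 : ¬ (OG G a b).Adj w z) :
    z ∈ DS G x w ∧ z ∈ DS G w x := by
  have h3 : z ∈ DS G x w := by
    rw [mem_DS]
    intro k hk hkx
    apply h2
    have := OG_inv k h1
    rwa [hk, hkx] at this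
  exact ⟨h3, by rw [DS_symm]; exact h3⟩

theorem NB_smul_le (k : G) (a b x : Ω) : (NB G a b x).card ≤ (NB G a b (k • x)).card := by
  apply Finset.card_le_card_of_injOn (fun z => k • z)
  · intro z hz
    show k • z ∈ NB G a b (k • x)
    rw [mem_NB]
    exact OG_inv k (mem_NB.1 hz)
  · intro z _ z' _ e
    exact MulAction.injective k e

theorem NB_card [MulAction.IsPretransitive G Ω] (a b x x' : Ω) :
    (NB G a b x).card = (NB G a b x').card := by
  obtain ⟨k, rfl⟩ := MulAction.exists_smul_eq G x x'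
  apply le_antisymm (NB_smul_le k a b x)
  have := NB_smul_le k⁻¹ a b (k • x)
  rwa [inv_smul_smul] at this

theorem exists_dist_two (Γ : SimpleGraph Ω) (hconn : Γ.Connected) {x y : Ω} (hxy : x ≠ y)
    (hna : ¬ Γ.Adj x y) : ∃ p w, Γ.Adj x p ∧ Γ.Adj p w ∧ x ≠ w ∧ ¬ Γ.Adj x w := by
  obtain ⟨W⟩ := hconn.preconnected x y
  obtain ⟨d, -, hd1, hd2⟩ := W.exists_boundary_dart {u | u = x ∨ Γ.Adj x u} (Or.inl rfl)
    (by
      intro h
      rcases h with h | h
      · exact hxy h.symm
      · exact hna h)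
  have hadj := d.adj
  rw [Set.mem_ofPred_eq, not_or] at hd2
  rcases hd1 with h | h
  · exfalso
    rw [h] at hadj
    exact hd2.2 hadj
  · exact ⟨d.fst, d.snd, h, hadj, fun e => hd2.1 e.symm, hd2.2⟩

end basics

theorem main_nat {G Ω : Type*} [Group G] [Finite G] [MulAction G Ω] [FaithfulSMul G Ω] [Fintype Ω]
    [DecidableEq Ω] (hprim : MulAction.IsPreprimitive G Ω)
    (hA : ¬ alternatingGroup Ω ≤ (MulAction.toPermHom G Ω).range)
    (g : G) (hg : g ≠ 1) (S : Finset Ω) (hS : ∀ z, z ∈ S ↔ g • z ≠ z) :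
    Fintype.card Ω ≤ (2 * S.card + 1) ^ 2 := by
  have htr : MulAction.IsPretransitive G Ω := hprim.toIsPretransitive
  obtain ⟨x₀, hx₀⟩ : ∃ x₀ : Ω, g • x₀ ≠ x₀ := by
    by_contra hcon
    push Not at hcon
    apply hg
    apply FaithfulSMul.eq_of_smul_eq_smul (α := Ω)
    intro a
    rw [hcon a, one_smul]
  have hnt : Nontrivial Ω := ⟨⟨g • x₀, x₀, hx₀⟩⟩
  set y₀ := g • x₀ with hy₀
  have hconnAll : ∀ a b : Ω, a ≠ b → (OG G a b).Connected :=
    fun a b hab => (Cfsg.Agent.S0734.result (G := G) (Ω := Ω)).1 hprim a b hab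
  have hconn := hconnAll x₀ y₀ (Ne.symm hx₀)
  set m := (DS G x₀ y₀).card with hm
  set v := (NB G x₀ y₀ x₀).card with hv
  set n := Fintype.card Ω with hn
  have hmS : m ≤ S.card := by
    apply Finset.card_le_card
    intro z hz
    rw [hS]
    intro e
    exact (mem_DS.1 hz) g e rfl
  have hL1 : n ≤ v * m := card_le_val_mul (G := G) (OG G x₀ y₀) hconn (fun k x y h => OG_inv k h)
    (NB G x₀ y₀) (fun x u => mem_NB) v m (fun x => (NB_card x₀ y₀ x x₀).le) (DS G)
    (fun x y z => mem_DS) (fun x y h => (DS_card_of_adj h).le)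
  by_cases hcomp : ∀ x y : Ω, x ≠ y → (OG G x₀ y₀).Adj x y
  · -- the 2-homogeneous case
    by_contra hcon
    push Not at hcon
    have h2 : ∀ a b c d : Ω, a ≠ b → c ≠ d →
        ∃ k : G, (k • a = c ∧ k • b = d) ∨ (k • a = d ∧ k • b = c) := by
      intro a b c d hab hcd
      have h1 := (OG_adj.1 (hcomp a b hab)).2
      have h2 := (OG_adj.1 (hcomp c d hcd)).2
      rcases h1 with ⟨k₁, rfl, rfl⟩ | ⟨k₁, rfl, rfl⟩ <;> rcases h2 with ⟨k₂, rfl, rfl⟩ | ⟨k₂, rfl, rfl⟩
      · exact ⟨k₂ * k₁⁻¹, Or.inl ⟨by rw [mul_smul, inv_smul_smul], by rw [mul_smul, inv_smul_smul]⟩⟩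
      · exact ⟨k₂ * k₁⁻¹, Or.inr ⟨by rw [mul_smul, inv_smul_smul], by rw [mul_smul, inv_smul_smul]⟩⟩
      · exact ⟨k₂ * k₁⁻¹, Or.inr ⟨by rw [mul_smul, inv_smul_smul], by rw [mul_smul, inv_smul_smul]⟩⟩
      · exact ⟨k₂ * k₁⁻¹, Or.inl ⟨by rw [mul_smul, inv_smul_smul], by rw [mul_smul, inv_smul_smul]⟩⟩
    have hlt : (S.card - 1) ^ 2 < Fintype.card Ω - 1 := by
      have h1 : (S.card - 1) ^ 2 ≤ (2 * S.card + 1) ^ 2 - 1 := by
        have : (S.card - 1) ≤ 2 * S.card := by omega
        have h3 : (S.card - 1) ^ 2 ≤ (2 * S.card) ^ 2 := Nat.pow_le_pow_left this 2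
        have h4 : (2 * S.card + 1) ^ 2 = (2 * S.card) ^ 2 + 4 * S.card + 1 := by ring
        rw [h4]
        generalize (S.card - 1) ^ 2 = P at h3 ⊢
        generalize (2 * S.card) ^ 2 = Q at h3 ⊢
        omega
      show (S.card - 1) ^ 2 < n - 1
      have hQ : 1 ≤ (2 * S.card + 1) ^ 2 := Nat.pos_of_ne_zero (by positivity)
      generalize (S.card - 1) ^ 2 = P at h1 ⊢
      generalize (2 * S.card + 1) ^ 2 = Q at h1 hcon hQ
      omega
    obtain ⟨k, hk1, hk2⟩ := exists_inter_singleton h2 S x₀ ((hS x₀).2 hx₀) hlt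
    have h3 : ((MulAction.toPermHom G Ω g) * (MulAction.toPermHom G Ω (k * g * k⁻¹)) *
        (MulAction.toPermHom G Ω g)⁻¹ * (MulAction.toPermHom G Ω (k * g * k⁻¹))⁻¹).IsThreeCycle := by
      apply Cfsg.Agent.S3681.comm_isThreeCycle _ _ x₀
      · exact hx₀
      · show (k * g * k⁻¹) • x₀ ≠ x₀
        intro e
        apply (hS _).1 hk1
        rw [mul_smul, mul_smul, smul_eq_iff_eq_inv_smul] at e
        exact e
      · intro z hz1 hz2
        apply hk2 z ((hS z).2 hz1)
        rw [hS]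
        intro e
        apply hz2
        show (k * g * k⁻¹) • z = z
        rw [mul_smul, mul_smul, e, smul_inv_smul]
    have hprim' : MulAction.IsPreprimitive (MulAction.toPermHom G Ω).range Ω := by
      let f : Ω →ₑ[(MulAction.toPermHom G Ω).rangeRestrict] Ω :=
        { toFun := id
          map_smul' := fun g a => rfl }
      exact MulAction.IsPreprimitive.of_surjective (f := f) Function.surjective_id
    apply hA
    apply Equiv.Perm.alternatingGroup_le_of_isPreprimitive_of_isThreeCycle_mem hprim' h3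
    exact Subgroup.mul_mem _ (Subgroup.mul_mem _ (Subgroup.mul_mem _ ⟨g, rfl⟩ ⟨_, rfl⟩)
      (Subgroup.inv_mem _ ⟨g, rfl⟩)) (Subgroup.inv_mem _ ⟨_, rfl⟩)
  · push Not at hcomp
    obtain ⟨x, y, hxy, hna⟩ := hcomp
    have hfin : n ≤ 2 * m * m → n ≤ (2 * S.card + 1) ^ 2 := by
      intro h
      have h1 : 2 * m * m ≤ 2 * S.card * S.card := by
        have := Nat.mul_le_mul hmS hmS
        nlinarith
      nlinarith
    by_cases hvm : v ≤ 2 * m
    · apply hfin
      calc n ≤ v * m := hL1
        _ ≤ 2 * m * m := Nat.mul_le_mul_right _ hvm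
    · have hcore : n ≤ 1 + v + m := graph_core (OG G x₀ y₀) hconn (NB G x₀ y₀)
        (fun x u => mem_NB) v m (fun x => NB_card x₀ y₀ x x₀) (DS G) DS_tri
        (fun x y h => (DS_card_of_adj h).le) (fun x w z h1 h2 => sep h1 h2) (by omega)
      obtain ⟨p, w, hxp, hpw, hxw, hnaw⟩ := exists_dist_two (OG G x₀ y₀) hconn hxy hna
      have hconn' := hconnAll x w hxw
      have hD' : (DS G x w).card ≤ 2 * m := by
        calc (DS G x w).card ≤ (DS G x p ∪ DS G p w).card := Finset.card_le_card (DS_tri x p w)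
          _ ≤ (DS G x p).card + (DS G p w).card := Finset.card_union_le _ _
          _ = 2 * m := by rw [DS_card_of_adj hxp, DS_card_of_adj hpw]; ring
      have hN' : ∀ u : Ω, (NB G x w u).card ≤ m := by
        intro u
        have hsub : NB G x w u ⊆ Finset.univ \ insert u (NB G x₀ y₀ u) := by
          intro u' hu'
          rw [mem_NB] at hu'
          rw [Finset.mem_sdiff, Finset.mem_insert, not_or, mem_NB]
          refine ⟨Finset.mem_univ _, fun e => hu'.ne e.symm, ?_⟩
          intro hadj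
          apply hnaw
          rcases (OG_adj.1 hu').2 with ⟨l, rfl, rfl⟩ | ⟨l, rfl, rfl⟩
          · exact OG_inv' l hadj
          · exact (OG_inv' l hadj).symm
        have h1 := Finset.card_le_card hsub
        have hnotin : u ∉ NB G x₀ y₀ u := by
          rw [mem_NB]; exact SimpleGraph.irrefl _
        rw [Finset.card_sdiff_of_subset (Finset.subset_univ _), Finset.card_univ,
          Finset.card_insert_of_notMem hnotin, NB_card x₀ y₀ u x₀] at h1
        omega
      have hL1' : n ≤ m * (2 * m) := card_le_val_mul (G := G) (OG G x w) hconn'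
        (fun k x y h => OG_inv k h) (NB G x w) (fun x u => mem_NB) m (2 * m) hN' (DS G)
        (fun x y z => mem_DS) (fun a b h => by rw [DS_card_of_adj h]; exact hD')
      apply hfin
      calc n ≤ m * (2 * m) := hL1'
        _ = 2 * m * m := by ring

/-- A classification-free minimal-degree bound. Let G be a finite group acting faithfully and primitively on a finite set Ω with n elements, and suppose that the image of G in the symmetric group on Ω does not contain the alternating group on Ω. Then every non-identity element of G moves at least (√n − 1)/2 points of Ω, that is, it fixes at most n − (√n − 1)/2 points. -/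
theorem result {G Ω : Type*} [Group G] [Finite G] [MulAction G Ω] [FaithfulSMul G Ω] [Fintype Ω] [DecidableEq Ω]
    (hprim : MulAction.IsPreprimitive G Ω)
    (hA : ¬ alternatingGroup Ω ≤ (MulAction.toPermHom G Ω).range)
    (g : G) (hg : g ≠ 1) :
    (Real.sqrt (Fintype.card Ω) - 1) / 2 ≤ (Fintype.card Ω : ℝ) - Nat.card (MulAction.fixedBy Ω g) := by
  classical
  set S : Finset Ω := Finset.univ.filter (fun z => g • z ≠ z) with hSdef
  have hS : ∀ z, z ∈ S ↔ g • z ≠ z := by
    intro z
    simp [hSdef]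
  have hmain := main_nat hprim hA g hg S hS
  have hfix : Nat.card (MulAction.fixedBy Ω g) = (Finset.univ.filter (fun z : Ω => g • z = z)).card := by
    rw [Nat.card_eq_fintype_card, Fintype.card_subtype]
    rfl
  have hsum : (Finset.univ.filter (fun z : Ω => g • z = z)).card + S.card = Fintype.card Ω := by
    rw [hSdef]
    exact Finset.card_filter_add_card_filter_not _
  have hreal : (Fintype.card Ω : ℝ) - Nat.card (MulAction.fixedBy Ω g) = S.card := by
    rw [hfix, ← hsum]
    push_cast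
    ring
  rw [hreal]
  have h1 : Real.sqrt (Fintype.card Ω) ≤ 2 * (S.card : ℝ) + 1 := by
    rw [show (2 * (S.card : ℝ) + 1) = Real.sqrt ((2 * (S.card : ℝ) + 1) ^ 2) from
      (Real.sqrt_sq (by positivity)).symm]
    apply Real.sqrt_le_sqrt
    exact_mod_cast hmain
  linarith

end Cfsg.Agent.S5713
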