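import Cfsg.Statements.S5726
import Cfsg.Agent.Lib.Helper95.SylowOrbit

set_option autoImplicit false
open Cfsg

namespace Cfsg.Agent.S5726

/-- If a finite group acts faithfully and transitively on a set with p^k elements, p a prime and k ≥ 1, then some element of order p fixes no point. -/
theorem result {G Ω : Type*} [Group G] [Finite G] [MulAction G Ω] [FaithfulSMul G Ω] [Fintype Ω] (htr : MulAction.IsPretransitive G Ω)
    (p k : ℕ) (hp : p.Prime) (hk : 1 ≤ k) (hΩ : Fintype.card Ω = p ^ k) :
    ∃ g : G, orderOf g = p ∧ ∀ ω : Ω, g • ω ≠ ω := by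
  have : Fact p.Prime := ⟨hp⟩
  obtain ⟨P⟩ : Nonempty (Sylow p G) := inferInstance
  have hcardΩ : Nat.card Ω = p ^ k := by rw [Nat.card_eq_fintype_card, hΩ]
  have htrans : ∀ ω : Ω, MulAction.orbit (P : Subgroup G) ω = Set.univ := by
    intro ω
    have h1 := Cfsg.Agent.Lib.Helper95.sylow_orbit_dvd P ω k (by rw [hcardΩ])
    have hne : (MulAction.orbit (P : Subgroup G) ω).Nonempty := MulAction.nonempty_orbit ω
    have : Nonempty (MulAction.orbit (P : Subgroup G) ω) := hne.to_subtype
    have h2 : Nat.card Ω ≤ Nat.card (MulAction.orbit (P : Subgroup G) ω) := by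
      rw [hcardΩ]; exact Nat.le_of_dvd Nat.card_pos h1
    rw [Nat.card_coe_set_eq] at h2
    by_contra hcon
    have h3 : (MulAction.orbit (P : Subgroup G) ω) ⊂ Set.univ := Set.ssubset_univ_iff.mpr hcon
    have h4 := Set.ncard_lt_ncard h3 (Set.toFinite _)
    rw [Set.ncard_univ] at h4
    omega
  have hΩ2 : 1 < Fintype.card Ω := by
    rw [hΩ]
    exact Nat.one_lt_pow (by omega) hp.one_lt
  obtain ⟨ω₀, ω₁, hne⟩ := Fintype.exists_ne_of_one_lt_card hΩ2 |> fun h => (Fintype.one_lt_card_iff.mp hΩ2)
  have : Nontrivial (P : Subgroup G) := by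
    have hmem : ω₁ ∈ MulAction.orbit (P : Subgroup G) ω₀ := by rw [htrans]; trivial
    obtain ⟨g, hg⟩ := hmem
    refine ⟨g, 1, ?_⟩
    rintro rfl
    simp at hg
    exact hne hg
  have := IsPGroup.center_nontrivial P.isPGroup'
  have hpc : IsPGroup p (Subgroup.center (P : Subgroup G)) := P.isPGroup'.to_subgroup _
  obtain ⟨n, hn⟩ := IsPGroup.iff_card.mp hpc
  have hn0 : n ≠ 0 := by
    rintro rfl
    have := Finite.one_lt_card (α := Subgroup.center (P : Subgroup G))
    rw [hn, pow_zero] at this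
    omega
  have hdvd : p ∣ Nat.card (Subgroup.center (P : Subgroup G)) := by
    rw [hn]; exact dvd_pow_self p hn0
  obtain ⟨z, hz⟩ := exists_prime_orderOf_dvd_card' p hdvd
  refine ⟨((z : (P : Subgroup G)) : G), ?_, ?_⟩
  · rw [Subgroup.orderOf_coe, Subgroup.orderOf_coe, hz]
  · intro ω hω
    have hall : ∀ x : Ω, ((z : (P : Subgroup G)) : G) • x = x := by
      intro x
      have hmem : x ∈ MulAction.orbit (P : Subgroup G) ω := by rw [htrans]; trivial
      obtain ⟨g, rfl⟩ := hmem
      have hcomm : (z : (P : Subgroup G)) * g = g * z := (Subgroup.mem_center_iff.mp z.2 g).symm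
      have hcomm' : ((z : (P : Subgroup G)) : G) * (g : G) = (g : G) * ((z : (P : Subgroup G)) : G) := by
        exact_mod_cast congrArg Subtype.val hcomm
      show ((z : (P : Subgroup G)) : G) • ((g : G) • ω) = (g : G) • ω
      rw [smul_smul, hcomm', mul_smul, hω]
    have h1 : ((z : (P : Subgroup G)) : G) = 1 := by
      apply FaithfulSMul.eq_of_smul_eq_smul (α := Ω)
      intro x
      rw [hall, one_smul]
    have h2 : orderOf ((z : (P : Subgroup G)) : G) = p := by
      rw [Subgroup.orderOf_coe, Subgroup.orderOf_coe, hz]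
    rw [h1, orderOf_one] at h2
    exact hp.one_lt.ne h2

end Cfsg.Agent.S5726
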