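import Cfsg.Statements.S5727
import Cfsg.Agent.Lib.Helper95.SylowOrbit
import Cfsg.Agent.S5726

set_option autoImplicit false
open Cfsg

namespace Cfsg.Agent.S5727

/-- If a finite group acts faithfully and transitively on a set with m·p elements, where p is a prime and 1 ≤ m ≤ p, then some element of order p fixes no point. -/
theorem result {G Ω : Type*} [Group G] [Finite G] [MulAction G Ω] [FaithfulSMul G Ω] [Fintype Ω] (htr : MulAction.IsPretransitive G Ω)
    (p m : ℕ) (hp : p.Prime) (hm : 1 ≤ m) (hmp : m ≤ p) (hΩ : Fintype.card Ω = m * p) :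
    ∃ g : G, orderOf g = p ∧ ∀ ω : Ω, g • ω ≠ ω := by
  classical
  rcases hmp.eq_or_lt with rfl | hlt
  · exact Cfsg.Agent.S5726.result htr m 2 hp (by norm_num) (by rw [hΩ]; ring)
  have : Fact p.Prime := ⟨hp⟩
  obtain ⟨P⟩ : Nonempty (Sylow p G) := inferInstance
  have hcardΩ : Nat.card Ω = m * p := by rw [Nat.card_eq_fintype_card, hΩ]
  have hPp : IsPGroup p (P : Subgroup G) := P.isPGroup'
  -- all orbits have length p
  have horb : ∀ ω : Ω, Nat.card (MulAction.orbit (P : Subgroup G) ω) = p := by
    intro ω
    have h1 := Cfsg.Agent.Lib.Helper95.sylow_orbit_dvd P ω 1 (by rw [hcardΩ, pow_one]; exact Dvd.intro_left m rfl)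
    obtain ⟨n, hn⟩ := hPp.card_orbit ω
    have h2 : Nat.card (MulAction.orbit (P : Subgroup G) ω) ≤ Nat.card Ω :=
      Nat.card_le_card_of_injective _ Subtype.val_injective
    rw [hn] at h1 h2 ⊢
    rw [hcardΩ] at h2
    have h3 : p ^ n < p ^ 2 := by
      calc p ^ n ≤ m * p := h2
        _ < p * p := Nat.mul_lt_mul_of_pos_right hlt hp.pos
        _ = p ^ 2 := by ring
    have h4 : n < 2 := (Nat.pow_lt_pow_iff_right hp.one_lt).mp h3
    have h5 : n ≠ 0 := by
      rintro rfl
      rw [pow_one, pow_zero] at h1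
      exact hp.one_lt.ne' (Nat.dvd_one.mp h1)
    have h6 : n = 1 := by omega
    rw [h6, pow_one]
  have hidx : ∀ ω : Ω, (MulAction.stabilizer (P : Subgroup G) ω).index = p := by
    intro ω
    rw [MulAction.index_stabilizer, ← Nat.card_coe_set_eq, horb]
  have hΩne : Nonempty Ω := by
    rw [← Fintype.card_pos_iff, hΩ]
    exact Nat.mul_pos hm hp.pos
  obtain ⟨ω₀⟩ := hΩne
  have hcardP : ∀ ω : Ω, Nat.card (MulAction.stabilizer (P : Subgroup G) ω) * p = Nat.card (P : Subgroup G) := by
    intro ω
    have h := Subgroup.card_mul_index (MulAction.stabilizer (P : Subgroup G) ω)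
    rwa [hidx ω] at h
  have hminFac : (Nat.card (P : Subgroup G)).minFac = p := by
    obtain ⟨n, hn⟩ := IsPGroup.iff_card.mp hPp
    have hn0 : n ≠ 0 := by
      rintro rfl
      have h := hcardP ω₀
      rw [hn, pow_zero] at h
      exact hp.one_lt.ne' (Nat.eq_one_of_mul_eq_one_left h)
    rw [hn, hp.pow_minFac hn0]
  have hnormal : ∀ ω : Ω, (MulAction.stabilizer (P : Subgroup G) ω).Normal := by
    intro ω
    apply Subgroup.normal_of_index_eq_minFac_card
    rw [hidx, hminFac]
  -- p-th powers are trivial
  have hpow : ∀ g : (P : Subgroup G), g ^ p = 1 := by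
    intro g
    have hall : ∀ ω : Ω, g ^ p ∈ MulAction.stabilizer (P : Subgroup G) ω := by
      intro ω
      have := hnormal ω
      have h := Subgroup.pow_index_mem (MulAction.stabilizer (P : Subgroup G) ω) g
      rwa [hidx] at h
    have h1 : ((g ^ p : (P : Subgroup G)) : G) = 1 := by
      apply FaithfulSMul.eq_of_smul_eq_smul (α := Ω)
      intro x
      rw [one_smul]
      exact hall x
    exact_mod_cast h1
  -- some element of P has no fixed point
  have hex : ∃ g : (P : Subgroup G), ∀ ω : Ω, g • ω ≠ ω := by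
    by_contra hcon
    push Not at hcon
    have : Fintype (P : Subgroup G) := Fintype.ofFinite _
    have key := Finset.card_mul_le_card_mul (s := (Finset.univ : Finset (P : Subgroup G)))
      (t := (Finset.univ : Finset Ω)) (fun g ω => g • ω = ω) (m := p)
      (n := Nat.card (MulAction.stabilizer (P : Subgroup G) ω₀)) ?_ ?_
    · rw [Finset.card_univ, Finset.card_univ, hΩ, ← Nat.card_eq_fintype_card, ← hcardP ω₀] at key
      have hpos : 0 < Nat.card (MulAction.stabilizer (P : Subgroup G) ω₀) := Nat.card_pos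
      have h2 : Nat.card (MulAction.stabilizer (P : Subgroup G) ω₀) * p * p
          ≤ Nat.card (MulAction.stabilizer (P : Subgroup G) ω₀) * p * m := by
        calc _ ≤ m * p * Nat.card (MulAction.stabilizer (P : Subgroup G) ω₀) := key
          _ = _ := by ring
      have h3 := Nat.le_of_mul_le_mul_left h2 (Nat.mul_pos hpos hp.pos)
      omega
    · intro g _
      obtain ⟨ω, hω⟩ := hcon g
      -- g fixes the whole orbit of ω
      have hsub : (MulAction.orbit (P : Subgroup G) ω).toFinset ⊆
          Finset.bipartiteAbove (fun (g : (P : Subgroup G)) (ω : Ω) => g • ω = ω) Finset.univ g := by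
        intro x hx
        rw [Set.mem_toFinset] at hx
        obtain ⟨h, rfl⟩ := hx
        simp only [Finset.bipartiteAbove, Finset.mem_filter, Finset.mem_univ, true_and]
        have hn := hnormal ω
        have h1 : h⁻¹ * g * h⁻¹⁻¹ ∈ MulAction.stabilizer (P : Subgroup G) ω := hn.conj_mem g hω h⁻¹
        rw [inv_inv, MulAction.mem_stabilizer_iff] at h1
        calc g • h • ω = h • ((h⁻¹ * g * h) • ω) := by simp [smul_smul, mul_assoc]
          _ = h • ω := by rw [h1]
      have hc := Finset.card_le_card hsub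
      rw [Set.toFinset_card, ← Nat.card_eq_fintype_card, horb] at hc
      exact hc
    · intro ω _
      have h1 : Finset.bipartiteBelow (fun (g : (P : Subgroup G)) (ω : Ω) => g • ω = ω) Finset.univ ω
          = (MulAction.stabilizer (P : Subgroup G) ω : Set (P : Subgroup G)).toFinset := by
        ext g
        simp [Finset.bipartiteBelow, MulAction.mem_stabilizer_iff]
      rw [h1, Set.toFinset_card, ← Nat.card_eq_fintype_card]
      have h2 := hcardP ω
      rw [← hcardP ω₀] at h2
      exact (Nat.eq_of_mul_eq_mul_right hp.pos h2).le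
  obtain ⟨g, hg⟩ := hex
  refine ⟨(g : G), ?_, fun ω => hg ω⟩
  rw [Subgroup.orderOf_coe]
  apply orderOf_eq_prime (hpow g)
  rintro rfl
  exact hg ω₀ (one_smul _ _)

end Cfsg.Agent.S5727
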