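import Cfsg.Statements.S5728

set_option autoImplicit false
open Cfsg

namespace Cfsg.Agent.S5728

theorem pow_formula {K : Type*} [Field K] (g : Equiv.Perm K) (a c : K)
    (h : ∀ y, g y = a * (y - c) + c) (k : ℕ) : ∀ y, (g ^ k) y = a ^ k * (y - c) + c := by
  induction k with
  | zero => intro y; simp
  | succ k ih =>
    intro y
    rw [pow_succ, Equiv.Perm.mul_apply, ih, h]
    ring

/-- An elusive transitive action. Let p = 2^s − 1 be a prime and let F be the field with p² elements. Inside the group of affine maps x ↦ a·x + b of F (a ≠ 0), consider the subgroup of maps with both coefficients in the prime field. Then every element of prime order of the affine group is conjugate, within the affine group, to an element of that subgroup; equivalently, in the transitive action of the affine group on the cosets of that subgroup (of degree p(p + 1)) every element of prime order fixes a point. -/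
theorem result (p s : ℕ) [Fact p.Prime] (hs : p = 2 ^ s - 1)
    (g : Equiv.Perm (GaloisField p 2)) (hg : g ∈ Cfsg.affineGroup (GaloisField p 2)) (hord : (orderOf g).Prime) :
    ∃ x ∈ Cfsg.affineGroup (GaloisField p 2), ∃ a b : ZMod p, a ≠ 0 ∧
      ∀ y : GaloisField p 2, (x * g * x⁻¹) y = algebraMap (ZMod p) (GaloisField p 2) a * y + algebraMap (ZMod p) (GaloisField p 2) b := by
  obtain ⟨a, b, hab⟩ := hg
  have hp : p.Prime := Fact.out
  by_cases ha : (a : GaloisField p 2) = 1
  · -- translation
    have hb : b ≠ 0 := by
      rintro rfl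
      have : g = 1 := by
        ext y
        simp [hab, ha]
      rw [this, orderOf_one] at hord
      exact Nat.not_prime_one hord
    let x : Equiv.Perm (GaloisField p 2) := Equiv.mulLeft₀ b⁻¹ (inv_ne_zero hb)
    have hxinv : ∀ y, x⁻¹ y = b * y := by
      intro y
      rw [Equiv.Perm.inv_eq_iff_eq]
      show y = b⁻¹ * (b * y)
      field_simp
    refine ⟨x, ⟨Units.mk0 b⁻¹ (inv_ne_zero hb), 0, fun y => by simp [x]⟩, 1, 1, one_ne_zero, ?_⟩
    intro y
    rw [Equiv.Perm.mul_apply, Equiv.Perm.mul_apply, hxinv, hab, ha]
    show b⁻¹ * (1 * (b * y) + b) = _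
    simp only [map_one]
    field_simp
  · -- fixed point c
    have h1a : (1 : GaloisField p 2) - a ≠ 0 := by
      intro h
      exact ha (sub_eq_zero.mp h).symm
    set c : GaloisField p 2 := b / (1 - a) with hc
    have hform : ∀ y, g y = a * (y - c) + c := by
      intro y
      rw [hab, hc]
      field_simp
      ring
    have hpow := pow_formula g a c hform
    -- a ^ r = 1
    have har : (a : GaloisField p 2) ^ orderOf g = 1 := by
      have := hpow (orderOf g) (c + 1)
      rw [pow_orderOf_eq_one] at this
      simp only [Equiv.Perm.coe_one, id_eq, add_sub_cancel_left, mul_one] at this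
      have h2 : c + 1 = c + (a : GaloisField p 2) ^ orderOf g := by rw [this]; ring
      exact (add_left_cancel h2).symm
    have hoa : orderOf (a : GaloisField p 2) = orderOf g := by
      have hdvd := orderOf_dvd_of_pow_eq_one har
      rcases (Nat.dvd_prime hord).mp hdvd with h | h
      · exact absurd (orderOf_eq_one_iff.mp h) ha
      · exact h
    haveI : Fintype (GaloisField p 2) := Fintype.ofFinite _
    have hcard : Fintype.card (GaloisField p 2) = p ^ 2 := by
      rw [Fintype.card_eq_nat_card, GaloisField.card p 2 (by norm_num)]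
    have ha0 : (a : GaloisField p 2) ≠ 0 := a.ne_zero
    have hdvd2 : orderOf g ∣ p ^ 2 - 1 := by
      rw [← hoa, ← hcard]
      exact orderOf_dvd_of_pow_eq_one (FiniteField.pow_card_sub_one_eq_one _ ha0)
    have h2s : 1 ≤ 2 ^ s := Nat.one_le_two_pow
    have hfac : p ^ 2 - 1 = (p - 1) * 2 ^ s := by
      have h1 : p + 1 = 2 ^ s := by omega
      rw [← h1]
      have : 1 ≤ p := hp.one_lt.le
      obtain ⟨k, rfl⟩ : ∃ k, p = k + 1 := ⟨p - 1, by omega⟩
      simp only [Nat.add_sub_cancel]
      have : (k + 1) ^ 2 = k * (k + 1 + 1) + 1 := by ring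
      omega
    have hmem : ∃ a' : ZMod p, algebraMap (ZMod p) (GaloisField p 2) a' = a := by
      rw [hfac] at hdvd2
      rcases (Nat.Prime.dvd_mul hord).mp hdvd2 with h | h
      · -- a^(p-1) = 1
        have h1 : (a : GaloisField p 2) ^ (p - 1) = 1 := by
          rw [← hoa] at h
          exact orderOf_dvd_iff_pow_eq_one.mp h
        have h2 : (a : GaloisField p 2) ^ p = a := by
          have h4 : (a : GaloisField p 2) ^ ((p - 1) + 1) = a := by rw [pow_succ, h1, one_mul]
          have h5 : (p - 1) + 1 = p := by have := hp.one_lt; omega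
          rwa [h5] at h4
        have h3 := (Subfield.mem_bot_iff_pow_eq_self (GaloisField p 2) p).mpr h2
        obtain ⟨n, hn⟩ := (mem_bot_iff_intCast p (GaloisField p 2)).mp h3
        exact ⟨(n : ZMod p), by rw [map_intCast, hn]⟩
      · have h2 : orderOf g = 2 := (Nat.prime_dvd_prime_iff_eq hord Nat.prime_two).mp (hord.dvd_of_dvd_pow h)
        rw [h2] at har
        have : (a : GaloisField p 2) = 1 ∨ (a : GaloisField p 2) = -1 := sq_eq_one_iff.mp har
        rcases this with h | h
        · exact absurd h ha
        · exact ⟨-1, by rw [map_neg, map_one, h]⟩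
    obtain ⟨a', ha'⟩ := hmem
    let x : Equiv.Perm (GaloisField p 2) := Equiv.addRight (-c)
    have hxinv : ∀ y, x⁻¹ y = y + c := by
      intro y
      rw [Equiv.Perm.inv_eq_iff_eq]
      show y = y + c + -c
      ring
    refine ⟨x, ⟨1, -c, fun y => by simp [x]⟩, a', 0, ?_, ?_⟩
    · rintro rfl
      rw [map_zero] at ha'
      exact ha0 ha'.symm
    · intro y
      rw [Equiv.Perm.mul_apply, Equiv.Perm.mul_apply, hxinv, hform, ha']
      show a * (y + c - c) + c + -c = _
      simp

end Cfsg.Agent.S5728
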