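import Cfsg.Statements.S5823
import Cfsg.Agent.Lib.Helper94.SpRow.Refined
import Cfsg.Agent.Lib.Helper94.SpRow.NM

set_option autoImplicit false
open Cfsg

namespace Cfsg.Agent.S5823

/-- Every maximal subgroup of Sp_8(q) is of one of the listed geometric types or lies in the residual class. Let F be a finite field with q elements, f the standard alternating form on F^8 (coordinates Fin 4 ⊕ Fin 4), and H a maximal subgroup of Sp_8(F) (inside GL_8(F)). Then H is the intersection with Sp_8(F) of one of: the stabiliser of a non-zero totally isotropic subspace; the stabiliser of a non-degenerate 2-space; for q ≥ 3, the stabiliser of a decomposition into four mutually orthogonal non-degenerate 2-spaces; of a decomposition into two orthogonal non-degenerate 4-spaces; for q odd, of a decomposition into two totally isotropic 4-spaces; the normaliser of a degree-2 subfield K, self-adjoint with f(k v,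 v) = 0; for q odd, the normaliser of a degree-2 subfield closed under adjoints but not self-adjoint; for q odd, the stabiliser of a tensor decomposition of f into an alternating form on F^2 and a minus-type symmetric form on F^4; a subfield group (|F| = |F₀|^r, r prime) whose F₀-structure carries a non-zero multiple of f; for q = p an odd prime, the normaliser of an absolutely irreducible extraspecial group 2_-^(1+6) of exponent 4 inside the similarity group of f; for q odd, q ≥ 5, the stabiliser of a tensor decomposition of f as a third tensor power of an alternating form on F^2; for q even, the similarity group of a non-degenerate quadratic form polarising to f — or else H lies in the residual class of the symplectic case. -/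
theorem result {F : Type*} [Field F] [Fintype F] (H : Subgroup (Matrix.GeneralLinearGroup (Fin 4 ⊕ Fin 4) F)) (hH : Cfsg.Geo.IsMaximalIn (Cfsg.spGL 4 F) H) :
    (∃ W : Submodule F (Fin 4 ⊕ Fin 4 → F), W ≠ ⊥ ∧ Cfsg.Geo.IsTotallySingularFor (Cfsg.sympForm 4 F) W ∧ H = Cfsg.Geo.subspaceStabilizer W ⊓ Cfsg.spGL 4 F) ∨
    (∃ W : Submodule F (Fin 4 ⊕ Fin 4 → F), W ≠ ⊥ ∧ Cfsg.Geo.IsNondegenerateOn (Cfsg.sympForm 4 F) W ∧ Module.finrank F W < 4 ∧ H = Cfsg.Geo.subspaceStabilizer W ⊓ Cfsg.spGL 4 F) ∨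
    (3 ≤ Fintype.card F ∧ ∃ D : Fin 4 → Submodule F (Fin 4 ⊕ Fin 4 → F), Cfsg.Geo.IsNondegenerateMDecomposition (Cfsg.sympForm 4 F) 2 D ∧ H = Cfsg.Geo.decompositionStabilizer D ⊓ Cfsg.spGL 4 F) ∨
    (∃ D : Fin 2 → Submodule F (Fin 4 ⊕ Fin 4 → F), Cfsg.Geo.IsNondegenerateMDecomposition (Cfsg.sympForm 4 F) 4 D ∧ H = Cfsg.Geo.decompositionStabilizer D ⊓ Cfsg.spGL 4 F) ∨
    (Odd (Fintype.card F) ∧ ∃ D : Fin 2 → Submodule F (Fin 4 ⊕ Fin 4 → F), Cfsg.Geo.IsMDecomposition 4 D ∧ (∀ i, Cfsg.Geo.IsTotallySingularFor (Cfsg.sympForm 4 F) (D i)) ∧ H = Cfsg.Geo.decompositionStabilizer D ⊓ Cfsg.spGL 4 F) ∨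
    (∃ K : Subalgebra F (Matrix (Fin 4 ⊕ Fin 4) (Fin 4 ⊕ Fin 4) F), Cfsg.Geo.IsFieldSubalgebra 2 K ∧ Cfsg.Geo.IsSelfAdjointFor (Cfsg.sympForm 4 F) K ∧ (∀ k ∈ K, ∀ v : (Fin 4 ⊕ Fin 4 → F), (Cfsg.sympForm 4 F) (Matrix.mulVec k v) v = 0) ∧ H = Cfsg.Geo.subalgebraNormalizer K ⊓ Cfsg.spGL 4 F) ∨
    (Odd (Fintype.card F) ∧ ∃ K : Subalgebra F (Matrix (Fin 4 ⊕ Fin 4) (Fin 4 ⊕ Fin 4) F), Cfsg.Geo.IsFieldSubalgebra 2 K ∧ Cfsg.Geo.IsAdjointClosedFor (Cfsg.sympForm 4 F) K ∧ ¬ Cfsg.Geo.IsSelfAdjointFor (Cfsg.sympForm 4 F) K ∧ H = Cfsg.Geo.subalgebraNormalizer K ⊓ Cfsg.spGL 4 F) ∨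
    (Odd (Fintype.card F) ∧ ∃ (e : (Fin 4 ⊕ Fin 4) ≃ Fin 2 × Fin 4) (P : Matrix.GeneralLinearGroup (Fin 4 ⊕ Fin 4) F) (f₁ : (Fin 2 → F) → (Fin 2 → F) → F) (f₂ : (Fin 4 → F) → (Fin 4 → F) → F), Cfsg.Geo.IsSymplecticForm f₁ ∧ Cfsg.Geo.IsSymmetricForm f₂ ∧ ¬ Cfsg.Geo.IsPlusTypeOn (fun v : Fin 4 → F => f₂ v v) ⊤ ∧ Cfsg.Geo.IsTensorFormStructure id (Cfsg.sympForm 4 F) f₁ f₂ e P ∧ H = Cfsg.Geo.tensorProductSubgroup 2 4 e P ⊓ Cfsg.spGL 4 F) ∨
    (∃ (F₀ : Subfield F) (r : ℕ) (P : Matrix.GeneralLinearGroup (Fin 4 ⊕ Fin 4) F) (ζ : F), r.Prime ∧ Fintype.card F = Nat.card F₀ ^ r ∧ ζ ≠ 0 ∧ Cfsg.Geo.IsFormRationalStructure (Cfsg.sympForm 4 F) F₀ ζ P ∧ H = Cfsg.Geo.subfieldSubgroup F₀ P ⊓ Cfsg.spGL 4 F) ∨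
    (∃ (p : ℕ) (R : Subgroup (Matrix.GeneralLinearGroup (Fin 4 ⊕ Fin 4) F)), p.Prime ∧ Odd p ∧ Fintype.card F = p ∧ Cfsg.Geo.IsSymplecticTypeGroup 2 R ∧ Cfsg.Geo.ActsAbsolutelyIrreducibly (Cfsg.Geo.matrixSet R) ∧ R ≤ Cfsg.Geo.similarityGroup (Cfsg.sympForm 4 F) ∧ Nat.card R = 128 ∧ Nat.card (Subgroup.center R) = 2 ∧ Cfsg.Geo.IsOfMinusType 3 R ∧ H = Cfsg.Geo.subgroupNormalizer R ⊓ Cfsg.spGL 4 F) ∨
    (Odd (Fintype.card F) ∧ 5 ≤ Fintype.card F ∧ ∃ (e : (Fin 4 ⊕ Fin 4) ≃ (Fin 3 → Fin 2)) (P : Matrix.GeneralLinearGroup (Fin 4 ⊕ Fin 4) F) (f₁ : (Fin 2 → F) → (Fin 2 → F) → F), Cfsg.Geo.IsSymplecticForm f₁ ∧ Cfsg.Geo.IsTensorPowerFormStructure id (Cfsg.sympForm 4 F) f₁ e P ∧ H = Cfsg.Geo.tensorWreathSubgroup 2 3 e P ⊓ Cfsg.spGL 4 F) ∨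
    (¬ Odd (Fintype.card F) ∧ ∃ Q : (Fin 4 ⊕ Fin 4 → F) → F, Cfsg.Geo.IsNondegenerateQuadraticForm Q ∧ (∀ u v : (Fin 4 ⊕ Fin 4 → F), QuadraticMap.polar Q u v = (Cfsg.sympForm 4 F) u v) ∧ H = Cfsg.Geo.quadSimilarityGroup Q ⊓ Cfsg.spGL 4 F) ∨
    Cfsg.Geo.InSymplecticResidualClass H := by
  classical
  have hq2 : 2 ≤ Fintype.card F := Fintype.one_lt_card
  rcases Cfsg.Agent.Lib.Helper94.SpRow.refined (by norm_num : 2 ≤ 4) H hH with
    ⟨W, h0, h1, h⟩ | ⟨W, h0, h1, h2, h3, h⟩ | ⟨t, k, D, hD, e1, e2, e3, h⟩ | ⟨D, ho, hD, hts, h⟩ |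
    ⟨F₀, r, P, ζ, hr, hc, hζ, hs, h⟩ | ⟨R, p, k, h1, h2, h3, h4, h5, h6, h7, h8, h9, h10, h⟩ |
    ⟨Q, ho, hQ, hp, h⟩ | ⟨r, K, hr, hrm, hK, hs, ha, h⟩ | ⟨K, ho, hK, hc, hn, h⟩ |
    ⟨n₁, n₂, e, P, f₁, f₂, ho, h3, hev, hn, h35, h1, h2, hs, h⟩ |
    ⟨k, t, e, P, f₁, ho, ht, h3, hkt, hx, h1, hs, h⟩ | hR
  · left
    exact ⟨W, h0, h1, h⟩
  · right; left
    exact ⟨W, h0, h1, h2, h⟩
  · have ht2 := hD.decomp.two_le
    have hk0 := hD.decomp.pos
    have htk : (t = 4 ∧ k = 2) ∨ (t = 2 ∧ k = 4) := by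
      have h8 : t * k = 8 := by omega
      rcases e2 with ⟨s, hs⟩
      have : t ≤ 8 := by nlinarith
      interval_cases t <;> omega
    rcases htk with ⟨rfl, rfl⟩ | ⟨rfl, rfl⟩
    · iterate 2 right
      left
      exact ⟨e3 rfl, D, hD, h⟩
    · iterate 3 right
      left
      exact ⟨D, hD, h⟩
  · iterate 4 right
    left
    exact ⟨ho, D, hD, hts, h⟩
  · iterate 8 right
    left
    exact ⟨F₀, r, P, ζ, hr, hc, hζ, hs, h⟩
  · have hk : k = 3 := by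
      have : (2 : ℕ) ^ k = 2 ^ 3 := by rw [← h10]; norm_num
      exact Nat.pow_right_injective (le_refl 2) this
    subst hk
    iterate 9 right
    left
    exact ⟨p, R, h4, h5, h6, h1, h2, h3, by rw [h7]; norm_num, h8, h9, h⟩
  · iterate 11 right
    left
    exact ⟨ho, Q, hQ, hp, h⟩
  · have hr2 : r = 2 := by
      have h4 : r ∣ 2 ^ 2 := by norm_num; exact hrm
      exact (Nat.prime_dvd_prime_iff_eq hr Nat.prime_two).1 (hr.dvd_of_dvd_pow h4)
    subst hr2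
    iterate 5 right
    left
    exact ⟨K, hK, hs, ha, h⟩
  · iterate 6 right
    left
    exact ⟨ho, K, hK, hc, hn, h⟩
  · have hn8 : n₁ * n₂ = 8 := by omega
    have hnn : n₁ = 2 ∧ n₂ = 4 := by
      rcases hev with ⟨s, hs'⟩
      have : n₁ ≤ 2 := by nlinarith
      interval_cases n₁ <;> omega
    obtain ⟨rfl, rfl⟩ := hnn
    iterate 7 right
    left
    refine ⟨ho, e, P, f₁, f₂, h1, h2, ?_, hs, h⟩
    intro hplus
    have h20 : (2 : F) ≠ 0 := by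
      intro h0
      have : CharP F 2 := CharTwo.of_one_ne_zero_of_two_eq_zero one_ne_zero h0
      have h2d : 2 ∣ Fintype.card F := by
        obtain ⟨n, -, hn⟩ := FiniteField.card F 2
        rw [hn]
        exact dvd_pow_self 2 n.ne_zero
      rcases ho with ⟨s, hs'⟩
      omega
    rw [h] at hH
    exact Cfsg.Agent.Lib.Helper94.SpRow.tensor_plus_not_maximal h20 e P f₁ f₂ h1 h2 hplus hs hH
  · have hk8 : k ^ t = 8 := by omega
    have hkt' : k = 2 ∧ t = 3 := by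
      rcases Nat.lt_or_ge k 2 with hk | hk
      · exfalso
        interval_cases k
        · rw [zero_pow (by omega)] at hk8; omega
        · rw [one_pow] at hk8; omega
      · have hk3 : k < 3 := by
          by_contra hcon
          have : 3 ^ 3 ≤ k ^ t :=
            le_trans (Nat.pow_le_pow_right (by norm_num) h3) (Nat.pow_le_pow_left (by omega) t)
          omega
        have hk2 : k = 2 := by omega
        subst hk2
        refine ⟨rfl, ?_⟩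
        have : (2 : ℕ) ^ t = 2 ^ 3 := by rw [hk8]; norm_num
        exact Nat.pow_right_injective (le_refl 2) this
    obtain ⟨rfl, rfl⟩ := hkt'
    iterate 10 right
    left
    refine ⟨ho, ?_, e, P, f₁, h1, hs, h⟩
    rcases ho with ⟨s, hs'⟩
    by_contra hcon
    exact hx ⟨by omega, rfl⟩
  · iterate 12 right
    exact hR

end Cfsg.Agent.S5823
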