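import Cfsg.Statements.S5905

set_option autoImplicit false
open Cfsg

namespace Cfsg.Agent.S5905

/-- The stabiliser of the partition given by the fibres of `f`. -/
def W {Ω β : Type*} (f : Ω → β) : Subgroup (Equiv.Perm Ω) where
  carrier := {g : Equiv.Perm Ω | ∀ x y : Ω, f x = f y ↔ f (g x) = f (g y)}
  mul_mem' {g h} hg hh x y := by
    rw [hh x y, hg (h x) (h y)]
    rfl
  one_mem' x y := Iff.rfl
  inv_mem' {g} hg x y := by
    have := hg (g⁻¹ x) (g⁻¹ y)
    rw [← Equiv.Perm.mul_apply, ← Equiv.Perm.mul_apply, mul_inv_cancel] at this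
    exact this.symm

theorem closure_eq_W {Ω β : Type*} (f : Ω → β) :
    Subgroup.closure {g : Equiv.Perm Ω | ∀ x y : Ω, f x = f y ↔ f (g x) = f (g y)} = W f :=
  Subgroup.closure_eq (W f)

theorem mem_W {Ω β : Type*} (f : Ω → β) (g : Equiv.Perm Ω) :
    g ∈ W f ↔ ∀ x y : Ω, f x = f y ↔ f (g x) = f (g y) := Iff.rfl

/-- coordinates adapted to the partition -/
noncomputable def coords {Ω : Type*} [Finite Ω] (a b : ℕ) (f : Ω → Fin b)
    (hf : ∀ i : Fin b, Nat.card {x : Ω // f x = i} = a) : Ω ≃ Fin b × Fin a :=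
  (Equiv.sigmaFiberEquiv f).symm.trans
    ((Equiv.sigmaCongrRight (fun i => Finite.equivFinOfCardEq (hf i))).trans
      (Equiv.sigmaEquivProd _ _))

theorem coords_fst {Ω : Type*} [Finite Ω] (a b : ℕ) (f : Ω → Fin b)
    (hf : ∀ i : Fin b, Nat.card {x : Ω // f x = i} = a) (x : Ω) :
    (coords a b f hf x).1 = f x := rfl

theorem f_coords_symm {Ω : Type*} [Finite Ω] (a b : ℕ) (f : Ω → Fin b)
    (hf : ∀ i : Fin b, Nat.card {x : Ω // f x = i} = a) (p : Fin b × Fin a) :
    f ((coords a b f hf).symm p) = p.1 := by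
  rw [← coords_fst a b f hf, Equiv.apply_symm_apply]

/-- lift of a permutation of the blocks -/
noncomputable def lift {Ω : Type*} [Finite Ω] (a b : ℕ) (f : Ω → Fin b)
    (hf : ∀ i : Fin b, Nat.card {x : Ω // f x = i} = a) (σ : Equiv.Perm (Fin b)) : Equiv.Perm Ω :=
  (coords a b f hf).symm.permCongr (σ.prodCongr (Equiv.refl _))

theorem f_lift {Ω : Type*} [Finite Ω] (a b : ℕ) (f : Ω → Fin b)
    (hf : ∀ i : Fin b, Nat.card {x : Ω // f x = i} = a) (σ : Equiv.Perm (Fin b)) (x : Ω) :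
    f (lift a b f hf σ x) = σ (f x) := by
  rw [← coords_fst a b f hf, ← coords_fst a b f hf]
  simp [lift, Equiv.permCongr_apply]

theorem lift_mem_W {Ω : Type*} [Finite Ω] (a b : ℕ) (f : Ω → Fin b)
    (hf : ∀ i : Fin b, Nat.card {x : Ω // f x = i} = a) (σ : Equiv.Perm (Fin b)) :
    lift a b f hf σ ∈ W f := by
  intro x y
  rw [f_lift a b f hf, f_lift a b f hf, σ.injective.eq_iff]

theorem f_swap {Ω β : Type*} [DecidableEq Ω] (f : Ω → β) {x y : Ω} (h : f x = f y) (u : Ω) :
    f (Equiv.swap x y u) = f u := by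
  by_cases hx : u = x
  · subst hx; rw [Equiv.swap_apply_left, h]
  by_cases hy : u = y
  · subst hy; rw [Equiv.swap_apply_right, h]
  rw [Equiv.swap_apply_of_ne_of_ne hx hy]

theorem swap_mem_W {Ω β : Type*} [DecidableEq Ω] (f : Ω → β) {x y : Ω} (h : f x = f y) :
    Equiv.swap x y ∈ W f := by
  intro u v
  rw [f_swap f h, f_swap f h]

theorem swap_trans {Ω : Type*} [DecidableEq Ω] (X : Subgroup (Equiv.Perm Ω)) {x y z : Ω}
    (h1 : Equiv.swap x y ∈ X) (h2 : Equiv.swap y z ∈ X) : Equiv.swap x z ∈ X := by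
  by_cases hxy : x = y
  · subst hxy; exact h2
  by_cases hxz : x = z
  · subst hxz; rw [Equiv.swap_self]; exact X.one_mem
  have := Equiv.swap_mul_swap_mul_swap hxy hxz
  rw [Equiv.swap_comm, ← this]
  exact X.mul_mem (X.mul_mem h2 h1) h2

theorem swap_conj {Ω : Type*} [DecidableEq Ω] (X : Subgroup (Equiv.Perm Ω)) {x y : Ω}
    (g : Equiv.Perm Ω) (hg : g ∈ X) (h1 : Equiv.swap x y ∈ X) : Equiv.swap (g x) (g y) ∈ X := by
  rw [Equiv.swap_apply_apply]
  exact X.mul_mem (X.mul_mem hg h1) (X.inv_mem hg)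

theorem W_ne_top {Ω : Type*} [Fintype Ω] [DecidableEq Ω] (a b : ℕ) (ha : 2 ≤ a) (hb : 2 ≤ b)
    (f : Ω → Fin b) (hf : ∀ i : Fin b, Nat.card {x : Ω // f x = i} = a) : W f ≠ ⊤ := by
  intro htop
  set e := coords a b f hf with he
  let x := e.symm (⟨0, by omega⟩, ⟨0, by omega⟩)
  let y := e.symm (⟨0, by omega⟩, ⟨1, by omega⟩)
  let z := e.symm (⟨1, by omega⟩, ⟨0, by omega⟩)
  have hfx : f x = ⟨0, by omega⟩ := f_coords_symm a b f hf _
  have hfy : f y = ⟨0, by omega⟩ := f_coords_symm a b f hf _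
  have hfz : f z = ⟨1, by omega⟩ := f_coords_symm a b f hf _
  have hxy : x ≠ y := by
    intro h
    have := e.symm.injective h
    simp at this
  have hxz : x ≠ z := by
    intro h
    rw [h, hfz] at hfx
    simp at hfx
  have hmem : Equiv.swap y z ∈ W f := by rw [htop]; trivial
  have h1 := (hmem x y).mp (hfx.trans hfy.symm)
  rw [Equiv.swap_apply_left, Equiv.swap_apply_of_ne_of_ne hxy hxz, hfx, hfz] at h1
  simp at h1

/-- Any subgroup properly containing the partition stabiliser is everything. -/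
theorem eq_top_of_W_lt {Ω : Type*} [Fintype Ω] [DecidableEq Ω] (a b : ℕ)
    (f : Ω → Fin b) (hf : ∀ i : Fin b, Nat.card {x : Ω // f x = i} = a)
    (X : Subgroup (Equiv.Perm Ω)) (hX : W f < X) : X = ⊤ := by
  obtain ⟨g, hgX, hgW⟩ := SetLike.exists_of_lt hX
  have hsame : ∀ {x y : Ω}, f x = f y → Equiv.swap x y ∈ X := fun h => hX.le (swap_mem_W f h)
  -- a swap in `X` across two blocks
  obtain ⟨u, v, huv, hr⟩ : ∃ u v, f u ≠ f v ∧ Equiv.swap u v ∈ X := by
    rw [mem_W] at hgW
    push Not at hgW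
    obtain ⟨x, y, h | h⟩ := hgW
    · exact ⟨g x, g y, h.2, swap_conj X g hgX (hsame h.1)⟩
    · refine ⟨x, y, h.1, ?_⟩
      have := swap_conj X g⁻¹ (X.inv_mem hgX) (hsame h.2)
      simpa using this
  have hA : ∀ q, Equiv.swap u q ∈ X := by
    intro q
    by_cases h1 : f q = f u
    · exact hsame h1.symm
    by_cases h2 : f q = f v
    · exact swap_trans X hr (hsame h2.symm)
    have hw := hX.le (lift_mem_W a b f hf (Equiv.swap (f v) (f q)))
    set w := lift a b f hf (Equiv.swap (f v) (f q)) with hwdef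
    have h3 := swap_conj X w hw hr
    have hwu : f (w u) = f u := by
      rw [hwdef, f_lift a b f hf, Equiv.swap_apply_of_ne_of_ne huv (Ne.symm h1)]
    have hwv : f (w v) = f q := by
      rw [hwdef, f_lift a b f hf, Equiv.swap_apply_left]
    exact swap_trans X (swap_trans X (hsame hwu.symm) h3) (hsame hwv)
  rw [eq_top_iff, ← Equiv.Perm.closure_isSwap, Subgroup.closure_le]
  rintro _ ⟨p, q, -, rfl⟩
  have h1 := hA p
  rw [Equiv.swap_comm] at h1
  exact swap_trans X h1 (hA q)

/-- Let Ω be a finite set and f : Ω → Fin b a map onto b ≥ 2 labels whose fibres all have the same size a ≥ 2 (a partition of Ω into b blocks of size a, so |Ω| = ab). Then the stabilizer of this partition in the symmetric group on Ω — the permutations g such that x and y lie in the same block exactly when g x and g y do, a group isomorphic to the imprimitive wreath product S_a ≀ S_b — is a maximal subgroup of the symmetric group. -/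
theorem result {Ω : Type*} [Fintype Ω] [DecidableEq Ω] (a b : ℕ) (ha : 2 ≤ a) (hb : 2 ≤ b)
    (f : Ω → Fin b) (hf : ∀ i : Fin b, Nat.card {x : Ω // f x = i} = a) :
    IsCoatom (Subgroup.closure {g : Equiv.Perm Ω | ∀ x y : Ω, f x = f y ↔ f (g x) = f (g y)}) := by
  rw [closure_eq_W]
  exact ⟨W_ne_top a b ha hb f hf, fun X hX => eq_top_of_W_lt a b f hf X hX⟩

end Cfsg.Agent.S5905
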