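import Cfsg.Statements.S5904
import Cfsg.Agent.S5905

set_option autoImplicit false
open scoped Pointwise
open Cfsg

namespace Cfsg.Agent.S5904

open Cfsg.Agent.S5905

/-- the stabiliser of a half-size subset lies strictly between nothing and the (proper) stabiliser of the
partition into the subset and its complement -/
theorem stabilizer_lt_W {Ω : Type*} [Fintype Ω] [DecidableEq Ω] (hΩ : 2 < Fintype.card Ω)
    (O : Set Ω) (hO : Nat.card O = Nat.card ↥Oᶜ) :
    ∃ L : Subgroup (Equiv.Perm Ω), MulAction.stabilizer (Equiv.Perm Ω) O < L ∧ L ≠ ⊤ := by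
  classical
  let f : Ω → Fin 2 := fun x => if x ∈ O then 0 else 1
  have hf0 : ∀ x, f x = 0 ↔ x ∈ O := by
    intro x
    by_cases hx : x ∈ O <;> simp [f, hx]
  have hf1 : ∀ x, f x = 1 ↔ x ∈ Oᶜ := by
    intro x
    by_cases hx : x ∈ O <;> simp [f, hx]
  have hf : ∀ i : Fin 2, Nat.card {x : Ω // f x = i} = Nat.card O := by
    intro i
    fin_cases i
    · exact Nat.card_congr (Equiv.subtypeEquivRight hf0)
    · rw [hO]
      exact Nat.card_congr (Equiv.subtypeEquivRight hf1)
  have hsum : Nat.card O + Nat.card ↥Oᶜ = Fintype.card Ω := by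
    rw [← Nat.card_eq_fintype_card, Nat.card_coe_set_eq, Nat.card_coe_set_eq,
      Set.ncard_add_ncard_compl]
  have ha : 2 ≤ Nat.card O := by omega
  refine ⟨W f, ?_, W_ne_top _ 2 ha le_rfl f hf⟩
  have hle : MulAction.stabilizer (Equiv.Perm Ω) O ≤ W f := by
    intro g hg
    rw [MulAction.mem_stabilizer_set] at hg
    have hfg : ∀ x, f (g x) = f x := by
      intro x
      have := hg x
      rw [Equiv.Perm.smul_def] at this
      by_cases hx : x ∈ O
      · rw [(hf0 x).mpr hx, (hf0 _).mpr (this.mpr hx)]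
      · rw [(hf1 x).mpr hx, (hf1 _).mpr (fun h => hx (this.mp h))]
    intro x y
    rw [hfg, hfg]
  refine lt_of_le_of_ne hle ?_
  intro heq
  have hmem : lift _ 2 f hf (Equiv.swap 0 1) ∈ MulAction.stabilizer (Equiv.Perm Ω) O := by
    rw [heq]
    exact lift_mem_W _ 2 f hf _
  rw [MulAction.mem_stabilizer_set] at hmem
  have hne : Nonempty O := by
    rw [← Finite.card_pos_iff]
    omega
  obtain ⟨⟨x, hx⟩⟩ := hne
  have h1 := (hmem x).mpr hx
  rw [Equiv.Perm.smul_def, ← hf0, f_lift _ 2 f hf, (hf0 x).mpr hx] at h1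
  simp at h1

/-- Let Ω be a finite set with more than two elements and O ⊆ Ω a subset with exactly as many elements as its complement. Then the setwise stabilizer of O in the symmetric group on Ω is not a maximal subgroup (it is properly contained in the stabilizer of the partition {O, Ω ∖ O}, which is proper). -/
theorem result {Ω : Type*} [Fintype Ω] [DecidableEq Ω] (hΩ : 2 < Fintype.card Ω)
    (O : Set Ω) (hO : Nat.card O = Nat.card ↥Oᶜ) :
    ¬ IsCoatom (MulAction.stabilizer (Equiv.Perm Ω) O) := by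
  intro h
  obtain ⟨L, h1, h2⟩ := stabilizer_lt_W hΩ O hO
  exact h2 (h.2 L h1)

end Cfsg.Agent.S5904
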