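import Cfsg.Statements.S5894
import Cfsg.Agent.S5904
import Cfsg.Agent.Lib.Helper98.Basic

set_option autoImplicit false
open Cfsg

namespace Cfsg.Agent.S5894

open scoped Pointwise
open Cfsg.Agent.Lib.Helper98

/-- Transport of maximality along an injective homomorphism. -/
theorem isCoatom_map_subgroupOf_range {A B : Type*} [Group A] [Group B] (ψ : A →* B)
    (hψ : Function.Injective ψ) (C : Subgroup A) (hC : IsCoatom C) :
    IsCoatom ((C.map ψ).subgroupOf ψ.range) := by
  have hle : C.map ψ ≤ ψ.range := by
    rintro _ ⟨c, _, rfl⟩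
    exact ⟨c, rfl⟩
  rw [isCoatom_subgroupOf_iff hle]
  constructor
  · intro h
    apply hC.1
    rw [MonoidHom.range_eq_map] at h
    exact Subgroup.map_injective hψ h
  · intro L h1 h2
    have h3 : C ≤ L.comap ψ := Subgroup.map_le_iff_le_comap.mp h1
    have h4 : (L.comap ψ).map ψ = L := Subgroup.map_comap_eq_self h2
    rcases hC.le_iff.mp h3 with h | h
    · right
      rw [← h4, h, MonoidHom.range_eq_map]
    · left
      rw [← h4, h]

/-- For every m ≥ 2 the symmetric group on 2m letters has a maximal subgroup M of index 2m together with a maximal subgroup H of M that is not second maximal: some maximal subgroup K of the symmetric group contains H without H being maximal in K. (One may take M the stabiliser of a letter, H ≅ S_m × S_{m−1} inside it, and K ≅ S_m ≀ S₂ the stabiliser of a partition into two m-sets, with H < S_m × S_m < K.) So the prime-index hypothesis in the second-maximality criterion cannot be relaxed to any even index ≥ 4. -/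
theorem result (m : ℕ) (hm : 2 ≤ m) :
    ∃ M H K : Subgroup (Equiv.Perm (Fin (2 * m))), IsCoatom M ∧ M.index = 2 * m ∧ H ≤ M ∧ IsCoatom (H.subgroupOf M) ∧
      IsCoatom K ∧ H ≤ K ∧ ¬ IsCoatom (H.subgroupOf K) := by
  classical
  let α : Fin (2 * m) := ⟨0, by omega⟩
  let β : Fin (2 * m) := ⟨1, by omega⟩
  let γ : Fin (2 * m) := ⟨m, by omega⟩
  let O : Set (Fin (2 * m)) := {x | x.val < m}
  let p : Fin (2 * m) → Prop := fun x => x ≠ α
  let O' : Set (Subtype p) := {x | x.val.val < m}
  let ψ : Equiv.Perm (Subtype p) →* Equiv.Perm (Fin (2 * m)) := Equiv.Perm.ofSubtype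
  have hψ : Function.Injective ψ := Equiv.Perm.ofSubtype_injective
  have hrange : ψ.range = MulAction.stabilizer (Equiv.Perm (Fin (2 * m))) α := by
    ext g
    rw [MulAction.mem_stabilizer_iff, Equiv.Perm.smul_def]
    constructor
    · rintro ⟨g', rfl⟩
      exact Equiv.Perm.ofSubtype_apply_of_not_mem g' (by simp [p])
    · intro hg
      have h1 : ∀ x, p (g x) ↔ p x := by
        intro x
        simp only [p, ne_eq, not_iff_not]
        constructor
        · intro h
          apply g.injective
          rw [h, hg]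
        · intro h
          rw [h, hg]
      refine ⟨g.subtypePerm h1, Equiv.Perm.ofSubtype_subtypePerm h1 ?_⟩
      intro x hx hxα
      apply hx
      rw [hxα, hg]
  have hNt : Nontrivial (Fin (2 * m)) := ⟨⟨α, β, by simp [α, β, Fin.ext_iff]⟩⟩
  have hcardΩ' : Nat.card (Subtype p) = 2 * m - 1 := by
    rw [Nat.card_eq_fintype_card, Fintype.card_subtype_compl]
    simp
  have hC : IsCoatom (MulAction.stabilizer (Equiv.Perm (Subtype p)) O') := by
    apply Equiv.Perm.isCoatom_stabilizer
    · exact ⟨⟨β, by simp [p, α, β, Fin.ext_iff]⟩, by simp [O', β]; omega⟩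
    · exact ⟨⟨γ, by simp [p, α, γ, Fin.ext_iff]; omega⟩, by simp [O', γ]⟩
    · rw [hcardΩ']
      omega
  have hOcard : Nat.card O = Nat.card ↥Oᶜ := by
    apply Nat.card_congr
    refine Equiv.subtypeEquiv Fin.revPerm ?_
    intro a
    simp only [O, Set.mem_ofPred_eq, Set.mem_compl_iff, Fin.revPerm_apply, Fin.val_rev]
    omega
  obtain ⟨L, hL1, hL2⟩ := Cfsg.Agent.S5904.stabilizer_lt_W (Ω := Fin (2 * m))
    (by simp; omega) O hOcard
  obtain ⟨K, hK, hLK⟩ := (eq_top_or_exists_le_coatom L).resolve_left hL2
  have hHO : (MulAction.stabilizer (Equiv.Perm (Subtype p)) O').map ψ ≤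
      MulAction.stabilizer (Equiv.Perm (Fin (2 * m))) O := by
    rintro _ ⟨g', hg', rfl⟩
    rw [SetLike.mem_coe, MulAction.mem_stabilizer_set] at hg'
    rw [MulAction.mem_stabilizer_set]
    intro x
    rw [Equiv.Perm.smul_def]
    by_cases hx : p x
    · have h1 : ψ g' x = g' ⟨x, hx⟩ := Equiv.Perm.ofSubtype_apply_of_mem g' hx
      rw [h1]
      exact hg' ⟨x, hx⟩
    · have h1 : ψ g' x = x := Equiv.Perm.ofSubtype_apply_of_not_mem g' hx
      rw [h1]
  have hHM : (MulAction.stabilizer (Equiv.Perm (Subtype p)) O').map ψ ≤ ψ.range := by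
    rintro _ ⟨c, _, rfl⟩
    exact ⟨c, rfl⟩
  refine ⟨ψ.range, (MulAction.stabilizer (Equiv.Perm (Subtype p)) O').map ψ, K, ?_, ?_, hHM,
    isCoatom_map_subgroupOf_range ψ hψ _ hC, hK, hHO.trans (hL1.le.trans hLK), ?_⟩
  · rw [hrange]
    exact MulAction.IsPreprimitive.isCoatom_stabilizer_of_isPreprimitive _ α
  · rw [hrange, MulAction.index_stabilizer_of_transitive]
    simp
  · intro hco
    rw [isCoatom_subgroupOf_iff (hHO.trans (hL1.le.trans hLK))] at hco
    rcases hco.2 _ hHO (hL1.le.trans hLK) with h | h
    · -- `swap α β` stabilises `O` but moves `α`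
      have h1 : Equiv.swap α β ∈ MulAction.stabilizer (Equiv.Perm (Fin (2 * m))) O := by
        rw [MulAction.mem_stabilizer_set]
        intro x
        rw [Equiv.Perm.smul_def]
        by_cases hxa : x = α
        · subst hxa
          simp [O, α, β]; omega
        by_cases hxb : x = β
        · subst hxb
          simp [O, α, β]; omega
        rw [Equiv.swap_apply_of_ne_of_ne hxa hxb]
      rw [h] at h1
      have h2 := hHM h1
      rw [hrange, MulAction.mem_stabilizer_iff, Equiv.Perm.smul_def, Equiv.swap_apply_left] at h2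
      simp [α, β, Fin.ext_iff] at h2
    · rw [h] at hL1
      exact absurd hLK (not_le_of_gt hL1)

end Cfsg.Agent.S5894
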