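import Cfsg.Statements.S5895
import Cfsg.Agent.S5894

set_option autoImplicit false
open Cfsg

namespace Cfsg.Agent.S5895

open Cfsg.Agent.Lib.Helper98 SemidirectProduct

section general

variable {N B : Type*} [CommGroup N] [Group B] (φ : B →* MulAut N)

/-- the subgroup `U ⋊ C` -/
def X (U : Subgroup N) (C : Subgroup B) (h : ∀ c ∈ C, ∀ u ∈ U, φ c u ∈ U) :
    Subgroup (N ⋊[φ] B) where
  carrier := {g | g.left ∈ U ∧ g.right ∈ C}
  mul_mem' {g k} hg hk := by
    refine ⟨?_, C.mul_mem hg.2 hk.2⟩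
    rw [mul_left]
    exact U.mul_mem hg.1 (h _ hg.2 _ hk.1)
  one_mem' := ⟨U.one_mem, C.one_mem⟩
  inv_mem' {g} hg := by
    refine ⟨?_, C.inv_mem hg.2⟩
    rw [inv_left]
    exact h _ (C.inv_mem hg.2) _ (U.inv_mem hg.1)

theorem isCoatom_range_inr [Nontrivial N]
    (hirr : ∀ U : Subgroup N, (∀ b, ∀ u ∈ U, φ b u ∈ U) → U = ⊥ ∨ U = ⊤) :
    IsCoatom (inr : B →* N ⋊[φ] B).range := by
  constructor
  · intro h
    obtain ⟨n, hn⟩ := exists_ne (1 : N)
    have : (inl n : N ⋊[φ] B) ∈ (inr : B →* N ⋊[φ] B).range := by rw [h]; trivial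
    obtain ⟨b, hb⟩ := this
    have := congrArg SemidirectProduct.left hb
    simp at this
    exact hn this.symm
  · intro Y hY
    have hinr : ∀ b, (inr b : N ⋊[φ] B) ∈ Y := fun b => hY.le ⟨b, rfl⟩
    obtain ⟨g, hgY, hg⟩ := SetLike.exists_of_lt hY
    have hinv : ∀ b, ∀ u ∈ Y.comap (inl : N →* N ⋊[φ] B), φ b u ∈ Y.comap (inl : N →* N ⋊[φ] B) := by
      intro b u hu
      change inl (φ b u) ∈ Y
      rw [inl_aut]
      exact Y.mul_mem (Y.mul_mem (hinr b) hu) (hinr _)
    have hgl : g.left ∈ Y.comap (inl : N →* N ⋊[φ] B) := by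
      change inl g.left ∈ Y
      have h1 : inl g.left = g * (inr g.right)⁻¹ := by
        rw [eq_mul_inv_iff_mul_eq, inl_left_mul_inr_right]
      rw [h1]
      exact Y.mul_mem hgY (Y.inv_mem (hinr _))
    rcases hirr _ hinv with h | h
    · exfalso
      rw [h, Subgroup.mem_bot] at hgl
      apply hg
      refine ⟨g.right, ?_⟩
      rw [← inl_left_mul_inr_right g, hgl]
      simp
    · rw [eq_top_iff]
      intro x _
      rw [← inl_left_mul_inr_right x]
      have : x.left ∈ Y.comap (inl : N →* N ⋊[φ] B) := by rw [h]; trivial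
      exact Y.mul_mem this (hinr _)

theorem main [Finite N] [Finite B] [Nontrivial N]
    (hirr : ∀ U : Subgroup N, (∀ b, ∀ u ∈ U, φ b u ∈ U) → U = ⊥ ∨ U = ⊤)
    (C : Subgroup B) (hC : IsCoatom C) (U : Subgroup N) (hU : ∀ c ∈ C, ∀ u ∈ U, φ c u ∈ U)
    (hU0 : U ≠ ⊥) (hU1 : U ≠ ⊤) :
    ∃ (M H K : Subgroup (N ⋊[φ] B)), IsCoatom M ∧ M.index = Nat.card N ∧ H ≤ M ∧
      IsCoatom (H.subgroupOf M) ∧ IsCoatom K ∧ H ≤ K ∧ ¬ IsCoatom (H.subgroupOf K) := by
  have hHK : C.map (inr : B →* N ⋊[φ] B) ≤ C.comap rightHom := by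
    rintro _ ⟨c, hc, rfl⟩
    change rightHom (inr c) ∈ C
    rw [rightHom_inr]; exact hc
  refine ⟨(inr : B →* N ⋊[φ] B).range, C.map inr, C.comap rightHom, isCoatom_range_inr φ hirr, ?_, ?_,
    Cfsg.Agent.S5894.isCoatom_map_subgroupOf_range inr inr_injective C hC,
    Subgroup.isCoatom_comap_of_surjective rightHom_surjective hC, hHK, ?_⟩
  · have h1 := Subgroup.index_mul_card (inr : B →* N ⋊[φ] B).range
    rw [SemidirectProduct.card, Nat.card_congr (MonoidHom.ofInjective (inr_injective (φ := φ))).symm.toEquiv] at h1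
    exact Nat.eq_of_mul_eq_mul_right Nat.card_pos h1
  · rintro _ ⟨c, _, rfl⟩
    exact ⟨c, rfl⟩
  · intro hco
    rw [isCoatom_subgroupOf_iff hHK] at hco
    have h1 : C.map (inr : B →* N ⋊[φ] B) ≤ X φ U C hU := by
      rintro _ ⟨c, hc, rfl⟩
      exact ⟨U.one_mem, hc⟩
    have h2 : X φ U C hU ≤ C.comap rightHom := fun g hg => hg.2
    rcases hco.2 _ h1 h2 with h | h
    · apply hU0
      rw [eq_bot_iff]
      intro u hu
      have : (inl u : N ⋊[φ] B) ∈ X φ U C hU := ⟨hu, C.one_mem⟩
      rw [h] at this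
      obtain ⟨c, _, hc⟩ := this
      have := congrArg SemidirectProduct.left hc
      simp at this
      rw [Subgroup.mem_bot]; exact this.symm
    · apply hU1
      rw [eq_top_iff]
      intro n _
      have : (inl n : N ⋊[φ] B) ∈ C.comap rightHom := by
        change rightHom (inl n) ∈ C
        rw [rightHom_inl]; exact C.one_mem
      rw [← h] at this
      exact this.1

end general

section field

variable (F : Type*) [Field F]

/-- multiplication action of the units on the additive group -/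
noncomputable def Φ : Fˣ →* MulAut (Multiplicative F) :=
  (MulAutMultiplicative F).symm.toMonoidHom.comp AddAut.mulLeft

theorem Φ_apply (a : Fˣ) (x : F) : Φ F a (Multiplicative.ofAdd x) = Multiplicative.ofAdd ((a : F) * x) :=
  rfl

/-- irreducibility of a subgroup of the units -/
def Irr (S : Subgroup Fˣ) : Prop :=
  ∀ U : Subgroup (Multiplicative F), (∀ a ∈ S, ∀ u ∈ U, Φ F a u ∈ U) → U = ⊥ ∨ U = ⊤

theorem irr_top : Irr F ⊤ := by
  intro U hU
  by_cases hbot : U = ⊥
  · exact Or.inl hbot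
  right
  obtain ⟨u, huU, hu1⟩ : ∃ u ∈ U, u ≠ 1 := by
    by_contra hcon
    push Not at hcon
    exact hbot ((Subgroup.eq_bot_iff_forall U).mpr hcon)
  rw [eq_top_iff]
  intro w _
  have hx : Multiplicative.toAdd u ≠ 0 := fun h => hu1 (Multiplicative.toAdd.injective h)
  by_cases hy : Multiplicative.toAdd w = 0
  · have : w = 1 := Multiplicative.toAdd.injective hy
    rw [this]; exact U.one_mem
  · have h1 := hU (Units.mk0 (Multiplicative.toAdd w / Multiplicative.toAdd u) (div_ne_zero hy hx))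
      (Subgroup.mem_top _) u huU
    have h2 : Φ F (Units.mk0 (Multiplicative.toAdd w / Multiplicative.toAdd u) (div_ne_zero hy hx)) u = w := by
      have h3 := Φ_apply F (Units.mk0 (Multiplicative.toAdd w / Multiplicative.toAdd u)
        (div_ne_zero hy hx)) (Multiplicative.toAdd u)
      rw [Units.val_mk0, div_mul_cancel₀ _ hx, ofAdd_toAdd, ofAdd_toAdd] at h3
      exact h3
    rwa [h2] at h1

theorem not_irr_bot [Finite F] (p d : ℕ) [Fact p.Prime] [hc : CharP F p] (hd : 2 ≤ d)
    (hcard : Nat.card F = p ^ d) : ¬ Irr F ⊥ := by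
  intro h
  have hp : p.Prime := Fact.out
  have hord : orderOf (Multiplicative.ofAdd (1 : F)) = p := by
    rw [orderOf_ofAdd_eq_addOrderOf]
    have := CharP.addOrderOf_one F
    exact CharP.eq F this hc
  have hinv : ∀ a ∈ (⊥ : Subgroup Fˣ), ∀ u ∈ Subgroup.zpowers (Multiplicative.ofAdd (1 : F)),
      Φ F a u ∈ Subgroup.zpowers (Multiplicative.ofAdd (1 : F)) := by
    intro a ha u hu
    rw [Subgroup.mem_bot] at ha
    subst ha
    simpa using hu
  rcases h (Subgroup.zpowers (Multiplicative.ofAdd (1 : F))) hinv with h1 | h1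
  · rw [Subgroup.zpowers_eq_bot] at h1
    have : (1 : F) = 0 := Multiplicative.ofAdd.injective h1
    exact one_ne_zero this
  · have h2 : Nat.card (Subgroup.zpowers (Multiplicative.ofAdd (1 : F))) = p := by
      rw [Nat.card_zpowers, hord]
    rw [h1, Subgroup.card_top] at h2
    have h3 : Nat.card (Multiplicative F) = p ^ d := hcard
    rw [h3] at h2
    have h4 : p ^ 1 < p ^ d := Nat.pow_lt_pow_right hp.one_lt (by omega)
    rw [pow_one] at h4
    omega

end field

/-- For every prime p and every d ≥ 2 there is a finite group G with a maximal subgroup M of index p^d and a maximal subgroup H of M that is not second maximal in G: some maximal subgroup K of G contains H without H being maximal in K. (One may take G the affine group V ⋊ GL(V) of V = 𝔽_p^d, M = GL(V), H the stabiliser in M of a line W of V, and K = V ⋊ H, with H < W ⋊ H < K.) So the prime-index hypothesis in the second-maximality criterion cannot be relaxed to prime-power index. -/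
theorem result (p d : ℕ) (hp : p.Prime)
    (hd : 2 ≤ d) :
    ∃ (G : Type) (_ : Group G) (_ : Finite G) (M H K : Subgroup G), IsCoatom M ∧ M.index = p ^ d ∧ H ≤ M ∧
      IsCoatom (H.subgroupOf M) ∧ IsCoatom K ∧ H ≤ K ∧ ¬ IsCoatom (H.subgroupOf K) := by
  classical
  have : Fact p.Prime := ⟨hp⟩
  let F := GaloisField p d
  have hcard : Nat.card F = p ^ d := GaloisField.card p d (by omega)
  have hfin : Finite F := Nat.finite_of_card_ne_zero (by rw [hcard]; exact pow_ne_zero _ hp.ne_zero)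
  have hex : ∃ m, ∃ B : Subgroup Fˣ, Irr F B ∧ Nat.card B = m := ⟨_, ⊤, irr_top F, rfl⟩
  obtain ⟨B, hB, hBcard⟩ := Nat.find_spec hex
  have hBmin : ∀ C : Subgroup Fˣ, Irr F C → Nat.card B ≤ Nat.card C :=
    fun C hC => hBcard ▸ Nat.find_min' hex ⟨C, hC, rfl⟩
  have hBbot : B ≠ ⊥ := by
    intro h
    rw [h] at hB
    exact not_irr_bot F p d hd hcard hB
  have hBnt : Nontrivial B := (Subgroup.nontrivial_iff_ne_bot B).mpr hBbot
  obtain ⟨C, hC, -⟩ := (eq_top_or_exists_le_coatom (⊥ : Subgroup B)).resolve_left bot_ne_top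
  have hCnot : ¬ Irr F (C.map B.subtype) := by
    intro h
    have h1 := hBmin _ h
    rw [Subgroup.card_map_of_injective B.subtype_injective] at h1
    exact hC.1 (Subgroup.eq_top_of_card_eq C (le_antisymm (Subgroup.card_le_card_group C) h1))
  unfold Irr at hCnot
  push Not at hCnot
  obtain ⟨U, hU, hU0, hU1⟩ := hCnot
  have hNnt : Nontrivial (Multiplicative F) := inferInstance
  obtain ⟨M, H, K, h⟩ := main ((Φ F).comp B.subtype)
    (fun U hU => hB U (fun a ha u hu => hU ⟨a, ha⟩ u hu)) C hC U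
    (fun c hc u hu => hU c ⟨c, hc, rfl⟩ u hu) hU0 hU1
  have h3 : Nat.card (Multiplicative F) = p ^ d := hcard
  rw [h3] at h
  exact ⟨_, inferInstance, Finite.of_equiv _ SemidirectProduct.equivProd.symm, M, H, K, h⟩

end Cfsg.Agent.S5895
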