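import Mathlib
import Cfsg.Statements.S5947
import Cfsg.Agent.S2904
import Cfsg.Agent.Lib.Helper99.PpdIrred

set_option autoImplicit false
open Cfsg
open Cfsg.Agent.Lib.Helper99

namespace Cfsg.Agent.S5947

lemma isField_adjoin {F V : Type*} [Field F] [AddCommGroup V] [Module F V] [FiniteDimensional F V]
    [Nontrivial V] {x : Module.End F V} (hx : ActsIrred x) : IsField (Algebra.adjoin F {x}) where
  exists_pair_ne := ⟨0, 1, zero_ne_one⟩
  mul_comm := fun a b => (adjoinCommRing x).mul_comm a b
  mul_inv_cancel := by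
    intro a ha
    have ha' : (a : Module.End F V) ≠ 0 := fun h => ha (Subtype.ext h)
    have hc := commute_of_mem_adjoin a.2
    have hinj := injective_of_commute hx hc ha'
    have hbij : Function.Bijective (a : Module.End F V) :=
      ⟨hinj, LinearMap.injective_iff_surjective.mp hinj⟩
    obtain ⟨u, hu⟩ := (Module.End.isUnit_iff _).mpr hbij
    have hc' : Commute ((u⁻¹ : (Module.End F V)ˣ) : Module.End F V) x := by
      apply Commute.units_inv_left
      rw [hu]; exact hc
    refine ⟨⟨_, mem_adjoin_of_commute hx hc'⟩, ?_⟩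
    apply Subtype.ext
    change (a : Module.End F V) * ((u⁻¹ : (Module.End F V)ˣ) : Module.End F V) = 1
    rw [← hu]; simp

lemma exp_eq_one_of_add_one_eq_two_pow (p f m : ℕ) (hp : p.Prime) (hf : 0 < f)
    (h : p ^ f + 1 = 2 ^ m) : f = 1 := by
  by_contra hf1
  have hf2 : 2 ≤ f := by omega
  have hp2 : p ≠ 2 := by
    rintro rfl
    have h1 : 2 ∣ 2 ^ f := dvd_pow_self 2 (by omega)
    have hm : m ≠ 0 := by
      rintro rfl
      have : 0 < 2 ^ f := by positivity
      simp at h
    have h2 : 2 ∣ 2 ^ m := dvd_pow_self 2 hm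
    rw [← h] at h2
    have := (Nat.dvd_add_right h1).mp h2
    omega
  obtain ⟨r, hr, hrd, hrk⟩ := Cfsg.Agent.S2904.result p (2 * f) hp.one_lt (by omega)
    (by rintro ⟨h1, -⟩; exact hp2 h1) (by rintro ⟨h1, -⟩; omega)
  have hone : 1 ≤ p ^ f := Nat.one_le_pow _ _ hp.pos
  have hfac : p ^ (2 * f) - 1 = (p ^ f - 1) * (p ^ f + 1) := by
    obtain ⟨c, hc⟩ : ∃ c, p ^ f = c + 1 := ⟨p ^ f - 1, by omega⟩
    rw [mul_comm 2 f, pow_mul, hc]
    simp
    ring_nf
    omega
  rw [hfac] at hrd
  rcases (Nat.Prime.dvd_mul hr).mp hrd with h1 | h1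
  · exact hrk f hf (by omega) h1
  · rw [h] at h1
    have h2 := (Nat.prime_dvd_prime_iff_eq hr Nat.prime_two).mp (hr.dvd_of_dvd_pow h1)
    subst h2
    apply hrk 1 (by omega) (by omega)
    rw [pow_one]
    rcases hp.eq_two_or_odd with h3 | h3
    · exact absurd h3 hp2
    · omega

/-- Let F ⊆ K be finite fields with |F| = q and [K : F] = n ≥ 2, regard K as an n-dimensional F-vector space, and let M ≤ GL_F(K) be the Singer group of multiplications by non-zero elements of K (cyclic of order q^n − 1). Assume (n, q) ≠ (6, 2), and that it is not the case that n = 2 with q a prime such that q + 1 is a power of 2. Then every abelian subgroup of GL_F(K) of order q^n − 1 is conjugate to M. -/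
theorem result {F K : Type*} [Field F] [Fintype F] [Field K] [Fintype K] [Algebra F K] (n : ℕ) (hn : 2 ≤ n) (hdim : Module.finrank F K = n)
    (hex1 : ¬ (n = 6 ∧ Fintype.card F = 2))
    (hex2 : ¬ (n = 2 ∧ (Fintype.card F).Prime ∧ ∃ a : ℕ, Fintype.card F + 1 = 2 ^ a))
    (U : Subgroup (Module.End F K)ˣ) (hU : IsMulCommutative U) (hcard : Nat.card U = Fintype.card K - 1) :
    ∃ g : (Module.End F K)ˣ, U.map (MulAut.conj g).toMonoidHom = (Units.map ((Algebra.lmul F K : K →ₐ[F] Module.End F K) : K →* Module.End F K)).range := by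
  classical
  set q := Fintype.card F with hq
  have hq2 : 1 < q := Fintype.one_lt_card
  have hcardK : Fintype.card K = q ^ n := by rw [← hdim]; exact Module.card_eq_pow_finrank
  obtain ⟨p, hp⟩ := CharP.exists F
  obtain ⟨f, hpprime, hqf⟩ := FiniteField.card F p
  haveI : Fact p.Prime := ⟨hpprime⟩
  obtain ⟨r, hr, hrd, hrk⟩ := Cfsg.Agent.S2904.result q n hq2 (by omega)
    (by rintro ⟨h1, h2⟩; exact hex1 ⟨h2, h1⟩) (by
      rintro ⟨hn2, m, hm⟩
      apply hex2
      refine ⟨hn2, ?_, m, hm⟩
      have hf1 : (f : ℕ) = 1 := exp_eq_one_of_add_one_eq_two_pow p f m hpprime f.pos (by rw [← hqf]; exact hm)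
      rw [hq, hqf, hf1, pow_one]; exact hpprime)
  haveI : Fact r.Prime := ⟨hr⟩
  have hord : orderOf ((q : ℕ) : ZMod r) = n := by
    rw [orderOf_eq_iff (by omega)]
    constructor
    · have := (ZMod.natCast_eq_zero_iff (q ^ n - 1) r).mpr hrd
      rw [Nat.cast_sub (Nat.one_le_pow _ _ (by omega))] at this
      push_cast at this
      exact sub_eq_zero.mp this
    · intro k hkn hk0 hk1
      apply hrk k hk0 hkn
      rw [← ZMod.natCast_eq_zero_iff, Nat.cast_sub (Nat.one_le_pow _ _ (by omega))]
      push_cast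
      rw [hk1, sub_self]
  haveI : Finite (Module.End F K) := Module.finite_of_finite F
  obtain ⟨g, hg⟩ := exists_prime_orderOf_dvd_card' (G := U) r (by rw [hcard, hcardK]; exact hrd)
  set X : Module.End F K := (((g : U) : (Module.End F K)ˣ) : Module.End F K) with hX
  have hXr : X ^ r = 1 := by
    have h1 : g ^ r = 1 := by rw [← hg]; exact pow_orderOf_eq_one g
    have h2 := congrArg (fun u : U => ((u : (Module.End F K)ˣ) : Module.End F K)) h1
    simpa using h2
  have hX1 : X ≠ 1 := by
    intro h
    have h1 : g = 1 := Subtype.ext (Units.ext h)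
    rw [h1, orderOf_one] at hg
    exact hr.one_lt.ne hg
  have hirr : ActsIrred X := actsIrred_of_ppd X r hXr hX1 (by rw [hdim]; exact hord) (by omega)
  letI : Field (Algebra.adjoin F {X}) := (isField_adjoin hirr).toField
  haveI : NeZero n := ⟨by omega⟩
  have hA : Module.finrank F (Algebra.adjoin F {X}) = n := (finrank_adjoin hirr).trans hdim
  let σ : K ≃ₐ[F] (Algebra.adjoin F {X}) :=
    (FiniteField.algEquivExtension F p n K hdim).trans
      (FiniteField.algEquivExtension F p n (Algebra.adjoin F {X}) hA).symm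
  let T : Module.End F K :=
    { toFun := fun y => ((σ y : Algebra.adjoin F {X}) : Module.End F K) 1
      map_add' := by
        intro y z
        rw [map_add]
        rfl
      map_smul' := by
        intro c y
        rw [map_smul]
        rfl }
  have hTapp : ∀ y, T y = ((σ y : Algebra.adjoin F {X}) : Module.End F K) 1 := fun y => rfl
  have hTinj : Function.Injective T := by
    rw [injective_iff_map_eq_zero]
    intro y hy
    have h0 := eq_zero_of_commute_of_apply_eq_zero hirr (commute_of_mem_adjoin (σ y).2) one_ne_zero hy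
    have h1 : σ y = 0 := Subtype.ext h0
    simpa using h1
  have hTbij : Function.Bijective T := ⟨hTinj, LinearMap.injective_iff_surjective.mp hTinj⟩
  obtain ⟨t, ht⟩ := (Module.End.isUnit_iff T).mpr hTbij
  have hTσ : ∀ a : K, T * (Algebra.lmul F K a) = ((σ a : Algebra.adjoin F {X}) : Module.End F K) * T := by
    intro a
    ext y
    change T (a * y) = ((σ a : Algebra.adjoin F {X}) : Module.End F K) (T y)
    rw [hTapp, hTapp, map_mul]
    rfl
  refine ⟨t⁻¹, ?_⟩
  apply Subgroup.eq_of_le_of_card_ge
  · rintro _ ⟨u, hu, rfl⟩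
    have hcu : Commute (u : Module.End F K) X := by
      have h1 := hU.is_comm.comm ⟨u, hu⟩ g
      have h2 := congrArg (fun w : U => ((w : (Module.End F K)ˣ) : Module.End F K)) h1
      exact h2
    have huA : (u : Module.End F K) ∈ Algebra.adjoin F {X} := mem_adjoin_of_commute hirr hcu
    obtain ⟨a, ha⟩ := σ.surjective ⟨u, huA⟩
    have ha0 : a ≠ 0 := by
      rintro rfl
      rw [map_zero] at ha
      have : (u : Module.End F K) = 0 := (congrArg Subtype.val ha).symm
      exact u.ne_zero this
    refine ⟨Units.mk0 a ha0, ?_⟩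
    apply Units.ext
    have h3 := hTσ a
    rw [ha, ← ht] at h3
    change Algebra.lmul F K a = ((t⁻¹ * u * (t⁻¹)⁻¹ : (Module.End F K)ˣ) : Module.End F K)
    rw [inv_inv, Units.val_mul, Units.val_mul, mul_assoc, ← h3, ← mul_assoc, Units.inv_mul, one_mul]
  · have h1 : Nat.card (U.map (MulAut.conj t⁻¹).toMonoidHom) = Nat.card U :=
      Subgroup.card_map_of_injective (MulEquiv.injective _)
    rw [h1, hcard]
    have hinj : Function.Injective (Units.map ((Algebra.lmul F K : K →ₐ[F] Module.End F K) : K →* Module.End F K)) := by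
      apply Units.map_injective
      exact (Algebra.lmul F K).toRingHom.injective
    rw [← Nat.card_congr (MonoidHom.ofInjective hinj).toEquiv, Nat.card_units, Nat.card_eq_fintype_card]

end Cfsg.Agent.S5947
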